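/-
Elementary facts about sets of 3-transpositions.
-/
import Cfsg.Prelude.Def_FischerSpaces
import Mathlib

set_option autoImplicit false

namespace CfsgThreeTrans

open Cfsg

variable {G : Type*} [Group G]

theorem mul_self_of_order_two {d : G} (h : orderOf d = 2) : d * d = 1 := by
  rw [← sq, ← h]; exact pow_orderOf_eq_one d

theorem inv_of_order_two {d : G} (h : orderOf d = 2) : d⁻¹ = d :=
  inv_eq_of_mul_eq_one_right (mul_self_of_order_two h)

theorem commute_iff_sq {d e : G} (hd : orderOf d = 2) (he : orderOf e = 2) :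
    Commute d e ↔ (d * e) ^ 2 = 1 := by
  constructor
  · intro h
    rw [h.mul_pow, sq, sq, mul_self_of_order_two hd, mul_self_of_order_two he, one_mul]
  · intro h
    have : (d * e)⁻¹ = d * e := inv_eq_of_mul_eq_one_right (by rw [← sq]; exact h)
    rw [mul_inv_rev, inv_of_order_two hd, inv_of_order_two he] at this
    exact this.symm

theorem mul_mul_cancel_self {d : G} (hd : d * d = 1) (x : G) : d * (d * x) = x := by
  rw [← mul_assoc, hd, one_mul]

section
variable {D : Set G} (hD : IsThreeTranspositionSet D)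
include hD

theorem mul_self {d : G} (hd : d ∈ D) : d * d = 1 := mul_self_of_order_two (hD.1 d hd)

theorem inv_self {d : G} (hd : d ∈ D) : d⁻¹ = d := inv_of_order_two (hD.1 d hd)

theorem pow_three {d e : G} (hd : d ∈ D) (he : e ∈ D) (h : ¬ Commute d e) : (d * e) ^ 3 = 1 :=
  (hD.2 d hd e he).resolve_left fun h2 => h ((commute_iff_sq (hD.1 d hd) (hD.1 e he)).mpr h2)

theorem braid {d e : G} (hd : d ∈ D) (he : e ∈ D) (h : ¬ Commute d e) : d * e * d = e * d * e := by
  have h3 := pow_three hD hd he h
  have : d * e * d * (e * d * e) = 1 := by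
    rw [← h3, pow_succ, pow_succ, pow_one]; simp only [mul_assoc]
  calc d * e * d = (e * d * e)⁻¹ := eq_inv_of_mul_eq_one_left this
    _ = e * d * e := by simp [mul_assoc, inv_self hD hd, inv_self hD he]

theorem commute_mul_iff {a b e : G} (ha : a ∈ D) (hb : b ∈ D) (he : e ∈ D) (hab : a ≠ b)
    (_hc : Commute a b) : Commute e (a * b) ↔ (Commute e a ∧ Commute e b) := by
  refine ⟨fun h => ?_, fun h => h.1.mul_right h.2⟩
  have hee : ∀ x, e * (e * x) = x := mul_mul_cancel_self (mul_self hD he)
  have hconj : e * (a * b) * e = a * b := by rw [h.eq, mul_assoc, mul_self hD he, mul_one]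
  by_cases hea : Commute e a
  · refine ⟨hea, ?_⟩
    have := ((Commute.refl e).mul_right hea).mul_right h
    have h2 : Commute e (a⁻¹ * (a * b)) := hea.inv_right.mul_right h
    rwa [inv_mul_cancel_left] at h2
  · exfalso
    have heb : ¬ Commute e b := fun heb => hea (by
      have h2 : Commute e (a * b * b⁻¹) := h.mul_right heb.inv_right
      rwa [mul_inv_cancel_right] at h2)
    have h1 : (e * a * e) * (e * b * e) = a * b := by
      calc (e * a * e) * (e * b * e) = e * (a * b) * e := by simp only [mul_assoc, hee]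
        _ = a * b := hconj
    rw [braid hD he ha hea, braid hD he hb heb] at h1
    have h2 : e * (a * b) * e * b = b := by
      have h4 := congrArg (a * ·) h1
      simp only [mul_assoc, mul_mul_cancel_self (mul_self hD ha)] at h4
      simpa only [mul_assoc] using h4
    rw [hconj] at h2
    have h5 : a * b = 1 := mul_right_cancel (h2.trans (one_mul b).symm)
    exact hab (by rw [eq_inv_of_mul_eq_one_left h5, inv_self hD hb])

theorem not_commute_three {a b c e : G} (ha : a ∈ D) (hb : b ∈ D) (hc : c ∈ D) (he : e ∈ D)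
    (h1 : Commute a b) (h2 : Commute a c) (h3 : Commute b c) (hea : ¬ Commute e a) (heb : ¬ Commute e b)
    (hec : ¬ Commute e c) : ¬ Commute e (a * b * c) := by
  intro h
  have hee : ∀ x, e * (e * x) = x := mul_mul_cancel_self (mul_self hD he)
  have haa : ∀ x, a * (a * x) = x := mul_mul_cancel_self (mul_self hD ha)
  have hbb : ∀ x, b * (b * x) = x := mul_mul_cancel_self (mul_self hD hb)
  have hcc : ∀ x, c * (c * x) = x := mul_mul_cancel_self (mul_self hD hc)
  have hba : b * a = a * b := h1.symm.eq
  -- `e` and its conjugate by `a * b` commute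
  have hcom : e * (b * a * e * a * b) * e = b * a * e * a * b := by
    calc e * (b * a * e * a * b) * e = (e * b * e) * (e * a * e) * e * (e * a * e) * (e * b * e) := by
          simp only [mul_assoc, hee]
      _ = (b * e * b) * (a * e * a) * e * (a * e * a) * (b * e * b) := by
          rw [braid hD he ha hea, braid hD he hb heb]
      _ = (b * e * b) * (a * (e * a * e) * a * e * a) * (b * e * b) := by simp only [mul_assoc]
      _ = (b * e * b) * a * (b * e * b) := by
          rw [braid hD he ha hea]; simp only [mul_assoc, haa, hee]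
      _ = b * e * (b * a * b) * e * b := by simp only [mul_assoc]
      _ = b * (e * a * e) * b := by rw [hba, mul_assoc a b b, mul_self hD hb, mul_one]; simp only [mul_assoc]
      _ = b * (a * e * a) * b := by rw [braid hD he ha hea]
      _ = b * a * e * a * b := by simp only [mul_assoc]
  -- that conjugate is the conjugate of `e` by `c`
  have heq : b * a * e * a * b = c * e * c := by
    have h' : e * (a * b * c) = a * b * c * e := h.eq
    have h6 : b * a * (e * (a * b * c)) = c * e := by
      rw [h']; simp only [mul_assoc, haa, hbb]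
    calc b * a * e * a * b = b * a * (e * (a * b * c)) * c := by
          simp only [mul_assoc, mul_self hD hc, mul_one]
      _ = c * e * c := by rw [h6]
  rw [heq] at hcom
  apply hec
  have h7 : e * (c * e * c) = (c * e * c) * e := by
    calc e * (c * e * c) = e * (c * e * c) * e * e := by rw [mul_assoc _ e e, mul_self hD he, mul_one]
      _ = c * e * c * e := by rw [hcom]
  rw [braid hD hc he (fun hh => hec hh.symm)] at h7
  simp only [mul_assoc, hee, mul_self hD he, mul_one] at h7
  exact h7.symm

theorem commute_mul3_iff {a b c e : G} (ha : a ∈ D) (hb : b ∈ D) (hc : c ∈ D) (he : e ∈ D) (hab : a ≠ b)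
    (hac : a ≠ c) (hbc : b ≠ c) (h1 : Commute a b) (h2 : Commute a c) (h3 : Commute b c) :
    Commute e (a * b * c) ↔ (Commute e a ∧ Commute e b ∧ Commute e c) := by
  refine ⟨fun h => ?_, fun h => (h.1.mul_right h.2.1).mul_right h.2.2⟩
  by_cases hec : Commute e c
  · have h' : Commute e (a * b) := by
      have := h.mul_right hec.inv_right
      rwa [mul_inv_cancel_right] at this
    obtain ⟨p, q⟩ := (commute_mul_iff hD ha hb he hab h1).mp h'
    exact ⟨p, q, hec⟩
  by_cases heb : Commute e b
  · have h' : Commute e (a * c) := by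
      have hx : a * b * c = a * c * b := by rw [mul_assoc, h3.eq, ← mul_assoc]
      rw [hx] at h
      have := h.mul_right heb.inv_right
      rwa [mul_inv_cancel_right] at this
    exact absurd ((commute_mul_iff hD ha hc he hac h2).mp h').2 hec
  by_cases hea : Commute e a
  · have h' : Commute e (b * c) := by
      have := hea.inv_right.mul_right h
      rwa [mul_assoc a b c, inv_mul_cancel_left] at this
    exact absurd ((commute_mul_iff hD hb hc he hbc h3).mp h').1 heb
  exact absurd h (not_commute_three hD ha hb hc he h1 h2 h3 hea heb hec)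

end

/-- The words used for the symmetric group on three letters. -/
def words3 : List (List (Fin 2)) := [[], [0], [1], [0, 1], [1, 0], [0, 1, 0]]

/-- Left multiplication by the generators on `words3`. -/
def tab3 : List (List ℕ) := [[1, 2], [0, 4], [3, 0], [2, 5], [5, 1], [4, 3]]

/-- The words used for the symmetric group on four letters. -/
def words4 : List (List (Fin 3)) :=
  [[], [0], [1], [2], [0, 1], [0, 2], [1, 0], [1, 2], [2, 1], [0, 1, 0], [0, 1, 2], [0, 2, 1], [1, 0, 2],
   [1, 2, 1], [2, 1, 0], [0, 1, 0, 2], [0, 1, 2, 1], [0, 2, 1, 0], [1, 0, 2, 1], [1, 2, 1, 0],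
   [0, 1, 0, 2, 1], [0, 1, 2, 1, 0], [1, 0, 2, 1, 0], [0, 1, 0, 2, 1, 0]]

/-- Left multiplication by the generators on `words4`. -/
def tab4 : List (List ℕ) :=
  [[1, 2, 3], [0, 6, 5], [4, 0, 8], [5, 7, 0], [2, 9, 11], [3, 12, 1], [9, 1, 14], [10, 3, 13], [11, 13, 2],
   [6, 4, 17], [7, 15, 16], [8, 18, 4], [15, 5, 19], [16, 8, 7], [17, 19, 6], [12, 10, 21], [13, 20, 10],
   [14, 22, 9], [20, 11, 22], [21, 14, 12], [18, 16, 23], [19, 23, 15], [23, 17, 18], [22, 21, 20]]

/-- The product of a word in given elements. -/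
def evW {n : ℕ} {M : Type*} [Monoid M] (v : Fin n → M) (l : List (Fin n)) : M := (l.map v).prod

theorem evW_cons {n : ℕ} {M : Type*} [Monoid M] (v : Fin n → M) (i : Fin n) (l : List (Fin n)) :
    evW v (i :: l) = v i * evW v l := by simp [evW]

/-- A group presented by a table of left multiplications maps wherever the table is respected. -/
theorem exists_hom_of_table {n : ℕ} {H : Type*} [Group H] [Finite H] (s : Fin n → H) (v : Fin n → G)
    (W : List (List (Fin n))) (T : List (List ℕ))
    (hsurj : ∀ σ : H, ∃ k < W.length, evW s (W.getD k []) = σ)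
    (hinj : ∀ k < W.length, ∀ l < W.length, evW s (W.getD k []) = evW s (W.getD l []) → k = l)
    (h0 : W.getD 0 [] = []) (hpos : 0 < W.length)
    (hlt : ∀ k < W.length, ∀ i : Fin n, (T.getD k []).getD i 0 < W.length)
    (hs : ∀ k < W.length, ∀ i : Fin n, s i * evW s (W.getD k []) = evW s (W.getD ((T.getD k []).getD i 0) []))
    (hv : ∀ k < W.length, ∀ i : Fin n, v i * evW v (W.getD k []) = evW v (W.getD ((T.getD k []).getD i 0) [])) :
    ∃ φ : H →* G, ∀ i, φ (s i) = v i := by
  choose idx hidx heq using hsurj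
  have key : ∀ (l : List (Fin n)) (τ : H),
      evW v (W.getD (idx (evW s l * τ)) []) = evW v l * evW v (W.getD (idx τ) []) := by
    intro l
    induction l with
    | nil => intro τ; simp [evW]
    | cons i l ih =>
      intro τ
      rw [evW_cons, evW_cons, mul_assoc, mul_assoc, ← ih τ, hv _ (hidx _) i]
      congr 2
      refine hinj _ (hidx _) _ (hlt _ (hidx _) i) ?_
      rw [heq, ← hs _ (hidx _) i, heq]
  have h1 : idx 1 = 0 := hinj _ (hidx _) _ hpos (by rw [heq, h0]; simp [evW])
  refine ⟨MonoidHom.mk' (fun σ => evW v (W.getD (idx σ) [])) fun σ τ => ?_, fun i => ?_⟩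
  · conv_lhs => rw [← heq σ, key]
  · show evW v (W.getD (idx (s i)) []) = v i
    have := key [i] 1
    rw [mul_one, h1, h0] at this
    simpa [evW] using this

theorem exists_hom_S3 {a b : G} (haa : a * a = 1) (hbb : b * b = 1) (hbab : b * a * b = a * b * a) :
    ∃ φ : Equiv.Perm (Fin 3) →* G, φ (Equiv.swap 0 1) = a ∧ φ (Equiv.swap 1 2) = b := by
  have r1 := mul_mul_cancel_self haa
  have r2 := mul_mul_cancel_self hbb
  have r3' : b * (a * b) = a * (b * a) := by rw [← mul_assoc, hbab, mul_assoc]
  have r3 : ∀ x, b * (a * (b * x)) = a * (b * (a * x)) := fun x => by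
    simpa only [mul_assoc] using congrArg (· * x) hbab
  obtain ⟨φ, hφ⟩ := exists_hom_of_table (![Equiv.swap 0 1, Equiv.swap 1 2] : Fin 2 → Equiv.Perm (Fin 3))
    ![a, b] words3 tab3 (by decide +kernel) (by decide +kernel) rfl (by decide) (by decide +kernel) (by decide +kernel)
    (by
      intro k hk i
      simp only [words3, List.length_cons, List.length_nil] at hk
      interval_cases k <;> fin_cases i <;>
        simp [words3, tab3, evW, haa, hbb, r1, r2, r3, r3'])
  exact ⟨φ, hφ 0, hφ 1⟩

theorem exists_hom_S4 {a b c : G} (haa : a * a = 1) (hbb : b * b = 1) (hcc : c * c = 1)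
    (hca : c * a = a * c) (hbab : b * a * b = a * b * a) (hcbc : c * b * c = b * c * b) :
    ∃ φ : Equiv.Perm (Fin 4) →* G, φ (Equiv.swap 0 1) = a ∧ φ (Equiv.swap 1 2) = b ∧ φ (Equiv.swap 2 3) = c := by
  have r1 := mul_mul_cancel_self haa
  have r2 := mul_mul_cancel_self hbb
  have r3 := mul_mul_cancel_self hcc
  have r4 : ∀ x, c * (a * x) = a * (c * x) := fun x => by rw [← mul_assoc, hca, mul_assoc]
  have r5' : b * (a * b) = a * (b * a) := by rw [← mul_assoc, hbab, mul_assoc]
  have r5 : ∀ x, b * (a * (b * x)) = a * (b * (a * x)) := fun x => by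
    simpa only [mul_assoc] using congrArg (· * x) hbab
  have r6' : c * (b * c) = b * (c * b) := by rw [← mul_assoc, hcbc, mul_assoc]
  have r6 : ∀ x, c * (b * (c * x)) = b * (c * (b * x)) := fun x => by
    simpa only [mul_assoc] using congrArg (· * x) hcbc
  have r7' : c * (b * (a * c)) = b * (c * (b * a)) := by rw [← hca, r6]
  have r7 : ∀ x, c * (b * (a * (c * x))) = b * (c * (b * (a * x))) := fun x => by
    simpa only [mul_assoc] using congrArg (· * x) r7'
  obtain ⟨φ, hφ⟩ := exists_hom_of_table
    (![Equiv.swap 0 1, Equiv.swap 1 2, Equiv.swap 2 3] : Fin 3 → Equiv.Perm (Fin 4))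
    ![a, b, c] words4 tab4 (by decide +kernel) (by decide +kernel) rfl (by decide) (by decide +kernel) (by decide +kernel)
    (by
      intro k hk i
      simp only [words4, List.length_cons, List.length_nil] at hk
      interval_cases k <;> fin_cases i <;>
        simp [words4, tab4, evW, haa, hbb, hcc, hca, r1, r2, r3, r4, r5, r5', r6, r6', r7, r7'])
  exact ⟨φ, hφ 0, hφ 1, hφ 2⟩

theorem injective_S4_hom {φ : Equiv.Perm (Fin 4) →* G} (h : φ (Equiv.swap 0 1 * Equiv.swap 2 3) ≠ 1) :
    Function.Injective φ := by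
  rw [injective_iff_map_eq_one]
  intro σ hσ
  by_contra hne
  have key : ∀ σ : Equiv.Perm (Fin 4), σ ≠ 1 → ∃ τ ρ μ : Equiv.Perm (Fin 4),
      ρ * (τ * σ * τ⁻¹ * σ⁻¹) * ρ⁻¹ = Equiv.swap 0 1 * Equiv.swap 2 3 ∨
      μ * σ * μ⁻¹ = Equiv.swap 0 1 * Equiv.swap 2 3 := by decide +kernel
  obtain ⟨τ, ρ, μ, h' | h'⟩ := key σ hne <;> apply h <;> rw [← h'] <;> simp [hσ]

theorem injective_S3_hom {φ : Equiv.Perm (Fin 3) →* G}
    (h : φ (Equiv.swap 0 1 * Equiv.swap 1 2) ≠ 1) : Function.Injective φ := by
  rw [injective_iff_map_eq_one]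
  intro σ hσ
  by_contra hne
  have key : ∀ σ : Equiv.Perm (Fin 3), σ ≠ 1 → ∃ τ μ : Equiv.Perm (Fin 3),
      τ * σ * τ⁻¹ * σ⁻¹ = Equiv.swap 0 1 * Equiv.swap 1 2 ∨
      μ * σ * μ⁻¹ = Equiv.swap 0 1 * Equiv.swap 1 2 := by decide +kernel
  obtain ⟨τ, μ, h' | h'⟩ := key σ hne <;> apply h <;> rw [← h'] <;> simp [hσ]

end CfsgThreeTrans
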