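/-
Odd transpositions, lifting through a central involution, and counting arguments with products of odd order.
-/
import Cfsg.Agent.Lib.ThreeTrans.Basic

set_option autoImplicit false

namespace CfsgThreeTrans

open Cfsg

variable {G : Type*} [Group G]

theorem inv_conj_pow {a b : G} (ha : a * a = 1) (hb : b * b = 1) (m : ℕ) :
    a * (a * b) ^ m * a = ((a * b) ^ m)⁻¹ := by
  have h : MulAut.conj a ((a * b) ^ m) = ((a * b) ^ m)⁻¹ := by
    rw [map_pow, ← inv_pow]
    congr 1
    rw [MulAut.conj_apply, mul_inv_rev, inv_eq_of_mul_eq_one_right ha, inv_eq_of_mul_eq_one_right hb,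
      ← mul_assoc a a b, ha, one_mul]
  rwa [MulAut.conj_apply, inv_eq_of_mul_eq_one_right ha] at h

theorem conj_pow_mul {a b : G} (ha : a * a = 1) (hb : b * b = 1) (m : ℕ) :
    ((a * b) ^ m)⁻¹ * a * (a * b) ^ m = a * (a * b) ^ (2 * m) := by
  rw [← inv_conj_pow ha hb m, two_mul, pow_add]
  simp [mul_assoc, ha]

theorem eq_of_sq_eq_of_odd {x y : G} (hx : Odd (orderOf x)) (hy : Odd (orderOf y)) (h : x ^ 2 = y ^ 2) :
    x = y := by
  have h2 : orderOf x = orderOf y := by
    rw [← Nat.Coprime.orderOf_pow (m := 2) ((Nat.coprime_two_right).mpr hx), h,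
      Nat.Coprime.orderOf_pow ((Nat.coprime_two_right).mpr hy)]
  obtain ⟨k, hk⟩ := hx
  calc x = x ^ (2 * (k + 1)) := by
        rw [show 2 * (k + 1) = orderOf x + 1 by omega, pow_succ, pow_orderOf_eq_one, one_mul]
    _ = y ^ (2 * (k + 1)) := by rw [pow_mul, pow_mul, h]
    _ = y := by rw [show 2 * (k + 1) = orderOf y + 1 by omega, pow_succ, pow_orderOf_eq_one, one_mul]

theorem odd_transpositions_iff [Finite G] {D : Set G} (hinv : ∀ d ∈ D, orderOf d = 2)
    (hconj : ∀ g : G, ∀ d ∈ D, g * d * g⁻¹ ∈ D) :
    (∀ a ∈ D, ∀ b ∈ D, Odd (orderOf (a * b)) ∨ orderOf (a * b) = 2) ↔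
      ∀ a ∈ D, ∀ b ∈ D, b ≠ a → Commute a b →
        {y : G | y ∈ D ∧ Commute (a * b) y} = {y : G | y ∈ D ∧ Commute a y} ∩ {y : G | y ∈ D ∧ Commute b y} := by
  have hself : ∀ d ∈ D, d * d = 1 := fun d hd => mul_self_of_order_two (hinv d hd)
  constructor
  · intro hodd a ha b hb hne hab
    ext e
    simp only [Set.mem_ofPred_eq, Set.mem_inter_iff]
    constructor
    · rintro ⟨he, hc⟩
      by_cases hea : Commute a e
      · refine ⟨⟨he, hea⟩, he, ?_⟩
        have h := hea.inv_left.mul_left hc
        rwa [inv_mul_cancel_left] at h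
      · exfalso
        have heb : ¬ Commute b e := fun h => hea (by
          have h' := hc.mul_left h.inv_left
          rwa [mul_inv_cancel_right] at h')
        have hee := hself e he
        have oa : Odd (orderOf (a * e)) := (hodd a ha e he).resolve_right fun h2 =>
          hea ((commute_iff_sq (hinv a ha) (hinv e he)).mpr (by rw [← h2]; exact pow_orderOf_eq_one _))
        have ob : Odd (orderOf (b * e)) := (hodd b hb e he).resolve_right fun h2 =>
          heb ((commute_iff_sq (hinv b hb) (hinv e he)).mpr (by rw [← h2]; exact pow_orderOf_eq_one _))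
        have hsq : (a * e) ^ 2 = (b * e) ^ 2 := by
          have h1 : b * (a * e * a) * b = e := by
            have hba : b * a = a * b := hab.symm.eq
            calc b * (a * e * a) * b = (b * a) * e * (a * b) := by simp only [mul_assoc]
              _ = (a * b) * e * (a * b) := by rw [hba]
              _ = e * ((a * b) * (a * b)) := by rw [hc.eq]; simp only [mul_assoc]
              _ = e := by rw [← sq, hab.mul_pow, sq, sq, hself a ha, hself b hb, one_mul, mul_one]
          have h2 : a * e * a = b * e * b := by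
            calc a * e * a = b * (b * (a * e * a) * b) * b := by
                  simp only [mul_assoc, mul_mul_cancel_self (hself b hb), hself b hb, mul_one]
              _ = b * e * b := by rw [h1]
          rw [sq, sq]
          calc a * e * (a * e) = (a * e * a) * e := by simp only [mul_assoc]
            _ = b * e * (b * e) := by rw [h2]; simp only [mul_assoc]
        exact hne (mul_right_cancel (eq_of_sq_eq_of_odd oa ob hsq)).symm
    · rintro ⟨⟨he, h1⟩, -, h2⟩
      exact ⟨he, h1.mul_left h2⟩
  · intro hC a ha b hb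
    by_contra hcon
    push Not at hcon
    obtain ⟨hnodd, hn2⟩ := hcon
    obtain ⟨k, hk⟩ := Nat.not_odd_iff_even.mp hnodd
    set c := a * b with hc
    have hk2 : 2 ≤ k := by
      have hpos : 0 < orderOf c := orderOf_pos c
      omega
    have hck : (c ^ k)⁻¹ = c ^ k :=
      inv_eq_of_mul_eq_one_right (by rw [← pow_add, ← hk, pow_orderOf_eq_one])
    have haa := hself a ha
    have hbb := hself b hb
    -- `a * c ^ k` is a member of the class
    have hmem : ∀ j : ℕ, a * c ^ j ∈ D := by
      intro j
      rcases Nat.even_or_odd j with ⟨i, hi⟩ | ⟨i, hi⟩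
      · rw [hi, ← two_mul, hc, ← conj_pow_mul haa hbb i]
        simpa using hconj ((a * b) ^ i)⁻¹ a ha
      · have he : a * (a * b) ^ j = ((a * b) ^ i)⁻¹ * b * (a * b) ^ i := by
          have hbc : b = a * (a * b) := by rw [← mul_assoc, haa, one_mul]
          have hcm : (a * b) ^ j = (a * b) ^ (2 * i) * (a * b) := by rw [hi, pow_succ]
          rw [hcm, ← mul_assoc, ← conj_pow_mul haa hbb i, mul_assoc (((a * b) ^ i)⁻¹ * a),
            (Commute.pow_self (a * b) i).eq]
          simp only [mul_assoc, mul_mul_cancel_self haa]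
        rw [hc, he]
        simpa using hconj ((a * b) ^ i)⁻¹ b hb
    have hA : Commute a (c ^ k) := by
      have h1 := inv_conj_pow haa hbb k
      rw [← hc, hck] at h1
      show a * c ^ k = c ^ k * a
      conv_rhs => rw [← h1]
      rw [mul_assoc _ a a, haa, mul_one]
    have hne : a * c ^ k ≠ a := by
      intro h
      have h1 : c ^ k = 1 := mul_left_cancel (h.trans (mul_one a).symm)
      have := Nat.le_of_dvd (by omega) (orderOf_dvd_of_pow_eq_one h1)
      omega
    have hac : Commute a (a * c ^ k) := (Commute.refl a).mul_right hA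
    have hb' : b ∈ {y : G | y ∈ D ∧ Commute (a * (a * c ^ k)) y} := by
      refine ⟨hb, ?_⟩
      rw [← mul_assoc, haa, one_mul]
      have : b = a * c := by rw [hc, ← mul_assoc, haa, one_mul]
      rw [this]
      exact hA.symm.mul_right (Commute.pow_self c k)
    rw [hC a ha _ (hmem k) hne hac] at hb'
    have hcomm : Commute a b := hb'.1.2
    have : c ^ 2 = 1 := (commute_iff_sq (hinv a ha) (hinv b hb)).mp hcomm
    have := Nat.le_of_dvd (by norm_num) (orderOf_dvd_of_pow_eq_one this)
    omega

theorem lift_central {D : Set G} (hinv : ∀ d ∈ D, orderOf d = 2)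
    (hconj : ∀ g : G, ∀ d ∈ D, g * d * g⁻¹ ∈ D) (t : G) (ht : orderOf t = 2) (htZ : t ∈ Subgroup.center G)
    (hDt : ∀ d ∈ D, d * t ∉ D) [(Subgroup.zpowers t).Normal]
    (himg : IsThreeTranspositionSet ((QuotientGroup.mk : G → G ⧸ Subgroup.zpowers t) '' D)) :
    IsThreeTranspositionSet D := by
  refine ⟨hinv, fun d hd e he => ?_⟩
  have hdd := mul_self_of_order_two (hinv d hd)
  have hee := mul_self_of_order_two (hinv e he)
  have cases : ∀ n : ℕ, ((d * e : G) : G ⧸ Subgroup.zpowers t) ^ n = 1 → (d * e) ^ n = 1 ∨ (d * e) ^ n = t := by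
    intro n hn
    rw [← QuotientGroup.mk_pow, QuotientGroup.eq_one_iff, Subgroup.mem_zpowers_iff] at hn
    obtain ⟨j, hj⟩ := hn
    have h2 : t ^ (2 : ℤ) = 1 := by rw [zpow_two]; exact mul_self_of_order_two ht
    rcases Int.even_or_odd j with ⟨i, hi⟩ | ⟨i, hi⟩
    · left; rw [← hj, hi, ← two_mul, zpow_mul, h2, one_zpow]
    · right; rw [← hj, hi, zpow_add, zpow_mul, h2, one_zpow, one_mul, zpow_one]
  have h := himg.2 _ ⟨d, hd, rfl⟩ _ ⟨e, he, rfl⟩
  rw [← QuotientGroup.mk_mul] at h
  rcases h with h | h
  · rcases cases 2 h with h1 | h1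
    · exact Or.inl h1
    · exfalso
      refine hDt d hd ?_
      have hc : d * t = (e * d) * d * (e * d)⁻¹ ∨ d * t = e * d * e := by
        right
        rw [← h1, sq]; simp only [mul_assoc, mul_mul_cancel_self hdd]
      rcases hc with hc | hc <;> rw [hc]
      · exact hconj _ d hd
      · simpa [inv_of_order_two (hinv e he)] using hconj e d hd
  · rcases cases 3 h with h1 | h1
    · exact Or.inr h1
    · exfalso
      refine hDt d hd ?_
      have hc : d * t = (e * d) * e * (e * d)⁻¹ := by
        rw [← h1, mul_inv_rev, inv_of_order_two (hinv e he), inv_of_order_two (hinv d hd), pow_succ, pow_succ,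
          pow_one]
        simp only [mul_assoc, mul_mul_cancel_self hdd]
      rw [hc]
      exact hconj _ e he

theorem unique_commuting_partner [Finite G] (d : G) (hd : orderOf d = 2)
    (hodd : ∀ a ∈ conjugatesOf d, ∀ b ∈ conjugatesOf d, Odd (orderOf (a * b))) (x : G) (hx : orderOf x = 2) :
    ∀ e ∈ conjugatesOf d, ∃! a : G, a ∈ conjugatesOf d ∧ Commute a x ∧ Commute e (a * x) := by
  intro e he
  have hxx := mul_self_of_order_two hx
  have hcl : ∀ {g a : G}, a ∈ conjugatesOf d → g * a * g⁻¹ ∈ conjugatesOf d := fun {g a} ha =>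
    IsConj.trans ha (isConj_iff.mpr ⟨g, rfl⟩)
  have hord : ∀ a ∈ conjugatesOf d, a * a = 1 := by
    intro a ha
    obtain ⟨c, rfl⟩ := isConj_iff.mp (ha : IsConj d a)
    simp [mul_assoc, mul_mul_cancel_self (mul_self_of_order_two hd)]
  have hee := hord e he
  set e' := x * e * x with he'
  have he'mem : e' ∈ conjugatesOf d := by
    have := hcl (g := x) he
    rwa [inv_of_order_two hx] at this
  have he'e' := hord e' he'mem
  set u := e' * e with hu
  obtain ⟨k, hk⟩ := hodd e' he'mem e he
  have hpow : u ^ (k + 1) = (u ^ k)⁻¹ := by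
    refine eq_inv_of_mul_eq_one_left ?_
    rw [← pow_add, show k + 1 + k = 2 * k + 1 by omega, ← hk, pow_orderOf_eq_one]
  set a := u ^ (k + 1) * e with ha
  have hue : e * u ^ k = (u ^ k)⁻¹ * e := by
    have h1 : e * u * e⁻¹ = u⁻¹ := by
      rw [inv_eq_of_mul_eq_one_right hee, hu, mul_inv_rev, inv_eq_of_mul_eq_one_right hee,
        inv_eq_of_mul_eq_one_right he'e']
      simp only [mul_assoc, hee, mul_one]
    have h2 : e * u ^ k * e⁻¹ = (u ^ k)⁻¹ := by
      rw [← MulAut.conj_apply, map_pow, MulAut.conj_apply, h1, inv_pow]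
    rw [← h2, inv_mul_cancel_right]
  have hamem : a ∈ conjugatesOf d := by
    rcases Nat.even_or_odd (k + 1) with ⟨i, hi⟩ | ⟨i, hi⟩
    · have : a = u ^ i * e * (u ^ i)⁻¹ := by
        have h1 : e * u * e⁻¹ = u⁻¹ := by
          rw [inv_eq_of_mul_eq_one_right hee, hu, mul_inv_rev, inv_eq_of_mul_eq_one_right hee,
            inv_eq_of_mul_eq_one_right he'e']
          simp only [mul_assoc, hee, mul_one]
        have h2 : e * u ^ i * e⁻¹ = (u ^ i)⁻¹ := by
          rw [← MulAut.conj_apply, map_pow, MulAut.conj_apply, h1, inv_pow]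
        rw [← h2, ha, hi, pow_add]
        simp [mul_assoc, mul_mul_cancel_self hee, inv_eq_of_mul_eq_one_right hee]
      rw [this]; exact hcl he
    · have hj : ∃ j, a = u ^ j * e * (u ^ j)⁻¹ := by
        refine ⟨k + 1 + i, ?_⟩
        have h1 : e * u * e⁻¹ = u⁻¹ := by
          rw [inv_eq_of_mul_eq_one_right hee, hu, mul_inv_rev, inv_eq_of_mul_eq_one_right hee,
            inv_eq_of_mul_eq_one_right he'e']
          simp only [mul_assoc, hee, mul_one]
        have h2 : e * u ^ (k + 1 + i) * e⁻¹ = (u ^ (k + 1 + i))⁻¹ := by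
          rw [← MulAut.conj_apply, map_pow, MulAut.conj_apply, h1, inv_pow]
        rw [← h2, ha]
        have h3 : u ^ (k + 1 + i) * u ^ (k + 1 + i) = u ^ (k + 1) := by
          rw [← pow_add, show k + 1 + i + (k + 1 + i) = (2 * k + 1) + (k + 1) by omega, pow_add, ← hk,
            pow_orderOf_eq_one, one_mul]
        rw [inv_eq_of_mul_eq_one_right hee, ← h3]
        simp only [mul_assoc]
        rw [← mul_assoc e e, hee, one_mul]
      obtain ⟨j, hj⟩ := hj
      rw [hj]; exact hcl he
  have haea : a * e * a = e' := by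
    calc a * e * a = u ^ (k + 1) * (u ^ (k + 1) * e) := by
          rw [ha]; simp only [mul_assoc, mul_mul_cancel_self hee]
      _ = u * e := by
          rw [← mul_assoc, ← pow_add, show k + 1 + (k + 1) = (2 * k + 1) + 1 by omega, pow_succ, ← hk,
            pow_orderOf_eq_one, one_mul]
      _ = e' := by rw [hu, mul_assoc, hee, mul_one]
  have hax : Commute a x := by
    have hxu : x * u * x⁻¹ = u⁻¹ := by
      rw [inv_of_order_two hx, hu, mul_inv_rev, inv_eq_of_mul_eq_one_right hee,
        inv_eq_of_mul_eq_one_right he'e', he']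
      simp only [mul_assoc, mul_mul_cancel_self hxx]
    have h3 : x * a * x⁻¹ = a := by
      calc x * a * x⁻¹ = (x * u ^ (k + 1) * x⁻¹) * (x * e * x⁻¹) := by rw [ha]; group
        _ = (u ^ (k + 1))⁻¹ * e' := by
            rw [← MulAut.conj_apply, map_pow, MulAut.conj_apply, hxu, inv_pow, inv_of_order_two hx, he']
        _ = u ^ k * (u * e) := by rw [hpow, inv_inv, hu, mul_assoc e' e e, hee, mul_one]
        _ = a := by simp only [ha, hu, pow_succ, mul_assoc]
    show a * x = x * a
    calc a * x = x * a * x⁻¹ * x := by rw [h3]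
      _ = x * a := by group
  refine ⟨a, ⟨hamem, hax, ?_⟩, ?_⟩
  · show e * (a * x) = a * x * e
    have hxe : x * e = e' * x := by rw [he', mul_assoc _ x x, hxx, mul_one]
    rw [mul_assoc a x e, hxe, ← haea]
    simp only [mul_assoc, mul_mul_cancel_self (hord a hamem)]
  · rintro b ⟨hb, hbx, hbe⟩
    have hbeb : b * e * b = e' := by
      have h1 : b * x * e = e * (b * x) := hbe.symm.eq
      calc b * e * b = b * e * (b * x) * x := by
            simp only [mul_assoc, hxx, mul_one]
        _ = b * (b * x * e) * x := by rw [h1]; simp only [mul_assoc]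
        _ = e' := by rw [he']; simp only [mul_assoc, mul_mul_cancel_self (hord b hb)]
    have hsq : (b * e) ^ 2 = (a * e) ^ 2 := by
      rw [sq, sq, ← mul_assoc, ← mul_assoc (a * e), hbeb, haea]
    exact mul_right_cancel (eq_of_sq_eq_of_odd (hodd b hb e he) (hodd a hamem e he) hsq)

end CfsgThreeTrans
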