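/-
Unique fixed cosets, large extraspecial subgroups: short arguments.
-/
import Cfsg.Agent.Lib.ThreeTrans.OddTrans
import Cfsg.Agent.Lib.Basic
import Cfsg.Prelude.Def_MonsterType
import Cfsg.Prelude.Def_SporadicB

set_option autoImplicit false

namespace CfsgThreeTrans

open Cfsg

variable {G : Type*} [Group G] [Finite G]

theorem extraspecial_two_central (z : G) (hz : orderOf z = 2) (Q : Subgroup G)
    (hQC : Q ≤ Subgroup.centralizer ({z} : Set G)) (hQ2 : IsPGroup 2 Q) (hZ : Nat.card (Subgroup.center Q) = 2)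
    (hlarge : Subgroup.centralizer (Q : Set G) ≤ Q) :
    (∃ P : Sylow 2 G, (P : Subgroup G) ≤ Subgroup.centralizer ({z} : Set G)) ∧
      ∀ u : G, orderOf u = 2 → (∃ P : Sylow 2 G, (P : Subgroup G) ≤ Subgroup.centralizer ({u} : Set G)) →
        IsConj z u := by
  classical
  haveI : Fact (Nat.Prime 2) := ⟨Nat.prime_two⟩
  have hcenQ : ∀ y : G, y ∈ Subgroup.centralizer (Q : Set G) → y ≠ 1 → y = z := by
    have hzc : z ∈ Subgroup.centralizer (Q : Set G) := Subgroup.mem_centralizer_iff.mpr fun q hq =>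
      Subgroup.mem_centralizer_singleton_iff.mp (hQC hq)
    have hmem : ∀ y, y ∈ Subgroup.centralizer (Q : Set G) → ∀ hy : y ∈ Q, (⟨y, hy⟩ : Q) ∈ Subgroup.center Q :=
      fun y hy hyQ => Subgroup.mem_center_iff.mpr fun q => Subtype.ext (Subgroup.mem_centralizer_iff.mp hy q q.2)
    intro y hy hy1
    obtain ⟨w, -, huniq⟩ : ∃! w : Subgroup.center Q, w ≠ 1 :=
      (Nat.card_eq_two_iff' (1 : Subgroup.center Q)).mp hZ
    have e1 := huniq ⟨⟨y, hlarge hy⟩, hmem y hy _⟩ (fun h => hy1 (congrArg (fun v : Subgroup.center Q => ((v : Q) : G)) h))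
    have e2 := huniq ⟨⟨z, hlarge hzc⟩, hmem z hzc _⟩ (fun h => by
      have h' : z = 1 := congrArg (fun v : Subgroup.center Q => ((v : Q) : G)) h
      rw [h', orderOf_one] at hz
      exact absurd hz (by norm_num))
    exact congrArg (fun v : Subgroup.center Q => ((v : Q) : G)) (e1.trans e2.symm)
  obtain ⟨P, hQP⟩ := hQ2.exists_le_sylow
  have hP : (P : Subgroup G) ≤ Subgroup.centralizer ({z} : Set G) := by
    haveI : Nontrivial (P : Subgroup G) := by
      haveI : Nontrivial Q := by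
        rw [← Finite.one_lt_card_iff_nontrivial]
        have := Subgroup.card_le_of_le (le_top : Subgroup.center Q ≤ ⊤)
        rw [hZ, Subgroup.card_top] at this
        omega
      exact Function.Injective.nontrivial (Subgroup.inclusion_injective hQP)
    haveI := P.isPGroup'.center_nontrivial
    obtain ⟨w, hw⟩ := exists_ne (1 : Subgroup.center (P : Subgroup G))
    have hwc : ∀ x ∈ (P : Subgroup G), x * ((w : (P : Subgroup G)) : G) = ((w : (P : Subgroup G)) : G) * x :=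
      fun x hx => congrArg Subtype.val (Subgroup.mem_center_iff.mp w.2 ⟨x, hx⟩)
    have hwz : ((w : (P : Subgroup G)) : G) = z := hcenQ _ (Subgroup.mem_centralizer_iff.mpr fun q hq => hwc q (hQP hq))
      (fun h => hw (Subtype.ext (Subtype.ext h)))
    intro x hx
    rw [Subgroup.mem_centralizer_singleton_iff, ← hwz]
    exact hwc x hx
  refine ⟨⟨P, hP⟩, ?_⟩
  rintro u hu ⟨R, hR⟩
  obtain ⟨g, hg⟩ := MulAction.exists_smul_eq G R P
  have hu' : g * u * g⁻¹ ∈ Subgroup.centralizer (Q : Set G) := by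
    refine Subgroup.mem_centralizer_iff.mpr fun q hq => ?_
    have hqP : q ∈ ((g • R : Sylow 2 G) : Subgroup G) := by rw [hg]; exact hQP hq
    rw [Sylow.coe_subgroup_smul] at hqP
    obtain ⟨r, hr, rfl⟩ := hqP
    have := Subgroup.mem_centralizer_singleton_iff.mp (hR hr)
    show g * r * g⁻¹ * (g * u * g⁻¹) = g * u * g⁻¹ * (g * r * g⁻¹)
    simp only [mul_assoc, inv_mul_cancel_left]
    rw [← mul_assoc r, this, mul_assoc]
  have hne : g * u * g⁻¹ ≠ 1 := fun h => by
    rw [conj_eq_one_iff] at h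
    rw [h, orderOf_one] at hu
    exact absurd hu (by norm_num)
  rw [← hcenQ _ hu' hne]
  exact (isConj_iff.mpr ⟨g, rfl⟩ : IsConj u _).symm

theorem center_map_eq (Q : Subgroup G) (hZ : Nat.card (Subgroup.center Q) = 2) :
    ∃ z : G, z ≠ 1 ∧ z ∈ Q ∧ ∀ y, y ∈ (Subgroup.center Q).map Q.subtype ↔ y = 1 ∨ y = z := by
  obtain ⟨w, hw, huniq⟩ : ∃! w : Subgroup.center Q, w ≠ 1 := (Nat.card_eq_two_iff' (1 : Subgroup.center Q)).mp hZ
  refine ⟨((w : Q) : G), fun h => hw (Subtype.ext (Subtype.ext h)), (w : Q).2, fun y => ?_⟩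
  constructor
  · rintro ⟨v, hv, rfl⟩
    by_cases h : (⟨v, hv⟩ : Subgroup.center Q) = 1
    · exact Or.inl (congrArg (fun v : Subgroup.center Q => ((v : Q) : G)) h)
    · exact Or.inr (congrArg (fun v : Subgroup.center Q => ((v : Q) : G)) (huniq _ h))
  · rintro (rfl | rfl)
    · exact one_mem _
    · exact ⟨w, w.2, rfl⟩

theorem large_of_core (Q : Subgroup G) (hL1 : IsExtraspecial 2 ↥Q)
    (hL2 : Subgroup.centralizer (Q : Set G) = ((Subgroup.center ↥Q).map Q.subtype))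
    (hL3 : Subgroup.centralizer (((Subgroup.center ↥Q).map Q.subtype) : Set G) ≤ Subgroup.normalizer (Q : Set G))
    (hZ : ((Subgroup.center ↥Q).map Q.subtype) ≤ pCore 2 G) : IsLargeExtraspecial Q := by
  refine ⟨hL1, hL2, hL3, fun K hK hQK => ?_⟩
  haveI : Fact (Nat.Prime 2) := ⟨Nat.prime_two⟩
  obtain ⟨z, hz1, hzQ, hzmem⟩ := center_map_eq Q hL1.2
  have hcop : ∀ (A : Subgroup G), IsPGroup 2 A → ∀ y, y ∈ K → y ∈ A → y = 1 := by
    intro A hA y hyK hyA
    obtain ⟨k, hk⟩ := IsPGroup.iff_orderOf.mp hA ⟨y, hyA⟩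
    rw [Subgroup.orderOf_mk] at hk
    have h1 := orderOf_dvd_natCard (⟨y, hyK⟩ : K)
    rw [Subgroup.orderOf_mk, hk] at h1
    have hk0 : k = 0 := by
      by_contra h
      exact Nat.not_even_iff_odd.mpr hK (even_iff_two_dvd.mpr ((dvd_pow_self 2 h).trans h1))
    rw [hk0, pow_zero, orderOf_eq_one_iff] at hk
    exact hk
  rw [Subgroup.eq_bot_iff_forall]
  intro x hx
  have hxz : x * z * x⁻¹ * z⁻¹ = 1 := by
    refine hcop (pCore 2 G) (CfsgLib.isPGroup_pCore 2) _ ?_ ?_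
    · have : z * x⁻¹ * z⁻¹ ∈ K := (Subgroup.mem_normalizer_iff.mp (hQK hzQ) _).mp (inv_mem hx)
      simpa [mul_assoc] using mul_mem hx this
    · exact mul_mem ((inferInstance : (pCore 2 G).Normal).conj_mem z (hZ ((hzmem z).mpr (Or.inr rfl))) x)
        (inv_mem (hZ ((hzmem z).mpr (Or.inr rfl))))
  have hxc : x ∈ Subgroup.centralizer (((Subgroup.center ↥Q).map Q.subtype) : Set G) := by
    refine Subgroup.mem_centralizer_iff.mpr fun y hy => ?_
    rcases (hzmem y).mp hy with rfl | rfl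
    · simp
    · rw [mul_inv_eq_one, mul_inv_eq_iff_eq_mul] at hxz
      exact hxz.symm
  have hxN := hL3 hxc
  have hxC : x ∈ Subgroup.centralizer (Q : Set G) := by
    refine Subgroup.mem_centralizer_iff.mpr fun q hq => ?_
    have h1 : x * q * x⁻¹ * q⁻¹ = 1 := by
      refine hcop Q hL1.1.1 _ ?_ ?_
      · have : q * x⁻¹ * q⁻¹ ∈ K := (Subgroup.mem_normalizer_iff.mp (hQK hq) _).mp (inv_mem hx)
        simpa [mul_assoc] using mul_mem hx this
      · exact mul_mem ((Subgroup.mem_normalizer_iff.mp hxN q).mp hq) (inv_mem hq)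
    rw [mul_inv_eq_one, mul_inv_eq_iff_eq_mul] at h1
    exact h1.symm
  rw [hL2] at hxC
  obtain ⟨w, -, rfl⟩ := hxC
  exact hcop Q hL1.1.1 _ hx w.2

theorem frattini_large (Q : Subgroup G) (hQ : IsLargeExtraspecial Q) (L : Subgroup G) [L.Normal] (hQL : Q ≤ L) :
    L ⊔ Subgroup.normalizer (Q : Set G) = ⊤ := by
  haveI : Fact (Nat.Prime 2) := ⟨Nat.prime_two⟩
  obtain ⟨⟨⟨hQ2, -, -⟩, hZ⟩, hC, hN, -⟩ := hQ
  obtain ⟨z, hz1, hzQ, hzmem⟩ := center_map_eq Q hZ
  obtain ⟨P, hQP⟩ := (hQ2.comap_subtype (K := L)).exists_le_sylow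
  have hQP' : Q ≤ (P : Subgroup L).map L.subtype := fun q hq => ⟨⟨q, hQL hq⟩, hQP hq, rfl⟩
  set S := (P : Subgroup L).map L.subtype
  haveI : Nontrivial S := by
    refine ⟨⟨⟨z, hQP' hzQ⟩, 1, fun h => hz1 (congrArg Subtype.val h)⟩⟩
  have hS : IsPGroup 2 S := P.isPGroup'.map _
  haveI := hS.center_nontrivial
  obtain ⟨w, hw⟩ := exists_ne (1 : Subgroup.center S)
  have hwS : ((w : S) : G) = z := by
    have : ((w : S) : G) ∈ (Subgroup.center ↥Q).map Q.subtype := by
      rw [← hC]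
      exact Subgroup.mem_centralizer_iff.mpr fun q hq =>
        congrArg Subtype.val (Subgroup.mem_center_iff.mp w.2 ⟨q, hQP' hq⟩)
    exact ((hzmem _).mp this).resolve_left fun h => hw (Subtype.ext (Subtype.ext h))
  have hNS : Subgroup.normalizer (S : Set G) ≤ Subgroup.normalizer (Q : Set G) := by
    intro g hg
    refine hN (Subgroup.mem_centralizer_iff.mpr fun y hy => ?_)
    rcases (hzmem y).mp hy with rfl | rfl
    · simp
    · have h2 : g * y * g⁻¹ ∈ (Subgroup.center ↥Q).map Q.subtype := by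
        rw [← hC]
        refine Subgroup.mem_centralizer_iff.mpr fun q hq => ?_
        have hq' : g⁻¹ * q * g ∈ S := by
          refine (Subgroup.mem_normalizer_iff.mp hg _).mpr ?_
          simpa [mul_assoc] using hQP' hq
        have := congrArg Subtype.val (Subgroup.mem_center_iff.mp w.2 ⟨_, hq'⟩)
        simp only [Subgroup.coe_mul, hwS] at this
        calc q * (g * y * g⁻¹) = g * (g⁻¹ * q * g * y) * g⁻¹ := by group
          _ = g * (y * (g⁻¹ * q * g)) * g⁻¹ := by rw [this]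
          _ = g * y * g⁻¹ * q := by group
      have h3 := ((hzmem _).mp h2).resolve_left (fun h => hz1 (conj_eq_one_iff.mp h))
      calc y * g = g * y * g⁻¹ * g := by rw [h3]
        _ = g * y := by group
  refine top_le_iff.mp ?_
  rw [← Sylow.normalizer_sup_eq_top P, sup_comm]
  exact sup_le_sup_left hNS _

omit [Finite G] in
theorem fixed_coset_iff {x : G} {H : Subgroup G} {g : G} :
    x • (QuotientGroup.mk g : G ⧸ H) = QuotientGroup.mk g ↔ g⁻¹ * x * g ∈ H := by
  rw [MulAction.Quotient.smul_mk, smul_eq_mul, eq_comm, QuotientGroup.eq, mul_assoc]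

theorem fixed_coset_equiv (I : Set G) (_hI : ∀ x ∈ I, orderOf x = 2) (hIc : ∀ g : G, ∀ x ∈ I, g * x * g⁻¹ ∈ I)
    (H : Subgroup G) :
    ((∀ x ∈ I, x ∈ H → (∀ g : G, g * x * g⁻¹ ∈ H → ∃ h ∈ H, h * x * h⁻¹ = g * x * g⁻¹) ∧
        Subgroup.centralizer ({x} : Set G) ≤ H) ↔
      (∀ g : G, g ∉ H → ∀ x ∈ I, ¬ (x ∈ H ∧ x ∈ (H : Subgroup G).map (MulAut.conj g).toMonoidHom))) ∧
    ((∀ g : G, g ∉ H → ∀ x ∈ I, ¬ (x ∈ H ∧ x ∈ (H : Subgroup G).map (MulAut.conj g).toMonoidHom)) ↔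
      ∀ x ∈ I, x ∈ H → ∃! c : G ⧸ H, x • c = c) := by
  have hmap : ∀ (g x : G), x ∈ (H : Subgroup G).map (MulAut.conj g).toMonoidHom ↔ g⁻¹ * x * g ∈ H := by
    intro g x
    simp only [Subgroup.mem_map, MulEquiv.coe_toMonoidHom, MulAut.conj_apply]
    constructor
    · rintro ⟨y, hy, rfl⟩; simpa [mul_assoc] using hy
    · intro h; exact ⟨_, h, by group⟩
  have hB : (∀ g : G, g ∉ H → ∀ x ∈ I, ¬ (x ∈ H ∧ x ∈ (H : Subgroup G).map (MulAut.conj g).toMonoidHom)) ↔
      ∀ x ∈ I, x ∈ H → ∀ g : G, g⁻¹ * x * g ∈ H → g ∈ H := by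
    simp only [hmap, not_and]
    constructor
    · intro h x hx hxH g hg; by_contra hgH; exact h g hgH x hx hxH hg
    · intro h g hg x hx hxH hgx; exact hg (h x hx hxH g hgx)
  refine ⟨?_, ?_⟩
  · rw [hB]
    constructor
    · intro h x hx hxH g hg
      have hg' : g⁻¹ * x * g⁻¹⁻¹ ∈ H := by rwa [inv_inv]
      obtain ⟨k, hk, he⟩ := (h x hx hxH).1 g⁻¹ hg'
      have hc : g * k ∈ Subgroup.centralizer ({x} : Set G) := by
        rw [Subgroup.mem_centralizer_singleton_iff]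
        calc g * k * x = g * (k * x * k⁻¹) * k := by group
          _ = g * (g⁻¹ * x * g⁻¹⁻¹) * k := by rw [he]
          _ = x * (g * k) := by group
      have := mul_mem ((h x hx hxH).2 hc) (inv_mem hk)
      simpa using this
    · intro h x hx hxH
      refine ⟨fun g hg => ?_, fun c hc => ?_⟩
      · refine ⟨g, ?_, rfl⟩
        have := h x hx hxH g⁻¹ (by rwa [inv_inv])
        simpa using inv_mem this
      · refine h x hx hxH c ?_
        rw [mul_assoc, ← Subgroup.mem_centralizer_singleton_iff.mp hc, inv_mul_cancel_left]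
        exact hxH
  · rw [hB]
    constructor
    · intro h x hx hxH
      refine ⟨QuotientGroup.mk 1, fixed_coset_iff.mpr (by simpa using hxH), fun c hc => ?_⟩
      induction c using QuotientGroup.induction_on with
      | H g =>
        refine (QuotientGroup.eq.mpr ?_).symm
        simpa using h x hx hxH g (fixed_coset_iff.mp hc)
    · intro h x hx hxH g hg
      obtain ⟨c, -, hu⟩ := h x hx hxH
      have e1 := hu (QuotientGroup.mk g) (fixed_coset_iff.mpr hg)
      have e2 := hu (QuotientGroup.mk 1) (fixed_coset_iff.mpr (by simpa using hxH))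
      have := QuotientGroup.eq.mp (e2.trans e1.symm)
      simpa using this

theorem unique_coset_fusion (z : G) (hz : IsTwoCentralInvolution z) (H : Subgroup G) (hzH : z ∈ H)
    (hfix : ∀ g : G, g⁻¹ * z * g ∈ H → g ∈ H) :
    Odd H.index ∧ ∀ x ∈ H, (∃ k : ℕ, orderOf x = 2 ^ k) → ∀ g : G, g * x * g⁻¹ ∈ H →
      ∃ h ∈ H, h * x * h⁻¹ = g * x * g⁻¹ := by
  haveI : Fact (Nat.Prime 2) := ⟨Nat.prime_two⟩
  obtain ⟨hz2, P, hzP, hPc⟩ := hz
  have hC : Subgroup.centralizer ({z} : Set G) ≤ H := by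
    intro c hc
    refine hfix c ?_
    rw [mul_assoc, ← Subgroup.mem_centralizer_singleton_iff.mp hc, inv_mul_cancel_left]
    exact hzH
  have hPH : (P : Subgroup G) ≤ H := fun x hx => hC (Subgroup.mem_centralizer_singleton_iff.mpr (hPc x hx))
  have hodd : Odd H.index := by
    rw [Nat.odd_iff, ← Nat.two_dvd_ne_zero]
    intro h
    exact P.not_dvd_index (h.trans (Subgroup.index_dvd_of_le hPH))
  refine ⟨hodd, fun x hx hxp g hg => ?_⟩
  -- a two-element of `H` commutes with some conjugate of `z` inside `H`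
  have hcomm : ∀ y ∈ H, (∃ k : ℕ, orderOf y = 2 ^ k) → ∃ h ∈ H, y * (h * z * h⁻¹) = h * z * h⁻¹ * y := by
    intro y hy hyp
    obtain ⟨k, hk⟩ := hyp
    have hy2 : IsPGroup 2 (Subgroup.zpowers (⟨y, hy⟩ : H)) :=
      IsPGroup.of_card (n := k) (by rw [Nat.card_zpowers, Subgroup.orderOf_mk, hk])
    obtain ⟨R, hR⟩ := hy2.exists_le_sylow
    obtain ⟨h, hh⟩ := MulAction.exists_smul_eq H (P.subtype hPH) R
    refine ⟨h, h.2, ?_⟩
    have hyR : (⟨y, hy⟩ : H) ∈ ((h • P.subtype hPH : Sylow 2 H) : Subgroup H) := by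
      rw [hh]; exact hR (Subgroup.mem_zpowers _)
    rw [Sylow.coe_subgroup_smul, Sylow.coe_subtype] at hyR
    obtain ⟨p, hp, hpe⟩ := hyR
    have hye : (h : G) * (p : G) * (h : G)⁻¹ = y := congrArg Subtype.val hpe
    rw [← hye]
    have := hPc (p : G) hp
    simp only [mul_assoc, inv_mul_cancel_left]
    rw [← mul_assoc (p : G), this, mul_assoc]
  obtain ⟨h₁, hh₁, hx1⟩ := hcomm x hx hxp
  obtain ⟨h₂, hh₂, hx2⟩ := hcomm (g * x * g⁻¹) hg (by
    obtain ⟨k, hk⟩ := hxp
    exact ⟨k, by rw [← hk, ← MulAut.conj_apply, MulEquiv.orderOf_eq]⟩)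
  set z₁ := h₁ * z * h₁⁻¹ with hz₁
  set z₂ := h₂ * z * h₂⁻¹ with hz₂
  have hz1H : z₁ ∈ H := mul_mem (mul_mem hh₁ hzH) (inv_mem hh₁)
  have hfix' : ∀ h ∈ H, ∀ c : G, c⁻¹ * (h * z * h⁻¹) * c ∈ H → c ∈ H := by
    intro h hh c hc
    have := hfix (h⁻¹ * c) (by simpa [mul_assoc] using hc)
    simpa [mul_assoc] using mul_mem hh this
  set C := Subgroup.centralizer ({x} : Set G)
  have hz1C : z₁ ∈ C := Subgroup.mem_centralizer_singleton_iff.mpr hx1.symm
  have hgen : ∀ h : G, IsPGroup 2 (Subgroup.zpowers (h * z * h⁻¹)) := fun h => by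
    refine IsPGroup.of_card (n := 1) ?_
    rw [Nat.card_zpowers, ← MulAut.conj_apply, MulEquiv.orderOf_eq, hz2, pow_one]
  obtain ⟨R, hR⟩ := ((hgen h₁).comap_subtype (K := C)).exists_le_sylow
  set R' := (R : Subgroup C).map C.subtype
  have hz1R : z₁ ∈ R' := ⟨⟨z₁, hz1C⟩, hR (Subgroup.mem_subgroupOf.mpr (Subgroup.mem_zpowers _)), rfl⟩
  have hRH : R' ≤ H := by
    by_contra hn
    haveI := (R.isPGroup'.map C.subtype).isNilpotent
    obtain ⟨r, hrN, hrH⟩ : ∃ r ∈ Subgroup.normalizer ((H.subgroupOf R' : Subgroup R') : Set R'), r ∉ H.subgroupOf R' := by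
      have hlt : H.subgroupOf R' < ⊤ := lt_of_le_of_ne le_top fun h => hn (Subgroup.subgroupOf_eq_top.mp h)
      exact SetLike.exists_of_lt (normalizerCondition_of_isNilpotent _ hlt)
    have hmem : (⟨z₁, hz1R⟩ : R') ∈ H.subgroupOf R' := hz1H
    have h1 : r⁻¹ * ⟨z₁, hz1R⟩ * r ∈ H.subgroupOf R' := by
      refine (Subgroup.mem_normalizer_iff.mp hrN _).mpr ?_
      simpa [mul_assoc] using hmem
    exact hrH (hfix' h₁ hh₁ (r : G) h1)
  set w := g⁻¹ * z₂ * g with hw
  have hwC : w ∈ C := by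
    rw [Subgroup.mem_centralizer_singleton_iff]
    calc w * x = g⁻¹ * (z₂ * (g * x * g⁻¹)) * g := by rw [hw]; group
      _ = g⁻¹ * ((g * x * g⁻¹) * z₂) * g := by rw [hx2]
      _ = x * w := by rw [hw]; group
  have hw2 : IsPGroup 2 (Subgroup.zpowers w) := by
    have he : w = (g⁻¹ * h₂) * z * (g⁻¹ * h₂)⁻¹ := by rw [hw, hz₂]; group
    rw [he]; exact hgen _
  obtain ⟨R2, hR2⟩ := (hw2.comap_subtype (K := C)).exists_le_sylow
  obtain ⟨c, hc⟩ := MulAction.exists_smul_eq C R2 R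
  have hwR : (c : G) * w * (c : G)⁻¹ ∈ H := by
    refine hRH ⟨c * ⟨w, hwC⟩ * c⁻¹, ?_, rfl⟩
    show c * ⟨w, hwC⟩ * c⁻¹ ∈ (R : Subgroup C)
    rw [← hc, Sylow.coe_subgroup_smul]
    exact ⟨⟨w, hwC⟩, hR2 (Subgroup.mem_subgroupOf.mpr (Subgroup.mem_zpowers _)), rfl⟩
  have hgc : g * (c : G)⁻¹ ∈ H := by
    refine hfix' h₂ hh₂ _ ?_
    rw [← hz₂]
    have : (g * (c : G)⁻¹)⁻¹ * z₂ * (g * (c : G)⁻¹) = (c : G) * w * (c : G)⁻¹ := by rw [hw]; group
    rw [this]; exact hwR
  refine ⟨_, hgc, ?_⟩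
  have hcx := Subgroup.mem_centralizer_singleton_iff.mp c.2
  calc g * (c : G)⁻¹ * x * (g * (c : G)⁻¹)⁻¹ = g * ((c : G)⁻¹ * (x * (c : G))) * g⁻¹ := by group
    _ = g * x * g⁻¹ := by rw [← hcx, inv_mul_cancel_left]

theorem two_classes_unique_cosets (I J : Set G) (a₀ b₀ : G) (ha₀ : orderOf a₀ = 2) (hb₀ : orderOf b₀ = 2)
    (hI : I = {x | IsConj a₀ x}) (hJ : J = {x | IsConj b₀ x}) (hIJ : I ≠ J) (H : Subgroup G)
    (hfix : ∀ x ∈ I ∪ J, ∃! c : G ⧸ H, x • c = c)
    (hcent : ∀ a ∈ I, a ∈ H → ∀ b ∈ I ∪ J, b ∈ H → a ≠ b → a * b = b * a →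
      Subgroup.centralizer ({a * b} : Set G) ≤ H) : H = ⊤ := by
  subst hI hJ
  obtain ⟨c, hc, -⟩ := hfix a₀ (Or.inl (IsConj.refl a₀))
  obtain ⟨g₀, rfl⟩ := QuotientGroup.mk_surjective c
  set a := g₀⁻¹ * a₀ * g₀ with ha
  have haI : IsConj a₀ a := isConj_iff.mpr ⟨g₀⁻¹, by rw [inv_inv]⟩
  have haH : a ∈ H := fixed_coset_iff.mp hc
  have hord : ∀ {u v : G}, IsConj u v → orderOf v = orderOf u := by
    intro u v h
    obtain ⟨k, rfl⟩ := isConj_iff.mp h
    rw [← MulAut.conj_apply, MulEquiv.orderOf_eq]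
  have haa : a * a = 1 := mul_self_of_order_two ((hord haI).trans ha₀)
  have hCa : Subgroup.centralizer ({a} : Set G) ≤ H := by
    intro k hk
    obtain ⟨c', -, hu⟩ := hfix a (Or.inl haI)
    have e1 := hu (QuotientGroup.mk k) (fixed_coset_iff.mpr (by
      rw [mul_assoc, ← Subgroup.mem_centralizer_singleton_iff.mp hk, inv_mul_cancel_left]; exact haH))
    have e2 := hu (QuotientGroup.mk 1) (fixed_coset_iff.mpr (by simpa using haH))
    simpa using QuotientGroup.eq.mp (e2.trans e1.symm)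
  have hJH : ∀ b, IsConj b₀ b → b ∈ H := by
    intro b hb
    have hbb : b * b = 1 := mul_self_of_order_two ((hord hb).trans hb₀)
    have hclass : ¬ IsConj a b := fun h => hIJ (by
      ext x
      exact ⟨fun hx => hb.trans (h.symm.trans (haI.symm.trans hx)),
        fun hx => haI.trans (h.trans (hb.symm.trans hx))⟩)
    set n := orderOf (a * b)
    rcases Nat.even_or_odd n with ⟨k, hk⟩ | ⟨m, hm⟩
    · set u := (a * b) ^ k with hu
      have huinv : u⁻¹ = u := inv_eq_of_mul_eq_one_right (by rw [hu, ← pow_add, ← hk, pow_orderOf_eq_one])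
      have hau : Commute a u := by
        have h1 := inv_conj_pow haa hbb k
        rw [← hu, huinv] at h1
        show a * u = u * a
        conv_rhs => rw [← h1]
        rw [mul_assoc _ a a, haa, mul_one]
      have hbu : Commute b u := by
        have : b = a * (a * b) := by rw [← mul_assoc, haa, one_mul]
        rw [this]
        exact hau.mul_left (Commute.self_pow (a * b) k)
      have huH : u ∈ H := hCa (Subgroup.mem_centralizer_singleton_iff.mpr hau.symm.eq)
      have hau_ne : a ≠ a * u := by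
        intro h
        have h1 : u = 1 := mul_left_cancel (h.symm.trans (mul_one a).symm)
        have h3 := orderOf_dvd_of_pow_eq_one h1
        have h4 : 0 < n := orderOf_pos _
        have := Nat.le_of_dvd (by omega) h3
        omega
      have hauIJ : IsConj a₀ (a * u) ∨ IsConj b₀ (a * u) := by
        rcases Nat.even_or_odd k with ⟨i, hi⟩ | ⟨i, hi⟩
        · left
          refine haI.trans (isConj_iff.mpr ⟨((a * b) ^ i)⁻¹, ?_⟩)
          rw [inv_inv, conj_pow_mul haa hbb i, hu, hi, two_mul]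
        · right
          refine hb.trans (isConj_iff.mpr ⟨((a * b) ^ i)⁻¹, ?_⟩)
          have hba : b = a * (a * b) := by rw [← mul_assoc, haa, one_mul]
          rw [inv_inv, hu, hi, pow_succ, ← mul_assoc, ← conj_pow_mul haa hbb i,
            mul_assoc (((a * b) ^ i)⁻¹ * a), (Commute.pow_self (a * b) i).eq]
          simp only [mul_assoc, mul_mul_cancel_self haa]
      have hC := hcent a haI haH (a * u) hauIJ (mul_mem haH huH) hau_ne ((Commute.refl a).mul_right hau).eq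
      refine hC (Subgroup.mem_centralizer_singleton_iff.mpr ?_)
      rw [← mul_assoc a a u, haa, one_mul]
      exact hbu.eq
    · exfalso
      refine hclass (isConj_iff.mpr ⟨((a * b) ^ m), ?_⟩)
      have h1 : (a * b) ^ (m + 1) = ((a * b) ^ m)⁻¹ := by
        refine eq_inv_of_mul_eq_one_left ?_
        rw [← pow_add, show m + 1 + m = 2 * m + 1 by omega, ← hm, pow_orderOf_eq_one]
      calc (a * b) ^ m * a * ((a * b) ^ m)⁻¹ = a * (a * (a * b) ^ m * a) * ((a * b) ^ m)⁻¹ := by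
            simp only [mul_assoc, mul_mul_cancel_self haa]
        _ = a * (((a * b) ^ m)⁻¹ * ((a * b) ^ m)⁻¹) := by rw [inv_conj_pow haa hbb, mul_assoc]
        _ = a * ((a * b) ^ (m + 1) * ((a * b) ^ m)⁻¹) := by rw [h1]
        _ = b := by rw [pow_succ', mul_inv_cancel_right, ← mul_assoc, haa, one_mul]
  refine top_le_iff.mp fun g _ => ?_
  obtain ⟨c', -, hu⟩ := hfix b₀ (Or.inr (IsConj.refl b₀))
  have e1 := hu (QuotientGroup.mk g) (fixed_coset_iff.mpr (hJH _ (isConj_iff.mpr ⟨g⁻¹, by rw [inv_inv]⟩)))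
  have e2 := hu (QuotientGroup.mk 1) (fixed_coset_iff.mpr (by simpa using hJH b₀ (IsConj.refl _)))
  simpa using QuotientGroup.eq.mp (e2.trans e1.symm)

end CfsgThreeTrans
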