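/-
Short consequences: S3 and S4 subgroups, Sylow intersections, dihedral identities, two-centrality.
-/
import Cfsg.Agent.Lib.ThreeTrans.Basic
import Cfsg.Prelude.Def_SporadicB

set_option autoImplicit false

namespace CfsgThreeTrans

open Cfsg

variable {G : Type*} [Group G]

theorem S3_iso {D : Set G} (hD : IsThreeTranspositionSet D) {d e : G} (hd : d ∈ D) (he : e ∈ D)
    (h : ¬ Commute d e) : Nonempty (Subgroup.closure ({d, e} : Set G) ≃* Equiv.Perm (Fin 3)) := by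
  obtain ⟨φ, hφd, hφe⟩ := exists_hom_S3 (mul_self hD hd) (mul_self hD he)
    (braid hD he hd (fun h' => h h'.symm))
  have hne : φ (Equiv.swap 0 1 * Equiv.swap 1 2) ≠ 1 := by
    rw [map_mul, hφd, hφe]
    intro h1
    refine h ?_
    rw [eq_inv_of_mul_eq_one_left h1, inv_self hD he]
  have hgen : Subgroup.closure ({Equiv.swap 0 1, Equiv.swap 1 2} : Set (Equiv.Perm (Fin 3))) = ⊤ := by
    rw [eq_top_iff]
    intro σ _
    have hk : ∀ σ : Equiv.Perm (Fin 3), ∃ k < 6,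
        evW ![Equiv.swap 0 1, Equiv.swap 1 2] (words3.getD k []) = σ := by decide +kernel
    obtain ⟨k, -, rfl⟩ := hk σ
    refine list_prod_mem fun x hx => ?_
    obtain ⟨i, -, rfl⟩ := List.mem_map.mp hx
    fin_cases i <;> exact Subgroup.subset_closure (by simp)
  have hr : φ.range = Subgroup.closure ({d, e} : Set G) := by
    rw [MonoidHom.range_eq_map, ← hgen, MonoidHom.map_closure, Set.image_pair, hφd, hφe]
  exact ⟨((MonoidHom.ofInjective (injective_S3_hom hne)).trans (MulEquiv.subgroupCongr hr)).symm⟩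

theorem S4_exists {D : Set G} (hD : IsThreeTranspositionSet D) {a b c : G} (ha : a ∈ D) (hb : b ∈ D)
    (hc : c ∈ D) (hac : a ≠ c) (hac' : Commute a c) (hab : ¬ Commute a b) (hbc : ¬ Commute b c) :
    ∃ φ : Equiv.Perm (Fin 4) →* G, Function.Injective φ ∧
      φ (Equiv.swap 0 1) = a ∧ φ (Equiv.swap 1 2) = b ∧ φ (Equiv.swap 2 3) = c := by
  obtain ⟨φ, hφa, hφb, hφc⟩ := exists_hom_S4 (mul_self hD ha) (mul_self hD hb) (mul_self hD hc)
    hac'.symm.eq (braid hD hb ha (fun h => hab h.symm)) (braid hD hc hb (fun h => hbc h.symm))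
  refine ⟨φ, injective_S4_hom ?_, hφa, hφb, hφc⟩
  rw [map_mul, hφa, hφc]
  intro h1
  exact hac (by rw [eq_inv_of_mul_eq_one_left h1, inv_self hD hc])

theorem sylow_width [Finite G] {D : Set G} (hD : IsThreeTranspositionGroup D) (T : Sylow 2 G) :
    IsMulCommutative (Subgroup.closure {d : G | d ∈ D ∧ d ∈ T}) ∧
      {d : G | d ∈ D ∧ d ∈ T}.ncard = commutingWidth D := by
  haveI : Fact (Nat.Prime 2) := ⟨Nat.prime_two⟩
  obtain ⟨hset, hconj, -⟩ := hD
  have hcomm : ∀ d ∈ {d : G | d ∈ D ∧ d ∈ T}, ∀ e ∈ {d : G | d ∈ D ∧ d ∈ T}, Commute d e := by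
    intro d hd e he
    by_contra h
    have h3 := pow_three hset hd.1 he.1 h
    obtain ⟨k, hk⟩ := IsPGroup.iff_orderOf.mp T.isPGroup' ⟨d * e, mul_mem hd.2 he.2⟩
    rw [Subgroup.orderOf_mk] at hk
    have h2 : orderOf (d * e) ∣ Nat.gcd (2 ^ k) 3 := Nat.dvd_gcd (hk ▸ dvd_rfl) (orderOf_dvd_of_pow_eq_one h3)
    rw [Nat.Coprime.gcd_eq_one (Nat.Coprime.pow_left _ (by norm_num)), Nat.dvd_one, orderOf_eq_one_iff] at h2
    exact h (by rw [eq_inv_of_mul_eq_one_left h2, inv_self hset he.1])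
  refine ⟨Subgroup.isMulCommutative_closure hcomm, ?_⟩
  set S := {d : G | d ∈ D ∧ d ∈ T}
  have hbdd : ∀ n ∈ {n : ℕ | ∃ E : Set G, E ⊆ D ∧ E.Finite ∧ (∀ a ∈ E, ∀ b ∈ E, Commute a b) ∧ E.ncard = n},
      n ≤ S.ncard := by
    rintro n ⟨E, hED, -, hEc, rfl⟩
    haveI := Subgroup.isMulCommutative_closure (k := E) hEc
    have hp : IsPGroup 2 (Subgroup.closure E) := by
      intro x
      refine ⟨1, ?_⟩
      obtain ⟨x, hx⟩ := x
      refine Subtype.ext ?_
      rw [Subgroup.coe_pow, pow_one, sq, Subgroup.coe_one]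
      refine Subgroup.closure_induction (p := fun y _ => y * y = 1) (fun y hy => mul_self hset (hED hy))
        (mul_one _) ?_ ?_ hx
      · intro a b ha hb h1 h2
        have hc : Commute a b := congrArg Subtype.val (mul_comm' (⟨a, ha⟩ : Subgroup.closure E) ⟨b, hb⟩)
        rw [← sq, hc.mul_pow, sq, sq, h1, h2, mul_one]
      · intro a _ h1; rw [← mul_inv_rev, h1, inv_one]
    obtain ⟨P, hP⟩ := hp.exists_le_sylow
    obtain ⟨g, hg⟩ := MulAction.exists_smul_eq G P T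
    refine Set.ncard_le_ncard_of_injOn (fun x => g * x * g⁻¹) (fun x hx => ⟨hconj g x (hED hx), ?_⟩)
      (fun x _ y _ h => mul_left_cancel (mul_right_cancel h)) (Set.toFinite _)
    show g * x * g⁻¹ ∈ (T : Subgroup G)
    rw [← hg, Sylow.coe_subgroup_smul]
    exact ⟨x, hP (Subgroup.subset_closure hx), rfl⟩
  apply le_antisymm
  · exact le_csSup ⟨_, hbdd⟩ ⟨S, fun x hx => hx.1, Set.toFinite _, hcomm, rfl⟩
  · exact csSup_le ⟨_, ⟨S, fun x hx => hx.1, Set.toFinite _, hcomm, rfl⟩⟩ hbdd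

theorem normalizes_pGroup [Finite G] {D : Set G} (hD : IsThreeTranspositionGroup D) {p : ℕ} (hp : p.Prime)
    (hp3 : 3 < p) (P : Subgroup G) (hP : IsPGroup p P) {d : G} (hd : d ∈ D)
    (hnorm : d ∈ Subgroup.normalizer (P : Set G)) : ∀ x ∈ P, Commute d x := by
  haveI : Fact p.Prime := ⟨hp⟩
  obtain ⟨hset, hconj, -⟩ := hD
  intro x hx
  have hmem : d * (x * d * x⁻¹) ∈ P := by
    have h1 : d * x * d⁻¹ ∈ P := (Subgroup.mem_normalizer_iff.mp hnorm x).mp hx
    rw [inv_self hset hd] at h1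
    have := mul_mem h1 (inv_mem hx)
    simpa [mul_assoc] using this
  obtain ⟨k, hk⟩ := IsPGroup.iff_orderOf.mp hP ⟨_, hmem⟩
  rw [Subgroup.orderOf_mk] at hk
  have key : ∀ m : ℕ, (m = 2 ∨ m = 3) → (d * (x * d * x⁻¹)) ^ m = 1 → d * (x * d * x⁻¹) = 1 := by
    intro m hm h
    have h2 : orderOf (d * (x * d * x⁻¹)) ∣ Nat.gcd (p ^ k) m := Nat.dvd_gcd (hk ▸ dvd_rfl) (orderOf_dvd_of_pow_eq_one h)
    have hcop : Nat.Coprime p m := by
      rw [hp.coprime_iff_not_dvd]
      intro hdvd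
      have := Nat.le_of_dvd (by omega) hdvd
      omega
    rw [Nat.Coprime.gcd_eq_one (Nat.Coprime.pow_left _ hcop), Nat.dvd_one, orderOf_eq_one_iff] at h2
    exact h2
  have h1 : d * (x * d * x⁻¹) = 1 := by
    rcases hset.2 d hd _ (hconj x d hd) with h | h
    · exact key 2 (Or.inl rfl) h
    · exact key 3 (Or.inr rfl) h
  have h2 : x * d * x⁻¹ = d := by rw [eq_inv_of_mul_eq_one_right h1, inv_self hset hd]
  show d * x = x * d
  conv_lhs => rw [← h2]
  simp [mul_assoc]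

theorem equiv_classes {D : Set G} {d : G} (hd : d ∈ D) :
    {v : G | v ∈ D ∧ ∀ e ∈ D, Commute v e ↔ Commute d e} = {d} ∨
      {w : G | w ∈ D ∧ {y : G | y ∈ D ∧ y ≠ d ∧ Commute d y} = {y : G | y ∈ D ∧ y ≠ w ∧ Commute w y}} = {d} := by
  by_contra h
  push Not at h
  obtain ⟨h1, h2⟩ := h
  obtain ⟨v, ⟨hv, hvd⟩, hne⟩ : ∃ v ∈ {v : G | v ∈ D ∧ ∀ e ∈ D, Commute v e ↔ Commute d e}, v ≠ d := by
    by_contra hh
    push Not at hh
    exact h1 (Set.eq_singleton_iff_unique_mem.mpr ⟨⟨hd, fun e _ => Iff.rfl⟩, hh⟩)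
  obtain ⟨w, ⟨hw, hwd⟩, hwne⟩ : ∃ w ∈ {w : G | w ∈ D ∧ {y : G | y ∈ D ∧ y ≠ d ∧ Commute d y} =
      {y : G | y ∈ D ∧ y ≠ w ∧ Commute w y}}, w ≠ d := by
    by_contra hh
    push Not at hh
    exact h2 (Set.eq_singleton_iff_unique_mem.mpr ⟨⟨hd, rfl⟩, hh⟩)
  have hdw : ¬ Commute d w := by
    intro hc
    have : w ∈ {y : G | y ∈ D ∧ y ≠ w ∧ Commute w y} := hwd ▸ ⟨hw, hwne, hc⟩
    exact this.2.1 rfl
  have hdv : Commute d v := (hvd d hd).mpr (Commute.refl d) |>.symm
  have hwv : Commute w v := by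
    have : v ∈ {y : G | y ∈ D ∧ y ≠ w ∧ Commute w y} := hwd ▸ ⟨hv, hne, hdv⟩
    exact this.2.2
  exact hdw ((hvd w hw).mp hwv.symm)

theorem dihedral_facts (a g : G) (ha : orderOf a = 2) :
    (∀ m : ℕ, orderOf (a * (g⁻¹ * a * g)) = 2 * m + 1 → Commute (g * (a * (g⁻¹ * a * g)) ^ m) a) ∧
    (∀ m : ℕ, orderOf (a * (g⁻¹ * a * g)) = 2 * m →
      Commute ((a * (g⁻¹ * a * g)) ^ m) a ∧ Commute ((a * (g * a * g⁻¹)) ^ m) a) := by
  have haa := mul_self_of_order_two ha
  have hbb : (g⁻¹ * a * g) * (g⁻¹ * a * g) = 1 := by simp [mul_assoc, mul_mul_cancel_self haa]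
  have hinv : ∀ {b : G}, b * b = 1 → ∀ m : ℕ, a * (a * b) ^ m = ((a * b) ^ m)⁻¹ * a := by
    intro b hb m
    induction m with
    | zero => simp
    | succ m ih =>
      have hstep : (a * b)⁻¹ = b * a := by
        rw [mul_inv_rev, inv_eq_of_mul_eq_one_right haa, inv_eq_of_mul_eq_one_right hb]
      have h1 : a * (a * b) = (a * b)⁻¹ * a := by
        rw [hstep, ← mul_assoc, haa, one_mul, mul_assoc, haa, mul_one]
      calc a * (a * b) ^ (m + 1) = (a * (a * b) ^ m) * (a * b) := by rw [pow_succ, mul_assoc]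
        _ = ((a * b) ^ m)⁻¹ * (a * (a * b)) := by rw [ih, mul_assoc]
        _ = ((a * b) ^ (m + 1))⁻¹ * a := by rw [h1, ← mul_assoc, ← mul_inv_rev, ← pow_succ']
  refine ⟨fun m hm => ?_, fun m hm => ⟨?_, ?_⟩⟩
  · set b := g⁻¹ * a * g with hb
    have hpow : (a * b) ^ (m + 1) = ((a * b) ^ m)⁻¹ := by
      refine eq_inv_of_mul_eq_one_left ?_
      rw [← pow_add, show m + 1 + m = 2 * m + 1 by omega, ← hm, pow_orderOf_eq_one]
    show g * (a * b) ^ m * a = a * (g * (a * b) ^ m)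
    have h1 : (a * b) ^ m * a = b * (a * b) ^ m := by
      have h2 : a * (a * b) ^ m * a = ((a * b) ^ m)⁻¹ := by rw [hinv hbb m, mul_assoc, haa, mul_one]
      calc (a * b) ^ m * a = a * (a * (a * b) ^ m * a) := by rw [mul_assoc a _ a, mul_mul_cancel_self haa]
        _ = a * (a * b) ^ (m + 1) := by rw [h2, hpow]
        _ = b * (a * b) ^ m := by rw [pow_succ', mul_assoc a b, mul_mul_cancel_self haa]
    rw [mul_assoc, h1, hb]
    simp [mul_assoc]
  · have h1 := hinv hbb m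
    have h2 : ((a * (g⁻¹ * a * g)) ^ m)⁻¹ = (a * (g⁻¹ * a * g)) ^ m := by
      refine inv_eq_of_mul_eq_one_right ?_
      rw [← pow_add, ← two_mul, ← hm, pow_orderOf_eq_one]
    rw [h2] at h1
    exact h1.symm
  · have hbb' : (g * a * g⁻¹) * (g * a * g⁻¹) = 1 := by simp [mul_assoc, mul_mul_cancel_self haa]
    have hord : orderOf (a * (g * a * g⁻¹)) = 2 * m := by
      rw [← hm, show a * (g * a * g⁻¹) = g * ((g⁻¹ * a * g) * a) * g⁻¹ by group]
      rw [← MulAut.conj_apply, MulEquiv.orderOf_eq, ← orderOf_inv (a * (g⁻¹ * a * g))]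
      simp [mul_assoc, inv_eq_of_mul_eq_one_right haa]
    have h1 := hinv hbb' m
    have h2 : ((a * (g * a * g⁻¹)) ^ m)⁻¹ = (a * (g * a * g⁻¹)) ^ m := by
      refine inv_eq_of_mul_eq_one_right ?_
      rw [← pow_add, ← two_mul, ← hord, pow_orderOf_eq_one]
    rw [h2] at h1
    exact h1.symm

theorem two_central_iff [Finite G] (t : G) (ht : orderOf t = 2) :
    IsTwoCentralInvolution t ↔ ∃ P : Sylow 2 G, (P : Subgroup G) ≤ Subgroup.centralizer ({t} : Set G) := by
  haveI : Fact (Nat.Prime 2) := ⟨Nat.prime_two⟩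
  constructor
  · rintro ⟨-, P, -, hc⟩
    exact ⟨P, fun x hx => Subgroup.mem_centralizer_singleton_iff.mpr (hc x hx)⟩
  · rintro ⟨P, hP⟩
    refine ⟨ht, P, ?_, fun x hx => Subgroup.mem_centralizer_singleton_iff.mp (hP hx)⟩
    have hz : IsPGroup 2 (Subgroup.zpowers t) := IsPGroup.of_card (n := 1) (by rw [Nat.card_zpowers, ht, pow_one])
    have hle : (P : Subgroup G) ≤ Subgroup.normalizer ((Subgroup.zpowers t : Subgroup G) : Set G) := by
      intro x hx
      refine Subgroup.centralizer_le_normalizer _ (Subgroup.mem_centralizer_iff.mpr fun y hy => ?_)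
      obtain ⟨k, rfl⟩ := Subgroup.mem_zpowers_iff.mp hy
      exact ((Commute.zpow_right (Subgroup.mem_centralizer_singleton_iff.mp (hP hx) : Commute x t)) k).symm.eq
    have hsup : IsPGroup 2 ((P : Subgroup G) ⊔ Subgroup.zpowers t : Subgroup G) :=
      IsPGroup.to_sup_of_normal_right' P.isPGroup' hz hle
    have := P.is_maximal' hsup le_sup_left
    show t ∈ (P : Subgroup G)
    rw [← this]
    exact Subgroup.mem_sup_right (Subgroup.mem_zpowers t)

theorem exists_two_central [Finite G] (h : Even (Nat.card G)) : ∃ t : G, IsTwoCentralInvolution t := by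
  haveI : Fact (Nat.Prime 2) := ⟨Nat.prime_two⟩
  obtain ⟨P⟩ := (Sylow.nonempty : Nonempty (Sylow 2 G))
  have hP : Nontrivial (P : Subgroup G) := by
    rw [← Finite.one_lt_card_iff_nontrivial]
    have h2 := P.dvd_card_of_dvd_card h.two_dvd
    have := Nat.le_of_dvd Nat.card_pos h2
    omega
  haveI := P.isPGroup'.center_nontrivial
  have hc : IsPGroup 2 (Subgroup.center (P : Subgroup G)) := P.isPGroup'.to_subgroup _
  obtain ⟨n, hn⟩ := IsPGroup.iff_card.mp hc
  have hn0 : n ≠ 0 := fun h0 => by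
    rw [h0, pow_zero] at hn
    exact absurd hn (Finite.one_lt_card_iff_nontrivial.mpr inferInstance).ne'
  obtain ⟨z, hz⟩ := exists_prime_orderOf_dvd_card' 2 (hn ▸ dvd_pow_self 2 hn0)
  refine ⟨((z : (P : Subgroup G)) : G), by rw [Subgroup.orderOf_coe, Subgroup.orderOf_coe, hz], P,
    (z : (P : Subgroup G)).2, fun x hx => ?_⟩
  exact congrArg Subtype.val (Subgroup.mem_center_iff.mp z.2 ⟨x, hx⟩)

theorem isTrans_swaps (n : ℕ) (hn : 2 ≤ n) :
    IsThreeTranspositionClass {σ : Equiv.Perm (Fin n) | σ.IsSwap} := by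
  refine ⟨⟨fun d hd => ?_, fun d hd e he => ?_⟩, ?_, Equiv.Perm.closure_isSwap⟩
  · obtain ⟨x, y, hxy, rfl⟩ := hd
    exact orderOf_eq_prime (by rw [sq, Equiv.swap_mul_self]) (by simpa [Equiv.swap_eq_one_iff] using hxy)
  · obtain ⟨x, y, hxy, rfl⟩ := hd
    obtain ⟨z, w, hzw, rfl⟩ := he
    have key : ∀ {x y z : Fin n}, x ≠ y → x ≠ z → (Equiv.swap x y * Equiv.swap x z) ^ 3 = 1 := by
      intro x y z hxy hxz
      by_cases hyz : y = z
      · subst hyz; rw [Equiv.swap_mul_self, one_pow]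
      have h1 := Equiv.swap_mul_swap_mul_swap (x := y) (y := x) (z := z) hxy.symm hyz
      have h2 := Equiv.swap_mul_swap_mul_swap (x := z) (y := x) (z := y) hxz.symm (Ne.symm hyz)
      calc (Equiv.swap x y * Equiv.swap x z) ^ 3
          = (Equiv.swap x y * Equiv.swap x z * Equiv.swap x y) *
              (Equiv.swap x z * Equiv.swap x y * Equiv.swap x z) := by
            rw [pow_succ, pow_succ, pow_one]; simp only [mul_assoc]
        _ = Equiv.swap y z * Equiv.swap z y := by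
            rw [Equiv.swap_comm y x] at h1
            rw [Equiv.swap_comm z x] at h2
            rw [h1, h2]
        _ = 1 := by rw [Equiv.swap_comm z y, Equiv.swap_mul_self]
    by_cases h1 : x = z
    · subst h1; exact Or.inr (key hxy hzw)
    by_cases h2 : x = w
    · subst h2; rw [Equiv.swap_comm z x]; exact Or.inr (key hxy h1)
    by_cases h3 : y = z
    · subst h3; rw [Equiv.swap_comm x y]; exact Or.inr (key hxy.symm hzw)
    by_cases h4 : y = w
    · subst h4; rw [Equiv.swap_comm x y, Equiv.swap_comm z y]; exact Or.inr (key hxy.symm h3)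
    refine Or.inl ?_
    have hdis : Equiv.Perm.Disjoint (Equiv.swap x y) (Equiv.swap z w) := by
      intro t
      by_cases hx : t = x
      · subst hx; exact Or.inr (Equiv.swap_apply_of_ne_of_ne h1 h2)
      by_cases hy : t = y
      · subst hy; exact Or.inr (Equiv.swap_apply_of_ne_of_ne h3 h4)
      exact Or.inl (Equiv.swap_apply_of_ne_of_ne hx hy)
    rw [hdis.commute.mul_pow, sq, sq, Equiv.swap_mul_self, Equiv.swap_mul_self, one_mul]
  · have h01 : (⟨0, by omega⟩ : Fin n) ≠ ⟨1, by omega⟩ := by simp [Fin.ext_iff]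
    refine ⟨_, ⟨_, _, h01, rfl⟩, ?_⟩
    ext σ
    constructor
    · rintro ⟨x, y, hxy, rfl⟩
      exact Equiv.Perm.isConj_swap h01 hxy
    · intro hσ
      obtain ⟨c, hc⟩ := isConj_iff.mp hσ
      refine ⟨c ⟨0, by omega⟩, c ⟨1, by omega⟩, c.injective.ne h01, ?_⟩
      rw [← hc, Equiv.swap_apply_apply]

end CfsgThreeTrans
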