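/-
Generating classes of 3-transpositions: width one, and the equivalences given by the cores O₂ and O₃.
-/
import Cfsg.Agent.Lib.ThreeTrans.Elementary
import Cfsg.Agent.Lib.Components
import Cfsg.Agent.Lib.ZStar.PProducts

set_option autoImplicit false

namespace CfsgThreeTrans

open Cfsg CfsgLib

universe u

variable {G : Type u} [Group G] {D : Set G}

/-- The other members commuting with `d`. -/
abbrev Ds (D : Set G) (d : G) : Set G := {y : G | y ∈ D ∧ y ≠ d ∧ Commute d y}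

/-- The members with the same commuting set as `d`. -/
abbrev Vs (D : Set G) (d : G) : Set G := {v : G | v ∈ D ∧ ∀ e ∈ D, Commute v e ↔ Commute d e}

/-- The members with the same commuting partners as `d`. -/
abbrev Ws (D : Set G) (d : G) : Set G :=
  {w : G | w ∈ D ∧ {y : G | y ∈ D ∧ y ≠ d ∧ Commute d y} = {y : G | y ∈ D ∧ y ≠ w ∧ Commute w y}}

theorem cj_eq (g x : G) : g * x * g⁻¹ = MulAut.conj g x := rfl

theorem commute_cj_iff (g : G) {x y : G} : Commute (g * x * g⁻¹) (g * y * g⁻¹) ↔ Commute x y := by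
  simp only [cj_eq, Commute, SemiconjBy, ← map_mul]
  exact (MulAut.conj g).injective.eq_iff

theorem cj_injective (g : G) : Function.Injective fun x : G => g * x * g⁻¹ :=
  fun _ _ h => mul_left_cancel (mul_right_cancel h)

theorem cj_cj (g h x : G) : g * (h * x * h⁻¹) * g⁻¹ = g * h * x * (g * h)⁻¹ := by group

theorem cj_inv (g x : G) : g * (g⁻¹ * x * g⁻¹⁻¹) * g⁻¹ = x := by group

theorem cls_set (hD : IsThreeTranspositionClass D) : IsThreeTranspositionSet D := hD.1

theorem cls_conj (hD : IsThreeTranspositionClass D) (g : G) {d : G} (hd : d ∈ D) : g * d * g⁻¹ ∈ D := by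
  obtain ⟨d₀, -, he⟩ := hD.2.1
  rw [he] at hd ⊢
  obtain ⟨c, rfl⟩ := isConj_iff.1 (show IsConj d₀ d from hd)
  exact (show IsConj d₀ _ from isConj_iff.2 ⟨g * c, (cj_cj g c d₀).symm⟩)

theorem cls_exists_conj (hD : IsThreeTranspositionClass D) {a b : G} (ha : a ∈ D) (hb : b ∈ D) :
    ∃ g : G, g * a * g⁻¹ = b := by
  obtain ⟨d₀, -, he⟩ := hD.2.1
  rw [he] at ha hb
  exact isConj_iff.1 ((show IsConj d₀ a from ha).symm.trans hb)

theorem cls_group (hD : IsThreeTranspositionClass D) : IsThreeTranspositionGroup D :=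
  ⟨hD.1, fun g _ hd => cls_conj hD g hd, hD.2.2⟩

theorem cj_cls_iff (hD : IsThreeTranspositionClass D) (g : G) {d : G} : g * d * g⁻¹ ∈ D ↔ d ∈ D := by
  refine ⟨fun h => ?_, cls_conj hD g⟩
  have := cls_conj hD g⁻¹ h
  rwa [show g⁻¹ * (g * d * g⁻¹) * g⁻¹⁻¹ = d by group] at this

theorem mul_ne_one (hD : IsThreeTranspositionSet D) {a b : G} (_ha : a ∈ D) (hb : b ∈ D) (hne : a ≠ b) :
    a * b ≠ 1 := fun h => hne ((eq_inv_of_mul_eq_one_left h).trans (inv_self hD hb))

theorem sq_of_commute (hD : IsThreeTranspositionSet D) {a b : G} (ha : a ∈ D) (hb : b ∈ D) (h : Commute a b) :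
    (a * b) ^ 2 = 1 :=
  (commute_iff_sq (hD.1 a ha) (hD.1 b hb)).mp h

/-- The subgroup condition extends from generators. -/
theorem invariant_of_gens (hD : IsThreeTranspositionClass D) {S : Set G}
    (h : ∀ e ∈ D, ∀ s ∈ S, e * s * e⁻¹ ∈ S) : ∀ g : G, ∀ s ∈ S, g * s * g⁻¹ ∈ S := by
  intro g
  have hg : g ∈ Subgroup.closure D := hD.2.2 ▸ Subgroup.mem_top g
  refine Subgroup.closure_induction'' (p := fun g _ => ∀ s ∈ S, g * s * g⁻¹ ∈ S) h ?_ ?_ ?_ hg
  · intro e he s hs
    rw [inv_self hD.1 he]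
    exact h e he s hs
  · intro s hs; simpa using hs
  · intro a b _ _ iha ihb s hs
    rw [← cj_cj]
    exact iha _ (ihb s hs)

/-- An invariant part of the class is all of it. -/
theorem eq_cls_of_invariant (hD : IsThreeTranspositionClass D) {S : Set G} (hS : S ⊆ D) (hne : S.Nonempty)
    (h : ∀ g : G, ∀ s ∈ S, g * s * g⁻¹ ∈ S) : S = D := by
  refine hS.antisymm fun b hb => ?_
  obtain ⟨a, ha⟩ := hne
  obtain ⟨g, rfl⟩ := cls_exists_conj hD (hS ha) hb
  exact h g a ha

/-- The noncommuting graph on the class is connected. -/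
theorem eq_cls_of_commute_compl (hD : IsThreeTranspositionClass D) {S : Set G} (hS : S ⊆ D) (hne : S.Nonempty)
    (hc : ∀ s ∈ S, ∀ e ∈ D, e ∉ S → Commute s e) : S = D := by
  refine eq_cls_of_invariant hD hS hne (invariant_of_gens hD fun e he s hs => ?_)
  by_cases heS : e ∈ S
  · by_contra hns
    have h1 : Commute e (e * s * e⁻¹) := hc e heS _ (cls_conj hD e (hS hs)) hns
    have h2 : Commute (e * s * e⁻¹) (e * e * e⁻¹) := by
      rw [mul_inv_cancel_right]; exact h1.symm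
    have h3 : Commute e s := ((commute_cj_iff e).mp h2).symm
    rw [h3.eq, mul_inv_cancel_right] at hns
    exact hns hs
  · rw [← (hc s hs e he heS).eq, mul_inv_cancel_right]
    exact hs

theorem mem_center_of_commute_cls (hD : IsThreeTranspositionClass D) {x : G} (h : ∀ e ∈ D, Commute x e) :
    x ∈ Subgroup.center G := by
  refine Subgroup.mem_center_iff.mpr fun g => ?_
  have hg : g ∈ Subgroup.closure D := hD.2.2 ▸ Subgroup.mem_top g
  refine Subgroup.closure_induction (p := fun g _ => g * x = x * g) (fun e he => (h e he).eq.symm) ?_ ?_ ?_ hg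
  · simp
  · intro a b _ _ ha hb; rw [mul_assoc, hb, ← mul_assoc, ha, mul_assoc]
  · intro a _ ha; exact (Commute.inv_left ha).eq

theorem exists_noncommute (hD : IsThreeTranspositionClass D) (hD2 : ∃ a ∈ D, ∃ b ∈ D, a ≠ b) {d : G}
    (hd : d ∈ D) : ∃ e ∈ D, ¬ Commute d e := by
  by_contra h
  push Not at h
  have hS := eq_cls_of_commute_compl hD (S := {d}) (Set.singleton_subset_iff.mpr hd) ⟨d, rfl⟩
    (fun s hs e he _ => (Set.mem_singleton_iff.mp hs) ▸ h e he)
  obtain ⟨a, ha, b, hb, hab⟩ := hD2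
  rw [← hS] at ha hb
  exact hab ((Set.mem_singleton_iff.mp ha).trans (Set.mem_singleton_iff.mp hb).symm)

theorem ne_center (hD : IsThreeTranspositionClass D) (hD2 : ∃ a ∈ D, ∃ b ∈ D, a ≠ b) :
    Subgroup.center G ≠ ⊤ := by
  intro h
  obtain ⟨d, hd, r⟩ := id hD2
  obtain ⟨e, -, he⟩ := exists_noncommute hD hD2 hd
  exact he ((Subgroup.mem_center_iff.mp (h ▸ Subgroup.mem_top e)) d)

theorem cj_Ds (hD : IsThreeTranspositionClass D) (g a : G) :
    (fun x => g * x * g⁻¹) '' Ds D a = Ds D (g * a * g⁻¹) := by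
  ext y
  constructor
  · rintro ⟨x, ⟨hx, hxa, hc⟩, rfl⟩
    exact ⟨cls_conj hD g hx, fun h => hxa (cj_injective g h), (commute_cj_iff g).mpr hc⟩
  · rintro ⟨hy, hya, hc⟩
    have e : g * (g⁻¹ * y * g⁻¹⁻¹) * g⁻¹ = y := cj_inv g y
    refine ⟨g⁻¹ * y * g⁻¹⁻¹, ⟨cls_conj hD g⁻¹ hy, fun h => hya ?_, ?_⟩, e⟩
    · rw [← e, h]
    · rw [← e] at hc; exact (commute_cj_iff g).mp hc

theorem cj_mem_Vs (hD : IsThreeTranspositionClass D) (g : G) {v a : G} (h : v ∈ Vs D a) :
    g * v * g⁻¹ ∈ Vs D (g * a * g⁻¹) := by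
  refine ⟨cls_conj hD g h.1, fun e he => ?_⟩
  rw [← cj_inv g e, commute_cj_iff, commute_cj_iff]
  exact h.2 _ (cls_conj hD g⁻¹ he)

theorem cj_mem_Ws (hD : IsThreeTranspositionClass D) (g : G) {w a : G} (h : w ∈ Ws D a) :
    g * w * g⁻¹ ∈ Ws D (g * a * g⁻¹) := by
  refine ⟨cls_conj hD g h.1, ?_⟩
  show Ds D (g * a * g⁻¹) = Ds D (g * w * g⁻¹)
  rw [← cj_Ds hD, ← cj_Ds hD]
  exact congrArg _ h.2

theorem Vs_comm {a v v' : G} (h : v ∈ Vs D a) (h' : v' ∈ Vs D a) : Commute v v' :=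
  (h.2 v' h'.1).mpr (((h'.2 v' h'.1).mp (Commute.refl v')))

theorem Vs_eq {a v : G} (h : v ∈ Vs D a) : Vs D v = Vs D a := by
  ext x
  exact ⟨fun hx => ⟨hx.1, fun e he => (hx.2 e he).trans (h.2 e he)⟩,
    fun hx => ⟨hx.1, fun e he => (hx.2 e he).trans (h.2 e he).symm⟩⟩

theorem Ws_not_commute {a v v' : G} (h : v ∈ Ws D a) (h' : v' ∈ Ws D a) (hne : v ≠ v') : ¬ Commute v v' := by
  intro hc
  have h1 : v' ∈ {y : G | y ∈ D ∧ y ≠ v ∧ Commute v y} := ⟨h'.1, hne.symm, hc⟩
  rw [← h.2, h'.2] at h1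
  exact h1.2.1 rfl

variable [Finite G]

/-- Members whose product lies in a 2-subgroup commute. -/
theorem commute_of_two (hD : IsThreeTranspositionSet D) {a b : G} (ha : a ∈ D) (hb : b ∈ D) {P : Subgroup G}
    (hP : IsPGroup 2 P) (h : a * b ∈ P) : Commute a b := by
  by_contra hn
  obtain ⟨k, hk⟩ := IsPGroup.iff_orderOf.mp hP ⟨a * b, h⟩
  rw [Subgroup.orderOf_mk] at hk
  have h1 : orderOf (a * b) ∣ Nat.gcd (2 ^ k) 3 :=
    Nat.dvd_gcd (hk ▸ dvd_rfl) (orderOf_dvd_of_pow_eq_one (pow_three hD ha hb hn))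
  rw [Nat.Coprime.gcd_eq_one (Nat.Coprime.pow_left _ (by norm_num)), Nat.dvd_one, orderOf_eq_one_iff] at h1
  exact hn (((eq_inv_of_mul_eq_one_left h1).trans (inv_self hD hb)) ▸ Commute.refl b)

theorem eq_of_three (hD : IsThreeTranspositionSet D) {a b : G} (ha : a ∈ D) (hb : b ∈ D) {P : Subgroup G}
    (hP : IsPGroup 3 P) (h : a * b ∈ P) (hc : Commute a b) : a = b := by
  by_contra hne
  obtain ⟨k, hk⟩ := IsPGroup.iff_orderOf.mp hP ⟨a * b, h⟩
  rw [Subgroup.orderOf_mk] at hk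
  have h1 : orderOf (a * b) ∣ Nat.gcd (3 ^ k) 2 :=
    Nat.dvd_gcd (hk ▸ dvd_rfl) (orderOf_dvd_of_pow_eq_one (sq_of_commute hD ha hb hc))
  rw [Nat.Coprime.gcd_eq_one (Nat.Coprime.pow_left _ (by norm_num)), Nat.dvd_one, orderOf_eq_one_iff] at h1
  exact mul_ne_one hD ha hb hne h1

/-- A set of involutions stable under itself, with all products of order three, gives a 3-group. -/
theorem width_one_products (C : Set G) (hinv : ∀ a ∈ C, orderOf a = 2)
    (hstab : ∀ a ∈ C, ∀ b ∈ C, a * b * a⁻¹ ∈ C) (h3 : ∀ a ∈ C, ∀ b ∈ C, (a * b) ^ 3 = 1) :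
    ∃ P : Subgroup G, IsPGroup 3 P ∧ P ≤ Subgroup.closure C ∧ ∀ a ∈ C, ∀ b ∈ C, a * b ∈ P := by
  set H := Subgroup.closure C with hH
  have hinvar : ∀ h ∈ H, ∀ b ∈ C, h * b * h⁻¹ ∈ C := by
    intro h hh
    refine Subgroup.closure_induction'' (p := fun h _ => ∀ b ∈ C, h * b * h⁻¹ ∈ C) hstab ?_ ?_ ?_ hh
    · intro a ha b hb
      rw [inv_of_order_two (hinv a ha)]
      exact hstab a ha b hb
    · intro b hb; simpa using hb
    · intro x y _ _ hx hy b hb
      rw [← cj_cj]
      exact hx _ (hy b hb)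
  have hconjH : ∀ a ∈ C, ∀ b ∈ C, ∃ x ∈ H, x * a * x⁻¹ = b := by
    intro a ha b hb
    refine ⟨a * b, mul_mem (Subgroup.subset_closure ha) (Subgroup.subset_closure hb), ?_⟩
    rw [mul_inv_rev, inv_of_order_two (hinv a ha), inv_of_order_two (hinv b hb)]
    have h := h3 a ha b hb
    have h' : a * b * a * b * a * b = 1 := by
      rw [← h, pow_succ, pow_succ, pow_one]
      simp only [mul_assoc]
    calc a * b * a * (b * a) = a * b * a * b * a * b * b⁻¹ := by group
      _ = b := by rw [h', one_mul, inv_of_order_two (hinv b hb)]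
  refine ⟨(pCore 3 H).map H.subtype, (isPGroup_pCore 3).map _, Subgroup.map_subtype_le _, fun a ha b hb => ?_⟩
  obtain ⟨x, hx, hab⟩ := hconjH a ha b hb
  have hcoe : ∀ y ∈ conjugatesOf (⟨a, Subgroup.subset_closure ha⟩ : H), (y : G) ∈ C := by
    intro y hy
    obtain ⟨k, rfl⟩ := isConj_iff.1 (show IsConj _ y from hy)
    exact hinvar k k.2 a ha
  have key := CfsgLib.ZStar.products_mem_pCore (G := H) Nat.prime_three (by norm_num)
    (d := ⟨a, Subgroup.subset_closure ha⟩) (by rw [Subgroup.orderOf_mk]; exact hinv a ha)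
    (fun p hp q hq => by
      obtain ⟨k, -, hk⟩ := (Nat.dvd_prime_pow Nat.prime_three (m := 1)).mp (by
        rw [pow_one]
        refine orderOf_dvd_of_pow_eq_one (Subtype.ext ?_)
        simpa using h3 _ (hcoe p hp) _ (hcoe q hq) : orderOf (p * q) ∣ 3 ^ 1)
      exact ⟨k, hk⟩)
    ⟨a, Subgroup.subset_closure ha⟩ (show IsConj _ _ from IsConj.refl _)
    ⟨b, Subgroup.subset_closure hb⟩ (show IsConj _ _ from isConj_iff.2 ⟨⟨x, hx⟩, Subtype.ext hab⟩)
  exact ⟨_, key, rfl⟩

theorem mul_mem_pCore_three (hD : IsThreeTranspositionClass D)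
    (hw : ∀ a ∈ D, ∀ b ∈ D, Commute a b → a = b) {a b : G} (ha : a ∈ D) (hb : b ∈ D) : a * b ∈ pCore 3 G := by
  obtain ⟨P, hP, -, hmem⟩ := width_one_products D hD.1.1 (fun x _ y hy => cls_conj hD x hy)
    (fun x hx y hy => by
      by_cases h : Commute x y
      · rw [hw x hx y hy h, mul_self hD.1 hy, one_pow]
      · exact pow_three hD.1 hx hy h)
  set K := Subgroup.closure {x : G | ∃ p ∈ D, ∃ q ∈ D, x = p * q} with hK
  haveI : K.Normal := ⟨fun n hn g => by
    refine Subgroup.closure_induction (p := fun n _ => g * n * g⁻¹ ∈ K) ?_ (by simp [K.one_mem]) ?_ ?_ hn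
    · rintro _ ⟨p, hp, q, hq, rfl⟩
      rw [show g * (p * q) * g⁻¹ = (g * p * g⁻¹) * (g * q * g⁻¹) by group]
      exact Subgroup.subset_closure ⟨_, cls_conj hD g hp, _, cls_conj hD g hq, rfl⟩
    · intro x y _ _ hx hy
      rw [show g * (x * y) * g⁻¹ = (g * x * g⁻¹) * (g * y * g⁻¹) by group]
      exact mul_mem hx hy
    · intro x _ hx
      rw [show g * x⁻¹ * g⁻¹ = (g * x * g⁻¹)⁻¹ by group]
      exact inv_mem hx⟩
  have hKP : K ≤ P := (Subgroup.closure_le _).mpr ?_
  · exact le_pCore (hP.to_le hKP) (hK ▸ Subgroup.subset_closure ⟨a, ha, b, hb, rfl⟩)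
  rintro _ ⟨p, hp, q, hq, rfl⟩
  exact hmem p hp q hq

/-- Width one. -/
theorem width_one_iff {G : Type u} [Group G] [Finite G] {D : Set G} (hD : IsThreeTranspositionGroup D) {d : G}
    (hd : d ∈ D) : commutingWidth D = 1 ↔ Subgroup.zpowers d ⊔ pCore 3 G = ⊤ := by
  obtain ⟨hset, hconj, hgen⟩ := hD
  set W := {n : ℕ | ∃ E : Set G, E ⊆ D ∧ E.Finite ∧ (∀ a ∈ E, ∀ b ∈ E, Commute a b) ∧ E.ncard = n}
  have hbdd : BddAbove W := ⟨Nat.card G, by
    rintro n ⟨E, -, -, -, rfl⟩
    rw [← Set.ncard_univ]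
    exact Set.ncard_le_ncard (Set.subset_univ _) (Set.toFinite _)⟩
  have h1 : 1 ∈ W := ⟨{d}, Set.singleton_subset_iff.mpr hd, Set.finite_singleton d,
    fun a ha b hb => by rw [Set.mem_singleton_iff] at ha hb; rw [ha, hb], Set.ncard_singleton d⟩
  constructor
  · intro hw
    have hw' : ∀ a ∈ D, ∀ b ∈ D, Commute a b → a = b := by
      intro a ha b hb hc
      by_contra hne
      have h2 : 2 ∈ W := ⟨{a, b}, Set.insert_subset ha (Set.singleton_subset_iff.mpr hb), Set.toFinite _,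
        fun x hx y hy => by
          rcases hx with rfl | hx <;> rcases hy with rfl | hy
          · exact Commute.refl _
          · rw [Set.mem_singleton_iff] at hy; subst hy; exact hc
          · rw [Set.mem_singleton_iff] at hx; subst hx; exact hc.symm
          · rw [Set.mem_singleton_iff] at hx hy; rw [hx, hy],
        Set.ncard_pair hne⟩
      have := le_csSup hbdd h2
      change sSup W = 1 at hw
      omega
    have hcls : IsThreeTranspositionClass D := by
      refine ⟨hset, ⟨d, hd, Set.ext fun b => ⟨fun hb => ?_, fun hb => ?_⟩⟩, hgen⟩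
      · show IsConj d b
        by_cases h : Commute d b
        · rw [hw' d hd b hb h]
        · refine isConj_iff.2 ⟨d * b, ?_⟩
          rw [mul_inv_rev, inv_self hset hd, inv_self hset hb]
          calc d * b * d * (b * d) = d * b * d * b * d := by simp only [mul_assoc]
            _ = (d * b) ^ 3 * b⁻¹ := by rw [pow_succ, pow_succ, pow_one]; group
            _ = b := by rw [pow_three hset hd hb h, one_mul, inv_self hset hb]
      · obtain ⟨g, rfl⟩ := isConj_iff.1 (show IsConj d b from hb)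
        exact hconj g d hd
    rw [eq_top_iff, ← hgen, Subgroup.closure_le]
    intro b hb
    have h3 := mul_mem_pCore_three hcls hw' hd hb
    have : b = d⁻¹ * (d * b) := by group
    rw [this]
    exact mul_mem (Subgroup.mem_sup_left (inv_mem (Subgroup.mem_zpowers d))) (Subgroup.mem_sup_right h3)
  · intro htop
    apply le_antisymm
    · refine csSup_le ⟨1, h1⟩ ?_
      rintro n ⟨E, hE, hfin, hc, rfl⟩
      refine (Set.ncard_le_one hfin).mpr fun a ha b hb => ?_
      refine eq_of_three hset (hE ha) (hE hb) (isPGroup_pCore 3) ?_ (hc a ha b hb)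
      have key : ∀ x ∈ D, d * x ∈ pCore 3 G := by
        intro x hx
        have hx' : x ∈ Subgroup.zpowers d ⊔ pCore 3 G := htop ▸ Subgroup.mem_top x
        obtain ⟨y, hy, z, hz, hxyz⟩ := Subgroup.mem_sup_of_normal_right.mp hx'
        obtain ⟨k, hk⟩ := Subgroup.mem_zpowers_iff.mp hy
        rcases Int.even_or_odd k with ⟨m, hm⟩ | ⟨m, hm⟩
        · exfalso
          have : y = 1 := by rw [← hk, hm, ← two_mul, zpow_mul, zpow_two, mul_self hset hd, one_zpow]
          rw [this, one_mul] at hxyz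
          obtain ⟨j, hj⟩ := IsPGroup.iff_orderOf.mp (isPGroup_pCore 3) (⟨z, hz⟩ : pCore 3 G)
          rw [Subgroup.orderOf_mk, hxyz, hset.1 x hx] at hj
          have : Odd (3 ^ j) := Odd.pow (by decide)
          rw [← hj] at this
          exact absurd this (by decide)
        · have : y = d := by
            rw [← hk, hm, zpow_add, zpow_mul, zpow_two, mul_self hset hd, one_zpow, one_mul, zpow_one]
          rw [this] at hxyz
          rw [← hxyz, ← mul_assoc, mul_self hset hd, one_mul]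
          exact hz
      have := mul_mem (inv_mem (key a (hE ha))) (key b (hE hb))
      rwa [mul_inv_rev, inv_self hset (hE ha), inv_self hset hd, mul_assoc, ← mul_assoc d d b, mul_self hset hd,
        one_mul] at this
    · exact le_csSup hbdd h1

/-! ### The classes of `V` -/

theorem mem_Vs_of_two (hD : IsThreeTranspositionClass D) {d v : G} (hd : d ∈ D) (hv : v ∈ D)
    (h : d⁻¹ * v ∈ pCore 2 G) : v ∈ Vs D d := by
  rw [inv_self hD.1 hd] at h
  have hv' : v * d ∈ pCore 2 G := by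
    have := inv_mem h
    rwa [mul_inv_rev, inv_self hD.1 hd, inv_self hD.1 hv] at this
  refine ⟨hv, fun e he => ?_⟩
  have key : ∀ a b, a ∈ D → b ∈ D → a * b ∈ pCore 2 G → Commute b e → Commute a e := by
    intro a b ha hb hab hbe
    by_contra hn
    set q := QuotientGroup.mk' (pCore 2 G)
    have h1 : q (a * e) = q (b * e) := by
      rw [map_mul, map_mul]
      congr 1
      have := (QuotientGroup.eq_one_iff (a * b)).mpr hab
      have h2 : q a * q b = 1 := by rw [← map_mul]; exact this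
      rw [eq_inv_of_mul_eq_one_left h2, ← map_inv, inv_self hD.1 hb]
    have h3 : q (b * e) ^ 3 = 1 := by rw [← h1, ← map_pow, pow_three hD.1 ha he hn, map_one]
    have h2 : q (b * e) ^ 2 = 1 := by rw [← map_pow, sq_of_commute hD.1 hb he hbe, map_one]
    have h4 : q (b * e) = 1 := by rw [pow_succ, h2, one_mul] at h3; exact h3
    refine hn (commute_of_two hD.1 ha he (isPGroup_pCore 2) ?_)
    rw [← QuotientGroup.eq_one_iff]
    exact h1.trans h4
  exact ⟨key d v hd hv h, key v d hv hd hv'⟩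

theorem Vs_move (hD : IsThreeTranspositionClass D) {d v : G} (hd : d ∈ D) (hv : v ∈ Vs D d) {e : G} (he : e ∈ D) :
    (d * v) * e * (d * v)⁻¹ ∈ Vs D e := by
  have hdv : Commute d v := (Vs_comm hv ⟨hd, fun _ _ => Iff.rfl⟩).symm
  by_cases hde : Commute d e
  · have hve : Commute v e := (hv.2 e he).mpr hde
    rw [(hde.mul_left hve).eq, mul_inv_cancel_right]
    exact ⟨he, fun _ _ => Iff.rfl⟩
  · have hve : ¬ Commute v e := fun h => hde ((hv.2 e he).mp h)
    have hd' := mul_self hD.1 hd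
    have hvc : d * v * d = v := by rw [hdv.eq, mul_assoc, hd', mul_one]
    have h1 : (d * v) * e * (d * v)⁻¹ = (d * e * d) * v * (d * e * d)⁻¹ := by
      rw [mul_inv_rev, inv_self hD.1 hd, inv_self hD.1 hv.1]
      calc d * v * e * (v * d) = d * (v * e * v) * d := by simp only [mul_assoc]
        _ = d * (e * v * e) * d := by rw [braid hD.1 hv.1 he hve]
        _ = d * (e * (d * v * d) * e) * d := by rw [hvc]
        _ = (d * e * d) * v * (d * e * d) := by simp only [mul_assoc]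
        _ = (d * e * d) * v * (d * e * d)⁻¹ := by
            simp only [mul_inv_rev, inv_self hD.1 hd, inv_self hD.1 he, mul_assoc]
    have h2 : (d * e * d) * d * (d * e * d)⁻¹ = e := by
      calc (d * e * d) * d * (d * e * d)⁻¹ = d * e * d * e⁻¹ * d⁻¹ := by group
        _ = (d * e * d) * (e * d) := by
            simp only [inv_self hD.1 hd, inv_self hD.1 he, mul_assoc]
        _ = (e * d * e) * (e * d) := by rw [braid hD.1 hd he hde]
        _ = e := by simp only [mul_assoc, mul_mul_cancel_self (mul_self hD.1 he), mul_self hD.1 hd, mul_one]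
    have := cj_mem_Vs hD (d * e * d) hv
    rwa [h2, ← h1] at this

theorem mul_mem_two_of_Vs (hD : IsThreeTranspositionClass D) {d v : G} (hd : d ∈ D) (hv : v ∈ Vs D d) :
    d * v ∈ pCore 2 G := by
  set S := {x : G | ∃ a ∈ D, ∃ b ∈ Vs D a, x = a * b} with hS
  set N := Subgroup.closure S with hN
  haveI hNn : N.Normal := ⟨fun n hn g => by
    refine Subgroup.closure_induction (p := fun n _ => g * n * g⁻¹ ∈ N) ?_ (by simp [N.one_mem]) ?_ ?_ hn
    · rintro _ ⟨a, ha, b, hb, rfl⟩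
      rw [show g * (a * b) * g⁻¹ = (g * a * g⁻¹) * (g * b * g⁻¹) by group]
      exact Subgroup.subset_closure ⟨_, cls_conj hD g ha, _, cj_mem_Vs hD g hb, rfl⟩
    · intro x y _ _ hx hy
      rw [show g * (x * y) * g⁻¹ = (g * x * g⁻¹) * (g * y * g⁻¹) by group]
      exact mul_mem hx hy
    · intro x _ hx
      rw [show g * x⁻¹ * g⁻¹ = (g * x * g⁻¹)⁻¹ by group]
      exact inv_mem hx⟩
  set B := Subgroup.closure {x : G | ∃ b ∈ Vs D d, x = d * b} with hB
  have hdd : d ∈ Vs D d := ⟨hd, fun _ _ => Iff.rfl⟩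
  have hBN : B ≤ N := Subgroup.closure_mono (fun x ⟨b, hb, hx⟩ => ⟨d, hd, b, hb, hx⟩)
  have hgen : ∀ x ∈ {x : G | ∃ b ∈ Vs D d, x = d * b}, ∀ y ∈ {x : G | ∃ b ∈ Vs D d, x = d * b}, Commute x y := by
    rintro _ ⟨b, hb, rfl⟩ _ ⟨b', hb', rfl⟩
    exact ((Commute.refl d).mul_left (Vs_comm hb hdd)).mul_right
      ((Vs_comm hdd hb').mul_left (Vs_comm hb hb'))
  haveI := Subgroup.isMulCommutative_closure hgen
  have hB2 : IsPGroup 2 B := by
    intro x
    refine ⟨1, ?_⟩
    obtain ⟨x, hx⟩ := x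
    refine Subtype.ext ?_
    rw [Subgroup.coe_pow, pow_one, Subgroup.coe_one]
    refine Subgroup.closure_induction (p := fun y _ => y ^ 2 = 1) ?_ (one_pow 2) ?_ ?_ hx
    · rintro _ ⟨b, hb, rfl⟩; exact sq_of_commute hD.1 hd hb.1 (Vs_comm hdd hb)
    · intro a b ha hb h1 h2
      rw [Commute.mul_pow (congrArg Subtype.val (mul_comm' (⟨a, ha⟩ : B) ⟨b, hb⟩)), h1, h2, one_mul]
    · intro a _ h1; rw [inv_pow, h1, inv_one]
  have hstab : ∀ n ∈ N, ∀ z ∈ B, n * z * n⁻¹ ∈ B := by
    have hone : ∀ x ∈ S, ∀ z ∈ B, x * z * x⁻¹ ∈ B := by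
      rintro _ ⟨a, ha, c, hc, rfl⟩ z hz
      refine Subgroup.closure_induction (p := fun z _ => (a * c) * z * (a * c)⁻¹ ∈ B) ?_ (by simp [B.one_mem]) ?_ ?_ hz
      · rintro _ ⟨b, hb, rfl⟩
        rw [show (a * c) * (d * b) * (a * c)⁻¹ =
          ((a * c) * d * (a * c)⁻¹) * ((a * c) * b * (a * c)⁻¹) by group]
        have h1 : (a * c) * d * (a * c)⁻¹ ∈ Vs D d := Vs_move hD ha hc hd
        have h2 : (a * c) * b * (a * c)⁻¹ ∈ Vs D d := Vs_eq hb ▸ Vs_move hD ha hc hb.1
        have e : ((a * c) * d * (a * c)⁻¹) * ((a * c) * b * (a * c)⁻¹) =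
            (d * ((a * c) * d * (a * c)⁻¹))⁻¹⁻¹ * (d * ((a * c) * b * (a * c)⁻¹)) := by
          rw [inv_inv]
          generalize hp : (a * c) * d * (a * c)⁻¹ = p at h1 ⊢
          generalize hq : (a * c) * b * (a * c)⁻¹ = q
          calc p * q = p * (d * d) * q := by rw [mul_self hD.1 hd, mul_one]
            _ = (p * d) * (d * q) := by simp only [mul_assoc]
            _ = d * p * (d * q) := by rw [(Vs_comm hdd h1).eq]
        rw [e]
        exact mul_mem (inv_mem (inv_mem (Subgroup.subset_closure ⟨_, h1, rfl⟩)))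
          (Subgroup.subset_closure ⟨_, h2, rfl⟩)
      · intro x y _ _ hx hy
        rw [show (a * c) * (x * y) * (a * c)⁻¹ = ((a * c) * x * (a * c)⁻¹) * ((a * c) * y * (a * c)⁻¹) by group]
        exact mul_mem hx hy
      · intro x _ hx
        rw [show (a * c) * x⁻¹ * (a * c)⁻¹ = ((a * c) * x * (a * c)⁻¹)⁻¹ by group]
        exact inv_mem hx
    intro n hn
    refine Subgroup.closure_induction'' (p := fun n _ => ∀ z ∈ B, n * z * n⁻¹ ∈ B) hone ?_ ?_ ?_ hn
    · rintro _ ⟨a, ha, c, hc, rfl⟩ z hz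
      have : (a * c)⁻¹ = a * c := by
        have hac := Vs_comm hc (⟨ha, fun _ _ => Iff.rfl⟩ : a ∈ Vs D a)
        rw [mul_inv_rev, inv_self hD.1 ha, inv_self hD.1 hc.1, hac.eq]
      rw [this]
      exact hone _ ⟨a, ha, c, hc, rfl⟩ z hz
    · intro z hz; simpa using hz
    · intro x y _ _ hx hy z hz
      rw [← cj_cj]
      exact hx _ (hy z hz)
  haveI : (B.subgroupOf N).Normal := ⟨fun z hz n => hstab n n.2 z hz⟩
  have h1 : B.subgroupOf N ≤ pCore 2 N := le_pCore (hB2.of_equiv (Subgroup.subgroupOfEquivOfLe hBN).symm)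
  have h2 := Subgroup.map_mono (f := N.subtype) h1
  rw [Subgroup.map_subgroupOf_eq_of_le hBN] at h2
  exact (map_pCore_le 2 N) (h2 (Subgroup.subset_closure ⟨v, hv, rfl⟩))

theorem Vs_eq_coset (hD : IsThreeTranspositionClass D) {d : G} (hd : d ∈ D) :
    Vs D d = {v : G | v ∈ D ∧ d⁻¹ * v ∈ pCore 2 G} := by
  ext v
  exact ⟨fun h => ⟨h.1, by rw [inv_self hD.1 hd]; exact mul_mem_two_of_Vs hD hd h⟩,
    fun h => mem_Vs_of_two hD hd h.1 h.2⟩

theorem Vs_eq_orbit (hD : IsThreeTranspositionClass D) (hD2 : ∃ a ∈ D, ∃ b ∈ D, a ≠ b) {d : G} (hd : d ∈ D) :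
    Vs D d = {v : G | ∃ g ∈ pCore 2 G, v = g * d * g⁻¹} := by
  ext v
  constructor
  · intro hv
    obtain ⟨e, he, hne⟩ := exists_noncommute hD hD2 hd
    have hve : ¬ Commute v e := fun h => hne ((hv.2 e he).mp h)
    have hdv : Commute d v := (Vs_comm hv ⟨hd, fun _ _ => Iff.rfl⟩).symm
    refine ⟨e * (d * v) * e⁻¹, (inferInstance : (pCore 2 G).Normal).conj_mem _ (mul_mem_two_of_Vs hD hd hv) e, ?_⟩
    have he' := mul_self hD.1 he
    have hv' := mul_self hD.1 hv.1
    have hd' := mul_self hD.1 hd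
    have hee := mul_mul_cancel_self he'
    have hvv := mul_mul_cancel_self hv'
    rw [inv_self hD.1 he]
    have hinv : (e * (d * v) * e)⁻¹ = e * d * v * e := by
      rw [mul_inv_rev, mul_inv_rev, mul_inv_rev, inv_self hD.1 he, inv_self hD.1 hd, inv_self hD.1 hv.1]
      simp only [← mul_assoc]
      rw [mul_assoc e v d, ← hdv.eq, ← mul_assoc]
    rw [hinv]
    have h1 : d * e * d = e * d * e := braid hD.1 hd he hne
    have h2 : v * e * v = e * v * e := braid hD.1 hv.1 he hve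
    calc v = e * (e * v * e) * e := by simp only [mul_assoc, hee, he', mul_one]
      _ = e * (v * e * v) * e := by rw [h2]
      _ = e * v * (d * (d * e * d) * d) * v * e := by
          simp only [mul_assoc, mul_mul_cancel_self hd']
      _ = e * v * (d * (e * d * e) * d) * v * e := by rw [h1]
      _ = e * (v * d) * e * d * (e * d * v * e) := by simp only [mul_assoc]
      _ = e * (d * v) * e * d * (e * d * v * e) := by rw [hdv.eq]
  · rintro ⟨g, hg, rfl⟩
    refine mem_Vs_of_two hD hd (cls_conj hD g hd) ?_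
    rw [← mul_assoc, ← mul_assoc]
    exact mul_mem ((inferInstance : (pCore 2 G).Normal).conj_mem' g hg d) (inv_mem hg)

/-! ### The classes of `W` -/

theorem mem_Ws_of_three (hD : IsThreeTranspositionClass D) {d w : G} (hd : d ∈ D) (hw : w ∈ D)
    (h : d⁻¹ * w ∈ pCore 3 G) : w ∈ Ws D d := by
  rw [inv_self hD.1 hd] at h
  have h' : w * d ∈ pCore 3 G := by
    have := inv_mem h
    rwa [mul_inv_rev, inv_self hD.1 hd, inv_self hD.1 hw] at this
  have key : ∀ a b, a ∈ D → b ∈ D → a * b ∈ pCore 3 G → Ds D b ⊆ Ds D a := by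
    rintro a b ha hb hab e ⟨he, heb, hbe⟩
    have hea : e ≠ a := by
      rintro rfl
      exact heb (eq_of_three hD.1 he hb (isPGroup_pCore 3) hab hbe.symm)
    refine ⟨he, hea, ?_⟩
    by_contra hn
    set q := QuotientGroup.mk' (pCore 3 G)
    have h1 : q (a * e) = q (b * e) := by
      rw [map_mul, map_mul]
      congr 1
      have h2 : q a * q b = 1 := by rw [← map_mul]; exact (QuotientGroup.eq_one_iff (a * b)).mpr hab
      rw [eq_inv_of_mul_eq_one_left h2, ← map_inv, inv_self hD.1 hb]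
    have h3 : q (b * e) ^ 3 = 1 := by rw [← h1, ← map_pow, pow_three hD.1 ha he hn, map_one]
    have h2 : q (b * e) ^ 2 = 1 := by rw [← map_pow, sq_of_commute hD.1 hb he hbe, map_one]
    have h4 : q (b * e) = 1 := by rw [pow_succ, h2, one_mul] at h3; exact h3
    exact heb (eq_of_three hD.1 hb he (isPGroup_pCore 3) ((QuotientGroup.eq_one_iff _).mp h4) hbe).symm
  exact ⟨hw, Set.Subset.antisymm (key w d hw hd h') (key d w hd hw h)⟩

theorem Ws_move (hD : IsThreeTranspositionClass D) {d w : G} (hd : d ∈ D) (hw : w ∈ Ws D d) {e : G} (he : e ∈ D) :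
    (d * w) * e * (d * w)⁻¹ ∈ Ws D e := by
  have hwd : w ∈ Ws D d := hw
  have hself : ∀ a ∈ D, a ∈ Ws D a := fun a ha => ⟨ha, rfl⟩
  have hd' := mul_self hD.1 hd
  have heq : d * w * e * (d * w)⁻¹ = d * (w * e * w) * d := by
    rw [mul_inv_rev, inv_self hD.1 hd, inv_self hD.1 hw.1]; simp only [mul_assoc]
  have hdwd : d * w * d⁻¹ ∈ Ws D d := by
    have := cj_mem_Ws hD d hw
    rwa [mul_inv_cancel_right] at this
  by_cases hwe : w = e
  · subst hwe
    rw [heq, mul_self hD.1 he, one_mul]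
    rw [inv_self hD.1 hd] at hdwd
    exact ⟨hdwd.1, hw.2.symm.trans hdwd.2⟩
  by_cases hde : d = e
  · subst hde
    by_cases hc : Commute w d
    · have : w = d := by
        by_contra hne
        exact Ws_not_commute hw (hself d hd) hne hc
      subst this
      rw [heq]
      simp only [mul_assoc, mul_self hD.1 hd, mul_one, hd', one_mul]
      exact hself _ hd
    · rw [heq, braid hD.1 hw.1 hd hc]
      simp only [mul_assoc, mul_mul_cancel_self hd', mul_self hD.1 hd, mul_one]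
      exact hw
  by_cases hc : Commute d e
  · have hcw : Commute w e := by
      have : e ∈ {y : G | y ∈ D ∧ y ≠ w ∧ Commute w y} := hw.2 ▸ ⟨he, Ne.symm hde, hc⟩
      exact this.2.2
    rw [(hc.mul_left hcw).eq, mul_inv_cancel_right]
    exact hself e he
  · have hcw : ¬ Commute w e := fun h => by
      have : e ∈ {y : G | y ∈ D ∧ y ≠ d ∧ Commute d y} := hw.2.symm ▸ ⟨he, Ne.symm hwe, h⟩
      exact hc this.2.2
    have h1 : d * w * e * (d * w)⁻¹ = (d * e * d) * (d * w * d⁻¹) * (d * e * d)⁻¹ := by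
      rw [heq, braid hD.1 hw.1 he hcw]
      simp only [mul_inv_rev, inv_self hD.1 hd, inv_self hD.1 he, mul_assoc, mul_mul_cancel_self hd']
    have h2 : (d * e * d) * d * (d * e * d)⁻¹ = e := by
      calc (d * e * d) * d * (d * e * d)⁻¹ = d * e * d * e⁻¹ * d⁻¹ := by group
        _ = (d * e * d) * (e * d) := by
            simp only [inv_self hD.1 hd, inv_self hD.1 he, mul_assoc]
        _ = (e * d * e) * (e * d) := by rw [braid hD.1 hd he hc]
        _ = e := by simp only [mul_assoc, mul_mul_cancel_self (mul_self hD.1 he), mul_self hD.1 hd, mul_one]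
    have := cj_mem_Ws hD (d * e * d) hdwd
    rwa [h2, ← h1] at this

theorem Ws_eq {a w : G} (h : w ∈ Ws D a) : Ws D w = Ws D a := by
  ext x
  exact ⟨fun hx => ⟨hx.1, h.2.trans hx.2⟩, fun hx => ⟨hx.1, h.2.symm.trans hx.2⟩⟩

theorem mul_mem_three_of_Ws (hD : IsThreeTranspositionClass D) {d w : G} (hd : d ∈ D) (hw : w ∈ Ws D d) :
    d * w ∈ pCore 3 G := by
  set S := {x : G | ∃ a ∈ D, ∃ b ∈ Ws D a, x = a * b} with hS
  set N := Subgroup.closure S with hN
  haveI hNn : N.Normal := ⟨fun n hn g => by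
    refine Subgroup.closure_induction (p := fun n _ => g * n * g⁻¹ ∈ N) ?_ (by simp [N.one_mem]) ?_ ?_ hn
    · rintro _ ⟨a, ha, b, hb, rfl⟩
      rw [show g * (a * b) * g⁻¹ = (g * a * g⁻¹) * (g * b * g⁻¹) by group]
      exact Subgroup.subset_closure ⟨_, cls_conj hD g ha, _, cj_mem_Ws hD g hb, rfl⟩
    · intro x y _ _ hx hy
      rw [show g * (x * y) * g⁻¹ = (g * x * g⁻¹) * (g * y * g⁻¹) by group]
      exact mul_mem hx hy
    · intro x _ hx
      rw [show g * x⁻¹ * g⁻¹ = (g * x * g⁻¹)⁻¹ by group]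
      exact inv_mem hx⟩
  have hdd : d ∈ Ws D d := ⟨hd, rfl⟩
  set B := Subgroup.closure {x : G | ∃ b ∈ Ws D d, x = d * b} with hB
  have hBN : B ≤ N := Subgroup.closure_mono (fun x ⟨b, hb, hx⟩ => ⟨d, hd, b, hb, hx⟩)
  obtain ⟨P, hP, -, hPmem⟩ := width_one_products (Ws D d) (fun a ha => hD.1.1 a ha.1)
    (fun a ha b hb => by
      have h1 := cj_mem_Ws hD a (Ws_eq ha ▸ hb : b ∈ Ws D a)
      rw [mul_inv_cancel_right] at h1
      exact Ws_eq ha ▸ h1)
    (fun a ha b hb => by
      by_cases h : a = b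
      · rw [h, mul_self hD.1 hb.1, one_pow]
      · exact pow_three hD.1 ha.1 hb.1 (Ws_not_commute ha hb h))
  have hB3 : IsPGroup 3 B := hP.to_le ((Subgroup.closure_le _).mpr (by
    rintro _ ⟨b, hb, rfl⟩; exact hPmem d hdd b hb))
  have hpair : ∀ p ∈ Ws D d, ∀ q ∈ Ws D d, p * q ∈ B := by
    intro p hp q hq
    have := mul_mem (inv_mem (Subgroup.subset_closure (k := {x : G | ∃ b ∈ Ws D d, x = d * b}) ⟨p, hp, rfl⟩))
      (Subgroup.subset_closure (k := {x : G | ∃ b ∈ Ws D d, x = d * b}) ⟨q, hq, rfl⟩)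
    rwa [mul_inv_rev, inv_self hD.1 hd, inv_self hD.1 hp.1, mul_assoc, ← mul_assoc d d q, mul_self hD.1 hd,
      one_mul] at this
  have hstab : ∀ n ∈ N, ∀ z ∈ B, n * z * n⁻¹ ∈ B := by
    have hone : ∀ x ∈ S, ∀ z ∈ B, x * z * x⁻¹ ∈ B := by
      rintro _ ⟨a, ha, c, hc, rfl⟩ z hz
      refine Subgroup.closure_induction (p := fun z _ => (a * c) * z * (a * c)⁻¹ ∈ B) ?_ (by simp [B.one_mem]) ?_ ?_ hz
      · rintro _ ⟨b, hb, rfl⟩
        rw [show (a * c) * (d * b) * (a * c)⁻¹ =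
          ((a * c) * d * (a * c)⁻¹) * ((a * c) * b * (a * c)⁻¹) by group]
        exact hpair _ (Ws_move hD ha hc hd) _ (Ws_eq hb ▸ Ws_move hD ha hc hb.1)
      · intro x y _ _ hx hy
        rw [show (a * c) * (x * y) * (a * c)⁻¹ = ((a * c) * x * (a * c)⁻¹) * ((a * c) * y * (a * c)⁻¹) by group]
        exact mul_mem hx hy
      · intro x _ hx
        rw [show (a * c) * x⁻¹ * (a * c)⁻¹ = ((a * c) * x * (a * c)⁻¹)⁻¹ by group]
        exact inv_mem hx
    intro n hn
    refine Subgroup.closure_induction'' (p := fun n _ => ∀ z ∈ B, n * z * n⁻¹ ∈ B) hone ?_ ?_ ?_ hn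
    · rintro _ ⟨a, ha, c, hc, rfl⟩ z hz
      have : (a * c)⁻¹ = c * a := by rw [mul_inv_rev, inv_self hD.1 ha, inv_self hD.1 hc.1]
      rw [this]
      exact hone _ ⟨c, hc.1, a, Ws_eq hc ▸ ⟨ha, rfl⟩, rfl⟩ z hz
    · intro z hz; simpa using hz
    · intro x y _ _ hx hy z hz
      rw [← cj_cj]
      exact hx _ (hy z hz)
  haveI : (B.subgroupOf N).Normal := ⟨fun z hz n => hstab n n.2 z hz⟩
  have h1 : B.subgroupOf N ≤ pCore 3 N := le_pCore (hB3.of_equiv (Subgroup.subgroupOfEquivOfLe hBN).symm)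
  have h2 := Subgroup.map_mono (f := N.subtype) h1
  rw [Subgroup.map_subgroupOf_eq_of_le hBN] at h2
  exact (map_pCore_le 3 N) (h2 (Subgroup.subset_closure ⟨w, hw, rfl⟩))

theorem Ws_eq_coset (hD : IsThreeTranspositionClass D) {d : G} (hd : d ∈ D) :
    Ws D d = {w : G | w ∈ D ∧ d⁻¹ * w ∈ pCore 3 G} := by
  ext w
  exact ⟨fun h => ⟨h.1, by rw [inv_self hD.1 hd]; exact mul_mem_three_of_Ws hD hd h⟩,
    fun h => mem_Ws_of_three hD hd h.1 h.2⟩

theorem Ws_eq_orbit (hD : IsThreeTranspositionClass D) {d : G} (hd : d ∈ D) :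
    Ws D d = {w : G | ∃ g ∈ pCore 3 G, w = g * d * g⁻¹} := by
  ext w
  constructor
  · intro hw
    refine ⟨d * w, mul_mem_three_of_Ws hD hd hw, ?_⟩
    by_cases hne : w = d
    · subst hne; rw [mul_self hD.1 hd]; simp
    · have hnc : ¬ Commute w d := Ws_not_commute hw ⟨hd, rfl⟩ hne
      rw [mul_inv_rev, inv_self hD.1 hd, inv_self hD.1 hw.1]
      calc w = d * (d * w * d) * d := by
            simp only [mul_assoc, mul_mul_cancel_self (mul_self hD.1 hd), mul_self hD.1 hd, mul_one]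
        _ = d * (w * d * w) * d := by rw [braid hD.1 hw.1 hd hnc]
        _ = d * w * d * (w * d) := by simp only [mul_assoc]
  · rintro ⟨g, hg, rfl⟩
    refine mem_Ws_of_three hD hd (cls_conj hD g hd) ?_
    rw [← mul_assoc, ← mul_assoc]
    exact mul_mem ((inferInstance : (pCore 3 G).Normal).conj_mem' g hg d) (inv_mem hg)

end CfsgThreeTrans
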