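/-
The cores and the layer of a group generated by a class of 3-transpositions.
-/
import Cfsg.Agent.Lib.ThreeTrans.Classes

set_option autoImplicit false

namespace CfsgThreeTrans

open Cfsg CfsgLib
open scoped commutatorElement

universe u

variable {G : Type u} [Group G] [Finite G] {D : Set G}

theorem commute_layer_of_solvable {N : Subgroup G} (hN : N.IsSubnormal) (hs : Group.IsSolvable N) :
    ∀ z ∈ N, ∀ g ∈ layer G, Commute g z := by
  intro z hz g hg
  have h1 : layer G ≤ Subgroup.centralizer (solvableRadical G : Set G) :=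
    sSup_le fun K hK => Subgroup.commutator_eq_bot_iff_le_centralizer.mp (component_commutator_radical hK)
  exact ((Subgroup.mem_centralizer_iff.mp (h1 hg)) z (isSubnormal_solvable_le_radical hN hs hz)).symm

/-- A transposition centralises a perfect normal subgroup of the layer, or has both kinds of conjugates there. -/
theorem layer_cases (hD : IsThreeTranspositionClass D) {d : G} (hd : d ∈ D) (E : Subgroup G) [E.Normal]
    (hE : E ≤ layer G) (hperf : ⁅E, E⁆ = E) : (∀ g ∈ E, Commute g d) ∨
      ((∃ g ∈ E, g * d * g⁻¹ ≠ d ∧ Commute (g * d * g⁻¹) d) ∧ ∃ g ∈ E, ¬ Commute (g * d * g⁻¹) d) := by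
  have hd' := mul_self hD.1 hd
  let c : G → G := fun g => g * d * g⁻¹ * d
  set S := {x : G | ∃ g ∈ E, x = c g} with hS
  set N := Subgroup.closure S with hN
  have hcE : ∀ g ∈ E, c g ∈ E := fun g hg => by
    have h1 : d * g⁻¹ * d⁻¹ ∈ E := (inferInstance : E.Normal).conj_mem _ (inv_mem hg) d
    rw [inv_self hD.1 hd] at h1
    have h2 := mul_mem hg h1
    simpa only [c, ← mul_assoc] using h2
  have hmul : ∀ g h, c (g * h) = g * c h * g⁻¹ * c g := fun g h => by
    calc g * h * d * (g * h)⁻¹ * d = g * h * d * h⁻¹ * (d * d) * g⁻¹ * d := by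
          rw [hd', mul_inv_rev]; simp only [mul_assoc, one_mul, mul_one]
      _ = g * (h * d * h⁻¹ * d) * g⁻¹ * (g * d * g⁻¹ * d) := by group
  have hNE : N ≤ E := (Subgroup.closure_le _).mpr fun x ⟨g, hg, hx⟩ => hx ▸ hcE g hg
  -- a solvable `N` forces centralisation
  have key : Group.IsSolvable N → ∀ g ∈ E, Commute g d := by
    intro hs
    haveI : (N.subgroupOf E).Normal := ⟨fun z hz n => by
      show (n : G) * z * (n : G)⁻¹ ∈ N
      have hz' : (z : G) ∈ N := hz
      refine Subgroup.closure_induction (p := fun z _ => (n : G) * z * (n : G)⁻¹ ∈ N) ?_ (by simp [N.one_mem]) ?_ ?_ hz'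
      · rintro _ ⟨g, hg, rfl⟩
        have : (n : G) * c g * (n : G)⁻¹ = c ((n : G) * g) * (c n)⁻¹ := by rw [hmul, mul_inv_cancel_right]
        rw [this]
        exact mul_mem (Subgroup.subset_closure ⟨_, mul_mem n.2 hg, rfl⟩)
          (inv_mem (Subgroup.subset_closure ⟨_, n.2, rfl⟩))
      · intro x y _ _ hx hy
        rw [show (n : G) * (x * y) * (n : G)⁻¹ = ((n : G) * x * (n : G)⁻¹) * ((n : G) * y * (n : G)⁻¹) by group]
        exact mul_mem hx hy
      · intro x _ hx
        rw [show (n : G) * x⁻¹ * (n : G)⁻¹ = ((n : G) * x * (n : G)⁻¹)⁻¹ by group]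
        exact inv_mem hx⟩
    have hsub : N.IsSubnormal := by
      have := (this : (N.subgroupOf E).Normal).isSubnormal.trans' (inferInstance : E.Normal).isSubnormal
      rwa [Subgroup.map_subgroupOf_eq_of_le hNE] at this
    have hcent : ∀ z ∈ N, ∀ g ∈ E, Commute g z := fun z hz g hg => commute_layer_of_solvable hsub hs z hz g (hE hg)
    let φ : E →* N :=
      { toFun := fun g => ⟨(c g)⁻¹, inv_mem (Subgroup.subset_closure ⟨_, g.2, rfl⟩)⟩
        map_one' := Subtype.ext (by simp [c, hd'])
        map_mul' := fun g h => Subtype.ext (by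
          have hc : (g : G) * c h * (g : G)⁻¹ = c h := by
            rw [(hcent (c h) (Subgroup.subset_closure ⟨_, h.2, rfl⟩) g g.2).eq, mul_inv_cancel_right]
          show (c ((g : G) * h))⁻¹ = (c g)⁻¹ * (c h)⁻¹
          rw [hmul, hc, mul_inv_rev]) }
    intro g hg
    have hg' : g ∈ ⁅E, E⁆ := hperf.symm ▸ hg
    have hgE := hg
    have : φ ⟨g, hgE⟩ = 1 := by
      have hker : ⁅E, E⁆ ≤ φ.ker.map E.subtype := Subgroup.commutator_le.mpr fun a ha b hb => by
        refine ⟨⁅(⟨a, ha⟩ : E), ⟨b, hb⟩⁆, ?_, rfl⟩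
        rw [SetLike.mem_coe, MonoidHom.mem_ker, map_commutatorElement, commutatorElement_eq_one_iff_mul_comm]
        refine Subtype.ext ?_
        exact (hcent _ (φ ⟨b, hb⟩).2 _ (hNE (φ ⟨a, ha⟩).2)).eq
      obtain ⟨x, hx, hxg⟩ := hker hg'
      have : x = ⟨g, hgE⟩ := Subtype.ext hxg
      rw [← this]; exact hx
    have h1 : c g = 1 := inv_eq_one.mp (congrArg Subtype.val this)
    have h2 : g * d * g⁻¹ = d := by
      have := eq_inv_of_mul_eq_one_left h1
      rwa [inv_self hD.1 hd] at this
    exact mul_inv_eq_iff_eq_mul.mp h2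
  by_cases hnc : ∃ g ∈ E, ¬ Commute (g * d * g⁻¹) d
  · by_cases hcm : ∃ g ∈ E, g * d * g⁻¹ ≠ d ∧ Commute (g * d * g⁻¹) d
    · exact Or.inr ⟨hcm, hnc⟩
    · refine Or.inl (key ?_)
      push Not at hcm
      set C := {x : G | ∃ g ∈ E, x = g * d * g⁻¹} with hC
      have hrel : ∀ g ∈ E, ∀ h ∈ E, Commute (g * d * g⁻¹) (h * d * h⁻¹) → g * d * g⁻¹ = h * d * h⁻¹ := by
        intro g hg h hh hc
        have hk := mul_mem (inv_mem hh) hg
        by_contra hne
        refine hcm _ hk (fun e => hne ?_) ?_
        · have := congrArg (fun x => h * x * h⁻¹) e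
          simp only [cj_cj, mul_inv_cancel_left] at this
          exact this
        · refine (commute_cj_iff h).mp ?_
          rw [cj_cj, mul_inv_cancel_left]
          exact hc
      obtain ⟨P, hP, -, hPmem⟩ := width_one_products C
        (by rintro _ ⟨g, -, rfl⟩; exact hD.1.1 _ (cls_conj hD g hd))
        (by
          rintro _ ⟨g, hg, rfl⟩ _ ⟨h, hh, rfl⟩
          refine ⟨g * (d * (g⁻¹ * h) * d⁻¹),
            mul_mem hg ((inferInstance : E.Normal).conj_mem _ (mul_mem (inv_mem hg) hh) d), ?_⟩
          group)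
        (by
          rintro _ ⟨g, hg, rfl⟩ _ ⟨h, hh, rfl⟩
          by_cases hc : Commute (g * d * g⁻¹) (h * d * h⁻¹)
          · rw [hrel g hg h hh hc, mul_self hD.1 (cls_conj hD h hd), one_pow]
          · exact pow_three hD.1 (cls_conj hD g hd) (cls_conj hD h hd) hc)
      have hNP : N ≤ P := (Subgroup.closure_le _).mpr (by
        rintro _ ⟨g, hg, rfl⟩
        exact hPmem _ ⟨g, hg, rfl⟩ d ⟨1, one_mem _, by simp⟩)
      haveI : Fact (Nat.Prime 3) := ⟨Nat.prime_three⟩
      haveI := (hP.to_le hNP).isNilpotent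
      infer_instance
  · push Not at hnc
    refine Or.inl (key ?_)
    set C := {x : G | ∃ g ∈ E, x = g * d * g⁻¹} with hC
    haveI := Subgroup.isMulCommutative_closure (k := C) (by
      rintro _ ⟨g, hg, rfl⟩ _ ⟨h, hh, rfl⟩
      have := (commute_cj_iff h).mpr (hnc _ (mul_mem (inv_mem hh) hg))
      rwa [cj_cj, mul_inv_cancel_left] at this)
    have hle : N ≤ Subgroup.closure C := (Subgroup.closure_le _).mpr (by
      rintro _ ⟨g, hg, rfl⟩
      exact mul_mem (Subgroup.subset_closure ⟨g, hg, rfl⟩) (Subgroup.subset_closure ⟨1, one_mem _, by simp⟩))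
    exact Group.isSolvable_of_comm fun a b => Subtype.ext
      (show a.1 * b.1 = b.1 * a.1 from congrArg Subtype.val (mul_comm' (⟨a.1, hle a.2⟩ : Subgroup.closure C) ⟨b.1, hle b.2⟩))

omit [Finite G] in
theorem eq_bot_of_perfect_central {E : Subgroup G} (hperf : ⁅E, E⁆ = E) (h : E ≤ Subgroup.center G) : E = ⊥ := by
  rw [eq_bot_iff, ← hperf, Subgroup.commutator_le]
  intro a ha b _
  rw [Subgroup.mem_bot, commutatorElement_eq_one_iff_mul_comm]
  exact (Subgroup.mem_center_iff.mp (h ha) b).symm

theorem le_center_of_commute (hD : IsThreeTranspositionClass D) (N : Subgroup G) [N.Normal] {d : G} (hd : d ∈ D)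
    (h : ∀ g ∈ N, Commute g d) : N ≤ Subgroup.center G := by
  intro n hn
  refine mem_center_of_commute_cls hD fun e he => ?_
  obtain ⟨g, rfl⟩ := cls_exists_conj hD hd he
  have h1 := (commute_cj_iff g).mpr (h _ ((inferInstance : N.Normal).conj_mem _ hn g⁻¹))
  rwa [cj_inv g n] at h1

theorem moved_of_core (hD : IsThreeTranspositionClass D) {N : Subgroup G} [N.Normal]
    (h : ¬ N ≤ Subgroup.center G) {d : G} (hd : d ∈ D) : ∃ g ∈ N, g * d * g⁻¹ ≠ d := by
  by_contra hh
  push Not at hh
  exact h (le_center_of_commute hD N hd fun g hg => mul_inv_eq_iff_eq_mul.mp (hh g hg))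

theorem layer_eq_bot_of_two (hD : IsThreeTranspositionClass D) (hD2 : ∃ a ∈ D, ∃ b ∈ D, a ≠ b)
    (h2 : ¬ pCore 2 G ≤ Subgroup.center G) : layer G = ⊥ := by
  obtain ⟨d, hd, -⟩ := id hD2
  obtain ⟨u, hu, hne⟩ := moved_of_core hD h2 hd
  set v := u * d * u⁻¹ with hvdef
  have hv : v ∈ Vs D d := by rw [Vs_eq_orbit hD hD2 hd]; exact ⟨u, hu, rfl⟩
  have hx : d * v ∈ pCore 2 G := mul_mem_two_of_Vs hD hd hv
  have hdv : Commute d v := (Vs_comm hv ⟨hd, fun _ _ => Iff.rfl⟩).symm
  have hcent : ∀ g ∈ layer G, Commute g (d * v) := fun g hg =>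
    ((Subgroup.mem_centralizer_iff.mp (layer_le_centralizer_fitting hg)) _
      (pCore_le_fittingSubgroup Nat.prime_two hx)).symm
  refine eq_bot_of_perfect_central layer_commutator_self (le_center_of_commute hD _ hd ?_)
  rcases layer_cases hD hd (layer G) le_rfl layer_commutator_self with h | ⟨-, g, hg, hnc⟩
  · exact h
  exfalso
  set e := g * d * g⁻¹ with hedef
  have he : e ∈ D := cls_conj hD g hd
  have hde : d * e ∈ layer G := by
    have h1 := mul_mem ((inferInstance : (layer G).Normal).conj_mem g hg d) (inv_mem hg)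
    rw [inv_self hD.1 hd] at h1
    simpa only [hedef, ← mul_assoc] using h1
  have hde' : Commute (d * e) (d * v) := hcent _ hde
  have hdd : Commute d (d * v) := (Commute.refl d).mul_right hdv
  have hed : Commute e (d * v) := by
    have := hdd.inv_left.mul_left hde'
    rwa [inv_mul_cancel_left] at this
  have hev : ¬ Commute v e := fun h => hnc ((hv.2 e he).mp h).symm
  have hxd : v = d * (d * v) := (mul_mul_cancel_self (mul_self hD.1 hd) v).symm
  have h1 : d * e * d = e * d * e := braid hD.1 hd he fun h => hnc h.symm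
  have h2 : v * e * v = e * v * e := braid hD.1 hv.1 he hev
  generalize hxdef : d * v = x at hed hdd hxd hx
  have hxx : x * x = 1 := by rw [← hxdef, ← sq]; exact sq_of_commute hD.1 hd hv.1 hdv
  rw [hxd] at h2
  have e1 : d * x * e * (d * x) = d * e * d := by
    calc d * x * e * (d * x) = d * (x * e) * (d * x) := by simp only [mul_assoc]
      _ = d * (e * x) * (x * d) := by rw [hed.eq, hdd.eq]
      _ = d * e * d := by simp only [mul_assoc, mul_mul_cancel_self hxx]
  have e2 : e * (d * x) * e = e * d * e * x := by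
    calc e * (d * x) * e = e * d * (x * e) := by simp only [mul_assoc]
      _ = e * d * e * x := by rw [← hed.eq]; simp only [mul_assoc]
  rw [e1, e2, h1] at h2
  have : x = 1 := (mul_eq_left.mp h2.symm)
  rw [← hxdef] at this
  exact mul_ne_one hD.1 hd hv.1 (Ne.symm hne) this

theorem layer_eq_bot_of_three (hD : IsThreeTranspositionClass D) (hD2 : ∃ a ∈ D, ∃ b ∈ D, a ≠ b)
    (h3 : ¬ pCore 3 G ≤ Subgroup.center G) : layer G = ⊥ := by
  obtain ⟨d, hd, -⟩ := id hD2
  obtain ⟨u, hu, hne⟩ := moved_of_core hD h3 hd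
  set w := u * d * u⁻¹ with hwdef
  have hw : w ∈ Ws D d := by rw [Ws_eq_orbit hD hd]; exact ⟨u, hu, rfl⟩
  have hx : d * w ∈ pCore 3 G := mul_mem_three_of_Ws hD hd hw
  refine eq_bot_of_perfect_central layer_commutator_self (le_center_of_commute hD _ hd ?_)
  rcases layer_cases hD hd (layer G) le_rfl layer_commutator_self with h | ⟨⟨g, hg, hed, hc⟩, -⟩
  · exact h
  exfalso
  set e := g * d * g⁻¹ with hedef
  have he : e ∈ D := cls_conj hD g hd
  have hde : d * e ∈ layer G := by
    have h1 := mul_mem ((inferInstance : (layer G).Normal).conj_mem g hg d) (inv_mem hg)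
    rw [inv_self hD.1 hd] at h1
    simpa only [hedef, ← mul_assoc] using h1
  have hew : Commute w e := by
    have : e ∈ {y : G | y ∈ D ∧ y ≠ w ∧ Commute w y} := hw.2 ▸ ⟨he, hed, hc.symm⟩
    exact this.2.2
  have h1 : Commute e (d * w) := hc.mul_right hew.symm
  have h2 : Commute (d * e) (d * w) := ((Subgroup.mem_centralizer_iff.mp (layer_le_centralizer_fitting hde)) _
      (pCore_le_fittingSubgroup Nat.prime_three hx)).symm
  have h3 : Commute d (d * w) := by
    have := h2.mul_left h1.inv_left
    rwa [mul_inv_cancel_right] at this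
  have h4 : Commute d w := by
    have := (Commute.refl d).inv_right.mul_right h3
    rwa [inv_mul_cancel_left] at this
  exact Ws_not_commute (⟨hd, rfl⟩ : d ∈ Ws D d) hw (Ne.symm hne) h4

theorem pCore_le_center_of_gt (hD : IsThreeTranspositionClass D) {p : ℕ} (hp : p.Prime) (h3 : 3 < p) :
    pCore p G ≤ Subgroup.center G := by
  haveI : Fact p.Prime := ⟨hp⟩
  obtain ⟨d, hd, -⟩ := hD.2.1
  refine le_center_of_commute hD _ hd fun g hg => ?_
  exact (normalizes_pGroup (cls_group hD) hp h3 (pCore p G) (isPGroup_pCore p) hd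
    (by rw [Subgroup.normalizer_eq_top (H := pCore p G)]; exact Subgroup.mem_top d) g hg).symm

theorem fitting_le_center (hD : IsThreeTranspositionClass D) (h2 : pCore 2 G ≤ Subgroup.center G)
    (h3 : pCore 3 G ≤ Subgroup.center G) : fittingSubgroup G ≤ Subgroup.center G := by
  rw [fittingSubgroup_eq_iSup_pCore]
  refine iSup_le fun ⟨p, hp⟩ => ?_
  by_cases h : p = 2
  · subst h; exact h2
  by_cases h' : p = 3
  · subst h'; exact h3
  exact pCore_le_center_of_gt hD hp (by
    have := hp.two_le
    by_contra hh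
    push Not at hh
    interval_cases p <;> omega)

theorem center_le_fitting : Subgroup.center G ≤ fittingSubgroup G := by
  haveI : Group.IsNilpotent (Subgroup.center G) := by
    letI : CommGroup (Subgroup.center G) := { (inferInstance : Group (Subgroup.center G)) with mul_comm := fun a b => mul_comm' a b }
    exact CommGroup.isNilpotent
  exact le_fittingSubgroup this

theorem layer_ne_bot (hD : IsThreeTranspositionClass D) (hD2 : ∃ a ∈ D, ∃ b ∈ D, a ≠ b)
    (h2 : pCore 2 G ≤ Subgroup.center G) (h3 : pCore 3 G ≤ Subgroup.center G) : layer G ≠ ⊥ := by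
  intro h
  have hF : generalizedFittingSubgroup G ≤ Subgroup.center G := by
    rw [generalizedFittingSubgroup, h, bot_sup_eq]
    exact fitting_le_center hD h2 h3
  refine ne_center hD hD2 (eq_top_iff.mpr fun x _ => hF ?_)
  refine centralizer_generalizedFitting_le (Subgroup.mem_centralizer_iff.mpr fun y hy => ?_)
  exact (Subgroup.mem_center_iff.mp (hF hy) x).symm

theorem core_trichotomy (hD : IsThreeTranspositionClass D) (hD2 : ∃ a ∈ D, ∃ b ∈ D, a ≠ b) :
    (∀ p : ℕ, p.Prime → 3 < p → pCore p G ≤ Subgroup.center G) ∧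
      ((¬ pCore 2 G ≤ Subgroup.center G ∧ pCore 3 G ≤ Subgroup.center G ∧ layer G = ⊥) ∨
        (pCore 2 G ≤ Subgroup.center G ∧ ¬ pCore 3 G ≤ Subgroup.center G ∧ layer G = ⊥) ∨
        (pCore 2 G ≤ Subgroup.center G ∧ pCore 3 G ≤ Subgroup.center G ∧ layer G ≠ ⊥)) := by
  refine ⟨fun p hp h => pCore_le_center_of_gt hD hp h, ?_⟩
  by_cases h2 : pCore 2 G ≤ Subgroup.center G
  · by_cases h3 : pCore 3 G ≤ Subgroup.center G
    · exact Or.inr (Or.inr ⟨h2, h3, layer_ne_bot hD hD2 h2 h3⟩)
    · exact Or.inr (Or.inl ⟨h2, h3, layer_eq_bot_of_three hD hD2 h3⟩)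
  · refine Or.inl ⟨h2, ?_, layer_eq_bot_of_two hD hD2 h2⟩
    by_contra h3
    obtain ⟨d, hd, -⟩ := id hD2
    obtain ⟨u, hu, hne⟩ := moved_of_core hD h2 hd
    obtain ⟨u', hu', hne'⟩ := moved_of_core hD h3 hd
    rcases equiv_classes (D := D) hd with h | h
    · have : u * d * u⁻¹ ∈ Vs D d := by rw [Vs_eq_orbit hD hD2 hd]; exact ⟨u, hu, rfl⟩
      exact hne (Set.mem_singleton_iff.mp (h ▸ this))
    · have : u' * d * u'⁻¹ ∈ Ws D d := by rw [Ws_eq_orbit hD hd]; exact ⟨u', hu', rfl⟩
      exact hne' (Set.mem_singleton_iff.mp (h ▸ this))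

/-- Groups whose elements all have order at most three are solvable. -/
theorem solvable_of_orders {Q : Type*} [Group Q] [Finite Q] (h : ∀ x : Q, x ^ 2 = 1 ∨ x ^ 3 = 1) :
    Group.IsSolvable Q := by
  haveI : Fact (Nat.Prime 3) := ⟨Nat.prime_three⟩
  set I := {x : Q | orderOf x = 2} with hI
  set H := Subgroup.closure I with hH
  have hI3 : IsThreeTranspositionSet I := ⟨fun x hx => hx, fun a _ b _ => h (a * b)⟩
  haveI : H.Normal := ⟨fun n hn g => by
    refine Subgroup.closure_induction (p := fun n _ => g * n * g⁻¹ ∈ H) ?_ (by simp [H.one_mem]) ?_ ?_ hn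
    · intro x hx
      exact Subgroup.subset_closure (show orderOf (g * x * g⁻¹) = 2 by rw [CfsgLib.ZStar.orderOf_conj]; exact hx)
    · intro x y _ _ hx hy
      rw [show g * (x * y) * g⁻¹ = (g * x * g⁻¹) * (g * y * g⁻¹) by group]
      exact mul_mem hx hy
    · intro x _ hx
      rw [show g * x⁻¹ * g⁻¹ = (g * x * g⁻¹)⁻¹ by group]
      exact inv_mem hx⟩
  have hquot : Group.IsSolvable (Q ⧸ H) := by
    have hp : IsPGroup 3 (Q ⧸ H) := fun x => ⟨1, by
      obtain ⟨y, rfl⟩ := QuotientGroup.mk'_surjective H x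
      rw [pow_one, ← map_pow]
      rcases h y with e | e
      · have hy : y ∈ H := by
          by_cases h1 : y = 1
          · rw [h1]; exact one_mem _
          · exact Subgroup.subset_closure (orderOf_eq_prime e h1)
        rw [QuotientGroup.mk'_apply, QuotientGroup.eq_one_iff]
        exact pow_mem hy _
      · rw [e, map_one]⟩
    haveI := hp.isNilpotent
    infer_instance
  refine (Group.isSolvable_iff_subgroup_quotient H).mpr ⟨?_, hquot⟩
  by_cases hw : ∃ a ∈ I, ∃ b ∈ I, a ≠ b ∧ Commute a b
  · obtain ⟨a, ha, b, hb, hab, hc⟩ := hw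
    have key : ∀ x ∈ I, ∀ y ∈ I, ∀ z ∈ I, x ≠ y → Commute x y → Commute y z → Commute x z := by
      intro x hx y hy z hz hxy h1 h2
      by_contra hn
      have h3 := pow_three hI3 hx hz hn
      have hc' : Commute y (x * z) := h1.symm.mul_right h2
      have h6 := hc'.mul_pow
      rcases h (y * (x * z)) with e | e
      · rw [h6, sq y, mul_self hI3 hy, one_mul] at e
        refine hn ((commute_iff_sq hx hz).mpr e)
      · rw [h6, h3, mul_one, pow_succ, sq, mul_self hI3 hy, one_mul] at e
        have hy' : orderOf y = 2 := hy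
        rw [e, orderOf_one] at hy'
        norm_num at hy'
    have hab' : a * b ∈ I := orderOf_eq_prime (sq_of_commute hI3 ha hb hc) (mul_ne_one hI3 ha hb hab)
    have hca : ∀ t ∈ I, Commute t a := by
      intro t ht
      have habab : a * b * (a * b) = 1 := by rw [← sq]; exact sq_of_commute hI3 ha hb hc
      by_contra hta
      by_cases htb : Commute t b
      · exact hta ((key a ha b hb t ht hab hc htb.symm).symm)
      by_cases htc : Commute t (a * b)
      · refine hta ((key a ha (a * b) hab' t ht ?_ ((Commute.refl a).mul_right hc) htc.symm).symm)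
        intro e
        have : b = 1 := mul_eq_left.mp e.symm
        rw [this] at hb
        simp [hI] at hb
      · exact not_commute_three hI3 ha hb hab' ht hc ((Commute.refl a).mul_right hc)
          (hc.symm.mul_right (Commute.refl b)) hta htb htc (by rw [habab]; exact Commute.one_right t)
    have hcomm : ∀ x ∈ I, ∀ y ∈ I, Commute x y := by
      intro x hx y hy
      by_cases hxa : x = a
      · subst hxa; exact (hca y hy).symm
      · exact key x hx a ha y hy hxa (hca x hx) (hca y hy).symm
    haveI := Subgroup.isMulCommutative_closure hcomm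
    exact Group.isSolvable_of_comm fun p q => mul_comm' p q
  · push Not at hw
    by_cases hne : I.Nonempty
    · obtain ⟨t, ht⟩ := hne
      obtain ⟨P, hP, hPH, hmem⟩ := width_one_products I (fun x hx => hx)
        (fun x _ y hy => show orderOf (x * y * x⁻¹) = 2 by rw [CfsgLib.ZStar.orderOf_conj]; exact hy)
        (fun x hx y hy => by
          by_cases hxy : x = y
          · rw [hxy, mul_self hI3 hy, one_pow]
          · exact pow_three hI3 hx hy (hw x hx y hy hxy))
      set P0 := Subgroup.closure {z : Q | ∃ x ∈ I, ∃ y ∈ I, z = x * y} with hP0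
      haveI hP0n : P0.Normal := ⟨fun n hn g => by
        refine Subgroup.closure_induction (p := fun n _ => g * n * g⁻¹ ∈ P0) ?_ (by simp [P0.one_mem]) ?_ ?_ hn
        · rintro _ ⟨p, hp, q, hq, rfl⟩
          rw [show g * (p * q) * g⁻¹ = (g * p * g⁻¹) * (g * q * g⁻¹) by group]
          exact Subgroup.subset_closure ⟨_, show orderOf (g * p * g⁻¹) = 2 by rw [CfsgLib.ZStar.orderOf_conj]; exact hp, _,
            show orderOf (g * q * g⁻¹) = 2 by rw [CfsgLib.ZStar.orderOf_conj]; exact hq, rfl⟩
        · intro x y _ _ hx hy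
          rw [show g * (x * y) * g⁻¹ = (g * x * g⁻¹) * (g * y * g⁻¹) by group]
          exact mul_mem hx hy
        · intro x _ hx
          rw [show g * x⁻¹ * g⁻¹ = (g * x * g⁻¹)⁻¹ by group]
          exact inv_mem hx⟩
      have hle : H ≤ Subgroup.zpowers t ⊔ P0 := (Subgroup.closure_le _).mpr fun x hx => by
        have : x = t⁻¹ * (t * x) := by group
        rw [SetLike.mem_coe, this]
        exact mul_mem (Subgroup.mem_sup_left (inv_mem (Subgroup.mem_zpowers t)))
          (Subgroup.mem_sup_right (Subgroup.subset_closure ⟨t, ht, x, hx, rfl⟩))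
      have hsolP : Group.IsSolvable P0 := by
        haveI := (hP.to_le ((Subgroup.closure_le _).mpr (by
          rintro _ ⟨x, hx, y, hy, rfl⟩; exact hmem x hx y hy)) : IsPGroup 3 P0).isNilpotent
        infer_instance
      haveI := isSolvable_sup_of_normal (A := Subgroup.zpowers t) (B := P0)
        (Group.isSolvable_of_comm fun p q => mul_comm' p q) hsolP
      exact Group.isSolvable_of_isSolvable_injective (f := Subgroup.inclusion hle) (Subgroup.inclusion_injective hle)
    · rw [Set.not_nonempty_iff_eq_empty] at hne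
      have : H = ⊥ := by rw [hH, hne, Subgroup.closure_empty]
      rw [this]
      exact Group.isSolvable_of_comm fun p q => Subsingleton.elim _ _

/-- Every transposition normalises every component. -/
theorem component_normalized (hD : IsThreeTranspositionClass D) {d : G} (hd : d ∈ D) {K : Subgroup G}
    (hK : IsComponent K) : K.map (MulAut.conj d).toMonoidHom = K := by
  rcases components_eq_or_commute hK (isComponent_map_equiv (MulAut.conj d) hK) with h | h
  · exact h.symm
  exfalso
  have hcomm : ∀ x ∈ K, ∀ y ∈ K, Commute x (d * y * d⁻¹) := fun x hx y hy => by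
    have := Subgroup.commutator_eq_bot_iff_le_centralizer.mp h hx
    exact ((Subgroup.mem_centralizer_iff.mp this) _ ⟨y, hy, rfl⟩).symm
  haveI := hK.2.2
  refine isQuasisimple_not_isSolvable hK.2 ?_
  refine (Group.isSolvable_iff_subgroup_quotient (Subgroup.center K)).mpr
    ⟨Group.isSolvable_of_comm fun p q => mul_comm' p q, solvable_of_orders fun q => ?_⟩
  obtain ⟨⟨g, hg⟩, rfl⟩ := QuotientGroup.mk'_surjective (Subgroup.center K) q
  set a := d * g * d⁻¹ with ha
  have hag : Commute g⁻¹ a := hcomm _ (inv_mem hg) _ hg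
  have hprod : d * (g * d * g⁻¹) = a * g⁻¹ := by
    rw [ha, inv_self hD.1 hd]; simp only [mul_assoc]
  have key : ∀ n : ℕ, (d * (g * d * g⁻¹)) ^ n = 1 → QuotientGroup.mk' (Subgroup.center K) (⟨g, hg⟩ ^ n) = 1 := by
    intro n hn
    rw [hprod, hag.symm.mul_pow] at hn
    have heq : g ^ n = a ^ n := by
      rw [inv_pow] at hn
      exact ((eq_inv_of_mul_eq_one_left hn).trans (inv_inv _)).symm
    rw [QuotientGroup.mk'_apply, QuotientGroup.eq_one_iff, Subgroup.mem_center_iff]
    intro y
    refine Subtype.ext ?_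
    show (y : G) * ((⟨g, hg⟩ : K) ^ n : K) = ((⟨g, hg⟩ : K) ^ n : K) * (y : G)
    rw [Subgroup.coe_pow, heq]
    exact ((hcomm _ y.2 _ hg).pow_right n).eq
  rcases hD.1.2 d hd _ (cls_conj hD g hd) with e | e
  · left; rw [← map_pow]; exact key 2 e
  · right; rw [← map_pow]; exact key 3 e

theorem component_normal (hD : IsThreeTranspositionClass D) {K : Subgroup G} (hK : IsComponent K) : K.Normal := by
  have hle : (⊤ : Subgroup G) ≤ Subgroup.normalizer (K : Set G) := by
    rw [← hD.2.2, Subgroup.closure_le]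
    intro d hd
    rw [SetLike.mem_coe, Subgroup.mem_normalizer_iff]
    intro x
    conv_rhs => rw [← component_normalized hD hd hK]
    simp only [Subgroup.mem_map_equiv, MulAut.conj_symm_apply]
    rw [show d⁻¹ * (d * x * d⁻¹) * d = x by group]
  exact Subgroup.normalizer_eq_top_iff.mp (eq_top_iff.mpr hle)

theorem components_unique (hD : IsThreeTranspositionClass D) {K K' : Subgroup G}
    (hK : IsComponent K) (hK' : IsComponent K') : K = K' := by
  haveI := component_normal hD hK
  haveI := component_normal hD hK'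
  by_contra hne
  have hcom := (components_eq_or_commute hK hK').resolve_left hne
  obtain ⟨d, hd, -⟩ := hD.2.1
  have nc : ∀ {X : Subgroup G}, IsComponent X → X.Normal → ¬ ∀ g ∈ X, Commute g d := fun {X} hX hXn h => by
    haveI := hXn
    exact isComponent_ne_bot hX (eq_bot_of_perfect_central (isComponent_commutator_self hX)
      (le_center_of_commute hD X hd h))
  obtain ⟨⟨g, hg, hgd, hgc⟩, -⟩ := (layer_cases hD hd K (le_layer hK) (isComponent_commutator_self hK)).resolve_left
    (nc hK inferInstance)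
  obtain ⟨-, k, hk, hknc⟩ := (layer_cases hD hd K' (le_layer hK') (isComponent_commutator_self hK')).resolve_left
    (nc hK' inferInstance)
  have hd' := mul_self hD.1 hd
  set a := g * d * g⁻¹ * d with ha
  set b := k * d * k⁻¹ * d with hb
  have haK : a ∈ K := by
    have h1 : d * g⁻¹ * d⁻¹ ∈ K := (inferInstance : K.Normal).conj_mem _ (inv_mem hg) d
    rw [inv_self hD.1 hd] at h1
    simpa only [ha, ← mul_assoc] using mul_mem hg h1
  have hbK : b ∈ K' := by
    have h1 : d * k⁻¹ * d⁻¹ ∈ K' := (inferInstance : K'.Normal).conj_mem _ (inv_mem hk) d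
    rw [inv_self hD.1 hd] at h1
    simpa only [hb, ← mul_assoc] using mul_mem hk h1
  have hab : ∀ x ∈ K, ∀ y ∈ K', Commute x y := fun x hx y hy =>
    ((Subgroup.mem_centralizer_iff.mp (Subgroup.commutator_eq_bot_iff_le_centralizer.mp hcom hx)) y hy).symm
  have hprod : (g * k) * d * (g * k)⁻¹ * d = b * a := by
    calc (g * k) * d * (g * k)⁻¹ * d = g * k * d * k⁻¹ * (d * d) * g⁻¹ * d := by
          rw [hd', mul_inv_rev]; simp only [mul_assoc, one_mul, mul_one]
      _ = g * b * g⁻¹ * a := by simp only [ha, hb]; group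
      _ = b * a := by rw [(hab g hg b hbK).eq, mul_inv_cancel_right]
  have ha2 : a ^ 2 = 1 := sq_of_commute hD.1 (cls_conj hD g hd) hd hgc
  have hb3 : b ^ 3 = 1 := pow_three hD.1 (cls_conj hD k hd) hd hknc
  have hcab : Commute b a := (hab a haK b hbK).symm
  rcases hD.1.2 _ (cls_conj hD (g * k) hd) d hd with e | e
  · rw [hprod, hcab.mul_pow, ha2, mul_one] at e
    exact hknc ((commute_iff_sq (hD.1.1 _ (cls_conj hD k hd)) (hD.1.1 d hd)).mpr e)
  · rw [hprod, hcab.mul_pow, hb3, one_mul, pow_succ, ha2, one_mul] at e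
    exact mul_ne_one hD.1 (cls_conj hD g hd) hd hgd e

theorem layer_quasisimple (hD : IsThreeTranspositionClass D) (hD2 : ∃ a ∈ D, ∃ b ∈ D, a ≠ b)
    (h2 : pCore 2 G ≤ Subgroup.center G) (h3 : pCore 3 G ≤ Subgroup.center G) : IsQuasisimple (layer G) := by
  obtain ⟨K, hK⟩ : ∃ K : Subgroup G, IsComponent K := by
    by_contra h
    push Not at h
    exact layer_ne_bot hD hD2 h2 h3 (sSup_eq_bot.mpr fun K hK => absurd hK (h K))
  have : layer G = K := le_antisymm (sSup_le fun X hX => (components_unique hD hX hK).le) (le_layer hK)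
  rw [this]
  exact hK.2

theorem generalized_eq (hD : IsThreeTranspositionClass D) (h2 : pCore 2 G ≤ Subgroup.center G)
    (h3 : pCore 3 G ≤ Subgroup.center G) : generalizedFittingSubgroup G = layer G ⊔ Subgroup.center G := by
  rw [generalizedFittingSubgroup, le_antisymm (fitting_le_center hD h2 h3) center_le_fitting]

end CfsgThreeTrans
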