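/-
Primitivity of a group generated by 3-transpositions on its class.
-/
import Cfsg.Agent.Lib.ThreeTrans.Layer

set_option autoImplicit false

namespace CfsgThreeTrans

open Cfsg CfsgLib
open scoped commutatorElement

universe u

variable {G : Type u} [Group G] {D : Set G}

theorem cj_image_image (g h : G) (B : Set G) :
    (fun x => g * x * g⁻¹) '' ((fun x => h * x * h⁻¹) '' B) = (fun x => g * h * x * (g * h)⁻¹) '' B := by
  rw [Set.image_image]
  exact Set.image_congr fun x _ => cj_cj g h x

theorem cj_one_image (B : Set G) : (fun x => (1 : G) * x * (1 : G)⁻¹) '' B = B := by simp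

theorem cls_ne_empty (hD : IsThreeTranspositionClass D) : D.Nonempty := by
  obtain ⟨d, hd, -⟩ := hD.2.1
  exact ⟨d, hd⟩

theorem cls_cases {g : G} (hD : IsThreeTranspositionClass D) {d : G} (hd : d ∈ D) (N : Subgroup G) [N.Normal]
    (hmod : ∀ a ∈ D, d⁻¹ * a ∈ N) : g ∈ N ∨ g * d⁻¹ ∈ N := by
  have hg : g ∈ Subgroup.closure D := hD.2.2 ▸ Subgroup.mem_top g
  set q := QuotientGroup.mk' N
  have hq : ∀ a ∈ D, q a = q d := fun a ha => by
    rw [eq_comm, QuotientGroup.mk'_apply, QuotientGroup.mk'_apply, QuotientGroup.eq]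
    exact hmod a ha
  have hqd : q d * q d = 1 := by rw [← map_mul, mul_self hD.1 hd, map_one]
  suffices h : q g = 1 ∨ q g = q d by
    rcases h with h | h
    · exact Or.inl ((QuotientGroup.eq_one_iff g).mp h)
    · refine Or.inr ((QuotientGroup.eq_one_iff _).mp ?_)
      show q (g * d⁻¹) = 1
      rw [map_mul, h, map_inv, mul_inv_cancel]
  refine Subgroup.closure_induction (p := fun g _ => q g = 1 ∨ q g = q d) (fun a ha => Or.inr (hq a ha))
    (Or.inl (map_one q)) ?_ ?_ hg
  · intro x y _ _ hx hy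
    rcases hx with hx | hx <;> rcases hy with hy | hy <;> simp only [map_mul, hx, hy, one_mul, mul_one, hqd] <;>
      simp
  · intro x _ hx
    rcases hx with hx | hx
    · exact Or.inl (by rw [map_inv, hx, inv_one])
    · exact Or.inr (by rw [map_inv, hx]; exact inv_eq_of_mul_eq_one_right hqd)

theorem index_le_two_of_mod (hD : IsThreeTranspositionClass D) {d : G} (hd : d ∈ D) (N : Subgroup G) [N.Normal]
    (hmod : ∀ a ∈ D, d⁻¹ * a ∈ N) : N.index ≤ 2 := by
  rw [Subgroup.index_eq_card]
  have hsurj : Function.Surjective (fun b : Bool => (QuotientGroup.mk (cond b d 1) : G ⧸ N)) := by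
    intro x
    induction x using QuotientGroup.induction_on with
    | H g =>
      rcases cls_cases hD hd N hmod (g := g) with h | h
      · exact ⟨false, ((QuotientGroup.eq_one_iff g).mpr h).symm⟩
      · refine ⟨true, ?_⟩
        have := (QuotientGroup.eq_one_iff (g * d⁻¹)).mpr h
        rw [QuotientGroup.mk_mul, QuotientGroup.mk_inv, mul_inv_eq_one] at this
        exact this.symm
  calc Nat.card (G ⧸ N) ≤ Nat.card Bool := Nat.card_le_card_of_surjective _ hsurj
    _ = 2 := by simp

variable [Finite G]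

theorem layer_map_center_le (hD : IsThreeTranspositionClass D) (h2 : pCore 2 G ≤ Subgroup.center G)
    (h3 : pCore 3 G ≤ Subgroup.center G) :
    (Subgroup.center (layer G)).map (layer G).subtype ≤ Subgroup.center G := by
  haveI : Group.IsNilpotent (Subgroup.center (layer G)) := by
    letI : CommGroup (Subgroup.center (layer G)) :=
      { (inferInstance : Group (Subgroup.center (layer G))) with mul_comm := fun a b => mul_comm' a b }
    exact CommGroup.isNilpotent
  refine le_trans ?_ (fitting_le_center hD h2 h3)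
  exact le_fittingSubgroup (Group.nilpotent_of_mulEquiv
    (Subgroup.equivMapOfInjective _ _ (layer G).subtype_injective))

theorem centralizer_layer_le (hD : IsThreeTranspositionClass D) (h2 : pCore 2 G ≤ Subgroup.center G)
    (h3 : pCore 3 G ≤ Subgroup.center G) :
    Subgroup.centralizer (layer G : Set G) ≤ Subgroup.center G := by
  intro x hx
  have hxF : x ∈ layer G ⊔ Subgroup.center G := by
    rw [← generalized_eq hD h2 h3]
    refine centralizer_generalizedFitting_le (Subgroup.mem_centralizer_iff.mpr fun y hy => ?_)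
    rw [SetLike.mem_coe, generalized_eq hD h2 h3] at hy
    obtain ⟨l, hl, z, hz, rfl⟩ := Subgroup.mem_sup_of_normal_right.mp hy
    exact (Commute.mul_left (Subgroup.mem_centralizer_iff.mp hx l hl : Commute l x)
      ((Subgroup.mem_center_iff.mp hz x).symm : Commute z x)).eq
  obtain ⟨l, hl, z, hz, rfl⟩ := Subgroup.mem_sup_of_normal_right.mp hxF
  refine mul_mem (layer_map_center_le hD h2 h3 ⟨⟨l, hl⟩, Subgroup.mem_center_iff.mpr fun y => Subtype.ext ?_, rfl⟩) hz
  have hlz : l * z * z⁻¹ = l := mul_inv_cancel_right l z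
  have h1 : Commute (y : G) (l * z) := Subgroup.mem_centralizer_iff.mp hx y y.2
  have h2' : Commute (y : G) z := Subgroup.mem_center_iff.mp hz y
  show (y : G) * l = l * y
  rw [← hlz]
  exact (h1.mul_right h2'.inv_right).eq

theorem layer_not_commute (hD : IsThreeTranspositionClass D) (hD2 : ∃ a ∈ D, ∃ b ∈ D, a ≠ b)
    (h2 : pCore 2 G ≤ Subgroup.center G) (h3 : pCore 3 G ≤ Subgroup.center G) {d : G} (hd : d ∈ D) :
    ¬ ∀ g ∈ layer G, Commute g d := fun h =>
  layer_ne_bot hD hD2 h2 h3 (eq_bot_of_perfect_central layer_commutator_self (le_center_of_commute hD _ hd h))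

theorem layer_le_of_normal (hD : IsThreeTranspositionClass D) (hD2 : ∃ a ∈ D, ∃ b ∈ D, a ≠ b)
    (h2 : pCore 2 G ≤ Subgroup.center G) (h3 : pCore 3 G ≤ Subgroup.center G) (N : Subgroup G) [N.Normal] :
    layer G ≤ N ∨ N ≤ Subgroup.center G := by
  have hK : IsComponent (layer G) :=
    ⟨(inferInstance : (layer G).Normal).isSubnormal, layer_quasisimple hD hD2 h2 h3⟩
  rcases component_le_or_commutator_eq_bot hK N with h | h
  · exact Or.inl h
  · rw [Subgroup.commutator_comm] at h
    exact Or.inr ((Subgroup.commutator_eq_bot_iff_le_centralizer.mp h).trans (centralizer_layer_le hD h2 h3))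

/-- Commuting members have product in the layer. -/
theorem mul_mem_layer (hD : IsThreeTranspositionClass D) (hD2 : ∃ a ∈ D, ∃ b ∈ D, a ≠ b)
    (h2 : pCore 2 G ≤ Subgroup.center G) (h3 : pCore 3 G ≤ Subgroup.center G) {a b : G} (ha : a ∈ D) (hb : b ∈ D)
    (hc : Commute a b) : a * b ∈ layer G := by
  by_contra hab
  set L := layer G
  let c : G → G := fun g => g * b * g⁻¹ * b
  have hcL : ∀ g ∈ L, c g ∈ L := fun g hg => by
    have h1 : b * g⁻¹ * b⁻¹ ∈ L := (inferInstance : L.Normal).conj_mem _ (inv_mem hg) b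
    rw [inv_self hD.1 hb] at h1
    simpa only [c, ← mul_assoc] using mul_mem hg h1
  have hca : ∀ g ∈ L, Commute a (g * b * g⁻¹) := by
    intro g hg
    by_contra hn
    set q := QuotientGroup.mk' L
    have heq : q (a * (g * b * g⁻¹)) = q (a * b) := by
      have hg1 : q g = 1 := (QuotientGroup.eq_one_iff g).mpr hg
      simp only [map_mul, map_inv, hg1, one_mul, inv_one, mul_one]
    have e3 : q (a * b) ^ 3 = 1 := by
      rw [← heq, ← map_pow, pow_three hD.1 ha (cls_conj hD g hb) hn, map_one]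
    have e2 : q (a * b) ^ 2 = 1 := by rw [← map_pow, sq_of_commute hD.1 ha hb hc, map_one]
    rw [pow_succ, e2, one_mul] at e3
    exact hab ((QuotientGroup.eq_one_iff _).mp e3)
  set Nb := Subgroup.closure {x : G | ∃ g ∈ L, x = c g}
  have hNL : Nb ≤ L := (Subgroup.closure_le _).mpr fun x ⟨g, hg, hx⟩ => hx ▸ hcL g hg
  haveI : (Nb.subgroupOf L).Normal := ⟨fun z hz n => by
    show (n : G) * z * (n : G)⁻¹ ∈ Nb
    have hz' : (z : G) ∈ Nb := hz
    refine Subgroup.closure_induction (p := fun z _ => (n : G) * z * (n : G)⁻¹ ∈ Nb) ?_ (by simp [Nb.one_mem]) ?_ ?_ hz'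
    · rintro _ ⟨g, hg, rfl⟩
      have : (n : G) * c g * (n : G)⁻¹ = c ((n : G) * g) * (c n)⁻¹ := by
        rw [eq_mul_inv_iff_mul_eq]
        calc (n : G) * c g * (n : G)⁻¹ * c n = n * g * b * g⁻¹ * (b * b) * (n : G)⁻¹ * b := by
              simp only [c]; group
          _ = c ((n : G) * g) := by
              rw [mul_self hD.1 hb, mul_one]; simp only [c, mul_inv_rev, mul_assoc]
      rw [this]
      exact mul_mem (Subgroup.subset_closure ⟨_, mul_mem n.2 hg, rfl⟩)
        (inv_mem (Subgroup.subset_closure ⟨_, n.2, rfl⟩))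
    · intro x y _ _ hx hy
      rw [show (n : G) * (x * y) * (n : G)⁻¹ = ((n : G) * x * (n : G)⁻¹) * ((n : G) * y * (n : G)⁻¹) by group]
      exact mul_mem hx hy
    · intro x _ hx
      rw [show (n : G) * x⁻¹ * (n : G)⁻¹ = ((n : G) * x * (n : G)⁻¹)⁻¹ by group]
      exact inv_mem hx⟩
  rcases quasisimple_normal_le_center_or_eq_top (layer_quasisimple hD hD2 h2 h3) (Nb.subgroupOf L) with h | h
  · -- then `b` centralises the layer
    refine layer_not_commute hD hD2 h2 h3 hb ?_
    rcases layer_cases hD hb L le_rfl layer_commutator_self with hh | ⟨-, g, hg, hnc⟩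
    · exact hh
    exfalso
    have h0 : Nb ≤ Subgroup.center G := by
      intro x hx
      exact layer_map_center_le hD h2 h3 ⟨⟨x, hNL hx⟩, h (Subgroup.mem_subgroupOf.mpr hx), rfl⟩
    apply hnc
    have h5 := Subgroup.mem_center_iff.mp (h0 (Subgroup.subset_closure ⟨g, hg, rfl⟩)) b
    simp only [c] at h5
    have : b * (g * b * g⁻¹) * b = g * b * g⁻¹ * b * b := by rw [mul_assoc b]; exact h5
    exact (mul_right_cancel this).symm
  · refine layer_not_commute hD hD2 h2 h3 ha fun g hg => ?_
    have hg' : g ∈ Nb := by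
      have : (⟨g, hg⟩ : L) ∈ Nb.subgroupOf L := h ▸ Subgroup.mem_top _
      exact this
    have hle : Nb ≤ Subgroup.centralizer ({a} : Set G) := (Subgroup.closure_le _).mpr (by
      rintro _ ⟨x, hx, rfl⟩
      rw [SetLike.mem_coe, Subgroup.mem_centralizer_singleton_iff]
      exact ((hca x hx).mul_right hc).eq.symm)
    exact Subgroup.mem_centralizer_singleton_iff.mp (hle hg')

theorem layer_or_width (hD : IsThreeTranspositionClass D) (hD2 : ∃ a ∈ D, ∃ b ∈ D, a ≠ b)
    (h2 : pCore 2 G ≤ Subgroup.center G) (h3 : pCore 3 G ≤ Subgroup.center G) {a b : G} (ha : a ∈ D) (hb : b ∈ D)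
    (h : a * b * a⁻¹ * b⁻¹ ∈ layer G) : a⁻¹ * b ∈ layer G := by
  rw [inv_self hD.1 ha]
  by_cases hc : Commute a b
  · exact mul_mem_layer hD hD2 h2 h3 ha hb hc
  · rw [inv_self hD.1 ha, inv_self hD.1 hb] at h
    have h3' := pow_three hD.1 ha hb hc
    have h4 : (a * b) * (a * b) ∈ layer G := by simpa only [mul_assoc] using h
    have : a * b = ((a * b) * (a * b))⁻¹ := by
      rw [eq_inv_iff_mul_eq_one, ← h3', pow_succ, pow_two]
      simp only [mul_assoc]
    rw [this]
    exact inv_mem h4

theorem index_le_two_of_connected (hD : IsThreeTranspositionClass D) (hD2 : ∃ a ∈ D, ∃ b ∈ D, a ≠ b)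
    (h2 : pCore 2 G ≤ Subgroup.center G) (h3 : pCore 3 G ≤ Subgroup.center G)
    (hconn : (commutingGraph D).Connected) : (layer G).index ≤ 2 := by
  obtain ⟨d, hd, -⟩ := id hD2
  refine index_le_two_of_mod hD hd _ fun a ha => ?_
  obtain ⟨w⟩ := hconn.preconnected ⟨d, hd⟩ ⟨a, ha⟩
  suffices ∀ (x y : D) (_ : (commutingGraph D).Walk x y), (x : G)⁻¹ * y ∈ layer G from this _ _ w
  intro x y w
  induction w with
  | nil => simp [one_mem]
  | @cons u v w hadj _ ih =>
    have hc : Commute (u : G) v := by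
      rcases ((SimpleGraph.fromRel_adj _ _ _).mp hadj).2 with h | h
      exacts [h, h.symm]
    have := mul_mem (mul_mem_layer hD hD2 h2 h3 u.2 v.2 hc) ih
    rw [inv_self hD.1 v.2, mul_assoc, ← mul_assoc (v : G) v, mul_self hD.1 v.2, one_mul] at this
    rwa [inv_self hD.1 u.2]

theorem primitive_of_index (hD : IsThreeTranspositionClass D) (hD2 : ∃ a ∈ D, ∃ b ∈ D, a ≠ b)
    (h2 : pCore 2 G ≤ Subgroup.center G) (h3 : pCore 3 G ≤ Subgroup.center G) (hind : (layer G).index ≤ 2) :
    IsPrimitiveUnderConj D := by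
  refine ⟨fun a ha b hb => cls_exists_conj hD ha hb, hD2, fun B hB hblock => ?_⟩
  by_contra hcon
  push Not at hcon
  obtain ⟨hns, hne⟩ := hcon
  obtain ⟨b, hb, b', hb', hbb⟩ := hns
  have hfix : ∀ x ∈ B, (fun y => x * y * x⁻¹) '' B = B := fun x hx =>
    (hblock x).resolve_right fun h => Set.disjoint_left.mp h ⟨x, hx, mul_inv_cancel_right x x⟩ hx
  have hmeet : ∀ g k : G, ∀ x, x ∈ (fun y => g * y * g⁻¹) '' B → x ∈ (fun y => k * y * k⁻¹) '' B →
      (fun y => g * y * g⁻¹) '' B = (fun y => k * y * k⁻¹) '' B := by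
    rintro g k _ ⟨p, hp, rfl⟩ ⟨q, hq, hpq⟩
    have h1 : (fun y => k⁻¹ * g * y * (k⁻¹ * g)⁻¹) '' B = B := by
      refine (hblock _).resolve_right fun h => Set.disjoint_left.mp h ⟨p, hp, rfl⟩ ?_
      have : k⁻¹ * g * p * (k⁻¹ * g)⁻¹ = q := by
        rw [← cj_cj, ← show k * q * k⁻¹ = g * p * g⁻¹ from hpq]; group
      show k⁻¹ * g * p * (k⁻¹ * g)⁻¹ ∈ B
      rw [this]; exact hq
    conv_rhs => rw [← h1, cj_image_image, ← mul_assoc, mul_inv_cancel, one_mul]
  have hswap : ∀ x ∈ B, ∀ e ∈ D, ¬ Commute x e → x * e * x⁻¹ = e * x * e⁻¹ := fun x hx e he h => by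
    rw [inv_self hD.1 (hB hx), inv_self hD.1 he]
    exact braid hD.1 (hB hx) he h
  -- products of two members fix every translate
  have hprod : ∀ h : G, (fun y => b * b' * y * (b * b')⁻¹) '' ((fun y => h * y * h⁻¹) '' B) =
      (fun y => h * y * h⁻¹) '' B := by
    intro h
    set C := (fun y => h * y * h⁻¹) '' B with hCdef
    by_cases hex : ∃ e ∈ C, ∃ b0 ∈ B, Commute e b0
    · obtain ⟨e, he, b0, hb0, hc⟩ := hex
      have heD : e ∈ D := by obtain ⟨y, hy, rfl⟩ := he; exact cls_conj hD h (hB hy)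
      have heB : (fun y => e * y * e⁻¹) '' B = B :=
        (hblock e).resolve_right fun hh => Set.disjoint_left.mp hh ⟨b0, hb0, by show e * b0 * e⁻¹ = b0; rw [hc.eq, mul_inv_cancel_right]⟩ hb0
      have hfixC : ∀ x ∈ B, (fun y => x * y * x⁻¹) '' C = C := by
        intro x hx
        by_cases hxe : Commute x e
        · rw [hCdef, cj_image_image]
          refine hmeet _ _ e ?_ he
          obtain ⟨y, hy, hye⟩ := he
          refine ⟨y, hy, ?_⟩
          show x * h * y * (x * h)⁻¹ = e
          rw [← cj_cj, show h * y * h⁻¹ = e from hye, hxe.eq, mul_inv_cancel_right]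
        · have hmem : x * e * x⁻¹ ∈ B := by
            rw [hswap x hx e heD hxe, ← heB]
            exact ⟨x, hx, rfl⟩
          obtain ⟨y, hy, hye⟩ := he
          have hxC : (fun y => x * h * y * (x * h)⁻¹) '' B = (fun y => (1 : G) * y * (1 : G)⁻¹) '' B := by
            refine hmeet _ _ (x * e * x⁻¹) ⟨y, hy, ?_⟩ (by rw [cj_one_image]; exact hmem)
            show x * h * y * (x * h)⁻¹ = x * e * x⁻¹
            rw [← cj_cj, show h * y * h⁻¹ = e from hye]
          rw [cj_one_image, ← cj_image_image, ← hCdef] at hxC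
          have hCB : C = B := by
            have h5 := congrArg (fun S => (fun y => x⁻¹ * y * x⁻¹⁻¹) '' S) hxC
            rw [cj_image_image, inv_mul_cancel, cj_one_image, inv_self hD.1 (hB hx), hfix x hx] at h5
            exact h5
          rw [hCB]
          exact hfix x hx
      rw [← cj_image_image, hfixC b' hb', hfixC b hb]
    · push Not at hex
      obtain ⟨e, he⟩ : C.Nonempty := ⟨_, b, hb, rfl⟩
      have heD : e ∈ D := by obtain ⟨y, hy, rfl⟩ := he; exact cls_conj hD h (hB hy)
      have key : ∀ x ∈ B, (fun y => x * y * x⁻¹) '' C = (fun y => e * y * e⁻¹) '' B := by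
        intro x hx
        have hxe : ¬ Commute x e := fun hh => hex e he x hx hh.symm
        rw [hCdef, cj_image_image]
        obtain ⟨y, hy, hye⟩ := he
        refine hmeet _ _ (x * e * x⁻¹) ⟨y, hy, ?_⟩ ?_
        · show x * h * y * (x * h)⁻¹ = x * e * x⁻¹
          rw [← cj_cj, show h * y * h⁻¹ = e from hye]
        · rw [hswap x hx e heD hxe]; exact ⟨x, hx, rfl⟩
      rw [← cj_image_image, key b' hb', ← key b hb, cj_image_image, mul_self hD.1 (hB hb), cj_one_image]
  set x := b * b' with hxdef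
  set N := (Subgroup.normalizer B).normalCore with hNdef
  have hxN : x ∈ N := by
    show ∀ h : G, h * x * h⁻¹ ∈ Subgroup.normalizer B
    intro h
    have h1 : (fun y => h * x * h⁻¹ * y * (h * x * h⁻¹)⁻¹) '' B = B := by
      have h2 := congrArg (fun S => (fun y => h * y * h⁻¹) '' S) (hprod h⁻¹)
      rw [cj_image_image, cj_image_image, cj_image_image, mul_inv_cancel, cj_one_image] at h2
      exact h2
    exact Subgroup.mem_normalizer_iff_conj_image_eq.mpr h1
  have hbD := hB hb
  have hb'D := hB hb'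
  have hx1 : x ≠ 1 := mul_ne_one hD.1 hbD hb'D hbb
  have hxc : x ∉ Subgroup.center G := by
    intro hxc
    have hxcom : ∀ g, Commute g x := fun g => Subgroup.mem_center_iff.mp hxc g
    have hinv : x⁻¹ = b' * b := by rw [hxdef, mul_inv_rev, inv_self hD.1 hb'D, inv_self hD.1 hbD]
    have hconj : b * x * b = x⁻¹ := by
      rw [hinv, hxdef, ← mul_assoc b b, mul_self hD.1 hbD, one_mul]
    have hx2 : x * x = 1 := by
      rw [← inv_eq_iff_mul_eq_one, ← hconj, (hxcom b).eq, mul_assoc, mul_self hD.1 hbD, mul_one]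
    obtain ⟨f, hf, hfb⟩ := exists_noncommute hD hD2 hbD
    have hb'x : b' = b * x := by rw [hxdef, ← mul_assoc, mul_self hD.1 hbD, one_mul]
    have hfb' : ¬ Commute f b' := by
      intro hc
      have hbx : b = b' * x := by
        conv_lhs => rw [← mul_one b, ← hx2, ← mul_assoc, ← hb'x]
      exact hfb (hbx ▸ (hc.mul_right (hxcom f))).symm
    have h3x := pow_three hD.1 hf hb'D hfb'
    rw [hb'x, ← mul_assoc, (hxcom (f * b)).mul_pow, pow_three hD.1 hf hbD (fun h => hfb h.symm), one_mul,
      pow_succ, pow_two, hx2, one_mul] at h3x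
    exact hx1 h3x
  have hLN : layer G ≤ Subgroup.normalizer B := by
    rcases layer_le_of_normal hD hD2 h2 h3 N with h | h
    · exact h.trans (Subgroup.normalCore_le _)
    · exact absurd (h hxN) hxc
  have hstab : ∀ g ∈ layer G, g * b * g⁻¹ ∈ B := fun g hg => (Subgroup.mem_set_normalizer_iff.mp (hLN hg) b).mp hb
  apply hne
  refine Set.Subset.antisymm hB fun e he => ?_
  obtain ⟨g, rfl⟩ := cls_exists_conj hD hbD he
  by_cases hg : g ∈ layer G
  · exact hstab g hg
  · have h2' : (layer G).index = 2 := by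
      have h0 : (layer G).index ≠ 0 := Subgroup.index_ne_zero_of_finite
      have h1 : (layer G).index ≠ 1 := fun h => hg (Subgroup.index_eq_one.mp h ▸ Subgroup.mem_top g)
      omega
    have hbL : b ∉ layer G := by
      intro hbL
      apply hg
      have : Subgroup.closure D ≤ layer G := (Subgroup.closure_le _).mpr fun a ha => by
        obtain ⟨k, rfl⟩ := cls_exists_conj hD hbD ha
        exact (inferInstance : (layer G).Normal).conj_mem _ hbL k
      exact this (hD.2.2 ▸ Subgroup.mem_top g)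
    have hgb : g * b ∈ layer G := (Subgroup.mul_mem_iff_of_index_two h2').mpr (iff_of_false hg hbL)
    have := hstab _ hgb
    rwa [show g * b * b * (g * b)⁻¹ = g * b * g⁻¹ by group] at this

end CfsgThreeTrans
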