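/-
Primitive groups generated by 3-transpositions have rank three on their class.
-/
import Cfsg.Agent.Lib.ThreeTrans.Primitive

set_option autoImplicit false

namespace CfsgThreeTrans

open Cfsg CfsgLib
open scoped commutatorElement

universe u

variable {G : Type u} [Group G] {D : Set G}

theorem cls_of_group_prim (hD : IsThreeTranspositionGroup D) (hp : IsPrimitiveUnderConj D) :
    IsThreeTranspositionClass D := by
  obtain ⟨a, ha, -⟩ := id hp.2.1
  refine ⟨hD.1, ⟨a, ha, Set.ext fun b => ⟨fun hb => ?_, fun hb => ?_⟩⟩, hD.2.2⟩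
  · exact isConj_iff.2 (hp.1 a ha b hb)
  · obtain ⟨g, rfl⟩ := isConj_iff.1 (show IsConj a b from hb)
    exact hD.2.1 g a ha

/-- An equivariant partition of a primitive class is trivial. -/
theorem partition_trivial (hp : IsPrimitiveUnderConj D) (Q : G → Set G) (hsub : ∀ a ∈ D, Q a ⊆ D)
    (hself : ∀ a ∈ D, a ∈ Q a) (heq : ∀ a ∈ D, ∀ b ∈ Q a, Q b = Q a)
    (hcl : ∀ (g a : G), a ∈ D → g * a * g⁻¹ ∈ D) (hcj : ∀ (g a : G), a ∈ D → ∀ b ∈ Q a, g * b * g⁻¹ ∈ Q (g * a * g⁻¹))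
    {d : G} (hd : d ∈ D) : Q d = {d} ∨ Q d = D := by
  have himg : ∀ g : G, (fun x => g * x * g⁻¹) '' Q d = Q (g * d * g⁻¹) := by
    intro g
    ext y
    constructor
    · rintro ⟨b, hb, rfl⟩
      exact hcj g d hd b hb
    · intro hy
      refine ⟨g⁻¹ * y * g⁻¹⁻¹, ?_, cj_inv g y⟩
      have := hcj g⁻¹ _ (hcl g d hd) y hy
      rwa [cj_cj, inv_mul_cancel, one_mul, inv_one, mul_one] at this
  have hblock : ∀ g : G, (fun x => g * x * g⁻¹) '' Q d = Q d ∨ Disjoint ((fun x => g * x * g⁻¹) '' Q d) (Q d) := by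
    intro g
    rw [himg]
    by_cases hm : ∃ x, x ∈ Q (g * d * g⁻¹) ∧ x ∈ Q d
    · obtain ⟨x, hx1, hx2⟩ := hm
      exact Or.inl ((heq _ (hcl g d hd) x hx1).symm.trans (heq d hd x hx2))
    · exact Or.inr (Set.disjoint_left.mpr fun x h1 h2 => hm ⟨x, h1, h2⟩)
  rcases hp.2.2 (Q d) (hsub d hd) hblock with h | h
  · exact Or.inl (h.eq_singleton_of_mem (hself d hd))
  · exact Or.inr h

variable [Finite G]

theorem Vs_trivial (hD : IsThreeTranspositionClass D) (hp : IsPrimitiveUnderConj D) {d : G} (hd : d ∈ D) :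
    Vs D d = {d} := by
  refine (partition_trivial hp (Vs D) (fun a _ b hb => hb.1) (fun a ha => ⟨ha, fun _ _ => Iff.rfl⟩)
    (fun a _ b hb => Vs_eq hb) (fun g a ha => cls_conj hD g ha) (fun g a _ b hb => cj_mem_Vs hD g hb) hd).resolve_right ?_
  intro h
  obtain ⟨a, ha, b, hb, hab⟩ := hp.2.1
  have hS : ({d} : Set G) = D := eq_cls_of_commute_compl hD (Set.singleton_subset_iff.mpr hd) ⟨d, rfl⟩
    (fun s hs e he _ => Set.mem_singleton_iff.mp hs ▸ Vs_comm (h.symm ▸ hd : d ∈ Vs D d) (h.symm ▸ he : e ∈ Vs D d))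
  rw [← hS] at ha hb
  exact hab ((Set.mem_singleton_iff.mp ha).trans (Set.mem_singleton_iff.mp hb).symm)

theorem Ws_trivial (hD : IsThreeTranspositionClass D) (hp : IsPrimitiveUnderConj D)
    (hw : ∃ a ∈ D, ∃ b ∈ D, a ≠ b ∧ Commute a b) {d : G} (hd : d ∈ D) : Ws D d = {d} := by
  refine (partition_trivial hp (Ws D) (fun a _ b hb => hb.1) (fun a ha => ⟨ha, rfl⟩)
    (fun a _ b hb => Ws_eq hb) (fun g a ha => cls_conj hD g ha) (fun g a _ b hb => cj_mem_Ws hD g hb) hd).resolve_right ?_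
  intro h
  obtain ⟨a, ha, b, hb, hab, hc⟩ := hw
  exact Ws_not_commute (h.symm ▸ ha : a ∈ Ws D d) (h.symm ▸ hb : b ∈ Ws D d) hab hc

theorem exists_partner (hD : IsThreeTranspositionClass D) (hw : ∃ a ∈ D, ∃ b ∈ D, a ≠ b ∧ Commute a b) {d : G}
    (hd : d ∈ D) : ∃ e, e ∈ Ds D d := by
  obtain ⟨a, ha, b, hb, hab, hc⟩ := hw
  obtain ⟨g, rfl⟩ := cls_exists_conj hD ha hd
  exact ⟨g * b * g⁻¹, cls_conj hD g hb, fun h => hab (cj_injective g h).symm, (commute_cj_iff g).mpr hc⟩

/-- One step in the commuting graph. -/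
abbrev CStep (D : Set G) (x y : G) : Prop := x ∈ D ∧ y ∈ D ∧ Commute x y

theorem reach_all (hD : IsThreeTranspositionClass D) (hp : IsPrimitiveUnderConj D)
    (hw : ∃ a ∈ D, ∃ b ∈ D, a ≠ b ∧ Commute a b) {a b : G} (ha : a ∈ D) (hb : b ∈ D) :
    Relation.ReflTransGen (CStep D) a b := by
  have hsym : ∀ x y, Relation.ReflTransGen (CStep D) x y → Relation.ReflTransGen (CStep D) y x := by
    intro x y h
    induction h with
    | refl => exact Relation.ReflTransGen.refl
    | tail _ hst ih => exact Relation.ReflTransGen.head ⟨hst.2.1, hst.1, hst.2.2.symm⟩ ih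
  rcases partition_trivial hp (fun x => {y | y ∈ D ∧ Relation.ReflTransGen (CStep D) x y})
      (fun x _ y hy => hy.1) (fun x hx => ⟨hx, Relation.ReflTransGen.refl⟩)
      (fun x _ y hy => Set.ext fun z => ⟨fun hz => ⟨hz.1, hy.2.trans hz.2⟩,
        fun hz => ⟨hz.1, (hsym _ _ hy.2).trans hz.2⟩⟩)
      (fun g x hx => cls_conj hD g hx)
      (fun g x _ y hy => ⟨cls_conj hD g hy.1, Relation.ReflTransGen.lift (fun z => g * z * g⁻¹)
        (fun p q hpq => ⟨cls_conj hD g hpq.1, cls_conj hD g hpq.2.1, (commute_cj_iff g).mpr hpq.2.2⟩) _ _ hy.2⟩) ha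
    with h | h
  · obtain ⟨e, he, hea, hce⟩ := exists_partner hD hw ha
    have : e ∈ ({a} : Set G) := h ▸ ⟨he, Relation.ReflTransGen.single ⟨ha, he, hce⟩⟩
    exact absurd (Set.mem_singleton_iff.mp this) hea
  · exact ((Set.ext_iff.mp h b).mpr hb).2

theorem eq_cls_of_closed (hD : IsThreeTranspositionClass D) (hp : IsPrimitiveUnderConj D)
    (hw : ∃ a ∈ D, ∃ b ∈ D, a ≠ b ∧ Commute a b) {S : Set G} {x : G} (hx : x ∈ D) (hxS : x ∈ S)
    (hcl : ∀ u ∈ S, ∀ v ∈ D, Commute u v → v ∈ S) : D ⊆ S := by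
  intro y hy
  have h := reach_all hD hp hw hx hy
  clear hy
  induction h with
  | refl => exact hxS
  | tail _ hst ih => exact hcl _ ih _ hst.2.1 hst.2.2

theorem graph_connected (hD : IsThreeTranspositionClass D) (hp : IsPrimitiveUnderConj D)
    (hw : ∃ a ∈ D, ∃ b ∈ D, a ≠ b ∧ Commute a b) : (commutingGraph D).Connected := by
  obtain ⟨a, ha, -⟩ := id hw
  haveI : Nonempty D := ⟨⟨a, ha⟩⟩
  refine ⟨fun u v => ?_⟩
  suffices ∀ y, Relation.ReflTransGen (CStep D) u y → ∀ hy : y ∈ D, (commutingGraph D).Reachable u ⟨y, hy⟩ from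
    this _ (reach_all hD hp hw u.2 v.2) v.2
  intro y hy
  induction hy with
  | refl => intro _; exact SimpleGraph.Reachable.refl _
  | @tail p q _ hst ih =>
    intro hq
    by_cases hpq : p = q
    · subst hpq; exact ih hq
    · refine (ih hst.1).trans (SimpleGraph.Adj.reachable ((SimpleGraph.fromRel_adj _ _ _).mpr ⟨?_, Or.inl hst.2.2⟩))
      exact fun e => hpq (congrArg Subtype.val e)

theorem cores_of_prim (hD : IsThreeTranspositionClass D) (hp : IsPrimitiveUnderConj D)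
    (hw : ∃ a ∈ D, ∃ b ∈ D, a ≠ b ∧ Commute a b) :
    pCore 2 G ≤ Subgroup.center G ∧ pCore 3 G ≤ Subgroup.center G := by
  refine ⟨fun g hg => mem_center_of_commute_cls hD fun d hd => ?_,
    fun g hg => mem_center_of_commute_cls hD fun d hd => ?_⟩
  · have h : g * d * g⁻¹ ∈ Vs D d := by rw [Vs_eq_orbit hD hp.2.1 hd]; exact ⟨g, hg, rfl⟩
    rw [Vs_trivial hD hp hd] at h
    exact mul_inv_eq_iff_eq_mul.mp (Set.mem_singleton_iff.mp h)
  · have h : g * d * g⁻¹ ∈ Ws D d := by rw [Ws_eq_orbit hD hd]; exact ⟨g, hg, rfl⟩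
    rw [Ws_trivial hD hp hw hd] at h
    exact mul_inv_eq_iff_eq_mul.mp (Set.mem_singleton_iff.mp h)

/-- Outside members see all of the set or none of it. -/
abbrev Homogeneous (D S : Set G) : Prop :=
  S ⊆ D ∧ ∀ y ∈ D, y ∉ S → ∀ a ∈ S, ∀ b ∈ S, Commute y a → Commute y b

theorem homogeneous_trivial (hD : IsThreeTranspositionClass D) (hp : IsPrimitiveUnderConj D)
    (hw : ∃ a ∈ D, ∃ b ∈ D, a ≠ b ∧ Commute a b) {S : Set G} (hS : Homogeneous D S) (hne : S ≠ D) :
    S.Subsingleton := by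
  by_contra hnt
  obtain ⟨M, hSM, hM⟩ := Finite.exists_le_maximal (p := fun M : Set G => Homogeneous D M ∧ M ≠ D) ⟨hS, hne⟩
  obtain ⟨⟨hMD, hMh⟩, hMne⟩ := hM.prop
  have hMhom : ∀ g : G, Homogeneous D ((fun x => g * x * g⁻¹) '' M) := by
    intro g
    refine ⟨?_, ?_⟩
    · rintro _ ⟨a, ha, rfl⟩; exact cls_conj hD g (hMD ha)
    · rintro y hy hyn _ ⟨a, ha, rfl⟩ _ ⟨b, hb, rfl⟩ hc
      have e : g * (g⁻¹ * y * g⁻¹⁻¹) * g⁻¹ = y := cj_inv g y
      rw [← e, commute_cj_iff] at hc ⊢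
      exact hMh _ (cls_conj hD g⁻¹ hy) (fun h => hyn ⟨_, h, e⟩) a ha b hb hc
  have hblock : ∀ g : G, (fun x => g * x * g⁻¹) '' M = M ∨ Disjoint ((fun x => g * x * g⁻¹) '' M) M := by
    intro g
    set N := (fun x => g * x * g⁻¹) '' M with hN
    by_cases hm : ∃ x, x ∈ N ∧ x ∈ M
    swap
    · exact Or.inr (Set.disjoint_left.mpr fun x h1 h2 => hm ⟨x, h1, h2⟩)
    left
    obtain ⟨x, hxN, hxM⟩ := hm
    obtain ⟨hND, hNh⟩ := hMhom g
    have hcard : N.ncard = M.ncard := Set.ncard_image_of_injective M (cj_injective g)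
    have heqN : N ⊆ M → N = M := fun h => Set.eq_of_subset_of_ncard_le h hcard.ge
    by_cases hU : N ∪ M = D
    · by_contra hNM
      obtain ⟨x', hx'M, hx'N⟩ : ∃ x', x' ∈ M ∧ x' ∉ N := by
        by_contra h
        push Not at h
        exact hNM (Set.eq_of_subset_of_ncard_le h hcard.le).symm
      have hout : ∀ y ∈ D, y ∉ M → y ∈ N := fun y hy hyM => by
        rcases (hU ▸ hy : y ∈ N ∪ M) with h | h
        exacts [h, absurd h hyM]
      have hconst : ∀ y ∈ D, y ∉ M → ∀ y' ∈ D, y' ∉ M → ∀ a ∈ M, ∀ a' ∈ M, Commute y a → Commute y' a' := by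
        intro y hy hyM y' hy' hy'M a ha a' ha' hc
        have h1 : Commute x' y := (hMh y hy hyM a ha x' hx'M hc).symm
        have h2 : Commute x' y' := hNh x' (hMD hx'M) hx'N y (hout y hy hyM) y' (hout y' hy' hy'M) h1
        exact hMh y' hy' hy'M x' hx'M a' ha' h2.symm
      by_cases hex : ∃ y ∈ D, y ∉ M ∧ ∃ a ∈ M, Commute y a
      · obtain ⟨y, hy, hyM, a, ha, hc⟩ := hex
        exact hMne (eq_cls_of_commute_compl hD hMD ⟨x, hxM⟩
          fun s hs e he heM => (hconst y hy hyM e he heM a ha s hs hc).symm)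
      · apply hMne
        refine hMD.antisymm (eq_cls_of_closed hD hp hw (hMD hxM) hxM fun u hu v hv hc => ?_)
        by_contra hvM
        exact hex ⟨v, hv, hvM, u, hu, hc.symm⟩
    · refine heqN ?_
      have hhom : Homogeneous D (N ∪ M) := by
        refine ⟨Set.union_subset hND hMD, fun y hy hyn a ha b hb hc => ?_⟩
        have hyN : y ∉ N := fun h => hyn (Or.inl h)
        have hyM : y ∉ M := fun h => hyn (Or.inr h)
        have hcx : Commute y x := by
          rcases ha with ha | ha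
          exacts [hNh y hy hyN a ha x hxN hc, hMh y hy hyM a ha x hxM hc]
        rcases hb with hb | hb
        exacts [hNh y hy hyN x hxN b hb hcx, hMh y hy hyM x hxM b hb hcx]
      exact Set.subset_union_left.trans (hM.le_of_ge ⟨hhom, hU⟩ Set.subset_union_right)
  rcases hp.2.2 M hMD hblock with h | h
  · exact hnt (h.anti hSM)
  · exact hMne h

/-- One step in the noncommuting graph on `Ds D t`. -/
abbrev NStep (D : Set G) (t x y : G) : Prop := x ∈ Ds D t ∧ y ∈ Ds D t ∧ ¬ Commute x y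

theorem Ds_connected (hD : IsThreeTranspositionClass D) (hp : IsPrimitiveUnderConj D)
    (hw : ∃ a ∈ D, ∃ b ∈ D, a ≠ b ∧ Commute a b) {d : G} (hd : d ∈ D) :
    ∀ a ∈ Ds D d, ∀ b ∈ Ds D d, Relation.ReflTransGen (NStep D d) a b := by
  let Cl : G → G → Set G := fun t a => {y | Relation.ReflTransGen (NStep D t) a y}
  obtain ⟨d0, hd0, -⟩ := id hw
  obtain ⟨e0, he0⟩ := exists_partner hD hw hd0
  obtain ⟨⟨t, a⟩, ⟨ht, ha⟩, hmax⟩ := Set.exists_max_image {p : G × G | p.1 ∈ D ∧ p.2 ∈ Ds D p.1}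
    (fun p => (Cl p.1 p.2).ncard) (Set.toFinite _) ⟨(d0, e0), hd0, he0⟩
  simp only at ht ha hmax
  set A := Cl t a with hA
  have hsubA : A ⊆ Ds D t := fun y hy => by
    rcases Relation.ReflTransGen.cases_tail hy with h | ⟨c, -, hc⟩
    · exact h.symm ▸ ha
    · exact hc.2.1
  have haA : a ∈ A := Relation.ReflTransGen.refl
  have hclosed : ∀ t' ∈ D, A ⊆ Ds D t' → ∀ y ∈ Ds D t', y ∉ A → ∀ p ∈ A, Commute y p := by
    intro t' ht' hsub y hy hyA p hpA
    by_contra hn
    have hle : A ⊆ Cl t' a := by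
      intro z hz
      induction hz with
      | refl => exact Relation.ReflTransGen.refl
      | @tail u v huv hst ih =>
        exact Relation.ReflTransGen.tail ih ⟨hsub huv, hsub (Relation.ReflTransGen.tail huv hst), hst.2.2⟩
    have heq : A = Cl t' a := Set.eq_of_subset_of_ncard_le hle (hmax (t', a) ⟨ht', hsub haA⟩)
    apply hyA
    rw [heq]
    exact Relation.ReflTransGen.tail (hle hpA) ⟨hsub hpA, hy, fun h => hn h.symm⟩
  have hall : A = Ds D t := by
    by_contra hne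
    obtain ⟨v, hv, hvA⟩ : ∃ v ∈ Ds D t, v ∉ A := by
      by_contra h
      push Not at h
      exact hne (hsubA.antisymm h)
    set T := {u | Relation.ReflTransGen (fun p q => A ⊆ Ds D p ∧ q ∈ Ds D p ∧ q ∉ A ∧ p ∈ D) t u} with hT
    have htA : t ∉ A := fun h => (hsubA h).2.1 rfl
    have hinv : ∀ u ∈ T, u ∈ D ∧ A ⊆ Ds D u ∧ u ∉ A := by
      intro u hu
      induction hu with
      | refl => exact ⟨ht, hsubA, htA⟩
      | @tail p q _ hst ih =>
        obtain ⟨hsub, hq, hqA, hpD⟩ := hst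
        exact ⟨hq.1, fun z hz => ⟨(hsub hz).1, fun e => hqA (e ▸ hz), hclosed p hpD hsub q hq hqA z hz⟩, hqA⟩
    have hThom : Homogeneous D T := by
      refine ⟨fun u hu => (hinv u hu).1, fun y hy hyT a' ha' b' hb' hc => ?_⟩
      by_cases hyA : y ∈ A
      · exact ((hinv b' hb').2.1 hyA).2.2.symm
      · exfalso
        exact hyT (Relation.ReflTransGen.tail ha'
          ⟨(hinv a' ha').2.1, ⟨hy, fun e => hyT (e ▸ ha'), hc.symm⟩, hyA, (hinv a' ha').1⟩)
    have hTne : T ≠ D := fun h => (hinv a (h ▸ ha.1)).2.2 haA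
    exact hv.2.1 (homogeneous_trivial hD hp hw hThom hTne
      (Relation.ReflTransGen.single ⟨hsubA, hv, hvA, ht⟩ : v ∈ T) (Relation.ReflTransGen.refl : t ∈ T))
  intro p hp' q hq
  obtain ⟨g, rfl⟩ := cls_exists_conj hD ht hd
  have hsym : ∀ x y, Relation.ReflTransGen (NStep D t) x y → Relation.ReflTransGen (NStep D t) y x := by
    intro x y h
    induction h with
    | refl => exact Relation.ReflTransGen.refl
    | tail _ hst ih => exact Relation.ReflTransGen.head ⟨hst.2.1, hst.1, fun h => hst.2.2 h.symm⟩ ih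
  have hfrom : ∀ z ∈ Ds D (g * t * g⁻¹), ∃ z' ∈ A, g * z' * g⁻¹ = z := by
    intro z hz
    rw [← cj_Ds hD] at hz
    obtain ⟨z', hz', rfl⟩ := hz
    exact ⟨z', hall ▸ hz', rfl⟩
  obtain ⟨p', hp'A, rfl⟩ := hfrom p hp'
  obtain ⟨q', hq'A, rfl⟩ := hfrom q hq
  refine Relation.ReflTransGen.lift (fun z => g * z * g⁻¹) (fun x y hxy => ⟨?_, ?_, ?_⟩)
    _ _ ((hsym _ _ hp'A).trans hq'A)
  · rw [← cj_Ds hD]; exact ⟨x, hxy.1, rfl⟩
  · rw [← cj_Ds hD]; exact ⟨y, hxy.2.1, rfl⟩
  · exact fun h => hxy.2.2 ((commute_cj_iff g).mp h)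

/-- The partners of `d` form one class of the subgroup they generate. -/
theorem Ds_transitive (hD : IsThreeTranspositionClass D) (hp : IsPrimitiveUnderConj D)
    (hw : ∃ a ∈ D, ∃ b ∈ D, a ≠ b ∧ Commute a b) {d : G} (hd : d ∈ D) :
    ∀ a ∈ Ds D d, ∀ b ∈ Ds D d, ∃ g ∈ Subgroup.closure (Ds D d), g * a * g⁻¹ = b := by
  intro a ha b hb
  have h := Ds_connected hD hp hw hd a ha b hb
  clear hb
  induction h with
  | refl => exact ⟨1, one_mem _, by simp⟩
  | @tail p q _ hst ih =>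
    obtain ⟨g, hg, rfl⟩ := ih
    obtain ⟨hp', hq, hnc⟩ := hst
    refine ⟨g * a * g⁻¹ * q * g, mul_mem (mul_mem (Subgroup.subset_closure hp') (Subgroup.subset_closure hq)) hg, ?_⟩
    rw [← cj_cj]
    set p := g * a * g⁻¹
    rw [mul_inv_rev, inv_self hD.1 hp'.1, inv_self hD.1 hq.1]
    calc p * q * p * (q * p) = p * q * p * q * p := by simp only [mul_assoc]
      _ = (p * q * p) * q * p := rfl
      _ = (q * p * q) * q * p := by rw [braid hD.1 hp'.1 hq.1 hnc]
      _ = q := by simp only [mul_assoc, mul_mul_cancel_self (mul_self hD.1 hq.1), mul_self hD.1 hp'.1, mul_one]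

theorem closure_Ds_commute {d g : G} (hg : g ∈ Subgroup.closure (Ds D d)) : Commute g d := by
  have hle : Subgroup.closure (Ds D d) ≤ Subgroup.centralizer ({d} : Set G) :=
    (Subgroup.closure_le _).mpr fun y hy => Subgroup.mem_centralizer_singleton_iff.mpr hy.2.2.eq.symm
  exact Subgroup.mem_centralizer_singleton_iff.mp (hle hg)

theorem rank_three_near (hD : IsThreeTranspositionClass D) (hp : IsPrimitiveUnderConj D)
    (hw : ∃ a ∈ D, ∃ b ∈ D, a ≠ b ∧ Commute a b) {d : G} (hd : d ∈ D) :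
    ∀ a ∈ Ds D d, ∀ b ∈ Ds D d, ∃ g : G, Commute g d ∧ g * a * g⁻¹ = b := by
  intro a ha b hb
  obtain ⟨g, hg, h⟩ := Ds_transitive hD hp hw hd a ha b hb
  exact ⟨g, closure_Ds_commute hg, h⟩

theorem rank_three_far (hD : IsThreeTranspositionClass D) (hp : IsPrimitiveUnderConj D)
    (hw : ∃ a ∈ D, ∃ b ∈ D, a ≠ b ∧ Commute a b) {d : G} (hd : d ∈ D) :
    ∀ c ∈ D, ¬ Commute d c → ∀ c' ∈ D, ¬ Commute d c' → ∃ g : G, Commute g d ∧ g * c * g⁻¹ = c' := by
  let O : G → Set G := fun c => {f | ∃ g : G, Commute g d ∧ g * c * g⁻¹ = f}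
  have hd' := mul_self hD.1 hd
  have hOsymm : ∀ {c f : G}, f ∈ O c → c ∈ O f := by
    rintro c _ ⟨g, hg, rfl⟩
    exact ⟨g⁻¹, hg.inv_left, by group⟩
  have hOtrans : ∀ {c f h : G}, f ∈ O c → h ∈ O f → h ∈ O c := by
    rintro c _ _ ⟨g, hg, rfl⟩ ⟨g', hg', rfl⟩
    exact ⟨g' * g, hg'.mul_left hg, (cj_cj g' g c).symm⟩
  have hstep : ∀ {c b : G}, c ∈ D → b ∈ D → ¬ Commute d c → ¬ Commute d b → Commute c b → b ∈ O c := by
    intro c b hc hb hdc hdb hcb
    have r1 := mul_mul_cancel_self hd'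
    have r2 := mul_mul_cancel_self (mul_self hD.1 hc)
    have r3 := mul_mul_cancel_self (mul_self hD.1 hb)
    have cdc : c * d * c = d * c * d := (braid hD.1 hd hc hdc).symm
    have bdb : b * d * b = d * b * d := (braid hD.1 hd hb hdb).symm
    have hcbc : c * b * c = b := by rw [hcb.eq, mul_assoc, mul_self hD.1 hc, mul_one]
    have hbcb : b * c * b = c := by rw [← hcb.eq, mul_assoc, mul_self hD.1 hb, mul_one]
    have he : d * (c * b * d * b * c) * d = c * b * d * b * c := by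
      calc d * (c * b * d * b * c) * d = d * c * (b * d * b) * c * d := by simp only [mul_assoc]
        _ = (d * c * d) * b * (d * c * d) := by rw [bdb]; simp only [mul_assoc]
        _ = (c * d * c) * b * (c * d * c) := by rw [cdc]
        _ = c * d * (c * b * c) * d * c := by simp only [mul_assoc]
        _ = c * (d * b * d) * c := by rw [hcbc]; simp only [mul_assoc]
        _ = c * b * d * b * c := by rw [← bdb]; simp only [mul_assoc]
    refine ⟨d * (c * b * d * b * c), (Commute.refl d).mul_left ?_, ?_⟩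
    · show c * b * d * b * c * d = d * (c * b * d * b * c)
      conv_rhs => rw [← he]
      simp only [mul_assoc, r1]
    · rw [mul_inv_rev, mul_inv_rev, mul_inv_rev, mul_inv_rev, mul_inv_rev, inv_self hD.1 hd, inv_self hD.1 hc,
        inv_self hD.1 hb]
      calc d * (c * b * d * b * c) * c * (c * (b * (d * (b * c))) * d)
          = d * c * b * d * (b * c * b) * d * b * c * d := by simp only [mul_assoc, r2]
        _ = d * c * b * (d * c * d) * b * c * d := by rw [hbcb]; simp only [mul_assoc]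
        _ = d * (c * b * c) * d * (c * b * c) * d := by rw [← cdc]; simp only [mul_assoc]
        _ = (d * b * d) * b * d := by rw [hcbc]
        _ = (b * d * b) * b * d := by rw [bdb]
        _ = b := by simp only [mul_assoc, r3, hd', mul_one]
  have hkey : ∀ {c f a : G}, c ∈ D → f ∈ D → ¬ Commute d c → ¬ Commute d f → ¬ Commute c f → f ∉ O c →
      a ∈ Ds D d → Commute a f → ¬ Commute a c → c * f * c⁻¹ ∈ O c := by
    intro c f a hc hf hdc hdf hcf hfO ha haf hac
    set t := c * f * c⁻¹ with ht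
    have htD : t ∈ D := cls_conj hD c hf
    have hdt : ¬ Commute d t := by
      intro h
      refine hfO ⟨t, h.symm, ?_⟩
      rw [inv_self hD.1 htD, ht, inv_self hD.1 hc]
      calc c * f * c * c * (c * f * c) = c * f * c * f * c := by
            simp only [mul_assoc, mul_mul_cancel_self (mul_self hD.1 hc)]
        _ = c * f * c * f * c * (f * f) := by rw [mul_self hD.1 hf, mul_one]
        _ = (c * f) ^ 3 * f := by rw [pow_succ, pow_succ, pow_one]; simp only [mul_assoc]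
        _ = f := by rw [pow_three hD.1 hc hf hcf, one_mul]
    have hga : Commute (d * a) d := (Commute.refl d).mul_left ha.2.2.symm
    set b := (d * a) * c * (d * a)⁻¹ with hb
    have hbO : b ∈ O c := ⟨d * a, hga, rfl⟩
    have hbD : b ∈ D := cls_conj hD _ hc
    have hdb : ¬ Commute d b := by
      intro h
      apply hdc
      have e : (d * a) * d * (d * a)⁻¹ = d := by rw [hga.eq, mul_inv_cancel_right]
      rw [← e, hb, commute_cj_iff] at h
      exact h
    have ht'D : d * t * d⁻¹ ∈ D := cls_conj hD d htD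
    have hdt' : ¬ Commute d (d * t * d⁻¹) := by
      intro h
      apply hdt
      rw [← commute_cj_iff d, mul_inv_cancel_right]
      exact h
    have hbt : Commute b (d * t * d⁻¹) := by
      rw [hb, ← cj_cj, commute_cj_iff]
      have haca : a * c * a⁻¹ = c * a * c⁻¹ := by
        rw [inv_self hD.1 ha.1, inv_self hD.1 hc]; exact braid hD.1 ha.1 hc hac
      rw [haca, ht, commute_cj_iff]
      exact haf
    exact hOtrans (hOtrans hbO (hstep hbD ht'D hdb hdt' hbt)) ⟨d⁻¹, (Commute.refl d).inv_left, by group⟩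
  intro c1 hc1 hdc1 c2 hc2 hdc2
  obtain ⟨c, ⟨hc, hdc⟩, hmax⟩ := Set.exists_max_image {x : G | x ∈ D ∧ ¬ Commute d x}
    (fun x => {a | a ∈ Ds D d ∧ Commute a x}.ncard) (Set.toFinite _) ⟨c1, hc1, hdc1⟩
  have hO : ∀ f ∈ D, ¬ Commute d f → f ∈ O c := by
    by_contra hcon
    push Not at hcon
    obtain ⟨f0, hf0, hdf0, hf0O⟩ := hcon
    have hXsub : ∀ f ∈ D, ¬ Commute d f → f ∉ O c → ∀ a ∈ Ds D d, Commute a f → Commute a c := by
      intro f hf hdf hfO a ha haf
      by_contra hac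
      have hcf : ¬ Commute c f := fun h => hfO (hstep hc hf hdc hdf h)
      obtain ⟨a', ⟨ha', ha'c⟩, ha'f⟩ : ∃ a', (a' ∈ Ds D d ∧ Commute a' c) ∧ ¬ Commute a' f := by
        by_contra h
        push Not at h
        have heq := Set.eq_of_subset_of_ncard_le (s := {a | a ∈ Ds D d ∧ Commute a c})
          (t := {a | a ∈ Ds D d ∧ Commute a f}) (fun z hz => ⟨hz.1, h z hz⟩) (hmax f ⟨hf, hdf⟩)
        exact hac ((Set.ext_iff.mp heq a).mpr ⟨ha, haf⟩).2
      have h1 := hkey hc hf hdc hdf hcf hfO ha haf hac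
      have h2 := hkey hf hc hdf hdc (fun h => hcf h.symm) (fun h => hfO (hOsymm h)) ha' ha'c ha'f
      rw [inv_self hD.1 hc] at h1
      rw [inv_self hD.1 hf, ← braid hD.1 hc hf hcf] at h2
      exact hfO (hOtrans h1 (hOsymm h2))
    obtain ⟨h, hhO, a0, ha0, hcomm⟩ : ∃ h, h ∈ O f0 ∧ ∃ a ∈ Ds D d, Commute a h := by
      by_contra hno
      push Not at hno
      have hsub := eq_cls_of_closed hD hp hw (S := O f0) hf0 ⟨1, Commute.one_left d, by simp⟩ (fun u hu v hv huv => by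
        have huD : u ∈ D := by obtain ⟨g, -, rfl⟩ := hu; exact cls_conj hD g hf0
        have hdu : ¬ Commute d u := by
          obtain ⟨g, hg, rfl⟩ := hu
          intro h
          apply hdf0
          have e : g * d * g⁻¹ = d := by rw [hg.eq, mul_inv_cancel_right]
          rw [← e, commute_cj_iff] at h
          exact h
        by_cases hvd : Commute d v
        · exfalso
          by_cases hvd' : v = d
          · exact hdu (hvd' ▸ huv).symm
          · exact hno u hu v ⟨hv, hvd', hvd⟩ huv.symm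
        · exact hOtrans hu (hstep huD hv hdu hvd huv))
      obtain ⟨g, hg, hgd⟩ := hsub hd
      apply hdf0
      have e : g * d * g⁻¹ = d := by rw [hg.eq, mul_inv_cancel_right]
      have : f0 = d := cj_injective g (hgd.trans e.symm)
      rw [this]
    have hhD : h ∈ D := by obtain ⟨g, -, rfl⟩ := hhO; exact cls_conj hD g hf0
    have hfull : Ds D d ⊆ Ds D c := by
      intro a ha
      obtain ⟨g, hg, rfl⟩ := Ds_transitive hD hp hw hd a0 ha0 a ha
      have hgd := closure_Ds_commute hg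
      have hmem : g * h * g⁻¹ ∈ O f0 := hOtrans hhO ⟨g, hgd, rfl⟩
      have hnd : ¬ Commute d (g * h * g⁻¹) := by
        obtain ⟨k, hk, hk'⟩ := hmem
        intro hcd
        apply hdf0
        have e : k * d * k⁻¹ = d := by rw [hk.eq, mul_inv_cancel_right]
        rw [← e, ← hk', commute_cj_iff] at hcd
        exact hcd
      have hnO : g * h * g⁻¹ ∉ O c := fun hh => hf0O (hOtrans hh (hOsymm hmem))
      have := hXsub _ (cls_conj hD g hhD) hnd hnO _ ha ((commute_cj_iff g).mpr hcomm)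
      exact ⟨ha.1, fun e => hdc (e ▸ ha.2.2), this.symm⟩
    have hcard : (Ds D c).ncard ≤ (Ds D d).ncard := by
      obtain ⟨g, rfl⟩ := cls_exists_conj hD hd hc
      rw [← cj_Ds hD, Set.ncard_image_of_injective _ (cj_injective g)]
    have hcW : c ∈ Ws D d := ⟨hc, Set.eq_of_subset_of_ncard_le hfull hcard⟩
    rw [Ws_trivial hD hp hw hd, Set.mem_singleton_iff] at hcW
    exact hdc (hcW ▸ Commute.refl d)
  exact hOtrans (hOsymm (hO c1 hc1 hdc1)) (hO c2 hc2 hdc2)

theorem partner_subgroup_maximal (hD : IsThreeTranspositionClass D) (hp : IsPrimitiveUnderConj D)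
    (hw : ∃ a ∈ D, ∃ b ∈ D, a ≠ b ∧ Commute a b) {d : G} (hd : d ∈ D) :
    Subgroup.closure {y : G | y ∈ D ∧ Commute d y} ≠ ⊤ ∧ ∀ H : Subgroup G, IsDSubgroup D H →
      Subgroup.closure {y : G | y ∈ D ∧ Commute d y} ≤ H →
        H = Subgroup.closure {y : G | y ∈ D ∧ Commute d y} ∨ H = ⊤ := by
  set M := Subgroup.closure {y : G | y ∈ D ∧ Commute d y} with hM
  have hMC : M ≤ Subgroup.centralizer ({d} : Set G) :=
    (Subgroup.closure_le _).mpr fun y hy => Subgroup.mem_centralizer_singleton_iff.mpr hy.2.eq.symm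
  refine ⟨fun h => ?_, fun H hH hMH => ?_⟩
  · obtain ⟨e, he, hne⟩ := exists_noncommute hD hp.2.1 hd
    exact hne (Subgroup.mem_centralizer_singleton_iff.mp (hMC (h ▸ Subgroup.mem_top e)) : Commute e d).symm
  by_cases hall : ∀ e ∈ D, e ∈ H → Commute d e
  · left
    refine le_antisymm ?_ hMH
    conv_lhs => rw [← hH]
    exact (Subgroup.closure_le _).mpr fun e he => Subgroup.subset_closure ⟨he.1, hall e he.1 he.2⟩
  right
  push Not at hall
  obtain ⟨e, he, heH, hde⟩ := hall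
  have hdH : d ∈ H := hMH (Subgroup.subset_closure ⟨hd, Commute.refl d⟩)
  have hDsH : ∀ y ∈ Ds D d, y ∈ H := fun y hy => hMH (Subgroup.subset_closure ⟨hy.1, hy.2.2⟩)
  set O := {x : G | ∃ h ∈ H, h * d * h⁻¹ = x}
  have hnb : ∀ x ∈ D, ∀ y ∈ D, x ∈ H → y ∈ H → ¬ Commute x y → x ∈ O → y ∈ O := by
    rintro _ hx y hy hxH hyH hnc ⟨h, hh, rfl⟩
    refine ⟨h * d * h⁻¹ * y * h, mul_mem (mul_mem hxH hyH) hh, ?_⟩
    rw [← cj_cj]
    set x := h * d * h⁻¹
    rw [mul_inv_rev, inv_self hD.1 hx, inv_self hD.1 hy]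
    calc x * y * x * (y * x) = (x * y * x) * y * x := by simp only [mul_assoc]
      _ = (y * x * y) * y * x := by rw [braid hD.1 hx hy hnc]
      _ = y := by simp only [mul_assoc, mul_mul_cancel_self (mul_self hD.1 hy), mul_self hD.1 hx, mul_one]
  have heO : e ∈ O := hnb d hd e he hdH heH hde ⟨1, one_mem _, by simp⟩
  obtain ⟨a, ha, hae⟩ : ∃ a ∈ Ds D d, ¬ Commute a e := by
    by_contra h
    push Not at h
    have hsub : Ds D d ⊆ Ds D e := fun a ha => ⟨ha.1, fun h' => hde (h' ▸ ha.2.2), (h a ha).symm⟩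
    have hcard : (Ds D e).ncard ≤ (Ds D d).ncard := by
      obtain ⟨g, rfl⟩ := cls_exists_conj hD hd he
      rw [← cj_Ds hD, Set.ncard_image_of_injective _ (cj_injective g)]
    have heW : e ∈ Ws D d := ⟨he, Set.eq_of_subset_of_ncard_le hsub hcard⟩
    rw [Ws_trivial hD hp hw hd, Set.mem_singleton_iff] at heW
    exact hde (heW ▸ Commute.refl d)
  have haO : a ∈ O := hnb e he a ha.1 heH (hDsH a ha) (fun h => hae h.symm) heO
  have hDsO : ∀ y ∈ Ds D d, y ∈ O := by
    intro y hy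
    obtain ⟨g, hg, rfl⟩ := Ds_transitive hD hp hw hd a ha y hy
    obtain ⟨h, hh, rfl⟩ := haO
    exact ⟨g * h, mul_mem ((Subgroup.closure_le _).mpr hDsH hg) hh, (cj_cj g h d).symm⟩
  have hDO : D ⊆ O := eq_cls_of_closed hD hp hw hd ⟨1, one_mem _, by simp⟩ (by
    rintro _ ⟨h, hh, rfl⟩ v hv hc
    by_cases hvd : v = h * d * h⁻¹
    · exact ⟨h, hh, hvd.symm⟩
    have hv' : v ∈ (fun z => h * z * h⁻¹) '' Ds D d := by rw [cj_Ds hD]; exact ⟨hv, hvd, hc⟩
    obtain ⟨z, hz, rfl⟩ := hv'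
    obtain ⟨k, hk, rfl⟩ := hDsO z hz
    exact ⟨h * k, mul_mem hh hk, (cj_cj h k d).symm⟩)
  rw [eq_top_iff, ← hD.2.2, Subgroup.closure_le]
  intro x hx
  obtain ⟨h, hh, rfl⟩ := hDO hx
  exact mul_mem (mul_mem hh hdH) (inv_mem hh)

end CfsgThreeTrans
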