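/-
Fischer's hypotheses give primitivity, rank three and the structure of maximal commuting sets.
-/
import Cfsg.Agent.Lib.ThreeTrans.Rank3

set_option autoImplicit false

namespace CfsgThreeTrans

open Cfsg CfsgLib
open scoped commutatorElement

universe u

variable {G : Type u} [Group G] [Finite G] {D : Set G}

theorem pair_of_cores (hD : IsThreeTranspositionClass D) (hD2 : ∃ a ∈ D, ∃ b ∈ D, a ≠ b)
    (h3 : pCore 3 G ≤ Subgroup.center G) : ∃ a ∈ D, ∃ b ∈ D, a ≠ b ∧ Commute a b := by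
  by_contra h
  push Not at h
  obtain ⟨a, ha, b, hb, hab⟩ := hD2
  have hz := h3 (mul_mem_pCore_three hD (fun x hx y hy hc => by
    by_contra hne; exact h x hx y hy hne hc) ha hb)
  have e := Subgroup.mem_center_iff.mp hz a
  rw [← mul_assoc, mul_self hD.1 ha, one_mul] at e
  refine h a ha b hb hab ?_
  show a * b = b * a
  calc a * b = a * (a * b * a) := congrArg (a * ·) e
    _ = b * a := by simp only [mul_assoc, mul_mul_cancel_self (mul_self hD.1 ha)]

omit [Finite G] in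
theorem mul_mem_commutator (hD : IsThreeTranspositionClass D) {a b : G} (ha : a ∈ D) (hb : b ∈ D) :
    a⁻¹ * b ∈ commutator G := by
  obtain ⟨g, rfl⟩ := cls_exists_conj hD ha hb
  rw [show a⁻¹ * (g * a * g⁻¹) = ⁅a⁻¹, g⁆ by rw [commutatorElement_def]; group]
  exact Subgroup.commutator_mem_commutator (Subgroup.mem_top _) (Subgroup.mem_top _)

theorem layer_le_commutator : layer G ≤ commutator G := by
  calc layer G = ⁅layer G, layer G⁆ := layer_commutator_self.symm
    _ ≤ commutator G := Subgroup.commutator_mono le_top le_top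

omit [Finite G] in
theorem commutator_le_of_mod (hD : IsThreeTranspositionClass D) {d : G} (hd : d ∈ D) (N : Subgroup G) [N.Normal]
    (hmod : ∀ a ∈ D, d⁻¹ * a ∈ N) : commutator G ≤ N := by
  refine Subgroup.commutator_le.mpr fun g _ h _ => (QuotientGroup.eq_one_iff _).mp ?_
  show QuotientGroup.mk' N ⁅g, h⁆ = 1
  rw [map_commutatorElement, commutatorElement_eq_one_iff_mul_comm]
  have key : ∀ x, QuotientGroup.mk' N x = 1 ∨ QuotientGroup.mk' N x = QuotientGroup.mk' N d := by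
    intro x
    rcases cls_cases hD hd N hmod (g := x) with h | h
    · exact Or.inl ((QuotientGroup.eq_one_iff x).mpr h)
    · right
      have h' : QuotientGroup.mk' N (x * d⁻¹) = 1 := (QuotientGroup.eq_one_iff _).mpr h
      rwa [map_mul, map_inv, mul_inv_eq_one] at h'
  rcases key g with h1 | h1 <;> rcases key h with h2 | h2 <;> simp only [h1, h2, one_mul, mul_one]

theorem eq_bot_of_perfect_solvable {K : Subgroup G} (hK : ⁅K, K⁆ = K) (hs : Group.IsSolvable K) : K = ⊥ := by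
  have h1 : commutator K = ⊤ := by
    refine Subgroup.map_injective K.subtype_injective ?_
    rw [commutator_def, Subgroup.map_commutator, ← MonoidHom.range_eq_map, Subgroup.range_subtype, hK]
  by_contra hne
  haveI : Nontrivial K := (Subgroup.nontrivial_iff_ne_bot K).mpr hne
  exact absurd h1 (ne_of_lt (Group.IsSolvable.commutator_lt_top_of_nontrivial K))

/-- When the derived group is perfect it is the layer. -/
theorem commutator_eq_layer (hD : IsThreeTranspositionClass D) (hD2 : ∃ a ∈ D, ∃ b ∈ D, a ≠ b)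
    (h2 : pCore 2 G ≤ Subgroup.center G) (h3 : pCore 3 G ≤ Subgroup.center G)
    (hperf : ⁅commutator G, commutator G⁆ = commutator G) : commutator G = layer G := by
  refine le_antisymm ?_ layer_le_commutator
  obtain ⟨d, hd, -⟩ := id hD2
  set L := layer G with hL
  by_cases hdL : d ∈ L
  · refine le_trans le_top (hD.2.2 ▸ (Subgroup.closure_le _).mpr fun a ha => ?_)
    obtain ⟨g, rfl⟩ := cls_exists_conj hD hd ha
    exact (inferInstance : L.Normal).conj_mem _ hdL g
  set q := QuotientGroup.mk' L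
  have hqsurj : Function.Surjective q := QuotientGroup.mk'_surjective L
  have hne : ∀ a ∈ D, q a ≠ 1 := by
    intro a ha h
    obtain ⟨g, rfl⟩ := cls_exists_conj hD ha hd
    exact hdL ((inferInstance : L.Normal).conj_mem _ ((QuotientGroup.eq_one_iff a).mp h) g)
  have hcls : IsThreeTranspositionClass (q '' D) := by
    refine ⟨⟨?_, ?_⟩, ⟨q d, ⟨d, hd, rfl⟩, Set.ext fun x => ⟨?_, ?_⟩⟩, ?_⟩
    · rintro _ ⟨a, ha, rfl⟩
      refine orderOf_eq_prime ?_ (hne a ha)
      rw [sq, ← map_mul, mul_self hD.1 ha, map_one]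
    · rintro _ ⟨a, ha, rfl⟩ _ ⟨b, hb, rfl⟩
      rcases hD.1.2 a ha b hb with h | h
      · left; rw [← map_mul, ← map_pow, h, map_one]
      · right; rw [← map_mul, ← map_pow, h, map_one]
    · rintro ⟨a, ha, rfl⟩
      obtain ⟨g, rfl⟩ := cls_exists_conj hD hd ha
      exact isConj_iff.2 ⟨q g, by simp only [map_mul, map_inv]⟩
    · intro hx
      obtain ⟨k, rfl⟩ := isConj_iff.1 (show IsConj (q d) x from hx)
      obtain ⟨g, rfl⟩ := hqsurj k
      exact ⟨g * d * g⁻¹, cls_conj hD g hd, by simp only [map_mul, map_inv]⟩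
    · rw [← MonoidHom.map_closure, hD.2.2, Subgroup.map_top_of_surjective q hqsurj]
  have hw : ∀ x ∈ q '' D, ∀ y ∈ q '' D, Commute x y → x = y := by
    rintro _ ⟨a, ha, rfl⟩ _ ⟨b, hb, rfl⟩ hc
    have h : a⁻¹ * b ∈ L := layer_or_width hD hD2 h2 h3 ha hb ((QuotientGroup.eq_one_iff _).mp (by
      show q (a * b * a⁻¹ * b⁻¹) = 1
      simp only [map_mul, map_inv]
      rw [hc.eq]; group))
    exact QuotientGroup.eq.mpr h
  set N := (pCore 3 (G ⧸ L)).comap q with hN
  have hmod : ∀ a ∈ D, d⁻¹ * a ∈ N := by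
    intro a ha
    show q (d⁻¹ * a) ∈ pCore 3 (G ⧸ L)
    rw [inv_self hD.1 hd, map_mul]
    exact mul_mem_pCore_three hcls hw ⟨d, hd, rfl⟩ ⟨a, ha, rfl⟩
  have hle : (commutator G).map q ≤ pCore 3 (G ⧸ L) :=
    Subgroup.map_le_iff_le_comap.mpr (commutator_le_of_mod hD hd N hmod)
  haveI : Fact (Nat.Prime 3) := ⟨Nat.prime_three⟩
  have hp3 : IsPGroup 3 ((commutator G).map q : Subgroup (G ⧸ L)) := (isPGroup_pCore 3).to_le hle
  haveI := hp3.isNilpotent
  have hbot := eq_bot_of_perfect_solvable (K := (commutator G).map q)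
    (by rw [← Subgroup.map_commutator, hperf]) inferInstance
  intro x hx
  rw [← QuotientGroup.eq_one_iff]
  exact Subgroup.mem_bot.mp (hbot ▸ Subgroup.mem_map_of_mem q hx)

/-- The hypotheses of Fischer's theorem. -/
theorem fischer_prim (hsol : ∀ N : Subgroup G, N.Normal → Group.IsSolvable N → N = ⊥)
    (hperf : ⁅commutator G, commutator G⁆ = commutator G) (hD : IsThreeTranspositionClass D)
    (hD2 : ∃ a ∈ D, ∃ b ∈ D, a ≠ b) :
    IsPrimitiveUnderConj D ∧ ∃ a ∈ D, ∃ b ∈ D, a ≠ b ∧ Commute a b := by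
  have hcore : ∀ p : ℕ, p.Prime → pCore p G = ⊥ := fun p hp => by
    haveI : Fact p.Prime := ⟨hp⟩
    haveI := (isPGroup_pCore (G := G) p).isNilpotent
    exact hsol _ inferInstance inferInstance
  have h2 : pCore 2 G ≤ Subgroup.center G := hcore 2 Nat.prime_two ▸ bot_le
  have h3 : pCore 3 G ≤ Subgroup.center G := hcore 3 Nat.prime_three ▸ bot_le
  refine ⟨primitive_of_index hD hD2 h2 h3 ?_, pair_of_cores hD hD2 h3⟩
  obtain ⟨d, hd, -⟩ := id hD2
  exact index_le_two_of_mod hD hd _ fun a ha => commutator_eq_layer hD hD2 h2 h3 hperf ▸ mul_mem_commutator hD hd ha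

theorem fischer_single_class (hsol : ∀ N : Subgroup G, N.Normal → Group.IsSolvable N → N = ⊥)
    (hperf : ⁅commutator G, commutator G⁆ = commutator G) (hD : IsThreeTranspositionClass D) {x : G} (hx : x ∈ D) :
    ∀ y ∈ Ds D x, ∀ y' ∈ Ds D x, ∃ g ∈ Subgroup.closure (Ds D x), g * y * g⁻¹ = y' := by
  intro y hy y' hy'
  obtain ⟨hp, hw⟩ := fischer_prim hsol hperf hD ⟨y, hy.1, x, hx, hy.2.1⟩
  exact Ds_transitive hD hp hw hx y hy y' hy'

/-- A commuting subset lies in a Sylow 2-subgroup of any subgroup containing it. -/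
theorem exists_sylow_above (hD : IsThreeTranspositionClass D) {H : Subgroup G} {E : Set G} (hE : E ⊆ D)
    (hc : ∀ a ∈ E, ∀ b ∈ E, Commute a b) (hEH : E ⊆ H) :
    ∃ T : Sylow 2 H, ∀ a (ha : a ∈ E), (⟨a, hEH ha⟩ : H) ∈ T := by
  haveI : Fact (Nat.Prime 2) := ⟨Nat.prime_two⟩
  set K := Subgroup.closure {x : H | (x : G) ∈ E} with hK
  haveI : IsMulCommutative K := Subgroup.isMulCommutative_closure fun a ha b hb => Subtype.ext (hc _ ha _ hb).eq
  have hp : IsPGroup 2 K := by
    rintro ⟨x, hx⟩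
    refine ⟨1, Subtype.ext ?_⟩
    rw [Subgroup.coe_pow, pow_one, sq, Subgroup.coe_one]
    refine Subgroup.closure_induction (p := fun (y : H) _ => y * y = 1) (fun y hy => Subtype.ext (mul_self hD.1 (hE hy)))
      (mul_one _) ?_ ?_ hx
    · intro a b ha hb h1 h2
      have hab : Commute a b := congrArg Subtype.val (mul_comm' (⟨a, ha⟩ : K) ⟨b, hb⟩)
      rw [← sq, hab.mul_pow, sq, sq, h1, h2, mul_one]
    · intro a _ h1; rw [← mul_inv_rev, h1, inv_one]
  obtain ⟨T, hT⟩ := hp.exists_le_sylow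
  exact ⟨T, fun a ha => hT (Subgroup.subset_closure (show (⟨a, hEH ha⟩ : H).1 ∈ E from ha))⟩

omit [Finite G] in
theorem eq_of_max {E E' : Set G} [Finite G] (hmax : ∀ E'' : Set G, E'' ⊆ D → (∀ a ∈ E'', ∀ b ∈ E'', Commute a b) →
    E''.ncard ≤ E.ncard) (h : E ⊆ E') (hE' : E' ⊆ D) (hc : ∀ a ∈ E', ∀ b ∈ E', Commute a b) : E = E' :=
  Set.eq_of_subset_of_ncard_le h (hmax E' hE' hc)

theorem fischer_max_commuting (hsol : ∀ N : Subgroup G, N.Normal → Group.IsSolvable N → N = ⊥)
    (hperf : ⁅commutator G, commutator G⁆ = commutator G) (hD : IsThreeTranspositionClass D) {E : Set G} (hE : E ⊆ D)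
    (hc : ∀ a ∈ E, ∀ b ∈ E, Commute a b)
    (hmax : ∀ E' : Set G, E' ⊆ D → (∀ a ∈ E', ∀ b ∈ E', Commute a b) → E'.ncard ≤ E.ncard) :
    (∃ P : Sylow 2 G, (P : Subgroup G) ≤ Subgroup.normalizer E) ∧
      ∀ a ∈ E, ∀ b ∈ E, ∀ c ∈ E, ∀ d ∈ E, a ≠ b → c ≠ d →
        ∃ g ∈ Subgroup.normalizer E, g * a * g⁻¹ = c ∧ g * b * g⁻¹ = d := by
  haveI : Fact (Nat.Prime 2) := ⟨Nat.prime_two⟩
  constructor
  · obtain ⟨T0, hT0⟩ := exists_sylow_above hD (H := ⊤) hE hc (fun x _ => Subgroup.mem_top x)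
    obtain ⟨T, hT⟩ := ((T0.isPGroup').map (Subgroup.subtype ⊤)).exists_le_sylow
    have hET : ∀ a ∈ E, a ∈ T := fun a ha => hT ⟨⟨a, Subgroup.mem_top a⟩, hT0 a ha, rfl⟩
    have hEq : E = {x | x ∈ D ∧ x ∈ T} := eq_of_max hmax (fun a ha => ⟨hE ha, hET a ha⟩) (fun x hx => hx.1)
      (fun x hx y hy => commute_of_two hD.1 hx.1 hy.1 T.isPGroup' (mul_mem hx.2 hy.2))
    refine ⟨T, fun t ht => Subgroup.mem_set_normalizer_iff.mpr fun x => ?_⟩
    have e : x = t⁻¹ * (t * x * t⁻¹) * t⁻¹⁻¹ := by group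
    rw [hEq]
    refine ⟨fun hx => ⟨cls_conj hD t hx.1, mul_mem (mul_mem ht hx.2) (inv_mem ht)⟩, fun hx => ?_⟩
    rw [e]
    exact ⟨cls_conj hD _ hx.1, mul_mem (mul_mem (inv_mem ht) hx.2) (inv_mem (inv_mem ht))⟩
  · intro a ha b hb c hcE d hdE hab hcd
    obtain ⟨hp, hw⟩ := fischer_prim hsol hperf hD ⟨a, hE ha, b, hE hb, hab⟩
    obtain ⟨g1, rfl⟩ := cls_exists_conj hD (hE ha) (hE hcE)
    obtain ⟨g2, hg2, hg2b⟩ := rank_three_near hD hp hw (cls_conj hD g1 (hE ha)) (g1 * b * g1⁻¹)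
      ⟨cls_conj hD g1 (hE hb), fun h => hab (cj_injective g1 h).symm, (commute_cj_iff g1).mpr (hc a ha b hb)⟩ d
      ⟨hE hdE, hcd.symm, hc _ hcE d hdE⟩
    set g := g2 * g1 with hg
    have hga : g * a * g⁻¹ = g1 * a * g1⁻¹ := by rw [hg, ← cj_cj, hg2.eq, mul_inv_cancel_right]
    have hgb : g * b * g⁻¹ = d := by rw [hg, ← cj_cj, hg2b]
    set c := g1 * a * g1⁻¹
    set E' := (fun x => g * x * g⁻¹) '' E with hE'
    have hE'D : E' ⊆ D := by rintro _ ⟨x, hx, rfl⟩; exact cls_conj hD g (hE hx)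
    have hc' : ∀ x ∈ E', ∀ y ∈ E', Commute x y := by
      rintro _ ⟨x, hx, rfl⟩ _ ⟨y, hy, rfl⟩; exact (commute_cj_iff g).mpr (hc x hx y hy)
    set H := Subgroup.centralizer ({c, d} : Set G) with hH
    have hsub : ∀ F : Set G, (∀ x ∈ F, ∀ y ∈ F, Commute x y) → c ∈ F → d ∈ F → F ⊆ H := by
      intro F hF hcF hdF x hx
      refine Subgroup.mem_centralizer_iff.mpr fun y hy => ?_
      rcases hy with rfl | hy
      · exact (hF _ hcF x hx).eq
      · rw [Set.mem_singleton_iff.mp hy]; exact (hF _ hdF x hx).eq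
    have hEH := hsub E hc hcE hdE
    have hE'H := hsub E' hc' ⟨a, ha, hga⟩ ⟨b, hb, hgb⟩
    obtain ⟨T1, hT1⟩ := exists_sylow_above hD hE hc hEH
    obtain ⟨T2, hT2⟩ := exists_sylow_above hD hE'D hc' hE'H
    obtain ⟨h, hh⟩ := MulAction.exists_smul_eq H T2 T1
    have hEq : E = {x : G | x ∈ D ∧ ∃ hx : x ∈ H, (⟨x, hx⟩ : H) ∈ T1} :=
      eq_of_max hmax (fun x hx => ⟨hE hx, hEH hx, hT1 x hx⟩) (fun x hx => hx.1) (by
        rintro x ⟨hx, hxH, hxT⟩ y ⟨hy, hyH, hyT⟩
        refine commute_of_two hD.1 hx hy ((T1.isPGroup').map H.subtype) ?_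
        exact ⟨⟨x, hxH⟩ * ⟨y, hyH⟩, mul_mem hxT hyT, rfl⟩)
    set k := (h : G) * g with hk
    have himg : (fun x => k * x * k⁻¹) '' E = E := by
      refine Set.eq_of_subset_of_ncard_le ?_ ?_
      · rintro _ ⟨x, hx, rfl⟩
        show k * x * k⁻¹ ∈ E
        rw [hEq, hk, ← cj_cj]
        refine ⟨cls_conj hD _ (cls_conj hD g (hE hx)),
          mul_mem (mul_mem h.2 (hE'H ⟨x, hx, rfl⟩)) (inv_mem h.2), ?_⟩
        show _ ∈ (T1 : Subgroup H)
        rw [← hh, Sylow.coe_subgroup_smul]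
        exact ⟨⟨g * x * g⁻¹, hE'H ⟨x, hx, rfl⟩⟩, hT2 _ ⟨x, hx, rfl⟩, rfl⟩
      · rw [Set.ncard_image_of_injective _ (cj_injective k)]
    refine ⟨k, Subgroup.mem_normalizer_iff_conj_image_eq.mpr himg, ?_, ?_⟩
    · rw [hk, ← cj_cj, hga, ← (Subgroup.mem_centralizer_iff.mp h.2 c (Or.inl rfl)), mul_inv_cancel_right]
    · rw [hk, ← cj_cj, hgb, ← (Subgroup.mem_centralizer_iff.mp h.2 d (Or.inr rfl)), mul_inv_cancel_right]

/-- A non-abelian simple derived group gives primitivity. -/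
theorem simple_commutator_prim (hD : IsThreeTranspositionClass D) (hsimple : IsSimpleGroup (commutator G))
    (hnonab : ∃ x y : commutator G, x * y ≠ y * x) :
    IsPrimitiveUnderConj D ∧ ∃ a ∈ D, ∃ b ∈ D, a ≠ b ∧ Commute a b := by
  have hG'ne : commutator G ≠ ⊥ := (Subgroup.nontrivial_iff_ne_bot _).mp hsimple.toNontrivial
  have hD2 : ∃ a ∈ D, ∃ b ∈ D, a ≠ b := by
    by_contra h
    push Not at h
    obtain ⟨d, hd, -⟩ := hD.2.1
    refine hG'ne (le_bot_iff.mp (commutator_le_of_mod hD hd ⊥ fun a ha => ?_))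
    rw [Subgroup.mem_bot, h a ha d hd, inv_mul_cancel]
  have hcen : ∀ N : Subgroup G, N.Normal → Group.IsSolvable N → N ≤ Subgroup.center G := by
    intro N hN hs
    haveI := hs
    have hle : ⁅N, (⊤ : Subgroup G)⁆ ≤ N ⊓ commutator G :=
      le_inf (Subgroup.commutator_le_left _ _) (Subgroup.commutator_mono le_top le_rfl)
    haveI : ((N ⊓ commutator G).subgroupOf (commutator G)).Normal :=
      Subgroup.normal_subgroupOf (N := N ⊓ commutator G)
    rcases hsimple.eq_bot_or_eq_top_of_normal ((N ⊓ commutator G).subgroupOf (commutator G)) inferInstance with h | h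
    · rw [Subgroup.subgroupOf_eq_bot] at h
      have hb : ⁅N, (⊤ : Subgroup G)⁆ = ⊥ := le_bot_iff.mp (fun x hx =>
        (Subgroup.disjoint_def.mp h (hle hx) (hle hx).2 ▸ Subgroup.one_mem ⊥ : x ∈ (⊥ : Subgroup G)))
      intro x hx
      refine Subgroup.mem_center_iff.mpr fun y => ?_
      exact Subgroup.mem_centralizer_iff.mp (Subgroup.commutator_eq_bot_iff_le_centralizer.mp hb hx) y
        (Subgroup.mem_top y)
    · exfalso
      rw [Subgroup.subgroupOf_eq_top] at h
      have hsG : Group.IsSolvable (commutator G) :=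
        Group.isSolvable_of_isSolvable_injective (Subgroup.inclusion_injective (h.trans inf_le_left))
      obtain ⟨x, y, hxy⟩ := hnonab
      haveI := hsimple
      exact hxy ((IsSimpleGroup.comm_iff_isSolvable (G := commutator G)).mpr hsG x y)
  haveI h2f : Fact (Nat.Prime 2) := ⟨Nat.prime_two⟩
  have h2 : pCore 2 G ≤ Subgroup.center G := by
    haveI := (isPGroup_pCore (G := G) 2).isNilpotent
    exact hcen _ inferInstance inferInstance
  haveI : Fact (Nat.Prime 3) := ⟨Nat.prime_three⟩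
  have h3 : pCore 3 G ≤ Subgroup.center G := by
    haveI := (isPGroup_pCore (G := G) 3).isNilpotent
    exact hcen _ inferInstance inferInstance
  refine ⟨primitive_of_index hD hD2 h2 h3 ?_, pair_of_cores hD hD2 h3⟩
  haveI : ((layer G).subgroupOf (commutator G)).Normal := Subgroup.normal_subgroupOf
  have heq : commutator G = layer G := by
    refine le_antisymm ?_ layer_le_commutator
    rcases hsimple.eq_bot_or_eq_top_of_normal ((layer G).subgroupOf (commutator G)) inferInstance with h | h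
    · rw [Subgroup.subgroupOf_eq_bot] at h
      exact absurd (disjoint_self.mp (h.mono_right layer_le_commutator)) (layer_ne_bot hD hD2 h2 h3)
    · exact Subgroup.subgroupOf_eq_top.mp h
  obtain ⟨d, hd, -⟩ := id hD2
  exact index_le_two_of_mod hD hd _ fun a ha => heq ▸ mul_mem_commutator hD hd ha

theorem rank_three (hD : IsThreeTranspositionClass D) (hp : IsPrimitiveUnderConj D)
    (hw : ∃ a ∈ D, ∃ b ∈ D, a ≠ b ∧ Commute a b) {a : G} (ha : a ∈ D) :
    (∃ b ∈ D, b ≠ a ∧ Commute a b) ∧ (∃ c ∈ D, ¬ Commute a c) ∧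
      (∀ b ∈ D, ∀ b' ∈ D, b ≠ a → b' ≠ a → Commute a b → Commute a b' → ∃ g : G, Commute g a ∧ g * b * g⁻¹ = b') ∧
      (∀ c ∈ D, ∀ c' ∈ D, ¬ Commute a c → ¬ Commute a c' → ∃ g : G, Commute g a ∧ g * c * g⁻¹ = c') := by
  obtain ⟨e, he⟩ := exists_partner hD hw ha
  exact ⟨⟨e, he.1, he.2.1, he.2.2⟩, exists_noncommute hD hp.2.1 ha,
    fun b hb b' hb' h1 h1' h2 h2' => rank_three_near hD hp hw ha b ⟨hb, h1, h2⟩ b' ⟨hb', h1', h2'⟩,
    fun c hc c' hc' h h' => rank_three_far hD hp hw ha c hc h c' hc' h'⟩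

theorem quasisimple_center_bot {L : Subgroup G} (hL : IsQuasisimple L)
    (h : (Subgroup.center L).map L.subtype ≤ ⊥) : IsSimpleGroup L := by
  have hc : Subgroup.center L = ⊥ := by
    rw [eq_bot_iff]
    intro x hx
    exact Subgroup.mem_bot.mpr (Subtype.ext (Subgroup.mem_bot.mp (h ⟨x, hx, rfl⟩)))
  haveI := hL.2
  haveI := isQuasisimple_nontrivial hL
  exact IsSimpleGroup.isSimpleGroup_of_surjective (f := (QuotientGroup.quotientBot.toMonoidHom.comp
    (QuotientGroup.quotientMulEquivOfEq hc).toMonoidHom)) (by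
      exact (QuotientGroup.quotientBot.surjective).comp (QuotientGroup.quotientMulEquivOfEq hc).surjective)

theorem equivalences (hD : IsThreeTranspositionClass D) (hZ : Subgroup.center G = ⊥)
    (hw : ∃ a ∈ D, ∃ b ∈ D, a ≠ b ∧ Commute a b) :
    (IsSimpleGroup (commutator G) ↔ IsPrimitiveUnderConj D) ∧
      (IsPrimitiveUnderConj D ↔ (pCore 2 G = ⊥ ∧ pCore 3 G = ⊥ ∧ (commutingGraph D).Connected)) := by
  have hD2 : ∃ a ∈ D, ∃ b ∈ D, a ≠ b := by
    obtain ⟨a, ha, b, hb, hab, -⟩ := hw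
    exact ⟨a, ha, b, hb, hab⟩
  refine ⟨⟨fun hs => ?_, fun hp => ?_⟩, ⟨fun hp => ?_, fun h => ?_⟩⟩
  · by_cases hna : ∃ x y : commutator G, x * y ≠ y * x
    · exact (simple_commutator_prim hD hs hna).1
    exfalso
    push Not at hna
    obtain ⟨a, ha, b, hb, hab, hc⟩ := hw
    have hz : a * b ∈ commutator G := inv_self hD.1 ha ▸ mul_mem_commutator hD ha hb
    have hz1 : a * b ≠ 1 := mul_ne_one hD.1 ha hb hab
    set z : commutator G := ⟨a * b, hz⟩
    haveI : (Subgroup.zpowers z).Normal := ⟨fun x hx y => by rwa [hna y x, mul_inv_cancel_right]⟩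
    have htop : Subgroup.zpowers z = ⊤ := by
      rcases hs.eq_bot_or_eq_top_of_normal (Subgroup.zpowers z) inferInstance with h | h
      · exact absurd (congrArg Subtype.val (Subgroup.zpowers_eq_bot.mp h)) hz1
      · exact h
    have hz2 : z * z = 1 := Subtype.ext (by
      show a * b * (a * b) = 1
      rw [← sq, sq_of_commute hD.1 ha hb hc])
    have hall : ∀ x : commutator G, x = 1 ∨ x = z := by
      intro x
      obtain ⟨k, rfl⟩ := Subgroup.mem_zpowers_iff.mp (htop ▸ Subgroup.mem_top x)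
      rcases Int.even_or_odd k with ⟨m, rfl⟩ | ⟨m, rfl⟩
      · left; rw [← two_mul, zpow_mul, zpow_two, hz2, one_zpow]
      · right; rw [zpow_add, zpow_mul, zpow_two, hz2, one_zpow, one_mul, zpow_one]
    refine hz1 (Subgroup.mem_bot.mp (hZ ▸ Subgroup.mem_center_iff.mpr fun g => ?_))
    rcases hall ⟨g * (a * b) * g⁻¹, (inferInstance : (commutator G).Normal).conj_mem _ hz g⟩ with h | h
    · exact absurd (conj_eq_one_iff.mp (congrArg Subtype.val h)) hz1
    · exact mul_inv_eq_iff_eq_mul.mp (congrArg Subtype.val h)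
  · obtain ⟨h2, h3⟩ := cores_of_prim hD hp hw
    have hconn := graph_connected hD hp hw
    have hind := index_le_two_of_connected hD hD2 h2 h3 hconn
    have heq : commutator G = layer G := by
      refine le_antisymm ?_ layer_le_commutator
      obtain ⟨d, hd, -⟩ := id hD2
      refine commutator_le_of_mod hD hd _ fun a ha => ?_
      obtain ⟨w⟩ := hconn.preconnected ⟨d, hd⟩ ⟨a, ha⟩
      suffices ∀ (x y : D) (_ : (commutingGraph D).Walk x y), (x : G)⁻¹ * y ∈ layer G from this _ _ w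
      intro x y w
      induction w with
      | nil => simp [one_mem]
      | @cons u v w hadj _ ih =>
        have hc : Commute (u : G) v := by
          rcases ((SimpleGraph.fromRel_adj _ _ _).mp hadj).2 with h | h
          exacts [h, h.symm]
        have := mul_mem (mul_mem_layer hD hD2 h2 h3 u.2 v.2 hc) ih
        rw [inv_self hD.1 v.2, mul_assoc, ← mul_assoc (v : G) v, mul_self hD.1 v.2, one_mul] at this
        rwa [inv_self hD.1 u.2]
    rw [heq]
    exact quasisimple_center_bot (layer_quasisimple hD hD2 h2 h3) (hZ ▸ layer_map_center_le hD h2 h3)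
  · obtain ⟨h2, h3⟩ := cores_of_prim hD hp hw
    exact ⟨le_bot_iff.mp (hZ ▸ h2), le_bot_iff.mp (hZ ▸ h3), graph_connected hD hp hw⟩
  · obtain ⟨h2, h3, hconn⟩ := h
    have h2' : pCore 2 G ≤ Subgroup.center G := h2 ▸ bot_le
    have h3' : pCore 3 G ≤ Subgroup.center G := h3 ▸ bot_le
    exact primitive_of_index hD hD2 h2' h3' (index_le_two_of_connected hD hD2 h2' h3' hconn)

theorem layer_eq_of_quasisimple (hD : IsThreeTranspositionClass D) (L : Subgroup G) [hLn : L.Normal]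
    (hL : IsQuasisimple L) : layer G = L := by
  have hc : IsComponent L := ⟨hLn.isSubnormal, hL⟩
  exact le_antisymm (sSup_le fun X hX => (components_unique hD hX hc).le) (le_layer hc)

end CfsgThreeTrans
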