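/-
The centraliser of a transposition is generated by its partners, from local hypotheses.
-/
import Cfsg.Agent.Lib.ThreeTrans.Rank3

set_option autoImplicit false

namespace CfsgThreeTrans

open Cfsg CfsgLib

universe u

variable {G : Type u} [Group G] {D : Set G}

/-- The local hypotheses: `base` says that in the partner group the centraliser of a partner is generated by
the common partners, `bridge` gives a member seeing two partners but neither of two commuting members, and
`meet` gives a common partner seeing a given member. -/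
structure LocalHyp (D : Set G) : Prop where
  mem_self : ∀ t ∈ D, t ∈ Subgroup.closure (Ds D t)
  base : ∀ t ∈ D, ∀ u ∈ Ds D t, ∀ g ∈ Subgroup.closure (Ds D t), Commute g u →
    g ∈ Subgroup.closure ((Ds D t ∩ Ds D u) ∪ {t, u})
  bridge : ∀ t ∈ D, ∀ y ∈ Ds D t, ∀ b ∈ Ds D t ∩ Ds D y, ∀ b' ∈ Ds D t ∩ Ds D y, b ≠ b' →
    ∃ f ∈ D, Commute b f ∧ Commute b' f ∧ ¬ Commute t f ∧ ¬ Commute y f
  meet : ∀ t ∈ D, ∀ c ∈ D, ¬ Commute t c → ∀ y ∈ D, ∃ a ∈ Ds D t ∩ Ds D c, a ≠ y ∧ Commute a y

/-- Conjugating one of two noncommuting members onto the other inside the group they generate. -/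
theorem cj_pair (hD : IsThreeTranspositionSet D) {x y : G} (hx : x ∈ D) (hy : y ∈ D) (hxy : ¬ Commute x y) :
    (x * y) * x * (x * y)⁻¹ = y := by
  rw [mul_inv_rev, inv_self hD hx, inv_self hD hy]
  calc x * y * x * (y * x) = (x * y * x) * y * x := by simp only [mul_assoc]
    _ = (y * x * y) * y * x := by rw [braid hD hx hy hxy]
    _ = y := by simp only [mul_assoc, mul_mul_cancel_self (mul_self hD hy), mul_self hD hx, mul_one]

variable [Finite G]

theorem local_in_H (hD : IsThreeTranspositionClass D) (hL : LocalHyp D) {t b g : G} (ht : t ∈ D)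
    (hb : b ∈ Ds D t) (hg : g ∈ Subgroup.closure (Ds D b)) (hgt : Commute g t) :
    g ∈ Subgroup.closure (Ds D t) := by
  refine (Subgroup.closure_le _).mpr ?_ (hL.base b hb.1 t ⟨ht, fun e => hb.2.1 e.symm, hb.2.2.symm⟩ g hg hgt)
  rintro x (hx | rfl | rfl)
  · exact Subgroup.subset_closure hx.2
  · exact Subgroup.subset_closure hb
  · exact hL.mem_self _ ht

/-- Two local elements moving `t` to the same member differ by an element of the partner group. -/
theorem local_glue (hD : IsThreeTranspositionClass D) (hL : LocalHyp D) {t b b' k k' : G} (ht : t ∈ D)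
    (hb : b ∈ Ds D t) (hb' : b' ∈ Ds D t) (hk : k ∈ Subgroup.closure (Ds D b))
    (hk' : k' ∈ Subgroup.closure (Ds D b')) (he : k * t * k⁻¹ = k' * t * k'⁻¹) :
    k⁻¹ * k' ∈ Subgroup.closure (Ds D t) := by
  have cm : ∀ p q : G, p * t * p⁻¹ = q * t * q⁻¹ → Commute (p⁻¹ * q) t := by
    intro p q e
    show p⁻¹ * q * t = t * (p⁻¹ * q)
    calc p⁻¹ * q * t = p⁻¹ * (q * t * q⁻¹) * q := by group
      _ = p⁻¹ * (p * t * p⁻¹) * q := by rw [e]
      _ = t * (p⁻¹ * q) := by group
  by_cases hbb : b = b'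
  · subst hbb
    exact local_in_H hD hL ht hb (mul_mem (inv_mem hk) hk') (cm _ _ he)
  -- a connecting element lying in both partner groups
  suffices ∃ m, m ∈ Subgroup.closure (Ds D b) ∧ m ∈ Subgroup.closure (Ds D b') ∧ m * t * m⁻¹ = k * t * k⁻¹ by
    obtain ⟨m, hm, hm', hmt⟩ := this
    have h1 := local_in_H hD hL ht hb (mul_mem (inv_mem hk) hm) (cm _ _ hmt.symm)
    have h2 := local_in_H hD hL ht hb' (mul_mem (inv_mem hm') hk') (cm _ _ (hmt.trans he))
    have := mul_mem h1 h2
    rwa [show k⁻¹ * m * (m⁻¹ * k') = k⁻¹ * k' by group] at this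
  have fixes : ∀ {p c : G}, p ∈ Subgroup.closure (Ds D c) → ∀ x, Commute c x → Commute c (p * x * p⁻¹) := by
    intro p c hp x hcx
    have hpc : Commute c p := (closure_Ds_commute hp).symm
    exact (hpc.mul_right hcx).mul_right hpc.inv_right
  set y := k * t * k⁻¹ with hy
  have hyD : y ∈ D := cls_conj hD k ht
  have hby : Commute b y := fixes hk t hb.2.2.symm
  have hb'y : Commute b' y := by rw [he]; exact fixes hk' t hb'.2.2.symm
  have hyb : y ≠ b := fun e => hb.2.1 (cj_injective k (by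
    show k * b * k⁻¹ = y
    rw [(closure_Ds_commute hk).eq, mul_inv_cancel_right, e]))
  have hyb' : y ≠ b' := fun e => hb'.2.1 (cj_injective k' (by
    show k' * b' * k'⁻¹ = k' * t * k'⁻¹
    rw [(closure_Ds_commute hk').eq, mul_inv_cancel_right, ← he, e]))
  have inb : ∀ {c x : G}, x ∈ D → x ≠ c → Commute c x → x ∈ Subgroup.closure (Ds D c) :=
    fun hx hne hc => Subgroup.subset_closure ⟨hx, hne, hc⟩
  have tb : t ≠ b := fun e => hb.2.1 e.symm
  have tb' : t ≠ b' := fun e => hb'.2.1 e.symm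
  by_cases hty : t = y
  · exact ⟨1, one_mem _, one_mem _, by simpa using hty⟩
  by_cases hcty : Commute t y
  · obtain ⟨f, hfD, hbf, hb'f, htf, hyf⟩ := hL.bridge t ht y ⟨hyD, fun e => hty e.symm, hcty⟩ b
      ⟨hb, hb.1, fun e => hyb e.symm, hby.symm⟩ b' ⟨hb', hb'.1, fun e => hyb' e.symm, hb'y.symm⟩ hbb
    have hfb : f ≠ b := fun e => htf (e ▸ hb.2.2)
    have hfb' : f ≠ b' := fun e => htf (e ▸ hb'.2.2)
    refine ⟨f * y * (t * f), ?_, ?_, ?_⟩
    · exact mul_mem (mul_mem (inb hfD hfb hbf) (inb hyD hyb hby)) (mul_mem (inb ht tb hb.2.2.symm) (inb hfD hfb hbf))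
    · exact mul_mem (mul_mem (inb hfD hfb' hb'f) (inb hyD hyb' hb'y))
        (mul_mem (inb ht tb' hb'.2.2.symm) (inb hfD hfb' hb'f))
    · rw [← cj_cj, cj_pair hD.1 ht hfD htf, cj_pair hD.1 hfD hyD fun e => hyf e.symm]
  · exact ⟨t * y, mul_mem (inb ht tb hb.2.2.symm) (inb hyD hyb hby),
      mul_mem (inb ht tb' hb'.2.2.symm) (inb hyD hyb' hb'y), cj_pair hD.1 ht hyD hcty⟩

/-- The centraliser of a transposition is generated by its partners. -/
theorem centralizer_eq_closure (hD : IsThreeTranspositionClass D) (hp : IsPrimitiveUnderConj D)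
    (hw : ∃ a ∈ D, ∃ b ∈ D, a ≠ b ∧ Commute a b) (hL : LocalHyp D) {t : G} (ht : t ∈ D) {g : G}
    (hg : Commute g t) : g ∈ Subgroup.closure (Ds D t) := by
  set H := Subgroup.closure (Ds D t) with hH
  obtain ⟨c, hc, htc⟩ := exists_noncommute hD hp.2.1 ht
  obtain ⟨b₀, hb₀, -, -⟩ := hL.meet t ht c hc htc t ht
  set X : Set G := {x | ∃ b ∈ Ds D t, ∃ k ∈ Subgroup.closure (Ds D b), ∃ h ∈ H, x = k * h} with hX
  -- reduce any local element to a prescribed partner group
  have reloc : ∀ {b b' k : G}, b ∈ Ds D t → b' ∈ Ds D t → k ∈ Subgroup.closure (Ds D b) →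
      Commute b' (k * t * k⁻¹) → k * t * k⁻¹ ≠ b' →
      ∃ k' ∈ Subgroup.closure (Ds D b'), ∃ h ∈ H, k = k' * h := by
    intro b b' k hb hb' hk hcomm hne
    obtain ⟨k', hk', he⟩ := Ds_transitive hD hp hw hb'.1 t ⟨ht, fun e => hb'.2.1 e.symm, hb'.2.2.symm⟩
      (k * t * k⁻¹) ⟨cls_conj hD k ht, hne, hcomm⟩
    exact ⟨k', hk', k'⁻¹ * k, local_glue hD hL ht hb' hb hk' hk he, by group⟩
  have hone : (1 : G) ∈ X := ⟨b₀, hb₀.1, 1, one_mem _, 1, one_mem _, (one_mul _).symm⟩
  have hA : ∀ e ∈ Ds D t, ∀ x ∈ X, e * x ∈ X := by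
    rintro e he _ ⟨b, hb, k, hk, h, hh, rfl⟩
    have hee := mul_self hD.1 he.1
    have heb : e * b * e⁻¹ ∈ Ds D t := by
      refine ⟨cls_conj hD e hb.1, fun h' => hb.2.1 (cj_injective e (h'.trans ?_)), ?_⟩
      · show t = e * t * e⁻¹
        rw [← he.2.2.eq, mul_inv_cancel_right]
      · exact (he.2.2.mul_right hb.2.2).mul_right he.2.2.inv_right
    refine ⟨_, heb, e * k * e⁻¹, ?_, e * h, mul_mem (Subgroup.subset_closure he) hh, by group⟩
    have hle : Subgroup.closure (Ds D b) ≤ (Subgroup.closure (Ds D (e * b * e⁻¹))).comap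
        (MulAut.conj e).toMonoidHom := (Subgroup.closure_le _).mpr fun z hz => Subgroup.subset_closure
          ⟨cls_conj hD e hz.1, fun h' => hz.2.1 (cj_injective e h'), (commute_cj_iff e).mpr hz.2.2⟩
    exact hle hk
  have hC : ∀ x ∈ X, c * x ∈ X := by
    rintro _ ⟨b, hb, k, hk, h, hh, rfl⟩
    set y := k * t * k⁻¹
    obtain ⟨b', ⟨hb't, hb'c⟩, hb'ne, hb'y⟩ := hL.meet t ht c hc htc y (cls_conj hD k ht)
    have hcb' : c ∈ Subgroup.closure (Ds D b') :=
      Subgroup.subset_closure ⟨hc, fun e => hb'c.2.1 e.symm, hb'c.2.2.symm⟩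
    obtain ⟨k', hk', h', hh', rfl⟩ := reloc hb hb't hk hb'y fun e => hb'ne e.symm
    exact ⟨b', hb't, c * k', mul_mem hcb' hk', h' * h, mul_mem hh' hh, by group⟩
  have hgen : Subgroup.closure (insert c (Ds D t)) = ⊤ := by
    set M := Subgroup.closure (insert c {y : G | y ∈ D ∧ Commute t y}) with hM
    have hDM : IsDSubgroup D M := by
      refine le_antisymm ((Subgroup.closure_le _).mpr fun x hx => hx.2) ((Subgroup.closure_le _).mpr fun x hx => ?_)
      refine Subgroup.subset_closure ⟨?_, Subgroup.subset_closure hx⟩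
      rcases hx with rfl | hx
      exacts [hc, hx.1]
    rw [eq_top_iff]
    rcases (partner_subgroup_maximal hD hp hw ht).2 M hDM (Subgroup.closure_mono (Set.subset_insert _ _)) with h | h
    · have hle : Subgroup.closure {y : G | y ∈ D ∧ Commute t y} ≤ Subgroup.centralizer ({t} : Set G) :=
        (Subgroup.closure_le _).mpr fun y hy => Subgroup.mem_centralizer_singleton_iff.mpr hy.2.eq.symm
      exact absurd (Subgroup.mem_centralizer_singleton_iff.mp
        (hle (h ▸ Subgroup.subset_closure (Set.mem_insert c _))) : Commute c t).symm htc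
    · rw [← h, Subgroup.closure_le]
      rintro x (rfl | ⟨hx, htx⟩)
      · exact Subgroup.subset_closure (Set.mem_insert _ _)
      · by_cases e : x = t
        · subst e
          exact Subgroup.closure_mono (Set.subset_insert _ _) (hL.mem_self x hx)
        · exact Subgroup.subset_closure (Set.mem_insert_of_mem _ ⟨hx, e, htx⟩)
  have hall : ∀ x : G, x ∈ X := by
    intro x
    have hfin : x ∈ Submonoid.closure (insert c (Ds D t)) := by
      have hx : x ∈ (Subgroup.closure (insert c (Ds D t))).toSubmonoid := hgen ▸ Subgroup.mem_top x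
      rwa [Subgroup.closure_toSubmonoid_of_finite] at hx
    induction hfin using Submonoid.closure_induction_left with
    | one => exact hone
    | mul_left e he y _ ih =>
      rcases he with rfl | he
      exacts [hC y ih, hA e he y ih]
  obtain ⟨b, hb, k, hk, h, hh, rfl⟩ := hall g
  refine mul_mem (local_in_H hD hL ht hb hk ?_) hh
  have := hg.mul_left (closure_Ds_commute hh).inv_left
  rwa [mul_inv_cancel_right] at this

end CfsgThreeTrans
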