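/-
Descent to the subgroup generated by the partners of a transposition, for groups with central cores.
-/
import Cfsg.Agent.Lib.ThreeTrans.Fischer

set_option autoImplicit false

namespace CfsgThreeTrans

open Cfsg CfsgLib
open scoped commutatorElement

universe u v

variable {G : Type u} [Group G] [Finite G] {D : Set G}

/-- The layer lies in the closure of any of its invariant sets that meets the class. -/
theorem layer_le_closure (hD : IsThreeTranspositionClass D) (hD2 : ∃ a ∈ D, ∃ b ∈ D, a ≠ b)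
    (h2 : pCore 2 G ≤ Subgroup.center G) (h3 : pCore 3 G ≤ Subgroup.center G) {O : Set G} {d : G} (hd : d ∈ D)
    (hdO : d ∈ O) (hinv : ∀ g ∈ layer G, ∀ y ∈ O, g * y * g⁻¹ ∈ O) : layer G ≤ Subgroup.closure O := by
  set L := layer G
  set R := Subgroup.closure O with hR
  have hRinv : ∀ g ∈ L, ∀ x ∈ R, g * x * g⁻¹ ∈ R := by
    intro g hg x hx
    refine Subgroup.closure_induction (p := fun x _ => g * x * g⁻¹ ∈ R)
      (fun y hy => Subgroup.subset_closure (hinv g hg y hy)) (by simp [one_mem]) ?_ ?_ hx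
    · intro a b _ _ ha hb
      rw [show g * (a * b) * g⁻¹ = (g * a * g⁻¹) * (g * b * g⁻¹) by group]
      exact mul_mem ha hb
    · intro a _ ha
      rw [show g * a⁻¹ * g⁻¹ = (g * a * g⁻¹)⁻¹ by group]
      exact inv_mem ha
  haveI : (R.subgroupOf L).Normal := ⟨fun z hz n => hRinv n n.2 z hz⟩
  rcases quasisimple_normal_le_center_or_eq_top (layer_quasisimple hD hD2 h2 h3) (R.subgroupOf L) with h | h
  · exfalso
    rcases layer_cases hD hd L le_rfl layer_commutator_self with hh | ⟨-, g, hg, hnc⟩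
    · exact layer_not_commute hD hD2 h2 h3 hd hh
    have hL : d * (g * d * g⁻¹) ∈ L := by
      have h1 := mul_mem ((inferInstance : L.Normal).conj_mem g hg d) (inv_mem hg)
      rw [inv_self hD.1 hd] at h1
      simpa only [← mul_assoc] using h1
    have hRm : d * (g * d * g⁻¹) ∈ R :=
      mul_mem (Subgroup.subset_closure hdO) (Subgroup.subset_closure (hinv g hg d hdO))
    have hz : d * (g * d * g⁻¹) ∈ Subgroup.center G :=
      layer_map_center_le hD h2 h3 ⟨⟨_, hL⟩, h (Subgroup.mem_subgroupOf.mpr hRm), rfl⟩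
    apply hnc
    have e := Subgroup.mem_center_iff.mp hz d
    rw [← mul_assoc, mul_self hD.1 hd, one_mul] at e
    show g * d * g⁻¹ * d = d * (g * d * g⁻¹)
    conv_lhs => rw [e]
    simp only [mul_assoc, mul_self hD.1 hd, mul_one]
  · exact Subgroup.subgroupOf_eq_top.mp h

theorem isClass_of_orbit {K : Subgroup G} {S : Set G} (hS : IsThreeTranspositionSet S)
    (hK : Subgroup.closure S = K) (hcl : ∀ g ∈ K, ∀ x ∈ S, g * x * g⁻¹ ∈ S) {d : G} (hd : d ∈ S)
    (htr : ∀ x ∈ S, ∃ g ∈ K, g * d * g⁻¹ = x) :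
    IsThreeTranspositionClass {x : K | (x : G) ∈ S} := by
  have hdK : d ∈ K := hK ▸ Subgroup.subset_closure hd
  refine ⟨⟨fun x hx => ?_, fun x hx y hy => ?_⟩, ⟨⟨d, hdK⟩, hd, Set.ext fun x => ⟨fun hx => ?_, fun hx => ?_⟩⟩, ?_⟩
  · rw [← Subgroup.orderOf_coe]; exact hS.1 _ hx
  · rcases hS.2 _ hx _ hy with h | h
    · exact Or.inl (Subtype.ext (by simpa using h))
    · exact Or.inr (Subtype.ext (by simpa using h))
  · obtain ⟨g, hg, hgx⟩ := htr _ hx
    exact isConj_iff.2 ⟨⟨g, hg⟩, Subtype.ext hgx⟩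
  · obtain ⟨g, rfl⟩ := isConj_iff.1 (show IsConj _ x from hx)
    exact hcl g g.2 d hd
  · refine eq_top_iff.mpr fun x _ => ?_
    obtain ⟨x, hx⟩ := x
    have hx' : x ∈ Subgroup.closure S := hK ▸ hx
    refine Subgroup.closure_induction
      (p := fun y _ => ∀ h : y ∈ K, (⟨y, h⟩ : K) ∈ Subgroup.closure {z : K | (z : G) ∈ S})
      (fun y hy h => Subgroup.subset_closure hy) (fun _ => one_mem _) ?_ ?_ hx' hx
    · intro a b ha hb iha ihb _
      exact mul_mem (iha (hK ▸ ha)) (ihb (hK ▸ hb))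
    · intro a ha iha _
      exact inv_mem (iha (hK ▸ ha))

/-- With central cores the partners of a member form one class of the subgroup they generate. -/
theorem Ds_transitive_of_cores (hD : IsThreeTranspositionClass D) (h2 : pCore 2 G ≤ Subgroup.center G)
    (h3 : pCore 3 G ≤ Subgroup.center G) {d : G} (hd : d ∈ D) :
    ∀ a ∈ Ds D d, ∀ b ∈ Ds D d, ∃ g ∈ Subgroup.closure (Ds D d), g * a * g⁻¹ = b := by
  intro a0 ha0 b0 hb0
  have hD2 : ∃ a ∈ D, ∃ b ∈ D, a ≠ b := ⟨a0, ha0.1, d, hd, ha0.2.1⟩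
  set L := layer G
  set O := {y : G | ∃ g ∈ L, g * d * g⁻¹ = y} with hO
  set R := Subgroup.closure O with hR
  have hOD : O ⊆ D := by rintro _ ⟨g, -, rfl⟩; exact cls_conj hD g hd
  have hdO : d ∈ O := ⟨1, one_mem _, by simp⟩
  have hOL : ∀ g ∈ L, ∀ y ∈ O, g * y * g⁻¹ ∈ O := by
    rintro g hg _ ⟨k, hk, rfl⟩
    exact ⟨g * k, mul_mem hg hk, (cj_cj g k d).symm⟩
  have hLR : L ≤ R := layer_le_closure hD hD2 h2 h3 hd hdO hOL
  have hOdL : ∀ y ∈ O, d * y ∈ L := by
    rintro _ ⟨g, hg, rfl⟩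
    have h1 := mul_mem ((inferInstance : L.Normal).conj_mem g hg d) (inv_mem hg)
    rw [inv_self hD.1 hd] at h1
    simpa only [← mul_assoc] using h1
  have hC : ∀ x ∈ D, d * x ∈ L → x ∈ O := by
    intro x hx hdx
    by_contra hxO
    have hcom : ∀ y ∈ O, Commute x y := by
      intro y hy
      by_contra hnc
      apply hxO
      have hyx : y * x ∈ L := by
        have := mul_mem (inv_mem (hOdL y hy)) hdx
        rwa [mul_inv_rev, inv_self hD.1 hd, inv_self hD.1 (hOD hy), mul_assoc,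
          mul_mul_cancel_self (mul_self hD.1 hd)] at this
      have : (y * x) * y * (y * x)⁻¹ = x := by
        rw [mul_inv_rev, inv_self hD.1 hx, inv_self hD.1 (hOD hy)]
        calc y * x * y * (x * y) = (y * x * y) * x * y := by simp only [mul_assoc]
          _ = (x * y * x) * x * y := by rw [braid hD.1 (hOD hy) hx (fun h => hnc h.symm)]
          _ = x := by simp only [mul_assoc, mul_mul_cancel_self (mul_self hD.1 hx), mul_self hD.1 (hOD hy), mul_one]
      exact this ▸ hOL _ hyx y hy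
    have hle : R ≤ Subgroup.centralizer ({x} : Set G) :=
      (Subgroup.closure_le _).mpr fun y hy => Subgroup.mem_centralizer_singleton_iff.mpr (hcom y hy).eq.symm
    have hxc : x ∈ Subgroup.center G := centralizer_layer_le hD h2 h3 (Subgroup.mem_centralizer_iff.mpr fun g hg =>
      Subgroup.mem_centralizer_singleton_iff.mp (hle (hLR hg)))
    obtain ⟨e, he, hne⟩ := exists_noncommute hD hD2 hx
    exact hne (Subgroup.mem_center_iff.mp hxc e).symm
  have hDsO : ∀ y ∈ Ds D d, y ∈ O := fun y hy => hC y hy.1 (mul_mem_layer hD hD2 h2 h3 hd hy.1 hy.2.2)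
  have hOR : ∀ g ∈ R, ∀ y ∈ O, g * y * g⁻¹ ∈ O := by
    intro g hg
    refine Subgroup.closure_induction'' (p := fun g _ => ∀ y ∈ O, g * y * g⁻¹ ∈ O) ?_ ?_ ?_ ?_ hg
    · intro x hx y hy
      refine hC _ (cls_conj hD x (hOD hy)) ?_
      have := mul_mem (mul_mem (hOdL x hx) (inv_mem (hOdL y hy))) (hOdL x hx)
      rw [mul_inv_rev, inv_self hD.1 hd, inv_self hD.1 (hOD hy)] at this
      rw [inv_self hD.1 (hOD hx)]
      simpa only [mul_assoc, mul_mul_cancel_self (mul_self hD.1 hd)] using this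
    · intro x hx y hy
      rw [inv_self hD.1 (hOD hx)]
      refine hC _ ?_ ?_
      · exact cls_conj hD x (hOD hy)
      · have := mul_mem (mul_mem (hOdL x hx) (inv_mem (hOdL y hy))) (hOdL x hx)
        rw [mul_inv_rev, inv_self hD.1 hd, inv_self hD.1 (hOD hy)] at this
        rw [inv_self hD.1 (hOD hx)]
        simpa only [mul_assoc, mul_mul_cancel_self (mul_self hD.1 hd)] using this
    · intro y hy; simpa using hy
    · intro x y _ _ hx hy z hz
      rw [← cj_cj]
      exact hx _ (hy z hz)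
  set E := {x : R | (x : G) ∈ O} with hE
  have hcls : IsThreeTranspositionClass E :=
    isClass_of_orbit ⟨fun x hx => hD.1.1 x (hOD hx), fun x hx y hy => hD.1.2 x (hOD hx) y (hOD hy)⟩ hR.symm hOR hdO
      (by rintro _ ⟨g, hg, rfl⟩; exact ⟨g, hLR hg, rfl⟩)
  set L' := L.subgroupOf R with hL'
  haveI : L'.Normal := inferInstance
  have hLc : IsComponent L' := isComponent_subgroupOf
    ⟨(inferInstance : L.Normal).isSubnormal, layer_quasisimple hD hD2 h2 h3⟩ hLR
  have hcore : ∀ p : ℕ, p.Prime → pCore p R ≤ Subgroup.center R := by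
    intro p hp z hz
    have hzG : (z : G) ∈ Subgroup.center G := centralizer_layer_le hD h2 h3 (Subgroup.mem_centralizer_iff.mpr fun g hg => by
      have h1 : (⟨g, hLR hg⟩ : R) ∈ layer R := le_layer hLc (Subgroup.mem_subgroupOf.mpr hg)
      exact congrArg Subtype.val (Subgroup.mem_centralizer_iff.mp (layer_le_centralizer_fitting h1) z
        (pCore_le_fittingSubgroup hp hz)).symm)
    exact Subgroup.mem_center_iff.mpr fun w => Subtype.ext (Subgroup.mem_center_iff.mp hzG w)
  set d' : R := ⟨d, Subgroup.subset_closure hdO⟩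
  set a' : R := ⟨a0, Subgroup.subset_closure (hDsO a0 ha0)⟩
  set b' : R := ⟨b0, Subgroup.subset_closure (hDsO b0 hb0)⟩
  have hne : a' ≠ d' := fun h => ha0.2.1 (congrArg Subtype.val h)
  have hE2 : ∃ a ∈ E, ∃ b ∈ E, a ≠ b := ⟨a', hDsO a0 ha0, d', hdO, hne⟩
  have hind : (layer R).index ≤ 2 := index_le_two_of_mod hcls (d := d') hdO _ fun x hx => by
    refine le_layer hLc (Subgroup.mem_subgroupOf.mpr ?_)
    show d⁻¹ * (x : G) ∈ L
    rw [inv_self hD.1 hd]
    exact hOdL _ hx
  have hp := primitive_of_index hcls hE2 (hcore 2 Nat.prime_two) (hcore 3 Nat.prime_three) hind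
  obtain ⟨g, hg, hgab⟩ := Ds_transitive hcls hp ⟨a', hDsO a0 ha0, d', hdO, hne, Subtype.ext ha0.2.2.eq.symm⟩
    (d := d') hdO a' ⟨hDsO a0 ha0, hne, Subtype.ext ha0.2.2.eq⟩ b'
    ⟨hDsO b0 hb0, fun h => hb0.2.1 (congrArg Subtype.val h), Subtype.ext hb0.2.2.eq⟩
  refine ⟨g, ?_, congrArg Subtype.val hgab⟩
  refine Subgroup.closure_induction (p := fun (g : R) _ => (g : G) ∈ Subgroup.closure (Ds D d)) ?_ (one_mem _) ?_ ?_ hg
  · intro y hy
    exact Subgroup.subset_closure ⟨hOD hy.1, fun h => hy.2.1 (Subtype.ext h), congrArg Subtype.val hy.2.2.eq⟩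
  · intro x y _ _ hx hy; exact mul_mem hx hy
  · intro x _ hx; exact inv_mem hx

/-- The partners as a class of their closure. -/
theorem partner_class (hD : IsThreeTranspositionClass D) {d : G}
    (htr : ∀ a ∈ Ds D d, ∀ b ∈ Ds D d, ∃ g ∈ Subgroup.closure (Ds D d), g * a * g⁻¹ = b)
    (hne : (Ds D d).Nonempty) :
    IsThreeTranspositionClass {x : ↥(Subgroup.closure (Ds D d)) | (x : G) ∈ Ds D d} := by
  obtain ⟨a, ha⟩ := hne
  refine isClass_of_orbit ⟨fun x hx => hD.1.1 x hx.1, fun x hx y hy => hD.1.2 x hx.1 y hy.1⟩ rfl ?_ ha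
    (fun x hx => htr a ha x hx)
  intro g hg x hx
  have e : g * d * g⁻¹ = d := by rw [(closure_Ds_commute hg).eq, mul_inv_cancel_right]
  have := cj_Ds hD g d
  rw [e] at this
  exact this ▸ ⟨x, hx, rfl⟩

omit [Finite G] in
theorem map_class {H : Type v} [Group H] (hD : IsThreeTranspositionClass D) (f : G →* H) (hf : Function.Surjective f)
    (hne : ∀ a ∈ D, f a ≠ 1) : IsThreeTranspositionClass (f '' D) := by
  obtain ⟨d, hd, -⟩ := hD.2.1
  refine ⟨⟨?_, ?_⟩, ⟨f d, ⟨d, hd, rfl⟩, Set.ext fun x => ⟨?_, ?_⟩⟩, ?_⟩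
  · rintro _ ⟨a, ha, rfl⟩
    refine orderOf_eq_prime ?_ (hne a ha)
    rw [sq, ← map_mul, mul_self hD.1 ha, map_one]
  · rintro _ ⟨a, ha, rfl⟩ _ ⟨b, hb, rfl⟩
    rcases hD.1.2 a ha b hb with h | h
    · left; rw [← map_mul, ← map_pow, h, map_one]
    · right; rw [← map_mul, ← map_pow, h, map_one]
  · rintro ⟨a, ha, rfl⟩
    obtain ⟨g, rfl⟩ := cls_exists_conj hD hd ha
    exact isConj_iff.2 ⟨f g, by simp only [map_mul, map_inv]⟩
  · intro hx
    obtain ⟨k, rfl⟩ := isConj_iff.1 (show IsConj (f d) x from hx)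
    obtain ⟨g, rfl⟩ := hf k
    exact ⟨g * d * g⁻¹, cls_conj hD g hd, by simp only [map_mul, map_inv]⟩
  · rw [← MonoidHom.map_closure, hD.2.2, Subgroup.map_top_of_surjective f hf]

theorem Vs_singleton (hD : IsThreeTranspositionClass D) (hD2 : ∃ a ∈ D, ∃ b ∈ D, a ≠ b)
    (h2 : pCore 2 G ≤ Subgroup.center G) {d : G} (hd : d ∈ D) : Vs D d = {d} := by
  ext v
  rw [Vs_eq_orbit hD hD2 hd, Set.mem_singleton_iff]
  exact ⟨fun ⟨g, hg, h⟩ => by rw [h, ← Subgroup.mem_center_iff.mp (h2 hg) d, mul_inv_cancel_right],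
    fun h => ⟨1, one_mem _, by rw [h]; simp⟩⟩

theorem eq_of_mul_central (hD : IsThreeTranspositionClass D) (hD2 : ∃ a ∈ D, ∃ b ∈ D, a ≠ b)
    (h2 : pCore 2 G ≤ Subgroup.center G) {x y : G} (hx : x ∈ D) (hy : y ∈ D) (hc : Commute x y)
    (hz : x * y ∈ Subgroup.center G) : x = y := by
  by_contra hne
  obtain ⟨e, he, hnc⟩ := exists_noncommute hD hD2 hx
  exact hnc ((commute_mul_iff hD.1 hx hy he hne hc).mp (Subgroup.mem_center_iff.mp hz e)).1.symm

/-- No four pairwise commuting members have central product. -/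
theorem four_false (hD : IsThreeTranspositionClass D) (h2 : pCore 2 G ≤ Subgroup.center G) {a b c d : G}
    (ha : a ∈ D) (hb : b ∈ D) (hc : c ∈ D) (hd : d ∈ D) (hab : a ≠ b) (hac : a ≠ c) (had : a ≠ d) (hbc : b ≠ c)
    (hbd : b ≠ d) (hcd : c ≠ d) (cab : Commute a b) (cac : Commute a c) (cad : Commute a d) (cbc : Commute b c)
    (cbd : Commute b d) (ccd : Commute c d) (hz : a * b * c * d ∈ Subgroup.center G) : False := by
  have key : ∀ p q r s : G, p ∈ D → q ∈ D → r ∈ D → s ∈ D → q ≠ r → q ≠ s → r ≠ s → Commute q r → Commute q s →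
      Commute r s → p * (q * r * s) ∈ Subgroup.center G →
      ∀ e ∈ D, Commute e p ↔ Commute e q ∧ Commute e r ∧ Commute e s := by
    intro p q r s hp hq hr hs h1 h2' h3 c1 c2 c3 hz' e he
    rw [← commute_mul3_iff hD.1 hq hr hs he h1 h2' h3 c1 c2 c3]
    have hze : Commute e (p * (q * r * s)) := Subgroup.mem_center_iff.mp hz' e
    constructor
    · intro h
      have := h.inv_right.mul_right hze
      rwa [inv_mul_cancel_left] at this
    · intro h
      have := hze.mul_right h.inv_right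
      rwa [mul_inv_cancel_right] at this
  have h1 := key a b c d ha hb hc hd hbc hbd hcd cbc cbd ccd (by simpa only [mul_assoc] using hz)
  have h2' := key b a c d hb ha hc hd hac had hcd cac cad ccd (by
    rw [← mul_assoc, ← mul_assoc, ← cab.eq]; exact hz)
  have hV : a ∈ Vs D b := ⟨ha, fun e he => by
    constructor
    · intro h; exact ((h1 e he).mp h.symm).1.symm
    · intro h; exact ((h2' e he).mp h.symm).1.symm⟩
  rw [Vs_singleton hD ⟨a, ha, b, hb, hab⟩ h2 hb, Set.mem_singleton_iff] at hV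
  exact hab hV

theorem pair_unique (hD : IsThreeTranspositionClass D) (h2 : pCore 2 G ≤ Subgroup.center G) {a b c d : G}
    (ha : a ∈ D) (hb : b ∈ D) (hc : c ∈ D) (hd : d ∈ D) (hab : a ≠ b) (hcd : c ≠ d) (cab : Commute a b)
    (ccd : Commute c d) (h : a * b = c * d) : (a = c ∧ b = d) ∨ (a = d ∧ b = c) := by
  by_cases hac : a = c
  · subst hac; exact Or.inl ⟨rfl, mul_left_cancel h⟩
  by_cases had : a = d
  · subst had; rw [ccd.eq] at h; exact Or.inr ⟨rfl, mul_left_cancel h⟩
  exfalso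
  have hbd : b ≠ d := fun e => hac (mul_right_cancel (e ▸ h))
  have hbc : b ≠ c := fun e => by
    subst e
    rw [cab.eq] at h
    exact had (mul_left_cancel h)
  have h1 := (commute_mul_iff hD.1 ha hb hc hab cab).mp (h ▸ (Commute.refl c).mul_right ccd)
  have h2' := (commute_mul_iff hD.1 ha hb hd hab cab).mp (h ▸ (ccd.symm.mul_right (Commute.refl d)))
  refine four_false hD h2 ha hb hc hd hab hac had hbc hbd hcd cab h1.1.symm h2'.1.symm h1.2.symm h2'.2.symm ccd ?_
  rw [h, mul_assoc (c * d), ← sq, sq_of_commute hD.1 hc hd ccd]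
  exact one_mem _

theorem quot_center_core (hD : IsThreeTranspositionClass D) (h2 : pCore 2 G ≤ Subgroup.center G)
    (h3 : pCore 3 G ≤ Subgroup.center G) {p : ℕ} (hp : p.Prime) : pCore p (G ⧸ Subgroup.center G) = ⊥ := by
  haveI : Fact p.Prime := ⟨hp⟩
  set q := QuotientGroup.mk' (Subgroup.center G)
  set P := (pCore p (G ⧸ Subgroup.center G)).comap q with hP
  have hPn : Group.IsNilpotent P := by
    haveI := (isPGroup_pCore (G := G ⧸ Subgroup.center G) p).isNilpotent
    refine Subgroup.isNilpotent_of_ker_le_center (q.subgroupComap (pCore p (G ⧸ Subgroup.center G))) ?_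
    intro x hx
    have hxc : (x : G) ∈ Subgroup.center G :=
      (QuotientGroup.eq_one_iff _).mp (congrArg Subtype.val (MonoidHom.mem_ker.mp hx))
    exact Subgroup.mem_center_iff.mpr fun y => Subtype.ext (Subgroup.mem_center_iff.mp hxc y)
  have hle : P ≤ Subgroup.center G := (le_fittingSubgroup hPn).trans (fitting_le_center hD h2 h3)
  refine eq_bot_iff.mpr fun x hx => ?_
  obtain ⟨y, rfl⟩ := QuotientGroup.mk'_surjective (Subgroup.center G) x
  exact Subgroup.mem_bot.mpr ((QuotientGroup.eq_one_iff y).mpr (hle hx))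

/-- If the partners of one member generate a non-abelian group with central 2-core, the 2-core is central. -/
theorem core_two_of_partners (hD : IsThreeTranspositionClass D) {d : G} (hd : d ∈ D)
    (hK : pCore 2 ↥(Subgroup.closure (Ds D d)) ≤ Subgroup.center ↥(Subgroup.closure (Ds D d)))
    (hna : ∃ e ∈ Ds D d, ∃ f ∈ Ds D d, ¬ Commute e f) : pCore 2 G ≤ Subgroup.center G := by
  by_contra hnc
  obtain ⟨e, he, f, hf, hef⟩ := hna
  have hD2 : ∃ a ∈ D, ∃ b ∈ D, a ≠ b := ⟨e, he.1, d, hd, he.2.1⟩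
  obtain ⟨u, hu, hne⟩ := moved_of_core hD hnc he.1
  set e' := u * e * u⁻¹
  have hV : e' ∈ Vs D e := by rw [Vs_eq_orbit hD hD2 he.1]; exact ⟨u, hu, rfl⟩
  have hdiff : e' ≠ d := fun h => hef (((h ▸ hV).2 f hf.1).mp hf.2.2)
  have he'Ds : e' ∈ Ds D d := ⟨hV.1, hdiff, ((hV.2 d hd).mpr he.2.2.symm).symm⟩
  have hee' : Commute e e' := (Vs_comm hV ⟨he.1, fun _ _ => Iff.rfl⟩).symm
  set K := Subgroup.closure (Ds D d)
  have hzK : e * e' ∈ K := mul_mem (Subgroup.subset_closure he) (Subgroup.subset_closure he'Ds)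
  haveI : ((pCore 2 G).subgroupOf K).Normal := Subgroup.normal_subgroupOf
  have hP2 : IsPGroup 2 ((pCore 2 G).subgroupOf K) := by
    haveI : Fact (Nat.Prime 2) := ⟨Nat.prime_two⟩
    exact (isPGroup_pCore 2).comap_of_injective K.subtype K.subtype_injective
  have hz : (⟨e * e', hzK⟩ : K) ∈ Subgroup.center K :=
    hK (le_pCore hP2 (Subgroup.mem_subgroupOf.mpr (mul_mem_two_of_Vs hD he.1 hV)))
  have hfc : Commute f (e * e') := congrArg Subtype.val (Subgroup.mem_center_iff.mp hz ⟨f, Subgroup.subset_closure hf⟩)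
  exact hef ((commute_mul_iff hD.1 he.1 hV.1 hf.1 (Ne.symm hne) hee').mp hfc).1.symm

end CfsgThreeTrans
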