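/-
Factorisations into commuting transpositions in groups of types M(22), M(23), M(24).
-/
import Cfsg.Agent.Lib.ThreeTrans.Descent
import Cfsg.Agent.Lib.UnitaryBasic

set_option autoImplicit false

namespace CfsgThreeTrans

open Cfsg CfsgLib Matrix

universe u

section PSU

variable {F : Type} [Field F] [Fintype F]

theorem F4_facts (hF : Fintype.card F = 4) : ∃ ζ : F, ζ ≠ 1 ∧ ζ ≠ 0 ∧ ζ ^ 3 = 1 ∧ ζ * ζ + ζ + 1 = 0 ∧ (2 : F) = 0 := by
  classical
  have h2 : (2 : F) = 0 := by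
    have h4 : ((4 : ℕ) : F) = 0 := hF ▸ Nat.cast_card_eq_zero F
    have h22 : (2 : F) * 2 = 0 := by rw [← h4]; norm_num
    exact mul_self_eq_zero.mp h22
  obtain ⟨ζ, h1, h0⟩ := (Fintype.two_lt_card_iff (α := F)).mp (by omega) |> fun ⟨a, b, c, hab, hac, hbc⟩ =>
    (show ∃ z : F, z ≠ 1 ∧ z ≠ 0 by
      by_contra h
      push Not at h
      by_cases ha : a = 1
      · exact hbc ((h b (fun hb => hab (ha.trans hb.symm))).trans (h c (fun hc => hac (ha.trans hc.symm))).symm)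
      · by_cases hb : b = 1
        · exact hac ((h a ha).trans (h c (fun hc => hbc (hb.trans hc.symm))).symm)
        · exact hab ((h a ha).trans (h b hb).symm))
  have h3 : ζ ^ 3 = 1 := by
    have := FiniteField.pow_card_sub_one_eq_one ζ h0
    rwa [hF] at this
  refine ⟨ζ, h1, h0, h3, ?_, h2⟩
  refine (mul_eq_zero.mp ?_).resolve_left (sub_ne_zero.mpr h1)
  linear_combination h3

theorem su_diag_exists (d : Fin 6 → F) (hd : ∀ i, d i ^ 3 = 1) (hdet : ∏ i, d i = 1) :
    ∃ A : SU 6 F 2, A.1.1 = diagonal d :=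
  ⟨⟨⟨diagonal d, by rw [det_diagonal]; exact hdet⟩, fun u v => UnitaryBasic.diag_preserves (q := 2) hd u v⟩, rfl⟩

theorem su_perm_exists (π : Equiv.Perm (Fin 6)) (hπ : Equiv.Perm.sign π = 1) :
    ∃ A : SU 6 F 2, A.1.1 = π.permMatrix F :=
  ⟨⟨⟨π.permMatrix F, by rw [Matrix.det_permutation, hπ]; simp⟩, fun u v => UnitaryBasic.perm_preserves π u v⟩, rfl⟩

theorem pair_diag (hF : Fintype.card F = 4) {i j : Fin 6} (hij : i ≠ j) {ζ : F} (h3 : ζ ^ 3 = 1) :
    ∃ A : SU 6 F 2, A.1.1 = diagonal fun k => if k = i then ζ else if k = j then ζ ^ 2 else 1 := by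
  refine su_diag_exists _ (fun k => ?_) ?_
  · split_ifs
    · exact h3
    · rw [← pow_mul, show 2 * 3 = 3 * 2 from rfl, pow_mul, h3, one_pow]
    · exact one_pow 3
  · rw [← Finset.prod_erase_mul _ _ (Finset.mem_univ i), ← Finset.prod_erase_mul _ _
      (Finset.mem_erase.mpr ⟨hij.symm, Finset.mem_univ j⟩)]
    rw [if_pos rfl, if_neg hij.symm, if_pos rfl, Finset.prod_eq_one, one_mul, ← pow_succ]
    · exact h3
    · intro k hk
      simp only [Finset.mem_erase] at hk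
      rw [if_neg hk.2.1, if_neg hk.1]

/-- The unitary group in dimension six over four elements leaves no proper subspace invariant. -/
theorem su_irreducible (hF : Fintype.card F = 4) (W : Submodule F (Fin 6 → F))
    (hinv : ∀ A : SU 6 F 2, ∀ w ∈ W, A.1.1 *ᵥ w ∈ W) (hne : ∃ v ∈ W, v ≠ 0) : W = ⊤ := by
  classical
  obtain ⟨ζ, hζ1, hζ0, h3, hq, h2⟩ := F4_facts hF
  obtain ⟨v, hv, hv0⟩ := hne
  obtain ⟨i, hi⟩ := Function.ne_iff.mp hv0
  obtain ⟨j, hij⟩ : ∃ j, i ≠ j := ⟨i + 1, (by decide : ∀ i : Fin 6, i ≠ i + 1) i⟩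
  have hsingle : Pi.single i (1 : F) ∈ W := by
    obtain ⟨A, hA⟩ := pair_diag hF hij h3
    obtain ⟨B, hB⟩ := pair_diag hF hij.symm h3
    have h := W.sub_mem (W.smul_mem (ζ - 1) (W.sub_mem (hinv A v hv) hv))
      (W.smul_mem (ζ ^ 2 - 1) (W.sub_mem (hinv B v hv) hv))
    have hc : (ζ - 1) * (ζ - 1) - (ζ ^ 2 - 1) * (ζ ^ 2 - 1) ≠ 0 := by
      intro h0
      have hne2 : ζ - ζ ^ 2 ≠ 0 := by
        rw [show ζ - ζ ^ 2 = ζ * (1 - ζ) by ring]
        exact mul_ne_zero hζ0 (sub_ne_zero.mpr (Ne.symm hζ1))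
      refine hne2 ?_
      linear_combination h0 - (ζ - ζ ^ 2) * hq + 2 * (ζ - ζ ^ 2) * h2
    have := W.smul_mem ((((ζ - 1) * (ζ - 1) - (ζ ^ 2 - 1) * (ζ ^ 2 - 1)) * v i)⁻¹) h
    convert this using 1
    ext k
    simp only [hA, hB, Pi.smul_apply, Pi.sub_apply, mulVec_diagonal, smul_eq_mul]
    by_cases hk : k = i
    · subst hk
      rw [Pi.single_eq_same, if_pos rfl, if_neg hij, if_pos rfl]
      symm
      rw [inv_mul_eq_iff_eq_mul₀ (mul_ne_zero hc hi), mul_one]
      ring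
    · rw [Pi.single_eq_of_ne hk]
      by_cases hk' : k = j
      · subst hk'
        simp only [if_neg hk, if_pos]
        ring
      · simp [hk, hk']
  have hall : ∀ k, Pi.single k (1 : F) ∈ W := by
    intro k
    by_cases hik : i = k
    · exact hik ▸ hsingle
    obtain ⟨a, b, hab, hak, hbk⟩ : ∃ a b : Fin 6, a ≠ b ∧ a ≠ k ∧ b ≠ k :=
      ⟨k + 1, k + 2, (by decide : ∀ k : Fin 6, k + 1 ≠ k + 2 ∧ k + 1 ≠ k ∧ k + 2 ≠ k) k⟩
    have hπ : (Equiv.swap i k * Equiv.swap a b) k = i := by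
      rw [Equiv.Perm.mul_apply, Equiv.swap_apply_of_ne_of_ne hak.symm hbk.symm, Equiv.swap_apply_right]
    obtain ⟨A, hA⟩ := su_perm_exists (F := F) (Equiv.swap i k * Equiv.swap a b)
      (by rw [map_mul, Equiv.Perm.sign_swap hik, Equiv.Perm.sign_swap hab]; rfl)
    have := hinv A _ hsingle
    rw [hA, Matrix.permMatrix_mulVec] at this
    convert this using 1
    ext t
    simp only [Function.comp_apply, Pi.single_apply]
    by_cases ht : t = k
    · subst ht; rw [if_pos rfl, if_pos hπ]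
    · rw [if_neg ht, if_neg fun e => ht ((Equiv.swap i k * Equiv.swap a b).injective (e.trans hπ.symm))]
  refine eq_top_iff.mpr fun w _ => ?_
  rw [pi_eq_sum_univ' w]
  exact W.sum_mem fun k _ => W.smul_mem _ (hall k)

theorem su_core (hF : Fintype.card F = 4) : pCore 2 (SU 6 F 2) = ⊥ := by
  classical
  haveI : Fact (Nat.Prime 2) := ⟨Nat.prime_two⟩
  set P := pCore 2 (SU 6 F 2)
  letI act : MulAction P (Fin 6 → F) :=
    { smul := fun p v => (p : SU 6 F 2).1.1 *ᵥ v
      one_smul := fun v => by show (1 : Matrix (Fin 6) (Fin 6) F) *ᵥ v = v; rw [one_mulVec]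
      mul_smul := fun p q v => by
        show ((p : SU 6 F 2).1.1 * (q : SU 6 F 2).1.1) *ᵥ v = _
        rw [← mulVec_mulVec]; rfl }
  have hmod := (isPGroup_pCore (G := SU 6 F 2) 2).card_modEq_card_fixedPoints (Fin 6 → F)
  have hcard : Nat.card (Fin 6 → F) = 4 ^ 6 := by
    rw [Nat.card_eq_fintype_card, Fintype.card_fun, hF, Fintype.card_fin]
  rw [hcard] at hmod
  have h0 : (0 : Fin 6 → F) ∈ MulAction.fixedPoints P (Fin 6 → F) := fun p => mulVec_zero _
  obtain ⟨v, hv, hv0⟩ : ∃ v ∈ MulAction.fixedPoints P (Fin 6 → F), v ≠ 0 := by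
    by_contra h
    push Not at h
    have : MulAction.fixedPoints P (Fin 6 → F) = {0} :=
      Set.eq_singleton_iff_unique_mem.mpr ⟨h0, h⟩
    rw [this, Nat.card_coe_set_eq, Set.ncard_singleton] at hmod
    exact absurd hmod (by decide)
  let W : Submodule F (Fin 6 → F) :=
    { carrier := {w | ∀ p : P, (p : SU 6 F 2).1.1 *ᵥ w = w}
      add_mem' := fun ha hb p => by rw [mulVec_add, ha p, hb p]
      zero_mem' := fun p => mulVec_zero _
      smul_mem' := fun c w hw p => by rw [mulVec_smul, hw p] }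
  have hW : W = ⊤ := su_irreducible hF W (fun A w hw p => by
    have hq : A⁻¹ * (p : SU 6 F 2) * A ∈ P :=
      (inferInstance : P.Normal).conj_mem' _ p.2 A
    have h1 := hw ⟨_, hq⟩
    show (p : SU 6 F 2).1.1 *ᵥ (A.1.1 *ᵥ w) = A.1.1 *ᵥ w
    conv_rhs => rw [← h1]
    rw [mulVec_mulVec, mulVec_mulVec]
    congr 1
    show ((p : SU 6 F 2) * A).1.1 = (A * (A⁻¹ * (p : SU 6 F 2) * A)).1.1
    rw [← mul_assoc, mul_inv_cancel_left]) ⟨v, hv, hv0⟩
  refine eq_bot_iff.mpr fun p hp => Subgroup.mem_bot.mpr (Subtype.ext (Subtype.ext ?_))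
  refine Matrix.ext_of_mulVec_single fun k => ?_
  have : Pi.single k (1 : F) ∈ W := hW ▸ Submodule.mem_top
  show p.1.1 *ᵥ Pi.single k 1 = (1 : Matrix (Fin 6) (Fin 6) F) *ᵥ Pi.single k 1
  rw [one_mulVec]
  exact this ⟨p, hp⟩

theorem psu_core (hF : Fintype.card F = 4) : pCore 2 (PSU 6 F 2) = ⊥ := by
  haveI : Fact (Nat.Prime 2) := ⟨Nat.prime_two⟩
  set Z := Subgroup.center (SU 6 F 2)
  set q := QuotientGroup.mk' Z
  set P := (pCore 2 (PSU 6 F 2)).comap q with hP
  haveI : Group.IsNilpotent P := by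
    haveI := (isPGroup_pCore (G := PSU 6 F 2) 2).isNilpotent
    refine Subgroup.isNilpotent_of_ker_le_center (q.subgroupComap (pCore 2 (PSU 6 F 2))) ?_
    intro x hx
    have hxc : (x : SU 6 F 2) ∈ Z := (QuotientGroup.eq_one_iff _).mp (congrArg Subtype.val (MonoidHom.mem_ker.mp hx))
    exact Subgroup.mem_center_iff.mpr fun y => Subtype.ext (Subgroup.mem_center_iff.mp hxc y)
  obtain ⟨S⟩ := (Sylow.nonempty : Nonempty (Sylow 2 P))
  haveI : (S : Subgroup P).Normal := S.normal_of_normalizerCondition Group.normalizerCondition_of_isNilpotent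
  have hS : (S : Subgroup P) = ⊥ := by
    have h1 := Subgroup.map_mono (f := P.subtype) (le_pCore (p := 2) S.isPGroup')
    have h2 := h1.trans ((map_pCore_le 2 P).trans (su_core hF).le)
    exact (Subgroup.map_eq_bot_iff_of_injective _ P.subtype_injective).mp (le_bot_iff.mp h2)
  have hodd : ¬ 2 ∣ Nat.card P := fun h => by
    have := S.dvd_card_of_dvd_card h
    rw [hS, Subgroup.card_bot] at this
    exact absurd this (by decide)
  obtain ⟨k, hk⟩ := IsPGroup.iff_card.mp (isPGroup_pCore (G := PSU 6 F 2) 2)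
  refine Subgroup.eq_bot_of_card_eq _ ?_
  rcases Nat.eq_zero_or_pos k with hk0 | hk0
  · rw [hk, hk0, pow_zero]
  · exfalso
    refine hodd ((dvd_pow_self 2 hk0.ne').trans ?_)
    rw [← hk, ← Subgroup.map_comap_eq_self_of_surjective (QuotientGroup.mk'_surjective Z) (pCore 2 (PSU 6 F 2))]
    exact Subgroup.card_map_dvd P q

theorem psu_not_commutative (hF : Fintype.card F = 4) : ∃ x y : PSU 6 F 2, x * y ≠ y * x := by
  haveI : Fact (Nat.Prime 2) := ⟨Nat.prime_two⟩
  by_contra h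
  push Not at h
  obtain ⟨ζ, hζ1, -, h3, -, -⟩ := F4_facts hF
  obtain ⟨A, hA⟩ := su_perm_exists (F := F) (Equiv.swap 0 1 * Equiv.swap 2 3) (by decide)
  obtain ⟨B, hB⟩ := pair_diag hF (show (0 : Fin 6) ≠ 2 by decide) h3
  set x : PSU 6 F 2 := QuotientGroup.mk A
  have hA2 : A * A = 1 := by
    refine Subtype.ext (Subtype.ext ?_)
    show A.1.1 * A.1.1 = 1
    rw [hA, ← Matrix.permMatrix_mul,
      show (Equiv.swap (0 : Fin 6) 1 * Equiv.swap 2 3) * (Equiv.swap 0 1 * Equiv.swap 2 3) = 1 by decide]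
    simp
  haveI : (Subgroup.zpowers x).Normal := ⟨fun y hy g => by rwa [h g y, mul_inv_cancel_right]⟩
  have hp : IsPGroup 2 (Subgroup.zpowers x) := by
    intro y
    obtain ⟨y, n, rfl⟩ := y
    refine ⟨1, Subtype.ext ?_⟩
    show (x ^ n) ^ 2 ^ 1 = 1
    have hx2 : x ^ (2 : ℤ) = 1 := by
      rw [zpow_two]; exact (QuotientGroup.mk_mul _ A A).symm.trans (by rw [hA2]; rfl)
    rw [pow_one, ← zpow_natCast (x ^ n), ← _root_.zpow_mul, mul_comm, _root_.zpow_mul, Nat.cast_two, hx2, _root_.one_zpow]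
  have hx1 : x = 1 := by
    have := (le_pCore hp).trans (psu_core hF).le (Subgroup.mem_zpowers x)
    exact Subgroup.mem_bot.mp this
  have hc := congrArg (fun M : SU 6 F 2 => M.1.1)
    (Subgroup.mem_center_iff.mp ((QuotientGroup.eq_one_iff A).mp hx1) B)
  change B.1.1 * A.1.1 = A.1.1 * B.1.1 at hc
  rw [hA, hB] at hc
  have h01 := congrFun (congrFun hc 0) 1
  rw [Matrix.diagonal_mul, Matrix.mul_diagonal] at h01
  simp [Equiv.Perm.permMatrix, PEquiv.toMatrix_apply, Equiv.swap_apply_def] at h01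
  exact hζ1 h01

end PSU

section

variable {G : Type u} [Group G] [Finite G] {D : Set G}

/-- Some member's partners generate a non-abelian group with central 2-core. -/
abbrev LocalOK (D : Set G) (d : G) : Prop :=
  pCore 2 ↥(Subgroup.closure (Ds D d)) ≤ Subgroup.center ↥(Subgroup.closure (Ds D d)) ∧
    ∃ e ∈ Ds D d, ∃ f ∈ Ds D d, ¬ Commute e f

omit [Finite G] in
theorem noncommute_of_quot {d : G}
    (h : ∃ x y : ↥(Subgroup.closure (Ds D d)) ⧸ Subgroup.center ↥(Subgroup.closure (Ds D d)), x * y ≠ y * x) :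
    ∃ e ∈ Ds D d, ∃ f ∈ Ds D d, ¬ Commute e f := by
  by_contra hc
  push Not at hc
  haveI := Subgroup.isMulCommutative_closure (k := Ds D d) hc
  obtain ⟨x, y, hxy⟩ := h
  obtain ⟨x', rfl⟩ := QuotientGroup.mk_surjective x
  obtain ⟨y', rfl⟩ := QuotientGroup.mk_surjective y
  exact hxy (by rw [← QuotientGroup.mk_mul, ← QuotientGroup.mk_mul, mul_comm' x' y'])

theorem core_of_quot_bot {d : G}
    (h : pCore 2 (↥(Subgroup.closure (Ds D d)) ⧸ Subgroup.center ↥(Subgroup.closure (Ds D d))) = ⊥) :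
    pCore 2 ↥(Subgroup.closure (Ds D d)) ≤ Subgroup.center ↥(Subgroup.closure (Ds D d)) := by
  haveI : Fact (Nat.Prime 2) := ⟨Nat.prime_two⟩
  set q := QuotientGroup.mk' (Subgroup.center ↥(Subgroup.closure (Ds D d)))
  haveI : ((pCore 2 ↥(Subgroup.closure (Ds D d))).map q).Normal :=
    Subgroup.Normal.map inferInstance q (QuotientGroup.mk'_surjective _)
  intro x hx
  have h1 : q x ∈ (⊥ : Subgroup _) := h ▸ le_pCore ((isPGroup_pCore 2).map q) (Subgroup.mem_map_of_mem q hx)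
  exact (QuotientGroup.eq_one_iff x).mp (Subgroup.mem_bot.mp h1)

theorem local_of_M22 (h : IsOfTypeM22 G D) : ∃ d ∈ D, LocalOK D d := by
  obtain ⟨-, d, hd, c, -, -, ⟨F, iF, iFt, hF, ⟨e⟩⟩, -⟩ := h
  refine ⟨d, hd, core_of_quot_bot ?_, noncommute_of_quot ?_⟩
  · have := pCore_map_equiv 2 e.symm
    rw [psu_core hF, Subgroup.map_bot] at this
    exact this.symm
  · obtain ⟨x, y, hxy⟩ := psu_not_commutative hF
    exact ⟨e.symm x, e.symm y, fun hh => hxy (e.symm.injective (by rw [map_mul, map_mul]; exact hh))⟩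

omit [Finite G] in
theorem image_ne_one {d : G} (hK : IsThreeTranspositionClass {x : ↥(Subgroup.closure (Ds D d)) | (x : G) ∈ Ds D d})
    (h : ∃ e ∈ Ds D d, ∃ f ∈ Ds D d, ¬ Commute e f) :
    ∀ a ∈ {x : ↥(Subgroup.closure (Ds D d)) | (x : G) ∈ Ds D d},
      QuotientGroup.mk' (Subgroup.center ↥(Subgroup.closure (Ds D d))) a ≠ 1 := by
  intro a ha h1
  obtain ⟨e, he, f, hf, hef⟩ := h
  have hac := (QuotientGroup.eq_one_iff a).mp h1
  obtain ⟨g, hg⟩ := cls_exists_conj hK ha (show (⟨e, Subgroup.subset_closure he⟩ :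
    ↥(Subgroup.closure (Ds D d))) ∈ {x : ↥(Subgroup.closure (Ds D d)) | (x : G) ∈ Ds D d} from he)
  have hec : (⟨e, Subgroup.subset_closure he⟩ : ↥(Subgroup.closure (Ds D d))) = a := by
    rw [← hg, Subgroup.mem_center_iff.mp hac g, mul_inv_cancel_right]
  have := Subgroup.mem_center_iff.mp (hec ▸ hac) ⟨f, Subgroup.subset_closure hf⟩
  exact hef (congrArg Subtype.val this).symm

theorem local_of_M23 (hD : IsThreeTranspositionClass D) (h2 : pCore 2 G ≤ Subgroup.center G)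
    (h3 : pCore 3 G ≤ Subgroup.center G) (h : IsOfTypeM23 G D) : ∃ d ∈ D, LocalOK D d := by
  obtain ⟨-, d, hd, c, -, -, h22, -⟩ := h
  have hna : ∃ e ∈ Ds D d, ∃ f ∈ Ds D d, ¬ Commute e f := by
    obtain ⟨-, x, -, y, -, hxy, -⟩ := h22
    exact noncommute_of_quot ⟨x, y, hxy⟩
  have hcls := partner_class hD (Ds_transitive_of_cores hD h2 h3 hd) (by obtain ⟨e, he, -⟩ := hna; exact ⟨e, he⟩)
  have hbar := map_class hcls _ (QuotientGroup.mk'_surjective _) (image_ne_one hcls hna)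
  obtain ⟨d', hd', hcore, hna'⟩ := local_of_M22 h22
  refine ⟨d, hd, core_of_quot_bot (le_bot_iff.mp ?_), hna⟩
  rw [← h22.1]
  exact core_two_of_partners hbar hd' hcore hna'

/-- Five commuting members have no trivial product. -/
theorem five_false (hD : IsThreeTranspositionClass D) (h2 : pCore 2 G ≤ Subgroup.center G)
    (h3 : pCore 3 G ≤ Subgroup.center G) (hloc : ∃ d ∈ D, LocalOK D d) {b c d e f : G}
    (hb : b ∈ D) (hc : c ∈ D) (hd : d ∈ D) (he : e ∈ D) (hf : f ∈ D) (hnd : [b, c, d, e, f].Nodup)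
    (hcom : ∀ x ∈ [b, c, d, e, f], ∀ y ∈ [b, c, d, e, f], Commute x y) (hp : b * c * d * e * f = 1) : False := by
  obtain ⟨t, ht, hcore, hna⟩ := hloc
  obtain ⟨g, rfl⟩ := cls_exists_conj hD hb ht
  set K := Subgroup.closure (Ds D (g * b * g⁻¹))
  have hcls := partner_class hD (Ds_transitive_of_cores hD h2 h3 (cls_conj hD g hb))
    (by obtain ⟨x, hx, -⟩ := hna; exact ⟨x, hx⟩)
  have hmem : ∀ x ∈ D, x ≠ b → Commute b x → g * x * g⁻¹ ∈ Ds D (g * b * g⁻¹) := fun x hx hne hbx =>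
    ⟨cls_conj hD g hx, fun h => hne (cj_injective g h), (commute_cj_iff g).mpr hbx⟩
  simp only [List.nodup_cons, List.mem_cons, List.not_mem_nil, or_false, not_or, List.nodup_nil,
    and_true] at hnd
  obtain ⟨⟨hbc, hbd, hbe, hbf⟩, ⟨hcd, hce, hcf⟩, ⟨hde, hdf⟩, hef, -⟩ := hnd
  have cc : ∀ x y, x ∈ [b, c, d, e, f] → y ∈ [b, c, d, e, f] → Commute (g * x * g⁻¹) (g * y * g⁻¹) :=
    fun x y hx hy => (commute_cj_iff g).mpr (hcom x hx y hy)
  have mc := hmem c hc (Ne.symm hbc) (hcom b (by simp) c (by simp))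
  have md := hmem d hd (Ne.symm hbd) (hcom b (by simp) d (by simp))
  have me := hmem e he (Ne.symm hbe) (hcom b (by simp) e (by simp))
  have mf := hmem f hf (Ne.symm hbf) (hcom b (by simp) f (by simp))
  have hprod : (g * c * g⁻¹) * (g * d * g⁻¹) * (g * e * g⁻¹) * (g * f * g⁻¹) = g * b * g⁻¹ := by
    have h4 : c * d * e * f = b := by
      have : b⁻¹ = c * d * e * f := inv_eq_of_mul_eq_one_right (by rw [← hp]; simp only [mul_assoc])
      rw [← this, inv_self hD.1 hb]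
    conv_rhs => rw [← h4]
    group
  have ext' : ∀ x y, (hx : g * x * g⁻¹ ∈ K) → (hy : g * y * g⁻¹ ∈ K) → x ≠ y →
      (⟨_, hx⟩ : K) ≠ ⟨_, hy⟩ := fun x y hx hy hne h => hne (cj_injective g (congrArg Subtype.val h))
  refine four_false hcls hcore (a := ⟨_, Subgroup.subset_closure mc⟩) (b := ⟨_, Subgroup.subset_closure md⟩)
    (c := ⟨_, Subgroup.subset_closure me⟩) (d := ⟨_, Subgroup.subset_closure mf⟩) mc md me mf
    (ext' _ _ _ _ hcd) (ext' _ _ _ _ hce) (ext' _ _ _ _ hcf) (ext' _ _ _ _ hde) (ext' _ _ _ _ hdf)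
    (ext' _ _ _ _ hef) (Subtype.ext (cc c d (by simp) (by simp)).eq) (Subtype.ext (cc c e (by simp) (by simp)).eq)
    (Subtype.ext (cc c f (by simp) (by simp)).eq) (Subtype.ext (cc d e (by simp) (by simp)).eq)
    (Subtype.ext (cc d f (by simp) (by simp)).eq) (Subtype.ext (cc e f (by simp) (by simp)).eq) ?_
  refine Subgroup.mem_center_iff.mpr fun w => Subtype.ext ?_
  show (w : G) * ((g * c * g⁻¹) * (g * d * g⁻¹) * (g * e * g⁻¹) * (g * f * g⁻¹)) =
    (g * c * g⁻¹) * (g * d * g⁻¹) * (g * e * g⁻¹) * (g * f * g⁻¹) * w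
  rw [hprod]
  exact (closure_Ds_commute w.2).eq

theorem core_transfer (hD : IsThreeTranspositionClass D) {d d' : G} (hd : d ∈ D) (hd' : d' ∈ D) (p : ℕ)
    (h : pCore p ↥(Subgroup.closure (Ds D d)) ≤ Subgroup.center ↥(Subgroup.closure (Ds D d))) :
    pCore p ↥(Subgroup.closure (Ds D d')) ≤ Subgroup.center ↥(Subgroup.closure (Ds D d')) := by
  obtain ⟨g, rfl⟩ := cls_exists_conj hD hd hd'
  have hmap : (Subgroup.closure (Ds D d)).map (MulAut.conj g).toMonoidHom = Subgroup.closure (Ds D (g * d * g⁻¹)) := by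
    rw [MonoidHom.map_closure, ← cj_Ds hD]
    rfl
  set e := ((MulAut.conj g).subgroupMap (Subgroup.closure (Ds D d))).trans (MulEquiv.subgroupCongr hmap)
  rw [← pCore_map_equiv p e]
  rintro _ ⟨x, hx, rfl⟩
  refine Subgroup.mem_center_iff.mpr fun y => ?_
  obtain ⟨w, rfl⟩ := e.surjective y
  show e w * e x = e x * e w
  rw [← map_mul, ← map_mul, Subgroup.mem_center_iff.mp (h hx) w]

theorem six_false (hD : IsThreeTranspositionClass D) (hprim : IsPrimitiveUnderConj D) {d₀ : G} (hd₀ : d₀ ∈ D)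
    (h3 : pCore 3 ↥(Subgroup.closure (Ds D d₀)) ≤ Subgroup.center ↥(Subgroup.closure (Ds D d₀)))
    (h2 : pCore 2 ↥(Subgroup.closure (Ds D d₀)) ≤ Subgroup.center ↥(Subgroup.closure (Ds D d₀)))
    (h : IsOfTypeM23 G D ∨ IsOfTypeM24 G D) {a b c d e f : G}
    (ha : a ∈ D) (hb : b ∈ D) (hc : c ∈ D) (hd : d ∈ D) (he : e ∈ D) (hf : f ∈ D)
    (hnd : [a, b, c, d, e, f].Nodup) (hcom : ∀ x ∈ [a, b, c, d, e, f], ∀ y ∈ [a, b, c, d, e, f], Commute x y)
    (hp : b * c * d * e * f = a) : False := by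
  obtain ⟨t, ht, hna, hloc⟩ : ∃ t ∈ D, (∃ e ∈ Ds D t, ∃ f ∈ Ds D t, ¬ Commute e f) ∧
      (∀ (_ : IsThreeTranspositionClass (QuotientGroup.mk' (Subgroup.center ↥(Subgroup.closure (Ds D t))) ''
          {x : ↥(Subgroup.closure (Ds D t)) | (x : G) ∈ Ds D t})),
        pCore 2 (↥(Subgroup.closure (Ds D t)) ⧸ Subgroup.center ↥(Subgroup.closure (Ds D t))) = ⊥ →
        pCore 3 (↥(Subgroup.closure (Ds D t)) ⧸ Subgroup.center ↥(Subgroup.closure (Ds D t))) = ⊥ →
        ∃ s ∈ QuotientGroup.mk' (Subgroup.center ↥(Subgroup.closure (Ds D t))) ''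
          {x : ↥(Subgroup.closure (Ds D t)) | (x : G) ∈ Ds D t},
          LocalOK (QuotientGroup.mk' (Subgroup.center ↥(Subgroup.closure (Ds D t))) ''
            {x : ↥(Subgroup.closure (Ds D t)) | (x : G) ∈ Ds D t}) s) := by
    rcases h with ⟨-, t, ht, c, -, -, hX, -⟩ | ⟨-, t, ht, c, -, -, hX, -⟩
    · obtain ⟨-, x, -, y, -, hxy, -⟩ := id hX
      exact ⟨t, ht, noncommute_of_quot ⟨x, y, hxy⟩, fun _ _ _ => local_of_M22 hX⟩
    · obtain ⟨-, x, -, y, -, hxy, -⟩ := id hX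
      exact ⟨t, ht, noncommute_of_quot ⟨x, y, hxy⟩,
        fun hcl e2 e3 => local_of_M23 hcl (e2 ▸ bot_le) (e3 ▸ bot_le) hX⟩
  obtain ⟨g, rfl⟩ := cls_exists_conj hD ha ht
  have hw : ∃ a ∈ D, ∃ b ∈ D, a ≠ b ∧ Commute a b := by
    obtain ⟨x, hx, -⟩ := hna
    exact ⟨_, ht, x, hx.1, hx.2.1.symm, hx.2.2⟩
  obtain ⟨c2, c3⟩ := cores_of_prim hD hprim hw
  set K := Subgroup.closure (Ds D (g * a * g⁻¹))
  set Z := Subgroup.center K
  set q := QuotientGroup.mk' Z
  have hcls := partner_class hD (Ds_transitive_of_cores hD c2 c3 ht) (by obtain ⟨x, hx, -⟩ := hna; exact ⟨x, hx⟩)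
  have hbar := map_class hcls q (QuotientGroup.mk'_surjective _) (image_ne_one hcls hna)
  have k2 := core_transfer hD hd₀ ht 2 h2
  have k3 := core_transfer hD hd₀ ht 3 h3
  have q2 := quot_center_core hcls k2 k3 Nat.prime_two
  have q3 := quot_center_core hcls k2 k3 Nat.prime_three
  have hE2 : ∃ x ∈ {x : K | (x : G) ∈ Ds D (g * a * g⁻¹)}, ∃ y ∈ {x : K | (x : G) ∈ Ds D (g * a * g⁻¹)}, x ≠ y := by
    obtain ⟨x, hx, y, hy, hxy⟩ := hna
    exact ⟨⟨x, Subgroup.subset_closure hx⟩, hx, ⟨y, Subgroup.subset_closure hy⟩, hy,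
      fun h => hxy (by have e : x = y := congrArg Subtype.val h; rw [e])⟩
  have hmem : ∀ x ∈ [b, c, d, e, f], x ∈ D → g * x * g⁻¹ ∈ Ds D (g * a * g⁻¹) := fun x hx hxD =>
    ⟨cls_conj hD g hxD, fun h => (List.nodup_cons.mp hnd).1 (cj_injective g h ▸ hx),
      (commute_cj_iff g).mpr (hcom a (List.mem_cons_self ..) x (List.mem_cons_of_mem _ hx))⟩
  have hD' : ∀ x ∈ [b, c, d, e, f], x ∈ D := by
    intro x hx
    simp only [List.mem_cons, List.not_mem_nil, or_false] at hx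
    rcases hx with rfl | rfl | rfl | rfl | rfl <;> assumption
  let φ : ∀ x, x ∈ [b, c, d, e, f] → K := fun x hx => ⟨g * x * g⁻¹, Subgroup.subset_closure (hmem x hx (hD' x hx))⟩
  have hφc : ∀ x y (hx : x ∈ [b, c, d, e, f]) (hy : y ∈ [b, c, d, e, f]), Commute (φ x hx) (φ y hy) := fun x y hx hy =>
    Subtype.ext ((commute_cj_iff g).mpr (hcom x (List.mem_cons_of_mem _ hx) y (List.mem_cons_of_mem _ hy))).eq
  have hinj : ∀ x y (hx : x ∈ [b, c, d, e, f]) (hy : y ∈ [b, c, d, e, f]), q (φ x hx) = q (φ y hy) → x = y := by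
    intro x y hx hy hq
    refine cj_injective g (congrArg Subtype.val (eq_of_mul_central hcls hE2 k2 (hmem x hx (hD' x hx))
      (hmem y hy (hD' y hy)) (hφc x y hx hy) ?_) : g * x * g⁻¹ = g * y * g⁻¹)
    have := QuotientGroup.eq.mp hq
    rwa [inv_self hcls.1 (show φ x hx ∈ _ from hmem x hx (hD' x hx))] at this
  have mb : b ∈ [b, c, d, e, f] := by simp
  have mc : c ∈ [b, c, d, e, f] := by simp
  have md : d ∈ [b, c, d, e, f] := by simp
  have me : e ∈ [b, c, d, e, f] := by simp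
  have mf : f ∈ [b, c, d, e, f] := by simp
  refine five_false hbar (q2 ▸ bot_le) (q3 ▸ bot_le) (hloc hbar q2 q3)
    (b := q (φ b mb)) (c := q (φ c mc)) (d := q (φ d md)) (e := q (φ e me)) (f := q (φ f mf))
    ⟨_, hmem b mb hb, rfl⟩ ⟨_, hmem c mc hc, rfl⟩ ⟨_, hmem d md hd, rfl⟩ ⟨_, hmem e me he, rfl⟩
    ⟨_, hmem f mf hf, rfl⟩ ?_ ?_ ?_
  · have hnd' := (List.nodup_cons.mp hnd).2
    simp only [List.nodup_cons, List.mem_cons, List.not_mem_nil, or_false, not_or, List.nodup_nil, and_true] at hnd' ⊢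
    obtain ⟨⟨hbc, hbd, hbe, hbf⟩, ⟨hcd, hce, hcf⟩, ⟨hde, hdf⟩, hef, -⟩ := hnd'
    exact ⟨⟨fun h => hbc (hinj _ _ mb mc h), fun h => hbd (hinj _ _ mb md h), fun h => hbe (hinj _ _ mb me h),
      fun h => hbf (hinj _ _ mb mf h)⟩, ⟨fun h => hcd (hinj _ _ mc md h), fun h => hce (hinj _ _ mc me h),
      fun h => hcf (hinj _ _ mc mf h)⟩, ⟨fun h => hde (hinj _ _ md me h), fun h => hdf (hinj _ _ md mf h)⟩,
      fun h => hef (hinj _ _ me mf h), not_false⟩
  · intro x hx y hy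
    simp only [List.mem_cons, List.not_mem_nil, or_false] at hx hy
    rcases hx with rfl | rfl | rfl | rfl | rfl <;> rcases hy with rfl | rfl | rfl | rfl | rfl <;>
      exact (hφc _ _ (by assumption) (by assumption)).map q
  · rw [← map_mul, ← map_mul, ← map_mul, ← map_mul]
    refine (QuotientGroup.eq_one_iff _).mpr (Subgroup.mem_center_iff.mpr fun w => Subtype.ext ?_)
    show (w : G) * ((g * b * g⁻¹) * (g * c * g⁻¹) * (g * d * g⁻¹) * (g * e * g⁻¹) * (g * f * g⁻¹)) =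
      (g * b * g⁻¹) * (g * c * g⁻¹) * (g * d * g⁻¹) * (g * e * g⁻¹) * (g * f * g⁻¹) * w
    rw [show (g * b * g⁻¹) * (g * c * g⁻¹) * (g * d * g⁻¹) * (g * e * g⁻¹) * (g * f * g⁻¹) = g * a * g⁻¹ by
      rw [← hp]; group]
    exact (closure_Ds_commute w.2).eq

theorem factorization_unique (hD : IsThreeTranspositionGroup D) (hprim : IsPrimitiveUnderConj D) {d₀ : G}
    (hd₀ : d₀ ∈ D)
    (h3 : pCore 3 ↥(Subgroup.closure (Ds D d₀)) ≤ Subgroup.center ↥(Subgroup.closure (Ds D d₀)))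
    (h2 : pCore 2 ↥(Subgroup.closure (Ds D d₀)) ≤ Subgroup.center ↥(Subgroup.closure (Ds D d₀)))
    (h : IsOfTypeM23 G D ∨ IsOfTypeM24 G D) {m : ℕ} (hm : m ≤ 3) {j : G} {l l' : List G}
    (hl : l.Nodup ∧ l.length = m ∧ (∀ a ∈ l, a ∈ D) ∧ (∀ a ∈ l, ∀ b ∈ l, Commute a b) ∧ l.prod = j)
    (hl' : l'.Nodup ∧ l'.length = m ∧ (∀ a ∈ l', a ∈ D) ∧ (∀ a ∈ l', ∀ b ∈ l', Commute a b) ∧ l'.prod = j) :
    ∀ x : G, x ∈ l ↔ x ∈ l' := by
  obtain ⟨hn, hlen, hmem, hc, hprod⟩ := hl
  obtain ⟨hn', hlen', hmem', hc', hprod'⟩ := hl'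
  interval_cases m
  · rw [List.length_eq_zero_iff.mp hlen, List.length_eq_zero_iff.mp hlen']
    exact fun _ => Iff.rfl
  · obtain ⟨a, rfl⟩ := List.length_eq_one_iff.mp hlen
    obtain ⟨d, rfl⟩ := List.length_eq_one_iff.mp hlen'
    simp only [List.prod_cons, List.prod_nil, mul_one] at hprod hprod'
    rw [hprod, hprod']
    exact fun _ => Iff.rfl
  all_goals have hcls := cls_of_group_prim hD hprim
  · obtain ⟨a, b, rfl⟩ := List.length_eq_two.mp hlen
    obtain ⟨c, d, rfl⟩ := List.length_eq_two.mp hlen'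
    simp only [List.prod_cons, List.prod_nil, mul_one] at hprod hprod'
    have hab : a ≠ b := by simpa using hn
    have hcd : c ≠ d := by simpa using hn'
    have ca := hc a (by simp) b (by simp)
    have hw : ∃ a ∈ D, ∃ b ∈ D, a ≠ b ∧ Commute a b :=
      ⟨a, hmem a (by simp), b, hmem b (by simp), hab, ca⟩
    rcases pair_unique hcls (cores_of_prim hcls hprim hw).1 (hmem a (by simp)) (hmem b (by simp))
      (hmem' c (by simp)) (hmem' d (by simp)) hab hcd ca (hc' c (by simp) d (by simp)) (hprod.trans hprod'.symm)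
      with ⟨rfl, rfl⟩ | ⟨rfl, rfl⟩ <;> intro x <;> simp [or_comm]
  · obtain ⟨a, b, c, rfl⟩ := List.length_eq_three.mp hlen
    obtain ⟨d, e, f, rfl⟩ := List.length_eq_three.mp hlen'
    simp only [List.nodup_cons, List.mem_cons, List.not_mem_nil, or_false, not_or, List.nodup_nil, and_true] at hn hn'
    obtain ⟨⟨hab, hac⟩, hbc, -⟩ := hn
    obtain ⟨⟨hde, hdf⟩, hef, -⟩ := hn'
    have mA : a ∈ D := hmem a (by simp)
    have mB : b ∈ D := hmem b (by simp)
    have mC : c ∈ D := hmem c (by simp)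
    have mD : d ∈ D := hmem' d (by simp)
    have mE : e ∈ D := hmem' e (by simp)
    have mF : f ∈ D := hmem' f (by simp)
    have cab := hc a (by simp) b (by simp)
    have cac := hc a (by simp) c (by simp)
    have cbc := hc b (by simp) c (by simp)
    have cde := hc' d (by simp) e (by simp)
    have cdf := hc' d (by simp) f (by simp)
    have cef := hc' e (by simp) f (by simp)
    have c2 := (cores_of_prim hcls hprim ⟨a, mA, b, mB, hab, cab⟩).1
    simp only [List.prod_cons, List.prod_nil, mul_one] at hprod hprod'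
    have habc : a * b * c = d * e * f := by simp only [mul_assoc]; exact hprod.trans hprod'.symm
    have hcross : ∀ y ∈ [d, e, f], ∀ x ∈ [a, b, c], Commute y x := by
      intro y hy x hx
      have hyc : Commute y (a * b * c) := by
        rw [habc]
        exact ((hc' y hy d (by simp)).mul_right (hc' y hy e (by simp))).mul_right (hc' y hy f (by simp))
      obtain ⟨h1, h2', h3'⟩ := (commute_mul3_iff hcls.1 mA mB mC (hmem' y hy) hab hac hbc cab cac cbc).mp hyc
      simp only [List.mem_cons, List.not_mem_nil, or_false] at hx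
      rcases hx with rfl | rfl | rfl <;> assumption
    have shared : ∀ p q r s t : G, q ∈ D → r ∈ D → s ∈ D → t ∈ D → q ≠ r → s ≠ t → Commute q r → Commute s t →
        p * q * r = p * s * t → ∀ x : G, (x = p ∨ x = q ∨ x = r) ↔ (x = p ∨ x = s ∨ x = t) := by
      intro p q r s t hq hr hs ht hqr hst cqr cst heq x
      rw [mul_assoc, mul_assoc p s t] at heq
      rcases pair_unique hcls c2 hq hr hs ht hqr hst cqr cst (mul_left_cancel heq) with ⟨rfl, rfl⟩ | ⟨rfl, rfl⟩ <;> tauto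
    have first : ∀ p q r : G, q ∈ D → r ∈ D → q ≠ r → Commute q r → p * q * r = d * e * f → p ∈ [d, e, f] →
        ∀ x : G, (x = p ∨ x = q ∨ x = r) ↔ (x = d ∨ x = e ∨ x = f) := by
      intro p q r hq hr hqr cqr heq hp x
      simp only [List.mem_cons, List.not_mem_nil, or_false] at hp
      rcases hp with rfl | rfl | rfl
      · exact shared p q r e f hq hr mE mF hqr hef cqr cef heq x
      · rw [cde.eq] at heq
        rw [shared p q r d f hq hr mD mF hqr hdf cqr cdf heq x]; tauto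
      · rw [mul_assoc d e, cef.eq, ← mul_assoc, cdf.eq] at heq
        rw [shared p q r d e hq hr mD mE hqr hde cqr cde heq x]; tauto
    intro x
    simp only [List.mem_cons, List.not_mem_nil, or_false]
    by_cases hA : a ∈ [d, e, f]
    · exact first a b c mB mC hbc cbc habc hA x
    by_cases hB : b ∈ [d, e, f]
    · rw [cab.eq] at habc
      rw [← first b a c mA mC hac cac habc hB x]; tauto
    by_cases hC : c ∈ [d, e, f]
    · rw [mul_assoc a b, cbc.eq, ← mul_assoc, cac.eq] at habc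
      rw [← first c a b mA mB hab cab habc hC x]; tauto
    exfalso
    have hp : b * c * d * e * f = a := by
      have hsq : (a * b * c) * (a * b * c) = 1 := by
        have e1 : Commute (a * b) c := cac.mul_left cbc
        rw [← sq, e1.mul_pow, cab.mul_pow, sq, sq, sq, mul_self hcls.1 mA, mul_self hcls.1 mB,
          mul_self hcls.1 mC, one_mul, one_mul]
      calc b * c * d * e * f = a * ((a * b * c) * (d * e * f)) := by
            simp only [mul_assoc, mul_mul_cancel_self (mul_self hcls.1 mA)]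
        _ = a := by rw [← habc, hsq, mul_one]
    refine six_false hcls hprim hd₀ h3 h2 h mA mB mC mD mE mF ?_ ?_ hp
    · simp only [List.mem_cons, List.not_mem_nil, or_false, not_or] at hA hB hC
      simp [hab, hac, hbc, hde, hdf, hef, hA, hB, hC]
    · intro p hp' q hq'
      have split : ∀ y ∈ [a, b, c, d, e, f], y ∈ [a, b, c] ∨ y ∈ [d, e, f] := by
        intro y hy
        simp only [List.mem_cons, List.not_mem_nil, or_false] at hy ⊢
        tauto
      rcases split p hp' with h1 | h1 <;> rcases split q hq' with h2' | h2'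
      exacts [hc p h1 q h2', (hcross q h2' p h1).symm, hcross p h1 q h2', hc' p h1 q h2']

end

end CfsgThreeTrans
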