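/-
Strongly regular relations: the square condition and tight vectors.
-/
import Mathlib

set_option autoImplicit false

namespace CfsgThreeTrans.Srg

open Matrix Finset

variable {V : Type*} [Fintype V] [DecidableEq V]

/-- The parameters of a strongly regular relation. -/
structure IsReg (R : V → V → Prop) [DecidableRel R] (k l m : ℕ) : Prop where
  symm : ∀ x y, R x y → R y x
  irrefl : ∀ x, ¬ R x x
  deg : ∀ x, (univ.filter fun y => R x y).card = k
  adj : ∀ x y, R x y → (univ.filter fun z => R x z ∧ R y z).card = l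
  far : ∀ x y, x ≠ y → ¬ R x y → (univ.filter fun z => R x z ∧ R y z).card = m

variable {R : V → V → Prop} [DecidableRel R] {k l m : ℕ}

/-- The adjacency matrix. -/
def adjM (R : V → V → Prop) [DecidableRel R] : Matrix V V ℤ := of fun x y => if R x y then 1 else 0

/-- The all-ones matrix. -/
def allOne (V : Type*) : Matrix V V ℤ := of fun _ _ => 1

theorem adj_symm (h : IsReg R k l m) : (adjM R)ᵀ = adjM R := by
  ext x y
  simp only [adjM, transpose_apply, of_apply]
  exact if_congr ⟨h.symm y x, h.symm x y⟩ rfl rfl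

theorem adj_sq (h : IsReg R k l m) : adjM R * adjM R =
    ((k : ℤ) - m) • (1 : Matrix V V ℤ) + ((l : ℤ) - m) • adjM R + (m : ℤ) • allOne V := by
  ext x y
  have e : (adjM R * adjM R) x y = ((univ.filter fun z => R x z ∧ R y z).card : ℤ) := by
    rw [mul_apply, Finset.natCast_card_filter]
    refine Finset.sum_congr rfl fun z _ => ?_
    simp only [adjM, of_apply]
    by_cases h1 : R x z <;> by_cases h2 : R z y <;>
      simp [h1, h2, fun e : R y z => h.symm y z e, show R y z ↔ R z y from ⟨h.symm y z, h.symm z y⟩]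
  rw [e]
  simp only [Matrix.add_apply, Matrix.smul_apply, smul_eq_mul, allOne, adjM, of_apply, one_apply]
  by_cases hxy : x = y
  · subst hxy
    rw [if_pos rfl, if_neg (h.irrefl x)]
    simp only [and_self]
    rw [h.deg x]
    ring
  · by_cases hR : R x y
    · rw [if_neg hxy, if_pos hR, h.adj x y hR]; ring
    · rw [if_neg hxy, if_neg hR, h.far x y hxy hR]; ring

theorem adj_allOne (h : IsReg R k l m) : adjM R * allOne V = (k : ℤ) • allOne V := by
  ext x y
  rw [mul_apply, Matrix.smul_apply, smul_eq_mul]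
  simp [allOne, adjM, Finset.sum_boole, h.deg x]

theorem allOne_adj (h : IsReg R k l m) : allOne V * adjM R = (k : ℤ) • allOne V := by
  have := congrArg transpose (adj_allOne h)
  rw [transpose_mul, adj_symm h, transpose_smul] at this
  exact this

theorem allOne_sq : allOne V * allOne V = (Fintype.card V : ℤ) • allOne V := by
  ext x y
  simp [allOne, mul_apply, Matrix.smul_apply]

/-- Double counting. -/
theorem count [Nonempty V] (h : IsReg R k l m) :
    ((k : ℤ) - m) + ((l : ℤ) - m) * k + (m : ℤ) * Fintype.card V = (k : ℤ) * k := by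
  obtain ⟨x⟩ := ‹Nonempty V›
  have h1 := congrArg (fun M : Matrix V V ℤ => (M * allOne V) x x) (adj_sq h)
  simp only [Matrix.mul_assoc, Matrix.add_mul, Matrix.smul_mul, Matrix.one_mul, adj_allOne h, allOne_sq,
    Matrix.mul_smul, smul_smul] at h1
  simp only [Matrix.add_apply, Matrix.smul_apply, smul_eq_mul, allOne, of_apply, mul_one] at h1
  linarith

/-- With an odd number of nontrivial eigenvalues the discriminant is a square. -/
theorem discr_square [Nonempty V] (h : IsReg R k l m) (hodd : Odd (Fintype.card V - 1))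
    (hne : (2 : ℤ) * k - ((l : ℤ) - m) ≠ 0) : IsSquare (((l : ℤ) - m) ^ 2 + 4 * ((k : ℤ) - m)) := by
  set d : ℤ := (l : ℤ) - m with hd
  set s : ℤ := d ^ 2 + 4 * ((k : ℤ) - m) with hs
  set T : Matrix V V ℤ := (2 : ℤ) • adjM R - d • (1 : Matrix V V ℤ) with hT
  have hTT : T * T = s • (1 : Matrix V V ℤ) + (4 * (m : ℤ)) • allOne V := by
    rw [hT, Matrix.sub_mul, Matrix.mul_sub, Matrix.mul_sub]
    simp only [Matrix.smul_mul, Matrix.mul_smul, Matrix.one_mul, Matrix.mul_one, adj_sq h, ← hd, hs]
    module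
  by_cases hs0 : s = 0
  · rw [hs0]; exact IsSquare.zero
  set q : ℚ := (s : ℚ) with hq
  have hq0 : q ≠ 0 := by rw [hq]; exact_mod_cast hs0
  set n := Fintype.card V
  have hdet : (((T.det : ℤ) : ℚ)) ^ 2 = q ^ (n - 1) * ((2 * k - d : ℤ) : ℚ) ^ 2 := by
    have e1 : (((T * T).det : ℤ) : ℚ) = (((T * T).map (Int.cast : ℤ → ℚ)).det) :=
      Int.cast_det _
    rw [det_mul, Int.cast_mul, ← pow_two] at e1
    rw [e1, hTT]
    have e2 : (s • (1 : Matrix V V ℤ) + (4 * (m : ℤ)) • allOne V).map (Int.cast : ℤ → ℚ) =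
        q • (1 + replicateCol Unit (fun _ : V => 4 * (m : ℚ) / q) * replicateRow Unit (fun _ : V => (1 : ℚ))) := by
      ext x y
      simp only [map_apply, Matrix.add_apply, Matrix.smul_apply, allOne, of_apply, smul_eq_mul, mul_apply,
        replicateCol_apply, replicateRow_apply, Finset.univ_unique, Finset.sum_singleton, one_apply, mul_one, hq]
      push_cast
      split <;> field_simp <;> simp
    rw [e2, det_smul, det_one_add_replicateCol_mul_replicateRow]
    have hdot : (fun _ : V => (1 : ℚ)) ⬝ᵥ (fun _ : V => 4 * (m : ℚ) / q) = n * (4 * (m : ℚ) / q) := by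
      simp [dotProduct, n]
    rw [hdot]
    have hc : q + (n : ℚ) * (4 * m) = ((2 * k - d : ℤ) : ℚ) ^ 2 := by
      rw [hq, hs, hd]
      have := count h
      have h' : (((k : ℤ) - m) + ((l : ℤ) - m) * k + (m : ℤ) * n : ℚ) = (k : ℚ) * k := by exact_mod_cast this
      push_cast at h' ⊢
      linear_combination 4 * h'
    rw [← hc]
    obtain ⟨j, hj⟩ : ∃ j, n = j + 1 := ⟨n - 1, by have := Fintype.card_pos (α := V); omega⟩
    rw [show Fintype.card V = j + 1 from hj, hj, Nat.add_sub_cancel, pow_succ]
    field_simp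
  obtain ⟨j, hj⟩ := hodd
  rw [hj, pow_succ q (2 * j), pow_mul' q 2 j] at hdet
  have hk : ((2 * k - d : ℤ) : ℚ) ≠ 0 := Int.cast_ne_zero.mpr hne
  rw [← Rat.isSquare_intCast_iff]
  refine ⟨((T.det : ℤ) : ℚ) / (q ^ j * ((2 * k - d : ℤ) : ℚ)), ?_⟩
  rw [div_mul_div_comm, ← pow_two, hdet]
  rw [← hq]
  field_simp

/-- A combination of adjacency, identity and all-ones matrices. -/
def comb (R : V → V → Prop) [DecidableRel R] (a b : ℤ) : Matrix V V ℤ :=
  a • adjM R + b • (1 : Matrix V V ℤ) - allOne V

/-- A vector of norm zero for a scaled idempotent combination is in its kernel. -/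
theorem tight (h : IsReg R k l m) {a b c : ℤ} (h1 : a * a * ((l : ℤ) - m) + 2 * a * b = c * a)
    (h2 : a * a * ((k : ℤ) - m) + b * b = c * b)
    (h3 : a * a * m + Fintype.card V - 2 * a * k - 2 * b = -c) {y : V → ℤ}
    (hy : y ⬝ᵥ (comb R a b *ᵥ y) = 0) : comb R a b *ᵥ y = 0 := by
  have hsym : (comb R a b)ᵀ = comb R a b := by
    rw [comb, transpose_sub, transpose_add, transpose_smul, transpose_smul, adj_symm h, transpose_one]
    rfl
  have hsq : comb R a b * comb R a b = c • comb R a b := by
    simp only [comb, Matrix.sub_mul, Matrix.mul_sub, Matrix.add_mul, Matrix.mul_add, Matrix.smul_mul,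
      Matrix.mul_smul, Matrix.one_mul, Matrix.mul_one, adj_sq h, adj_allOne h, allOne_adj h, allOne_sq]
    ext x y
    simp only [Matrix.add_apply, Matrix.sub_apply, Matrix.smul_apply, smul_eq_mul]
    linear_combination (1 : Matrix V V ℤ) x y * h2 + adjM R x y * h1 + allOne V x y * h3
  have hz : (comb R a b *ᵥ y) ⬝ᵥ (comb R a b *ᵥ y) = 0 := by
    rw [dotProduct_mulVec, ← mulVec_transpose, hsym, mulVec_mulVec, hsq, smul_mulVec, smul_dotProduct,
      dotProduct_comm, hy, smul_zero]
  exact dotProduct_self_eq_zero.mp hz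

end CfsgThreeTrans.Srg
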