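/-
A counting argument: an involutive symmetry of a commuting graph with the parameters of type M(22) has a fixed point.
-/
import Cfsg.Agent.Lib.ThreeTrans.Classes
import Mathlib.Algebra.BigOperators.Ring.Finset
import Mathlib.Tactic.NormNum
import Mathlib.Tactic.Linarith

set_option autoImplicit false
set_option linter.unusedSectionVars false

namespace CfsgThreeTrans.FreeInvol

open Cfsg

universe u

variable {G : Type u} [Group G] [Finite G] {W : Set G}

/-- The parameters of the commuting graph. -/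
structure Geo (W : Set G) : Prop where
  third : ∀ a ∈ W, ∀ b ∈ W, ¬ Commute a b → a * b * a ∈ W ∧ a * b * a = b * a * b
  deg : ∀ a ∈ W, (Ds W a).ncard = 693
  near : ∀ a ∈ W, ∀ b ∈ Ds W a, (Ds W a ∩ Ds W b).ncard = 180
  far : ∀ a ∈ W, ∀ c ∈ W, ¬ Commute a c → (Ds W a ∩ Ds W c).ncard = 126
  far_one : ∀ a ∈ W, ∀ c ∈ W, ¬ Commute a c → ∀ p ∈ Ds W a ∩ Ds W c,
    (Ds W a ∩ Ds W c ∩ Ds W p).ncard = 45
  far_two : ∀ a ∈ W, ∀ c ∈ W, ¬ Commute a c → ∀ p ∈ Ds W a ∩ Ds W c, ∀ q ∈ Ds W a ∩ Ds W c ∩ Ds W p,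
    (Ds W a ∩ Ds W c ∩ Ds W p ∩ Ds W q).ncard ≤ 12
  clique : ∀ A ⊆ W, (∀ a ∈ A, ∀ b ∈ A, Commute a b) → (∀ c ∈ W, (∀ a ∈ A, Commute a c) → c ∈ A) → A.ncard = 22

theorem mem_symm {a b : G} (ha : a ∈ W) (h : b ∈ Ds W a) : a ∈ Ds W b := ⟨ha, h.2.1.symm, h.2.2.symm⟩

theorem ind_mul (p q : Prop) [Decidable p] [Decidable q] :
    (if p then (1 : ℤ) else 0) * (if q then 1 else 0) = if p ∧ q then 1 else 0 := by
  by_cases hp : p <;> by_cases hq : q <;> simp [hp, hq]

theorem sum_ind (s : Finset G) (p : G → Prop) [DecidablePred p] (S : Set G) (h : ∀ x, x ∈ S ↔ x ∈ s ∧ p x) :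
    ∑ x ∈ s, (if p x then 1 else 0 : ℤ) = (S.ncard : ℤ) := by
  rw [Finset.sum_boole]
  congr 1
  rw [← Set.ncard_coe_finset]
  congr 1
  ext x
  simp [h x]

section
variable (hW : Geo W)
include hW

open Classical in
/-- A commuting set of common partners of a non-commuting pair, and the members seeing it. -/
theorem far_clique {a c : G} (ha : a ∈ W) (hc : c ∈ W) (hac : ¬ Commute a c) (K : Finset G)
    (hK : ∀ x ∈ K, x ∈ Ds W a ∩ Ds W c) (hcom : ∀ x ∈ K, ∀ y ∈ K, Commute x y) :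
    4 * (K.card : ℤ) * (46 - K.card) ≤
        K.card * (46 - K.card) + K.card * (K.card - 1) * (14 - K.card) + 4 * (126 - K.card) ∧
      (K.card = 6 → ∀ u ∈ Ds W a ∩ Ds W c, u ∉ K → (K.filter fun p => u ∈ Ds W p).card = 2) := by
  set U := Ds W a ∩ Ds W c
  set s := ((Set.toFinite U).toFinset) \ K
  have hs : ∀ u, u ∈ s ↔ u ∈ U ∧ u ∉ K := fun u => by simp [s]
  set m := (K.card : ℤ) with hm
  let r : G → G → ℤ := fun u p => if u ∈ Ds W p then 1 else 0
  let k : G → ℤ := fun u => ∑ p ∈ K, r u p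
  have hKW : ∀ p ∈ K, p ∈ W := fun p hp => (hK p hp).1.1
  have hone : ∀ p ∈ K, ∑ u ∈ s, r u p = 46 - m := by
    intro p hp
    refine (sum_ind s (fun u => u ∈ Ds W p) ((U ∩ Ds W p) \ ↑(K.erase p)) fun u => by
      simp only [hs, Set.mem_diff, Set.mem_inter_iff, Finset.coe_erase, Set.mem_singleton_iff, Finset.mem_coe]
      exact ⟨fun h => ⟨⟨h.1.1, fun hu => h.2 ⟨hu, h.1.2.2.1⟩⟩, h.1.2⟩, fun h => ⟨⟨h.1.1, h.2⟩, fun hu => h.1.2 hu.1⟩⟩).trans ?_
    have hsub : (↑(K.erase p) : Set G) ⊆ U ∩ Ds W p := fun x hx => by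
      obtain ⟨hxp, hxK⟩ := Finset.mem_erase.mp hx
      exact ⟨hK x hxK, hKW x hxK, hxp, hcom p hp x hxK⟩
    have e := Set.ncard_diff_add_ncard_of_subset hsub
    rw [hW.far_one a ha c hc hac p (hK p hp), Set.ncard_coe_finset, Finset.card_erase_of_mem hp] at e
    have : 1 ≤ K.card := Finset.card_pos.mpr ⟨p, hp⟩
    omega
  have htwo : ∀ p ∈ K, ∀ q ∈ K, q ≠ p → ∑ u ∈ s, r u p * r u q ≤ 14 - m := by
    intro p hp q hq hqp
    have e0 : ∀ u, r u p * r u q = if u ∈ Ds W p ∧ u ∈ Ds W q then 1 else 0 := fun u => ind_mul _ _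
    rw [Finset.sum_congr rfl fun u _ => e0 u]
    refine le_of_eq_of_le (sum_ind s (fun u => u ∈ Ds W p ∧ u ∈ Ds W q) ((U ∩ Ds W p ∩ Ds W q) \ ↑((K.erase p).erase q)) fun u => by
        simp only [hs, Set.mem_diff, Set.mem_inter_iff, Finset.coe_erase, Set.mem_singleton_iff, Finset.mem_coe]
        exact ⟨fun h => ⟨⟨h.1.1.1, fun hu => h.2 ⟨⟨hu, h.1.1.2.2.1⟩, h.1.2.2.1⟩⟩, h.1.1.2, h.1.2⟩,
          fun h => ⟨⟨⟨h.1.1, h.2.1⟩, h.2.2⟩, fun hu => h.1.2 hu.1.1⟩⟩) ?_
    have hsub : (↑((K.erase p).erase q) : Set G) ⊆ U ∩ Ds W p ∩ Ds W q := fun x hx => by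
      obtain ⟨hxq, hx'⟩ := Finset.mem_erase.mp hx
      obtain ⟨hxp, hxK⟩ := Finset.mem_erase.mp hx'
      exact ⟨⟨hK x hxK, hKW x hxK, hxp, hcom p hp x hxK⟩, hKW x hxK, hxq, hcom q hq x hxK⟩
    have e := Set.ncard_diff_add_ncard_of_subset hsub
    have h12 := hW.far_two a ha c hc hac p (hK p hp) q ⟨hK q hq, hKW q hq, hqp, hcom p hp q hq⟩
    rw [Set.ncard_coe_finset, Finset.card_erase_of_mem (Finset.mem_erase.mpr ⟨hqp, hq⟩),
      Finset.card_erase_of_mem hp] at e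
    have : 2 ≤ K.card := Finset.one_lt_card.mpr ⟨p, hp, q, hq, hqp.symm⟩
    change (U ∩ Ds W p ∩ Ds W q).ncard ≤ 12 at h12
    omega
  have hn : (s.card : ℤ) = 126 - m := by
    have e := Finset.card_sdiff_add_card_eq_card (s := K) (t := (Set.toFinite U).toFinset)
      (fun x hx => by simpa using hK x hx)
    rw [← Set.ncard_eq_toFinset_card U, hW.far a ha c hc hac] at e
    change s.card + K.card = 126 at e
    omega
  have hk1 : ∑ u ∈ s, k u = m * (46 - m) := by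
    simp only [k]
    rw [Finset.sum_comm, Finset.sum_congr rfl hone, Finset.sum_const, nsmul_eq_mul]
  have hk2 : ∑ u ∈ s, k u * k u ≤ m * (46 - m) + m * (m - 1) * (14 - m) := by
    simp only [k, Finset.sum_mul_sum]
    rw [Finset.sum_comm]
    refine (Finset.sum_le_sum (g := fun _ => (46 - m) + (m - 1) * (14 - m)) fun p hp => ?_).trans (le_of_eq ?_)
    · rw [Finset.sum_comm, ← Finset.add_sum_erase _ _ hp]
      have h0 : ∀ u, r u p * r u p = r u p := fun u => by by_cases h : u ∈ Ds W p <;> simp [r, h]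
      rw [Finset.sum_congr rfl fun u _ => h0 u, hone p hp]
      refine add_le_add le_rfl ((Finset.sum_le_sum fun q hq => htwo p hp q (Finset.mem_of_mem_erase hq)
        (Finset.ne_of_mem_erase hq)).trans (le_of_eq ?_))
      rw [Finset.sum_const, nsmul_eq_mul, Finset.card_erase_of_mem hp, Nat.cast_sub (Finset.card_pos.mpr ⟨p, hp⟩)]
      simp [hm]
    · rw [Finset.sum_const, nsmul_eq_mul]
      ring
  have hsq : ∑ u ∈ s, (k u - 2) * (k u - 2) = ∑ u ∈ s, k u * k u - 4 * (m * (46 - m)) + 4 * (126 - m) := by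
    rw [← hk1, ← hn, Finset.mul_sum, ← Finset.sum_sub_distrib,
      show (4 : ℤ) * s.card = ∑ u ∈ s, 4 by rw [Finset.sum_const, nsmul_eq_mul]; ring, ← Finset.sum_add_distrib]
    exact Finset.sum_congr rfl fun u _ => by ring
  have hnn : 0 ≤ ∑ u ∈ s, (k u - 2) * (k u - 2) := Finset.sum_nonneg fun u _ => mul_self_nonneg _
  refine ⟨by linarith, fun h6 u hu huK => ?_⟩
  have h0 : ∑ u ∈ s, (k u - 2) * (k u - 2) = 0 := by
    have : m = 6 := by rw [hm, h6]; rfl
    rw [this] at hk2 hsq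
    linarith
  have := (Finset.sum_eq_zero_iff_of_nonneg fun u _ => mul_self_nonneg _).mp h0 u ((hs u).mpr ⟨hu, huK⟩)
  rw [mul_self_eq_zero, sub_eq_zero] at this
  simp only [k, r, Finset.sum_boole] at this
  exact_mod_cast this

open Classical in
/-- An involutive symmetry fixes a member. -/
theorem fixes (σ : G ≃* G) (hσ : ∀ w ∈ W, σ w ∈ W) (hinv : ∀ w ∈ W, σ (σ w) = w) (hne : W.Nonempty) :
    ∃ w ∈ W, σ w = w := by
  by_contra hcon
  push Not at hcon
  have hall : ∀ w ∈ W, Commute w (σ w) := by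
    intro w hw
    by_contra h
    obtain ⟨h1, h2⟩ := hW.third w hw (σ w) (hσ w hw) h
    refine hcon _ h1 ?_
    rw [map_mul, map_mul, hinv w hw, ← h2]
  have hcomm : ∀ {x y : G}, Commute x y → Commute (σ x) (σ y) := fun {x y} h => by
    show σ x * σ y = σ y * σ x
    rw [← map_mul, ← map_mul, h.eq]
  obtain ⟨A, ⟨hAW, hAc, hAσ⟩, hAmax⟩ := Set.exists_max_image
    {A : Set G | A ⊆ W ∧ (∀ a ∈ A, ∀ b ∈ A, Commute a b) ∧ ∀ a ∈ A, σ a ∈ A} Set.ncard (Set.toFinite _)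
    ⟨∅, Set.empty_subset _, by simp, by simp⟩
  have hmax : ∀ c ∈ W, (∀ a ∈ A, Commute a c) → c ∈ A := by
    intro c hc hca
    by_contra hcA
    have hσc : ∀ a ∈ A, Commute a (σ c) := fun a ha => by
      have := hcomm (hca _ (hAσ a ha))
      rwa [hinv a (hAW ha)] at this
    have hB : (insert c (insert (σ c) A)) ∈
        {A : Set G | A ⊆ W ∧ (∀ a ∈ A, ∀ b ∈ A, Commute a b) ∧ ∀ a ∈ A, σ a ∈ A} := by
      refine ⟨Set.insert_subset hc (Set.insert_subset (hσ c hc) hAW), ?_, ?_⟩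
      · rintro x (ex | ex | hx) y (ey | ey | hy) <;> (try rw [ex]) <;> (try rw [ey])
        exacts [hall c hc, (hca y hy).symm, (hall c hc).symm, (hσc y hy).symm,
          hca x hx, hσc x hx, hAc x hx y hy]
      · rintro x (ex | ex | hx) <;> (try rw [ex])
        exacts [Or.inr (Or.inl rfl), Or.inl (hinv c hc), Or.inr (Or.inr (hAσ x hx))]
    have hle := hAmax _ hB
    have h1 : A.ncard < (insert c A).ncard := by rw [Set.ncard_insert_of_notMem hcA]; omega
    have h2 : (insert c A).ncard ≤ (insert c (insert (σ c) A)).ncard :=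
      Set.ncard_le_ncard (Set.insert_subset_insert (Set.subset_insert _ _)) (Set.toFinite _)
    omega
  have h22 := hW.clique A hAW hAc hmax
  set Af := (Set.toFinite A).toFinset with hAf
  have memA : ∀ x, x ∈ Af ↔ x ∈ A := fun x => Set.Finite.mem_toFinset _
  have hAf22 : Af.card = 22 := by rw [hAf, ← Set.ncard_eq_toFinset_card A, h22]
  set s := ((Set.toFinite W).toFinset) \ Af
  have hs : ∀ c, c ∈ s ↔ c ∈ W ∧ c ∉ A := fun c => by simp [s, memA]
  let r : G → G → ℤ := fun c a => if c ∈ Ds W a then 1 else 0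
  let h : G → ℤ := fun c => ∑ a ∈ Af, r c a
  let φ : G → ℤ := fun c => ∑ a ∈ Af, r c a * r c (σ a)
  have hh : ∀ c, h c = ((Af.filter fun a => c ∈ Ds W a).card : ℤ) := fun c => Finset.sum_boole _ _
  have cnt1 : ∀ a ∈ Af, ∑ c ∈ s, r c a = 672 := by
    intro a ha
    rw [memA] at ha
    refine (sum_ind s (fun c => c ∈ Ds W a) (Ds W a \ (A \ {a})) fun c => by
      simp only [hs, Set.mem_diff, Set.mem_singleton_iff]
      exact ⟨fun h => ⟨⟨h.1.1, fun hc => h.2 ⟨hc, h.1.2.1⟩⟩, h.1⟩, fun h => ⟨h.2, fun hc => h.1.2 hc.1⟩⟩).trans ?_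
    have e := Set.ncard_diff_add_ncard_of_subset (s := A \ {a}) (t := Ds W a)
      (fun x hx => ⟨hAW hx.1, hx.2, hAc a ha x hx.1⟩)
    rw [hW.deg a (hAW ha), Set.ncard_diff_singleton_of_mem ha, h22] at e
    omega
  have cnt2 : ∀ a ∈ Af, ∀ b ∈ Af, b ≠ a → ∑ c ∈ s, r c a * r c b = 160 := by
    intro a ha b hb hba
    rw [memA] at ha hb
    have e0 : ∀ c, r c a * r c b = if c ∈ Ds W a ∧ c ∈ Ds W b then 1 else 0 := fun c => ind_mul _ _
    rw [Finset.sum_congr rfl fun c _ => e0 c]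
    refine (sum_ind s (fun c => c ∈ Ds W a ∧ c ∈ Ds W b) ((Ds W a ∩ Ds W b) \ ((A \ {a}) \ {b})) fun c => by
        simp only [hs, Set.mem_diff, Set.mem_singleton_iff, Set.mem_inter_iff]
        exact ⟨fun h => ⟨⟨h.1.1.1, fun hc => h.2 ⟨⟨hc, h.1.1.2.1⟩, h.1.2.2.1⟩⟩, h.1⟩,
          fun h => ⟨h.2, fun hc => h.1.2 hc.1.1⟩⟩).trans ?_
    have e := Set.ncard_diff_add_ncard_of_subset (s := (A \ {a}) \ {b}) (t := Ds W a ∩ Ds W b)
      (fun x hx => ⟨⟨hAW hx.1.1, hx.1.2, hAc a ha x hx.1.1⟩, hAW hx.1.1, hx.2, hAc b hb x hx.1.1⟩)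
    rw [hW.near a (hAW ha) b ⟨hAW hb, hba, hAc a ha b hb⟩, Set.ncard_diff_singleton_of_mem (show b ∈ A \ {a} from ⟨hb, hba⟩),
      Set.ncard_diff_singleton_of_mem ha, h22] at e
    omega
  have hsum : ∑ c ∈ s, h c = 14784 := by
    simp only [h]
    rw [Finset.sum_comm, Finset.sum_congr rfl cnt1, Finset.sum_const, hAf22]
    norm_num
  have hsum2 : ∑ c ∈ s, h c * h c = 88704 := by
    simp only [h, Finset.sum_mul_sum]
    rw [Finset.sum_comm, Finset.sum_congr rfl (g := fun _ => (4032 : ℤ)), Finset.sum_const, hAf22]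
    · norm_num
    intro a ha
    rw [Finset.sum_comm, ← Finset.add_sum_erase _ _ ha,
      Finset.sum_congr rfl (g := fun c => r c a) (fun c _ => by by_cases h : c ∈ Ds W a <;> simp [r, h]),
      cnt1 a ha, Finset.sum_congr rfl fun b hb => cnt2 a ha b (Finset.mem_of_mem_erase hb) (Finset.ne_of_mem_erase hb),
      Finset.sum_const, Finset.card_erase_of_mem ha, hAf22]
    norm_num
  have hφ : ∑ c ∈ s, φ c = 3520 := by
    simp only [φ]
    rw [Finset.sum_comm, Finset.sum_congr rfl fun a ha => cnt2 a ha (σ a) ((memA _).mpr (hAσ a ((memA a).mp ha)))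
      (hcon a (hAW ((memA a).mp ha))), Finset.sum_const, hAf22]
    norm_num
  have hout : ∀ c ∈ s, ∃ a ∈ A, ¬ Commute a c := fun c hc => by
    by_contra h
    push Not at h
    exact ((hs c).mp hc).2 (hmax c ((hs c).mp hc).1 h)
  have hle6 : ∀ c ∈ s, h c ≤ 6 := by
    intro c hc
    by_contra hlt
    rw [hh] at hlt
    obtain ⟨a, ha, hac⟩ := hout c hc
    obtain ⟨K, hKsub, hK7⟩ := Finset.exists_subset_card_eq (s := Af.filter fun x => c ∈ Ds W x) (n := 7) (by omega)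
    have hK : ∀ x ∈ K, x ∈ Ds W a ∩ Ds W c := fun x hx => by
      obtain ⟨hxA, hxc⟩ := Finset.mem_filter.mp (hKsub hx)
      rw [memA] at hxA
      exact ⟨⟨hAW hxA, fun e => hac (e ▸ hxc.2.2), hAc a ha x hxA⟩, mem_symm (hAW hxA) hxc⟩
    have := (far_clique hW (hAW ha) ((hs c).mp hc).1 hac K hK fun x hx y hy =>
      hAc x ((memA x).mp (Finset.mem_filter.mp (hKsub hx)).1) y ((memA y).mp (Finset.mem_filter.mp (hKsub hy)).1)).1
    rw [hK7] at this
    norm_num at this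
  have hdich : ∀ c ∈ s, h c = 0 ∨ h c = 6 := by
    have hz : ∑ c ∈ s, h c * (6 - h c) = 0 := by
      simp only [mul_sub, Finset.sum_sub_distrib, ← Finset.sum_mul, hsum, hsum2]
      norm_num
    intro c hc
    have hnn : ∀ c ∈ s, 0 ≤ h c * (6 - h c) := fun c hc =>
      mul_nonneg (by rw [hh]; exact Int.natCast_nonneg _) (sub_nonneg.mpr (hle6 c hc))
    rcases mul_eq_zero.mp ((Finset.sum_eq_zero_iff_of_nonneg hnn).mp hz c hc) with e | e
    exacts [Or.inl e, Or.inr (sub_eq_zero.mp e).symm]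
  have hkey : ∀ c ∈ s, h c ≤ 3 * φ c := by
    intro c hc
    obtain ⟨hcW, hcA⟩ := (hs c).mp hc
    have hφn : φ c = ((Af.filter fun a => c ∈ Ds W a ∧ c ∈ Ds W (σ a)).card : ℤ) := by
      rw [← Finset.sum_boole]
      exact Finset.sum_congr rfl fun a _ => ind_mul _ _
    rcases hdich c hc with h0 | h6
    · rw [h0, hφn]; positivity
    rw [h6, hφn]
    rw [hh] at h6
    set H := Af.filter fun a => c ∈ Ds W a
    set H' := Af.filter fun a => c ∈ Ds W (σ a)
    have hH'H : H' = H.image σ := by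
      ext a
      simp only [H, H', Finset.mem_filter, Finset.mem_image, memA]
      exact ⟨fun ⟨ha, hca⟩ => ⟨σ a, ⟨hAσ a ha, hca⟩, hinv a (hAW ha)⟩,
        fun ⟨b, ⟨hb, hcb⟩, e⟩ => by subst e; exact ⟨hAσ b hb, by rwa [hinv b (hAW hb)]⟩⟩
    have hH'6 : H'.card = 6 := by
      rw [hH'H, Finset.card_image_of_injective _ σ.injective]
      exact_mod_cast h6
    have hand : (Af.filter fun a => c ∈ Ds W a ∧ c ∈ Ds W (σ a)) = H ∩ H' := by
      ext a
      simp only [H, H', Finset.mem_inter, Finset.mem_filter]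
      tauto
    rw [hand]
    by_cases hsub : H ⊆ H'
    · rw [Finset.inter_eq_left.mpr hsub]; omega
    obtain ⟨a, haH, haH'⟩ := Finset.not_subset.mp hsub
    obtain ⟨haA, hca⟩ := Finset.mem_filter.mp haH
    rw [memA] at haA
    have hc'A : σ c ∉ A := fun e => hcA (hinv c hcW ▸ hAσ _ e)
    have hac' : ¬ Commute a (σ c) := fun hcc => by
      refine haH' (Finset.mem_filter.mpr ⟨(memA a).mpr haA, hcW, fun e => hcA (e ▸ hAσ a haA), ?_⟩)
      have := hcomm hcc
      rwa [hinv c hcW] at this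
    have hK : ∀ x ∈ H', x ∈ Ds W a ∩ Ds W (σ c) := fun x hx => by
      obtain ⟨hxA, hxc⟩ := Finset.mem_filter.mp hx
      rw [memA] at hxA
      refine ⟨⟨hAW hxA, fun e => haH' (e ▸ hx), hAc a haA x hxA⟩, hAW hxA, fun e => hc'A (e ▸ hxA), ?_⟩
      have := hcomm hxc.2.2
      rw [hinv x (hAW hxA)] at this
      exact this.symm
    have h2 := (far_clique hW (hAW haA) (hσ c hcW) hac' H' hK fun x hx y hy =>
      hAc x ((memA x).mp (Finset.mem_filter.mp hx).1) y ((memA y).mp (Finset.mem_filter.mp hy).1)).2 hH'6 c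
      ⟨hca, hcW, (hcon c hcW).symm, (hall c hcW).symm⟩
      (fun e => hcA ((memA c).mp (Finset.mem_filter.mp e).1))
    have hf : (H'.filter fun p => c ∈ Ds W p) = H ∩ H' := by
      ext x
      simp only [H, H', Finset.mem_inter, Finset.mem_filter]
      tauto
    rw [hf] at h2
    rw [h2]
    norm_num
  have := Finset.sum_le_sum hkey
  rw [← Finset.mul_sum, hφ, hsum] at this
  norm_num at this

end

end CfsgThreeTrans.FreeInvol
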