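/-
Ten transpositions with the commuting graph of Petersen.
-/
import Cfsg.Agent.Lib.ThreeTrans.M22.InvolClasses
import Cfsg.Agent.S2530
import Mathlib.GroupTheory.SpecificGroups.Alternating

set_option autoImplicit false
set_option linter.unusedSectionVars false

namespace CfsgThreeTrans.Petersen

open Cfsg CfsgLib

universe u

variable {G : Type u} [Group G] [Finite G] {D : Set G}

abbrev P5 := Equiv.Perm (Fin 5)

theorem perm_commutes : ∀ σ : P5,
    (∀ i : Fin 4, σ * Equiv.swap i.castSucc i.succ = Equiv.swap i.castSucc i.succ * σ) → σ = 1 := by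
  decide +kernel

theorem perm_pair : ∀ i j : Fin 5, i ≠ j → ∃ σ : P5, σ * Equiv.swap 0 1 * σ⁻¹ = Equiv.swap i j := by
  decide +kernel

theorem perm_far : ∀ i j : Fin 5, i ≠ j →
    ¬ (Equiv.swap 0 1 * Equiv.swap i j = Equiv.swap i j * Equiv.swap (0 : Fin 5) 1) →
    ∃ σ : P5, σ * Equiv.swap 0 1 = Equiv.swap 0 1 * σ ∧ σ * Equiv.swap 1 2 * σ⁻¹ = Equiv.swap i j := by
  decide +kernel

theorem perm_two : ∀ i j : Fin 5, i ≠ j → Equiv.swap i j ≠ Equiv.swap 0 1 →
    Equiv.swap 0 1 * Equiv.swap i j = Equiv.swap i j * Equiv.swap (0 : Fin 5) 1 →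
    ¬ (Equiv.swap 1 2 * Equiv.swap i j = Equiv.swap i j * Equiv.swap (1 : Fin 5) 2) →
    Equiv.swap i j = Equiv.swap 2 3 ∨ Equiv.swap i j = Equiv.swap 2 4 := by decide +kernel

theorem perm_last : ∀ i j : Fin 5, i ≠ j → Equiv.swap i j ≠ Equiv.swap 0 1 →
    Equiv.swap 0 1 * Equiv.swap i j = Equiv.swap i j * Equiv.swap (0 : Fin 5) 1 →
    Equiv.swap 1 2 * Equiv.swap i j = Equiv.swap i j * Equiv.swap (1 : Fin 5) 2 →
    Equiv.swap i j = Equiv.swap 3 4 := by decide +kernel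

theorem perm_facts : (Equiv.swap (2 : Fin 5) 4 ≠ Equiv.swap 2 3 ∧ Equiv.swap (2 : Fin 5) 4 ≠ Equiv.swap 0 1 ∧
    Equiv.swap 0 1 * Equiv.swap 2 4 = Equiv.swap 2 4 * Equiv.swap (0 : Fin 5) 1 ∧
    ¬ (Equiv.swap 1 2 * Equiv.swap 2 4 = Equiv.swap 2 4 * Equiv.swap (1 : Fin 5) 2) ∧
    Equiv.swap (3 : Fin 5) 4 * Equiv.swap 2 3 * (Equiv.swap 3 4)⁻¹ = Equiv.swap 2 4) ∧
    (Equiv.swap (0 : Fin 5) 1 ≠ Equiv.swap 2 3 ∧
      Equiv.swap (3 : Fin 5) 4 * Equiv.swap 0 1 = Equiv.swap 0 1 * Equiv.swap 3 4 ∧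
      Equiv.swap (3 : Fin 5) 4 * Equiv.swap 1 2 = Equiv.swap 1 2 * Equiv.swap 3 4) ∧
    (Finset.univ.filter fun σ : P5 => ∃ i j : Fin 5, i ≠ j ∧ σ = Equiv.swap i j).card = 10 := by decide +kernel

/-- Four members in the pattern of the simple transpositions. -/
theorem exists_hom_five (hD : IsThreeTranspositionSet D) {d p a b : G} (hd : d ∈ D) (hp : p ∈ D) (ha : a ∈ D)
    (hb : b ∈ D) (hdp : ¬ Commute d p) (hda : Commute d a) (hdb : Commute d b) (hpa : ¬ Commute p a)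
    (hpb : Commute p b) (hab : ¬ Commute a b) (hne : d ≠ a) :
    ∃ φ : P5 →* G, Function.Injective φ ∧ φ (Equiv.swap 0 1) = d ∧ φ (Equiv.swap 1 2) = p ∧
      φ (Equiv.swap 2 3) = a ∧ φ (Equiv.swap 3 4) = b ∧ φ.range = Subgroup.closure {d, p, a, b} := by
  classical
  obtain ⟨cs, hcs⟩ := Cfsg.Agent.S2530.result 4
  let v : Fin 4 → G := ![d, p, a, b]
  have h3 : ∀ {x y : G}, x ∈ D → y ∈ D → ¬ Commute x y → (x * y) ^ 3 = 1 ∧ (y * x) ^ 3 = 1 := fun hx hy he =>
    ⟨pow_three hD hx hy he, pow_three hD hy hx (fun e => he e.symm)⟩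
  have h2 : ∀ {x y : G}, x ∈ D → y ∈ D → Commute x y → (x * y) ^ 2 = 1 ∧ (y * x) ^ 2 = 1 := fun hx hy he =>
    ⟨(commute_iff_sq (hD.1 _ hx) (hD.1 _ hy)).mp he, (commute_iff_sq (hD.1 _ hy) (hD.1 _ hx)).mp he.symm⟩
  have hv : (CoxeterMatrix.A 4).IsLiftable v := by
    intro i j
    fin_cases i <;> fin_cases j <;>
      simp [CoxeterMatrix.A, v, mul_self hD hd, mul_self hD hp, mul_self hD ha, mul_self hD hb,
        h3 hd hp hdp, h3 hp ha hpa, h3 ha hb hab, h2 hd ha hda, h2 hd hb hdb, h2 hp hb hpb]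
  let φ : P5 →* G := cs.lift ⟨v, hv⟩
  have hφ : ∀ i : Fin 4, φ (Equiv.swap i.castSucc i.succ) = v i := fun i => by
    rw [← hcs i]; exact cs.lift_apply_simple hv i
  have e0 : φ (Equiv.swap 0 1) = d := hφ 0
  have e1 : φ (Equiv.swap 1 2) = p := hφ 1
  have e2 : φ (Equiv.swap 2 3) = a := hφ 2
  have e3 : φ (Equiv.swap 3 4) = b := hφ 3
  refine ⟨φ, ?_, e0, e1, e2, e3, le_antisymm ?_ ((Subgroup.closure_le _).mpr ?_)⟩
  · haveI : IsSimpleGroup (alternatingGroup (Fin 5)) :=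
      alternatingGroup.isSimpleGroup (by simp [Nat.card_eq_fintype_card])
    have hK : (φ.comp (alternatingGroup (Fin 5)).subtype).ker = ⊥ := by
      refine ((MonoidHom.normal_ker _).eq_bot_or_eq_top).resolve_right fun ht => ?_
      have hmem : Equiv.swap (0 : Fin 5) 1 * Equiv.swap 2 3 ∈ alternatingGroup (Fin 5) := by
        rw [Equiv.Perm.mem_alternatingGroup]; decide
      have h0 : (φ.comp (alternatingGroup (Fin 5)).subtype) ⟨_, hmem⟩ = 1 := by
        rw [← MonoidHom.mem_ker, ht]; trivial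
      have h1 : d * a = 1 := by rw [← e0, ← e2, ← map_mul]; exact h0
      exact hne (by rw [eq_inv_of_mul_eq_one_left h1, inv_self hD ha])
    refine (injective_iff_map_eq_one φ).mpr fun σ hσ => perm_commutes σ fun i => ?_
    set s := Equiv.swap (i.castSucc) i.succ
    have hev : σ * s * σ⁻¹ * s⁻¹ ∈ alternatingGroup (Fin 5) := by
      rw [Equiv.Perm.mem_alternatingGroup]
      rcases Int.units_eq_one_or (Equiv.Perm.sign σ) with e | e <;>
        rcases Int.units_eq_one_or (Equiv.Perm.sign s) with e' | e' <;> simp [map_mul, e, e']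
    have h1 : (⟨_, hev⟩ : alternatingGroup (Fin 5)) = 1 := by
      rw [← Subgroup.mem_bot, ← hK, MonoidHom.mem_ker]
      show φ (σ * s * σ⁻¹ * s⁻¹) = 1
      simp [hσ]
    have h2 : σ * s * σ⁻¹ * s⁻¹ = 1 := congrArg Subtype.val h1
    rw [mul_inv_eq_one, mul_inv_eq_iff_eq_mul] at h2
    exact h2
  · rintro _ ⟨σ, rfl⟩
    have hm : σ ∈ Submonoid.closure (Set.range fun i : Fin 4 => Equiv.swap i.castSucc i.succ) :=
      (Equiv.Perm.mclosure_swap_castSucc_succ 4).symm ▸ Submonoid.mem_top σ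
    induction hm using Submonoid.closure_induction with
    | mem x hx =>
      obtain ⟨i, rfl⟩ := hx
      rw [hφ]
      exact Subgroup.subset_closure (by fin_cases i <;> simp [v])
    | one => rw [map_one]; exact one_mem _
    | mul x y _ _ hx hy => rw [map_mul]; exact mul_mem hx hy
  · rintro x (rfl | rfl | rfl | rfl)
    exacts [⟨_, e0⟩, ⟨_, e1⟩, ⟨_, e2⟩, ⟨_, e3⟩]

/-- Ten members, each commuting with three pairwise noncommuting others, generate a symmetric group. -/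
theorem main (hD : IsThreeTranspositionSet D) {S : Set G} (hSD : ∀ x ∈ S, x ∈ D)
    (hcS : ∀ x ∈ S, ∀ y ∈ S, x * y * x⁻¹ ∈ S) (hnum : S.ncard = 10)
    (hnear : ∀ x ∈ S, (S ∩ Ds D x).ncard = 3)
    (hnc : ∀ x ∈ S, ∀ y ∈ S ∩ Ds D x, ∀ z ∈ S ∩ Ds D x, y ≠ z → ¬ Commute y z) :
    ∃ φ : P5 →* G, Function.Injective φ ∧ φ.range = Subgroup.closure S ∧
      (∀ i j : Fin 5, i ≠ j → φ (Equiv.swap i j) ∈ S) ∧
      (∀ y ∈ S, ∃ i j : Fin 5, i ≠ j ∧ φ (Equiv.swap i j) = y) ∧
      (∀ H : Subgroup G, Subgroup.closure S ≤ H → (∀ k ∈ H, ∀ x ∈ S, k * x * k⁻¹ ∈ S) →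
        Nat.card H = 120 * Nat.card ↥(H ⊓ Subgroup.centralizer S)) ∧
      ∀ H : Subgroup G, Subgroup.closure S ≤ H → (∀ k ∈ H, ∀ x ∈ S, k * x * k⁻¹ ∈ S) → ∀ x ∈ S,
        Nat.card ↥(H ⊓ Subgroup.centralizer ({x} : Set G)) = 12 * Nat.card ↥(H ⊓ Subgroup.centralizer S) := by
  classical
  obtain ⟨s, hs⟩ : S.Nonempty := Set.nonempty_of_ncard_ne_zero (by rw [hnum]; norm_num)
  set nr : G → Set G := fun x => S ∩ Ds D x with hnr
  have hVS : ∀ k ∈ Subgroup.closure S, ∀ x ∈ S, k * x * k⁻¹ ∈ S := by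
    intro k hk
    induction hk using Subgroup.closure_induction'' with
    | mem x hx => exact hcS x hx
    | inv_mem x hx =>
      intro y hy
      rw [inv_self hD (hSD x hx)]
      exact hcS x hx y hy
    | one => intro x hx; simpa using hx
    | mul x y _ _ hx hy => intro w hw; rw [← cj_cj]; exact hx _ (hy w hw)
  have hfar : ∀ x ∈ S, {y | y ∈ S ∧ ¬ Commute x y}.ncard = 6 := by
    intro x hx
    have e : {y | y ∈ S ∧ ¬ Commute x y} = S \ insert x (nr x) := by
      ext y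
      refine ⟨fun h => ⟨h.1, ?_⟩, fun h => ⟨h.1, fun hc => h.2 ?_⟩⟩
      · rintro (e | h')
        · exact h.2 (by rw [e])
        · exact h.2 h'.2.2.2
      · by_cases e : y = x
        · exact Or.inl e
        · exact Or.inr ⟨h.1, hSD y h.1, e, hc⟩
    rw [e, Set.ncard_diff (Set.insert_subset hx fun y hy => hy.1),
      Set.ncard_insert_of_notMem (fun h => h.2.2.1 rfl), hnum, hnear x hx]
  have hsymm : ∀ x ∈ S, ∀ y ∈ nr x, x ∈ nr y := fun x hx y hy => ⟨hx, hSD x hx, hy.2.2.1.symm, hy.2.2.2.symm⟩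
  have hfx : ∀ {u x : G}, Commute u x → u * x * u⁻¹ = x := fun h => by rw [h.eq, mul_inv_cancel_right]
  obtain ⟨b, hb, c, hc, hbc⟩ : ∃ b ∈ nr s, ∃ c ∈ nr s, b ≠ c := by
    obtain ⟨x, y, z, hxy, -, -, e⟩ := Set.ncard_eq_three.mp (hnear s hs)
    show ∃ b ∈ S ∩ Ds D s, ∃ c ∈ S ∩ Ds D s, b ≠ c
    rw [e]
    exact ⟨x, Or.inl rfl, y, Or.inr (Or.inl rfl), hxy⟩
  have nbc := hnc s hs b hb c hc hbc
  obtain ⟨a, ha, has⟩ : ∃ a ∈ nr c, a ≠ s :=
    Set.exists_ne_of_one_lt_ncard (by rw [hnear c hc.1]; norm_num) s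
  have nsa : ¬ Commute s a := hnc c hc.1 s (hsymm s hs c hc) a ha has.symm
  have nab : ¬ Commute a b := by
    intro hab
    -- six members in the pattern of two triples
    set d := b * c * b⁻¹
    have hdS : d ∈ S := hcS b hb.1 c hc.1
    have hdc : d ≠ c := fun e => nbc (mul_inv_eq_iff_eq_mul.mp e)
    have hdb : d ≠ b := fun e => nbc (by rw [cj_injective b (show b * c * b⁻¹ = b * b * b⁻¹ from (show b * c * b⁻¹ = b from e).trans (by group))])
    have csd : Commute s d := (hb.2.2.2.mul_right hc.2.2.2).mul_right hb.2.2.2.inv_right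
    have hds : d ∈ nr s := ⟨hdS, (hSD _ hdS), fun e => hc.2.2.1 (cj_injective b (by
      show d = b * s * b⁻¹
      rw [e, hfx hb.2.2.2.symm])), csd⟩
    have cad : Commute a d := (hab.mul_right ha.2.2.2.symm).mul_right hab.inv_right
    set a' := s * a * s⁻¹
    have haS' : a' ∈ S := hcS s hs a ha.1
    have ha's : a' ≠ s := fun e => has (cj_injective s (show s * a * s⁻¹ = s * s * s⁻¹ from (show s * a * s⁻¹ = s from e).trans (by group)))
    have ha'a : a' ≠ a := fun e => nsa (mul_inv_eq_iff_eq_mul.mp e)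
    have hN : ∀ x ∈ nr s, Commute a x → nr x = {s, a, a'} := by
      intro x hx cax
      refine (Set.eq_of_subset_of_ncard_le ?_ ?_).symm
      · rintro y (rfl | rfl | rfl)
        · exact hsymm _ hs x hx
        · exact ⟨ha.1, (hSD _ ha.1), fun e => nsa (e ▸ hx.2.2.2), cax.symm⟩
        · refine ⟨haS', (hSD _ haS'), fun e => ?_, ?_⟩
          · refine nsa ?_
            have h1 : Commute s a' := e ▸ hx.2.2.2
            exact (commute_cj_iff s).mp (by rwa [show s * s * s⁻¹ = s by group])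
          · have := (commute_cj_iff s).mpr cax.symm
            rwa [hfx hx.2.2.2] at this
      · rw [hnear x hx.1, Set.ncard_eq_three.mpr ⟨s, a, a', has.symm, ha's.symm, ha'a.symm, rfl⟩]
    have hNs : nr s = {b, c, d} := by
      refine (Set.eq_of_subset_of_ncard_le ?_ ?_).symm
      · rintro y (rfl | rfl | rfl)
        exacts [hb, hc, hds]
      · rw [hnear s hs, Set.ncard_eq_three.mpr ⟨b, c, d, hbc, hdb.symm, hdc.symm, rfl⟩]
    have hall' : ∀ x ∈ nr s, nr x = {s, a, a'} := by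
      intro x hx
      refine hN x hx ?_
      rw [hNs] at hx
      rcases hx with rfl | rfl | rfl
      exacts [hab, ha.2.2.2.symm, cad]
    have haN : ∀ y, y = s ∨ y = a ∨ y = a' → nr y = nr s := by
      intro y hy
      have hsub : nr s ⊆ nr y := fun x hx => by
        have hyx : y ∈ nr x := by rw [hall' x hx]; exact hy
        exact hsymm x hx.1 y hyx
      have hyS : y ∈ S := by
        rcases hy with rfl | rfl | rfl
        exacts [hs, ha.1, haS']
      exact (Set.eq_of_subset_of_ncard_le hsub (by rw [hnear s hs, hnear y hyS])).symm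
    set six := ({s, a, a'} : Set G) ∪ nr s
    have hsix : six.ncard = 6 := by
      rw [Set.ncard_union_eq ?_, hnear s hs, Set.ncard_eq_three.mpr ⟨s, a, a', has.symm, ha's.symm, ha'a.symm, rfl⟩]
      rw [Set.disjoint_left]
      intro y hy hy'
      have := haN y (by simpa using hy)
      have : y ∈ nr y := this.symm ▸ hy'
      exact this.2.2.1 rfl
    have hsub6 : six ⊆ S := by
      rintro y ((rfl | rfl | rfl) | h)
      exacts [hs, ha.1, haS', h.1]
    set T := S \ six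
    have hT : T.ncard = 4 := by rw [Set.ncard_diff hsub6, hnum, hsix]
    have hTn : ∀ x ∈ T, nr x ⊆ T := by
      intro x hx y hy
      refine ⟨hy.1, fun h => hx.2 ?_⟩
      have hxy := hsymm x hx.1 y hy
      rcases h with h | h
      · rw [haN y (by simpa using h)] at hxy; exact Or.inr hxy
      · rw [hall' y h] at hxy; exact Or.inl hxy
    obtain ⟨x, hx⟩ : T.Nonempty := Set.nonempty_of_ncard_ne_zero (by rw [hT]; norm_num)
    obtain ⟨y, hy⟩ : (nr x).Nonempty := Set.nonempty_of_ncard_ne_zero (by rw [hnear x hx.1]; norm_num)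
    have hle : (nr y).ncard ≤ (T \ nr x).ncard := by
      refine Set.ncard_le_ncard (fun z hz => ⟨hTn y (hTn x hx hy) hz, fun hzx => ?_⟩) (Set.toFinite _)
      exact hnc x hx.1 y hy z hzx hz.2.2.1.symm hz.2.2.2
    rw [hnear y hy.1, Set.ncard_diff (hTn x hx), hT, hnear x hx.1] at hle
    omega
  obtain ⟨φ, hφ, e0, e1, e2, e3, hrg⟩ := exists_hom_five hD (hSD s hs) (hSD _ ha.1) (hSD _ hb.1) (hSD _ hc.1) nsa hb.2.2.2
    hc.2.2.2 nab ha.2.2.2.symm nbc hb.2.2.1.symm
  set V := Subgroup.closure S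
  have hrV : φ.range ≤ V := by
    rw [hrg, Subgroup.closure_le]
    rintro x (rfl | rfl | rfl | rfl)
    exacts [Subgroup.subset_closure hs, Subgroup.subset_closure ha.1, Subgroup.subset_closure hb.1,
      Subgroup.subset_closure hc.1]
  have hsw : ∀ i j : Fin 5, i ≠ j → φ (Equiv.swap i j) ∈ S := by
    intro i j hij
    obtain ⟨σ, hσ⟩ := perm_pair i j hij
    rw [← hσ, map_mul, map_mul, map_inv, e0]
    exact hVS _ (hrV ⟨σ, rfl⟩) s hs
  have hsurj : ∀ y ∈ S, ∃ i j : Fin 5, i ≠ j ∧ φ (Equiv.swap i j) = y := by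
    let Sw : Set P5 := {σ | ∃ i j : Fin 5, i ≠ j ∧ σ = Equiv.swap i j}
    have hSw : Sw.ncard = 10 := by
      rw [← perm_facts.2.2, ← Set.ncard_coe_finset]
      congr 1
      ext σ
      simp [Sw]
    have e : φ '' Sw = S := Set.eq_of_subset_of_ncard_le (by rintro _ ⟨σ, ⟨i, j, hij, rfl⟩, rfl⟩; exact hsw i j hij)
      (by rw [Set.ncard_image_of_injective _ hφ, hSw, hnum])
    intro y hy
    rw [← e] at hy
    obtain ⟨σ, ⟨i, j, hij, rfl⟩, rfl⟩ := hy
    exact ⟨i, j, hij, rfl⟩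
  have hrange : φ.range = V := le_antisymm hrV ((Subgroup.closure_le _).mpr fun y hy => by
    obtain ⟨i, j, -, e⟩ := hsurj y hy
    exact ⟨_, e⟩)
  have hmap : ∀ σ τ : P5, σ * τ = τ * σ ↔ Commute (φ σ) (φ τ) := fun σ τ =>
    ⟨fun e => (show Commute σ τ from e).map φ, fun e => hφ (by rw [map_mul, map_mul]; exact e)⟩
  obtain ⟨⟨n24b, n24s, c24s, n24a, e24⟩, ⟨nsb, c34s, c34a⟩, -⟩ := perm_facts
  have hcount : ∀ H : Subgroup G, V ≤ H → (∀ k ∈ H, ∀ x ∈ S, k * x * k⁻¹ ∈ S) →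
      Nat.card H = 10 * Nat.card ↥(H ⊓ Subgroup.centralizer ({s} : Set G)) ∧
      Nat.card ↥(H ⊓ Subgroup.centralizer ({s} : Set G)) = 12 * Nat.card ↥(H ⊓ Subgroup.centralizer S) := by
    intro H hVH hHN
    have hst : ∀ {k x : G}, k ∈ H ⊓ Subgroup.centralizer ({x} : Set G) → k * x * k⁻¹ = x :=
      fun h => M22.mem_cent.mp h.2
    have s1 := M22.card_orbit_stab H s S (fun k hk => hHN _ hk s hs) (fun y hy => by
      obtain ⟨i, j, hij, rfl⟩ := hsurj y hy
      obtain ⟨σ, hσ⟩ := perm_pair i j hij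
      exact ⟨φ σ, hVH (hrV ⟨σ, rfl⟩), by rw [← hσ, map_mul, map_mul, map_inv, e0]⟩)
    refine ⟨hnum ▸ s1, ?_⟩
    set H1 := H ⊓ Subgroup.centralizer ({s} : Set G)
    have s2 := M22.card_orbit_stab H1 a {y | y ∈ S ∧ ¬ Commute s y}
      (fun k hk => ⟨hHN _ hk.1 a ha.1, fun h => nsa ((commute_cj_iff k).mp (by
        rwa [hst hk]))⟩) (fun y hy => by
      obtain ⟨i, j, hij, rfl⟩ := hsurj y hy.1
      obtain ⟨σ, hσs, hσ⟩ := perm_far i j hij (fun e => hy.2 (e0 ▸ (hmap _ _).mp e))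
      exact ⟨φ σ, ⟨hVH (hrV ⟨σ, rfl⟩), Subgroup.mem_centralizer_singleton_iff.mpr (e0 ▸ (hmap _ _).mp hσs).eq⟩,
        by rw [← hσ, map_mul, map_mul, map_inv, e1]⟩)
    set H2 := H1 ⊓ Subgroup.centralizer ({a} : Set G)
    have hW : {y | y ∈ S ∧ y ≠ s ∧ Commute s y ∧ ¬ Commute a y}.ncard = 2 := by
      rw [show {y | y ∈ S ∧ y ≠ s ∧ Commute s y ∧ ¬ Commute a y} = {b, φ (Equiv.swap 2 4)} from ?_,
        Set.ncard_pair (fun e => n24b (hφ (e2.trans e).symm))]
      ext y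
      constructor
      · rintro ⟨hy, h1, h2, h3⟩
        obtain ⟨i, j, hij, rfl⟩ := hsurj y hy
        rcases perm_two i j hij (fun e => h1 (by rw [e, e0])) ((hmap _ _).mpr (e0.symm ▸ h2))
          (fun e => h3 (e1 ▸ (hmap _ _).mp e)) with e | e
        · exact Or.inl (by rw [e, e2])
        · exact Or.inr (by rw [e]; rfl)
      · rintro (rfl | rfl)
        · exact ⟨hb.1, hb.2.2.1, hb.2.2.2, fun h => nab h⟩
        · exact ⟨hsw 2 4 (by decide), fun e => n24s (hφ (e.trans e0.symm)), e0 ▸ (hmap _ _).mp c24s,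
            fun h => n24a ((hmap _ _).mpr (e1.symm ▸ h))⟩
    have s3 := M22.card_orbit_stab H2 b {y | y ∈ S ∧ y ≠ s ∧ Commute s y ∧ ¬ Commute a y}
      (fun k hk => by
        have ks : k * s * k⁻¹ = s := hst hk.1
        have ka : k * a * k⁻¹ = a := M22.mem_cent.mp hk.2
        refine ⟨hHN _ hk.1.1 b hb.1, fun e => hb.2.2.1 (cj_injective k (e.trans ks.symm)),
          ?_, fun h => nab ((commute_cj_iff k).mp (by rwa [ka]))⟩
        have := (commute_cj_iff k).mpr hb.2.2.2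
        rwa [ks] at this) (fun y hy => by
      obtain ⟨hy, h1, h2, h3⟩ := hy
      obtain ⟨i, j, hij, rfl⟩ := hsurj y hy
      rcases perm_two i j hij (fun e => h1 (by rw [e, e0])) ((hmap _ _).mpr (e0.symm ▸ h2))
        (fun e => h3 (e1 ▸ (hmap _ _).mp e)) with e | e
      · exact ⟨1, one_mem _, by rw [e, e2]; simp⟩
      · exact ⟨c, ⟨⟨hVH (Subgroup.subset_closure hc.1), Subgroup.mem_centralizer_singleton_iff.mpr hc.2.2.2.symm.eq⟩,
          Subgroup.mem_centralizer_singleton_iff.mpr ha.2.2.2.eq⟩, by rw [e, ← e24, map_mul, map_mul, map_inv, e2, e3]⟩)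
    have hlast : H2 ⊓ Subgroup.centralizer ({b} : Set G) = H ⊓ Subgroup.centralizer S := by
      refine le_antisymm ?_ ?_
      · intro k hk
        refine ⟨hk.1.1.1, ?_⟩
        have ks : k * s * k⁻¹ = s := hst hk.1.1
        have ka : k * a * k⁻¹ = a := M22.mem_cent.mp hk.1.2
        have kb : k * b * k⁻¹ = b := M22.mem_cent.mp hk.2
        have kc : k * c * k⁻¹ = c := by
          obtain ⟨i, j, hij, e⟩ := hsurj _ (hHN _ hk.1.1.1 c hc.1)
          have h1 : φ (Equiv.swap i j) ≠ s := fun h => hc.2.2.1 (cj_injective k ((e.symm.trans h).trans ks.symm))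
          have h2 : Commute s (φ (Equiv.swap i j)) := by
            have := (commute_cj_iff k).mpr hc.2.2.2
            rwa [ks, ← e] at this
          have h3 : Commute a (φ (Equiv.swap i j)) := by
            have := (commute_cj_iff k).mpr ha.2.2.2.symm
            rwa [ka, ← e] at this
          rw [← e, perm_last i j hij (fun h => h1 (by rw [h, e0])) ((hmap _ _).mpr (e0.symm ▸ h2))
            ((hmap _ _).mpr (e1.symm ▸ h3)), e3]
        have hle : φ.range ≤ Subgroup.centralizer ({k} : Set G) := by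
          rw [hrg, Subgroup.closure_le]
          rintro x (rfl | rfl | rfl | rfl)
          exacts [Subgroup.mem_centralizer_singleton_iff.mpr (mul_inv_eq_iff_eq_mul.mp ks).symm,
            Subgroup.mem_centralizer_singleton_iff.mpr (mul_inv_eq_iff_eq_mul.mp ka).symm,
            Subgroup.mem_centralizer_singleton_iff.mpr (mul_inv_eq_iff_eq_mul.mp kb).symm,
            Subgroup.mem_centralizer_singleton_iff.mpr (mul_inv_eq_iff_eq_mul.mp kc).symm]
        refine Subgroup.mem_centralizer_iff.mpr fun y hy => ?_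
        exact Subgroup.mem_centralizer_singleton_iff.mp (hle (hrange.symm ▸ Subgroup.subset_closure hy))
      · intro k hk
        have hcc : ∀ x ∈ S, k ∈ Subgroup.centralizer ({x} : Set G) := fun x hx =>
          Subgroup.mem_centralizer_singleton_iff.mpr (Subgroup.mem_centralizer_iff.mp hk.2 x hx).symm
        exact ⟨⟨⟨hk.1, hcc s hs⟩, hcc a ha.1⟩, hcc b hb.1⟩
    rw [hW, hlast] at s3
    rw [hfar s hs] at s2
    omega
  refine ⟨φ, hφ, hrange, hsw, hsurj, fun H hVH hH => ?_, fun H hVH hH x hx => ?_⟩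
  · obtain ⟨h1, h2⟩ := hcount H hVH hH
    omega
  · obtain ⟨h1, h2⟩ := hcount H hVH hH
    have h3 := M22.card_orbit_stab H x S (fun k hk => hH k hk x hx) (fun y hy => by
      obtain ⟨i, j, hij, rfl⟩ := hsurj x hx
      obtain ⟨i', j', hij', rfl⟩ := hsurj y hy
      obtain ⟨σ, hσ⟩ := perm_pair i j hij
      obtain ⟨τ, hτ⟩ := perm_pair i' j' hij'
      refine ⟨φ (τ * σ⁻¹), hVH (hrV ⟨_, rfl⟩), ?_⟩
      rw [← map_inv, ← map_mul, ← map_mul, ← hσ, ← hτ]
      congr 1
      group)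
    rw [hnum] at h3
    omega

end CfsgThreeTrans.Petersen
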