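/-
Transvections of SU(n,2): a class of 3-transpositions generating the group consists of all of them, two
non-commuting ones together with their centralisers generate, and some five pairwise commuting ones multiply to one.
-/
import Cfsg.Agent.Lib.UnitaryTransConj
import Cfsg.Prelude.Def_SporadicB

set_option autoImplicit false
set_option linter.unusedSectionVars false

namespace CfsgUniqueTT.Unitary

open Matrix CfsgLib CfsgLib.UnitaryTransvection CfsgLib.UnitarySimple

variable {F : Type*} [Field F] [Fintype F] [DecidableEq F] {n : ℕ} (hF : Fintype.card F = 2 ^ 2)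

local notation "h" => Cfsg.hermForm n F 2
local notation "σ" => frob hF
local notation "V" => (Fin n → F)

include hF

theorem two_zero : (2 : F) = 0 := by
  have h4 : ((Fintype.card F : ℕ) : F) = 0 := Nat.cast_card_eq_zero F
  have h22 : (2 : F) * 2 = 0 := by rw [hF] at h4; linear_combination (norm := (push_cast; ring)) h4
  exact mul_self_eq_zero.mp h22

theorem add_self (a : F) : a + a = 0 := by linear_combination a * two_zero hF

theorem vadd_self (a : V) : a + a = 0 := funext fun _ => add_self hF _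

theorem cube {l : F} (hl : l ≠ 0) : l ^ 3 = 1 := by
  have := FiniteField.pow_card_sub_one_eq_one l hl
  rwa [hF] at this

theorem norm_one {l : F} (hl : l ≠ 0) : l * σ l = 1 := by
  rw [frob_apply, ← pow_succ']
  exact cube hF hl

theorem fixed {a : F} (ha : σ a = a) : a = 0 ∨ a = 1 := by
  rw [frob_apply] at ha
  exact or_iff_not_imp_left.mpr fun h0 => by
    have : a * a = a * 1 := by rw [mul_one, ← pow_two]; exact ha
    exact mul_left_cancel₀ h0 this

theorem norm_fix {l : F} (hl : l ≠ 0) : σ l * l = 1 := by rw [mul_comm]; exact norm_one hF hl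

/-- The transvection at an isotropic vector. -/
noncomputable def tu (u : V) : Cfsg.SU n F 2 :=
  if hu : h u u = 0 then tv hF u hu 1 (by rw [map_one]; exact add_self hF 1) else 1

theorem tu_mulVec {u : V} (hu : h u u = 0) (x : V) : mat (tu hF u) *ᵥ x = x + h x u • u := by
  rw [tu, dif_pos hu, tv_mulVec, one_mul]

theorem h_zero_right (x : V) : h x 0 = 0 := by simp [Cfsg.hermForm]

theorem h_zero_left (x : V) : h 0 x = 0 := by simp [Cfsg.hermForm]

theorem tu_sq {u : V} (hu : h u u = 0) : tu hF u * tu hF u = 1 := su_ext fun x => by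
  rw [mat_mul, ← mulVec_mulVec, tu_mulVec hF hu, tu_mulVec hF hu, mat_one, one_mulVec, h_add_left, h_smul_left, hu,
    mul_zero, add_zero, add_assoc, ← add_smul, add_self hF, zero_smul, add_zero]

theorem tu_inv {u : V} (hu : h u u = 0) : (tu hF u)⁻¹ = tu hF u := inv_eq_of_mul_eq_one_right (tu_sq hF hu)

theorem tu_smul {u : V} (hu : h u u = 0) {a : F} (ha : a ≠ 0) : tu hF (a • u) = tu hF u := by
  have hau : h (a • u) (a • u) = 0 := by rw [h_smul_left, h_smul_right hF, hu, mul_zero, mul_zero]
  refine su_ext fun x => ?_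
  rw [tu_mulVec hF hau, tu_mulVec hF hu, smul_smul, h_smul_right hF, mul_right_comm, norm_fix hF ha, one_mul]

theorem tu_conj (g : Cfsg.SU n F 2) {u : V} (hu : h u u = 0) : g * tu hF u * g⁻¹ = tu hF (mat g *ᵥ u) := by
  have hgu : h (mat g *ᵥ u) (mat g *ᵥ u) = 0 := by rw [su_h, hu]
  rw [tu, dif_pos hu, conj_tv, tu, dif_pos hgu]

theorem exists_dual {u : V} (hu0 : u ≠ 0) : ∃ y, h y u = 1 := by
  obtain ⟨y, -, hy⟩ := exists_partner (n := n) hF hu0
  exact ⟨y, hy⟩

theorem tu_point {u w : V} (hu : h u u = 0) (hu0 : u ≠ 0) (hw : h w w = 0) (e : tu hF u = tu hF w) :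
    ∃ a : F, u = a • w := by
  obtain ⟨y, hy⟩ := exists_dual hF hu0
  have := congrArg (fun g => mat g *ᵥ y) e
  simp only [tu_mulVec hF hu, tu_mulVec hF hw, hy, one_smul] at this
  exact ⟨h y w, add_left_cancel this⟩

theorem tu_commute {u w : V} (hu : h u u = 0) (hw : h w w = 0) (huw : h u w = 0) :
    Commute (tu hF u) (tu hF w) := by
  have hwu : h w u = 0 := by rw [← h_swap hF u w, huw, map_zero]
  refine su_ext fun x => ?_
  rw [mat_mul, mat_mul, ← mulVec_mulVec, ← mulVec_mulVec, tu_mulVec hF hu, tu_mulVec hF hw, tu_mulVec hF hu,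
    tu_mulVec hF hw, h_add_left, h_add_left, h_smul_left, h_smul_left, huw, hwu, mul_zero, mul_zero, add_zero,
    add_zero]
  abel

theorem of_tu_commute {u w : V} (hu : h u u = 0) (hu0 : u ≠ 0) (hw : h w w = 0)
    (e : Commute (tu hF u) (tu hF w)) : h u w = 0 := by
  by_contra hne
  have h1 : tu hF (mat (tu hF w) *ᵥ u) = tu hF u := by
    rw [← tu_conj hF _ hu, ← e.eq, mul_inv_cancel_right]
  obtain ⟨a, ha⟩ := tu_point hF (by rw [su_h, hu]) (mat_ne_zero _ hu0) hu h1
  rw [tu_mulVec hF hw] at ha
  have h3 := congrArg (fun v => h v u) ha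
  simp only [h_add_left, h_smul_left, hu, mul_zero, zero_add] at h3
  rw [← h_swap hF u w] at h3
  exact hne ((mul_eq_zero.mp h3).elim id fun h4 => by simpa using h4)

/-- The witness against involutions of rank above one. -/
theorem five_bad {A : Cfsg.SU n F 2} (hA : A * A = 1) {x y : V} (hxx : h x x = 0) (hyy : h y y = 0)
    (hxy : h x y = 0) (b1 : h (mat A *ᵥ x) x = 1) (b2 : h (mat A *ᵥ x) y = 1) (b3 : h (mat A *ᵥ y) y = 0) :
    ∃ g : Cfsg.SU n F 2, (A * (g * A * g⁻¹)) ^ 2 ≠ 1 ∧ (A * (g * A * g⁻¹)) ^ 3 ≠ 1 := by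
  set U := mat A *ᵥ x with hU
  set W := mat A *ᵥ y with hW
  set g := tu hF x * tu hF y with hg
  refine ⟨g, ?_⟩
  have hginv : g⁻¹ = g := by
    rw [hg, _root_.mul_inv_rev, tu_inv hF hxx, tu_inv hF hyy, (tu_commute hF hxx hyy hxy).eq]
  have hAinv : A⁻¹ = A := inv_eq_of_mul_eq_one_right hA
  have hAA : ∀ v, mat A *ᵥ (mat A *ᵥ v) = v := fun v => by
    rw [mulVec_mulVec, ← mat_mul, hA, mat_one, one_mulVec]
  have hswap : ∀ a b, h (mat A *ᵥ a) b = h a (mat A *ᵥ b) := fun a b => by
    rw [← su_h A (mat A *ᵥ a) b, hAA]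
  have hyx : h y x = 0 := by rw [← h_swap hF x y, hxy, map_zero]
  have UU : h U U = 0 := by rw [hU, su_h, hxx]
  have WW : h W W = 0 := by rw [hW, su_h, hyy]
  have UW : h U W = 0 := by rw [hU, hW, su_h, hxy]
  have WU : h W U = 0 := by rw [hU, hW, su_h, hyx]
  have Wx : h W x = 1 := by rw [hW, hswap, ← hU, ← h_swap hF, b2, map_one]
  have xU : h x U = 1 := by rw [← h_swap hF, b1, map_one]
  have yU : h y U = 1 := by rw [← h_swap hF, b2, map_one]
  have xW : h x W = 1 := by rw [← h_swap hF, Wx, map_one]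
  have yW : h y W = 0 := by rw [← h_swap hF, b3, map_zero]
  have hconj : A * (g * A * g⁻¹) = (tu hF U * tu hF W) * g := by
    rw [hU, hW, ← tu_conj hF A hxx, ← tu_conj hF A hyy, hginv, hAinv, hg]
    simp only [mul_assoc, show ∀ a : Cfsg.SU n F 2, A * (A * a) = a from fun a => by rw [← mul_assoc, hA, one_mul]]
  set C := A * (g * A * g⁻¹) with hC
  have hCv : ∀ v, mat C *ᵥ v = mat (tu hF U) *ᵥ (mat (tu hF W) *ᵥ (mat (tu hF x) *ᵥ (mat (tu hF y) *ᵥ v))) := by
    intro v
    rw [hconj, hg]
    simp only [mat_mul, mulVec_mulVec, Matrix.mul_assoc]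
  have h2 := two_zero hF
  have step : ∀ v, mat C *ᵥ v = v + h v y • y + h v x • x + (h v W + h v y * h y W + h v x * h x W) • W +
      (h v U + h v y * h y U + h v x * h x U) • U := by
    intro v
    rw [hCv, tu_mulVec hF hyy, tu_mulVec hF hxx, tu_mulVec hF WW, tu_mulVec hF UU]
    simp only [h_add_left, h_smul_left, hyx, mul_zero, add_zero, WU]
  have CX : mat C *ᵥ x = x + U + W := by
    rw [step]; simp only [hxy, hxx, xW, xU]
    ext i; simp; ring
  have CY : mat C *ᵥ y = y + U := by
    rw [step]; simp only [hyy, hyx, yW, yU]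
    ext i; simp
  have CU : mat C *ᵥ U = x + y + U + W := by
    rw [step]; simp only [b2, b1, UW, UU, yW, xW, yU, xU]
    ext i; simp; linear_combination (U i) * h2
  have CW : mat C *ᵥ W = x + U := by
    rw [step]; simp only [b3, Wx, WW, WU, yW, xW, yU, xU]
    ext i; simp; linear_combination (W i) * h2
  have C2 : mat C *ᵥ (mat C *ᵥ x) = x + y + U := by
    rw [CX, mulVec_add, mulVec_add, CX, CU, CW]
    ext i; simp; linear_combination (x i + U i + W i) * h2
  have C3 : mat C *ᵥ (mat C *ᵥ (mat C *ᵥ x)) = U := by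
    rw [C2, mulVec_add, mulVec_add, CX, CY, CU]
    ext i; simp; linear_combination (x i + y i + U i + W i) * h2
  refine ⟨fun hk => ?_, fun hk => ?_⟩
  · have hval : mat C *ᵥ (mat C *ᵥ x) = x := by rw [mulVec_mulVec, ← mat_mul, ← pow_two, hk, mat_one, one_mulVec]
    rw [C2] at hval
    have := congrArg (fun v => h v x) hval
    simp [h_add_left, hxx, hyx, b1] at this
  · have hval : mat C *ᵥ (mat C *ᵥ (mat C *ᵥ x)) = x := by
      rw [mulVec_mulVec, mulVec_mulVec, ← mat_mul, ← mat_mul,
        show C * C * C = C ^ 3 by rw [pow_succ, pow_two], hk, mat_one, one_mulVec]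
    rw [C3] at hval
    have := congrArg (fun v => h v x) hval
    simp [hxx, b1] at this

/-- An involution whose conjugates have products of order at most three is a transvection. -/
theorem rank_one {A : Cfsg.SU n F 2} (hA : A * A = 1) (hA1 : A ≠ 1)
    (h3 : ∀ g : Cfsg.SU n F 2, (A * (g * A * g⁻¹)) ^ 2 = 1 ∨ (A * (g * A * g⁻¹)) ^ 3 = 1) :
    ∃ u : V, u ≠ 0 ∧ h u u = 0 ∧ A = tu hF u := by
  classical
  have hAA : ∀ v, mat A *ᵥ (mat A *ᵥ v) = v := fun v => by
    rw [mulVec_mulVec, ← mat_mul, hA, mat_one, one_mulVec]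
  set N : V → V := fun v => mat A *ᵥ v + v with hN
  have Nadd : ∀ a b, N (a + b) = N a + N b := fun a b => by simp only [hN, mulVec_add]; abel
  have Nsmul : ∀ (l : F) a, N (l • a) = l • N a := fun l a => by simp only [hN, mulVec_smul, smul_add]
  have hswap : ∀ a b, h (mat A *ᵥ a) b = h a (mat A *ᵥ b) := fun a b => by
    rw [← su_h A (mat A *ᵥ a) b, hAA]
  have Nsym : ∀ a b, h (N a) b = h a (N b) := fun a b => by
    simp only [hN, h_add_left, h_add_right hF, hswap]
  have NN : ∀ a, N (N a) = 0 := fun a => by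
    simp only [hN, mulVec_add, hAA]
    rw [add_comm (mat A *ᵥ a) a, vadd_self hF]
  have Niso : ∀ a b, h (N a) (N b) = 0 := fun a b => by rw [Nsym, NN, h_zero_right hF]
  set β : V → V → F := fun a b => h (N a) b with hβ
  have βswap : ∀ a b, σ (β a b) = β b a := fun a b => by simp only [hβ]; rw [h_swap hF, Nsym]
  have hA' : ∀ v, mat A *ᵥ v = v + N v := fun v => by
    simp only [hN]
    rw [add_comm (mat A *ᵥ v) v, ← add_assoc, vadd_self hF, zero_add]
  obtain ⟨d, hd⟩ := exists_trace_one hF
  obtain ⟨v₀, hv₀⟩ : ∃ v, N v ≠ 0 := by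
    by_contra hc
    push Not at hc
    exact hA1 (su_ext fun v => by rw [hA', hc, add_zero, mat_one, one_mulVec])
  obtain ⟨e, he⟩ : ∃ e, β e e = 1 := by
    by_contra hc
    push Not at hc
    have hz : ∀ a, β a a = 0 := fun a => (fixed hF (βswap a a)).resolve_right (hc a)
    obtain ⟨b, hb⟩ := exists_dual hF hv₀
    have hb' : β v₀ b = 1 := by simp only [hβ]; rw [← h_swap hF, hb, map_one]
    have := hz (d • v₀ + b)
    simp only [hβ] at this hb' hz
    rw [Nadd, Nsmul, h_add_left, h_smul_left, h_add_right hF, h_add_right hF, h_smul_right hF, h_smul_right hF,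
      hz v₀, hz b, mul_zero, zero_add, add_zero, hb',
      show h (N b) v₀ = 1 by rw [Nsym, hb], mul_one, mul_one, add_comm, hd] at this
    exact one_ne_zero this
  by_cases hall : ∀ v, N v = β v e • N e
  · refine ⟨N e, fun h0 => hv₀ (by rw [hall v₀, h0, smul_zero]), Niso e e, su_ext fun v => ?_⟩
    rw [hA', tu_mulVec hF (Niso e e), hall v]
    simp only [hβ, Nsym]
  exfalso
  push Not at hall
  obtain ⟨v, hv⟩ := hall
  -- a second orthonormal vector for the form
  have hperp : ∀ v, β (v + β v e • e) e = 0 := fun v => by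
    simp only [hβ, Nadd, Nsmul, h_add_left, h_smul_left]
    simp only [hβ] at he
    rw [he, mul_one, add_self hF]
  obtain ⟨f, hfe, hff⟩ : ∃ f, β f e = 0 ∧ β f f = 1 := by
    by_contra hc
    push Not at hc
    have hz : ∀ a, β a e = 0 → β a a = 0 := fun a ha => (fixed hF (βswap a a)).resolve_right (hc a ha)
    set a := v + β v e • e
    have hNa : N a ≠ 0 := fun h0 => hv (by
      rw [Nadd, Nsmul] at h0
      calc N v = N v + (β v e • N e + β v e • N e) := by rw [vadd_self hF, add_zero]
        _ = β v e • N e := by rw [← add_assoc, h0, zero_add])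
    obtain ⟨b, hb⟩ := exists_dual hF hNa
    set b' := b + β b e • e
    have hab : β a b' = 1 := by
      have h1 : β a b = 1 := by simp only [hβ]; rw [← h_swap hF, hb, map_one]
      have h2 : β a e = 0 := hperp v
      simp only [hβ] at h1 h2 ⊢
      rw [h_add_right hF, h_smul_right hF, h1, h2, mul_zero, add_zero]
    have hae : β a e = 0 := hperp v
    have hbe : β b' e = 0 := hperp b
    have := hz (d • a + b') (by
      simp only [hβ, Nadd, Nsmul, h_add_left, h_smul_left] at hae hbe ⊢
      rw [hae, hbe, mul_zero, add_zero])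
    have hba : β b' a = 1 := by rw [← βswap, hab, map_one]
    have za := hz a hae
    have zb := hz b' hbe
    simp only [hβ] at this hab hba za zb
    clear_value b' a
    simp only [Nadd, Nsmul, h_add_left, h_smul_left, h_add_right hF, h_smul_right hF,
      za, zb, hab, hba, mul_zero, zero_add, add_zero, mul_one] at this
    rw [hd] at this
    exact one_ne_zero this
  have hef : β e f = 0 := by rw [← βswap, hfe, map_zero]
  have hge : h (N e) e = 1 := he
  have hgf : h (N f) f = 1 := hff
  have hg1 : h (N e) f = 0 := hef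
  have hg2 : h (N f) e = 0 := hfe
  -- make the pair totally isotropic
  set α := h e e * d with hα
  set μ := σ (h e (e + f) + α) with hμ
  set ν := h (e + f) (e + f) * d - μ with hν
  set x := e + α • N e with hx
  set y := (e + f) + (μ • N e + ν • N f) with hy
  have hfix1 : σ (h e e) = h e e := h_swap hF e e
  have hfix2 : σ (h (e + f) (e + f)) = h (e + f) (e + f) := h_swap hF _ _
  have h2 := two_zero hF
  have nsw : ∀ a b, h a (N b) = h (N a) b := fun a b => (Nsym a b).symm
  have hxx : h x x = 0 := by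
    simp only [hx, h_add_left, h_add_right hF, h_smul_left, h_smul_right hF, nsw, Niso, Nadd, Nsmul, NN, smul_zero,
      h_zero_left hF, hge, mul_one, mul_zero, add_zero]
    rw [hα, map_mul, hfix1]
    linear_combination (h e e) * hd + (h e e) * h2
  have hyy : h y y = 0 := by
    have e1 : h (μ • N e + ν • N f) (μ • N e + ν • N f) = 0 := by
      simp only [h_add_left, h_add_right hF, h_smul_left, h_smul_right hF, Niso, mul_zero, add_zero]
    have e2 : h (μ • N e + ν • N f) (e + f) = μ + ν := by
      simp only [h_add_left, h_add_right hF, h_smul_left, hge, hgf, hg1, hg2, mul_one, mul_zero, add_zero, zero_add]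
    have e3 : h (e + f) (μ • N e + ν • N f) = σ (μ + ν) := by rw [← h_swap hF, e2]
    rw [hy, h_add_left, h_add_right hF, h_add_right hF _ (e + f), e1, e2, e3, hν, add_sub_cancel, map_mul, hfix2]
    linear_combination (h (e + f) (e + f)) * hd + (h (e + f) (e + f)) * h2
  have hxy : h x y = 0 := by
    have e1 : h x y = h e (e + f) + σ μ + α := by
      simp only [hx, hy, h_add_left, h_add_right hF, h_smul_left, h_smul_right hF, nsw, Niso, Nadd, Nsmul, NN,
        smul_zero, h_zero_left hF, hge, hg1,
        mul_one, mul_zero, add_zero]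
      ring
    rw [e1, hμ, frob_frob]
    linear_combination (h e (e + f) + α) * h2
  have hNx : N x = N e := by simp only [hx, Nadd, Nsmul, NN, smul_zero, add_zero]
  have hNy : N y = N e + N f := by simp only [hy, Nadd, Nsmul, NN, smul_zero, add_zero]
  have b1 : h (mat A *ᵥ x) x = 1 := by
    rw [hA', h_add_left, hxx, zero_add, hNx]
    simp only [hx, h_add_right hF, h_smul_right hF, Niso, hge, mul_zero, add_zero]
  have b2 : h (mat A *ᵥ x) y = 1 := by
    rw [hA', h_add_left, hxy, zero_add, hNx]
    simp only [hy, h_add_right hF, h_smul_right hF, Niso, hge, hg1, mul_zero, add_zero]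
  have b3 : h (mat A *ᵥ y) y = 0 := by
    rw [hA', h_add_left, hyy, zero_add, hNy]
    simp only [hy, h_add_left, h_add_right hF, h_smul_right hF, Niso, hge, hg1, hg2, hgf, mul_zero, add_zero,
      zero_add]
    exact add_self hF 1
  obtain ⟨g, hg⟩ := five_bad hF hA hxx hyy hxy b1 b2 b3
  exact (h3 g).elim hg.1 hg.2

theorem class_eq (hn : 5 ≤ n) {S : Set (Cfsg.SU n F 2)} (hS : Cfsg.IsThreeTranspositionSet S)
    (hconj : ∀ g, ∀ a ∈ S, g * a * g⁻¹ ∈ S) (hne : S.Nonempty) :
    ∀ a, a ∈ S ↔ ∃ u : V, u ≠ 0 ∧ h u u = 0 ∧ a = tu hF u := by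
  have h1 : ∀ a ∈ S, ∃ u : V, u ≠ 0 ∧ h u u = 0 ∧ a = tu hF u := fun a ha => by
    refine rank_one hF (by have := pow_orderOf_eq_one a; rwa [hS.1 a ha, pow_two] at this) (fun e => ?_)
      fun g => hS.2 _ ha _ (hconj g _ ha)
    have := hS.1 a ha
    rw [e, orderOf_one] at this
    omega
  refine fun a => ⟨h1 a, ?_⟩
  rintro ⟨u, hu0, hu, rfl⟩
  obtain ⟨b, hb⟩ := hne
  obtain ⟨v, hv0, hv, rfl⟩ := h1 b hb
  obtain ⟨g, hg⟩ := UnitaryTransConj.su_trans hF (by omega) hv0 hu0 hv hu
  have := hconj g _ hb
  rwa [tu_conj hF g hv, hg] at this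

/-- Three vectors do not span: there is a unit vector orthogonal to a hyperbolic pair and a unit vector. -/
theorem exists_unit_three (hn : 5 ≤ n) {p q m : V} (hp : h p p = 0) (hq : h q q = 0) (hpq : h p q = 1)
    (hmp : h m p = 0) (hmq : h m q = 0) (hm : h m m = 1) :
    ∃ r, h r r = 1 ∧ h r p = 0 ∧ h r q = 0 ∧ h r m = 0 := by
  have hqp : h q p = 1 := by rw [← h_swap hF p q, hpq, map_one]
  have hpm : h p m = 0 := by rw [← h_swap hF m p, hmp, map_zero]
  have hqm : h q m = 0 := by rw [← h_swap hF m q, hmq, map_zero]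
  by_contra hcon
  push Not at hcon
  have hz : ∀ r, h r p = 0 → h r q = 0 → h r m = 0 → h r r = 0 := fun r a b c =>
    (fixed hF (h_swap hF r r)).resolve_right fun e => hcon r e a b c
  let f : V →ₗ[F] (Fin 3 → F) :=
    { toFun := fun x => ![h x p, h x q, h x m]
      map_add' := fun a b => by ext i; fin_cases i <;> simp [h_add_left]
      map_smul' := fun c a => by ext i; fin_cases i <;> simp [h_smul_left] }
  have hker : LinearMap.ker f ≠ ⊥ := LinearMap.ker_ne_bot_of_finrank_lt (by
    rw [Module.finrank_fin_fun, Module.finrank_fin_fun]; omega)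
  obtain ⟨r₀, hr₀, hr0⟩ := Submodule.exists_mem_ne_zero_of_ne_bot hker
  have e : f r₀ = 0 := hr₀
  have ep : h r₀ p = 0 := congrFun e 0
  have eq : h r₀ q = 0 := congrFun e 1
  have em : h r₀ m = 0 := congrFun e 2
  obtain ⟨y, hy⟩ := exists_dual hF hr0
  set y' := y + h y q • p + h y p • q + h y m • m with hy'
  have y1 : h y' p = 0 := by
    simp only [hy', h_add_left, h_smul_left, hp, hqp, hmp, mul_zero, mul_one, add_zero]
    exact add_self hF _
  have y2 : h y' q = 0 := by
    simp only [hy', h_add_left, h_smul_left, hq, hpq, hmq, mul_zero, mul_one, add_zero]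
    exact add_self hF _
  have y3 : h y' m = 0 := by
    simp only [hy', h_add_left, h_smul_left, hpm, hqm, hm, mul_zero, mul_one, add_zero]
    exact add_self hF _
  have hy1 : h y' r₀ = 1 := by
    have rp : h p r₀ = 0 := by rw [← h_swap hF r₀ p, ep, map_zero]
    have rq : h q r₀ = 0 := by rw [← h_swap hF r₀ q, eq, map_zero]
    have rm : h m r₀ = 0 := by rw [← h_swap hF r₀ m, em, map_zero]
    simp only [hy', h_add_left, h_smul_left, rp, rq, rm, hy, mul_zero, add_zero]
  obtain ⟨d, hd⟩ := exists_trace_one hF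
  have hy2 : h r₀ y' = 1 := by rw [← h_swap hF, hy1, map_one]
  clear_value y'
  have := hz (d • r₀ + y')
    (by rw [h_add_left, h_smul_left, ep, y1, mul_zero, add_zero])
    (by rw [h_add_left, h_smul_left, eq, y2, mul_zero, add_zero])
    (by rw [h_add_left, h_smul_left, em, y3, mul_zero, add_zero])
  rw [h_add_left, h_smul_left, h_add_right hF, h_add_right hF, h_smul_right hF, h_smul_right hF,
    hz r₀ ep eq em, hz y' y1 y2 y3, hy1, hy2] at this
  exact one_ne_zero (α := F) (by linear_combination this - hd)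

/-- A vector orthogonal to a hyperbolic pair has an isotropic partner orthogonal to the pair. -/
theorem exists_partner_perp (hn : 5 ≤ n) {p q m : V} (hp : h p p = 0) (hq : h q q = 0) (hpq : h p q = 1)
    (hmp : h m p = 0) (hmq : h m q = 0) (hm0 : m ≠ 0) :
    ∃ u, h u u = 0 ∧ h u p = 0 ∧ h u q = 0 ∧ h m u ≠ 0 := by
  obtain ⟨d, hd⟩ := exists_trace_one hF
  rcases fixed hF (h_swap hF m m) with hm | hm
  · have hqp : h q p = 1 := by rw [← h_swap hF p q, hpq, map_one]
    have hpm : h p m = 0 := by rw [← h_swap hF m p, hmp, map_zero]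
    have hqm : h q m = 0 := by rw [← h_swap hF m q, hmq, map_zero]
    obtain ⟨y, hy⟩ := exists_dual hF hm0
    set y' := y + h y q • p + h y p • q with hy'
    have y1 : h y' p = 0 := by
      simp only [hy', h_add_left, h_smul_left, hp, hqp, mul_zero, mul_one, add_zero]
      exact add_self hF _
    have y2 : h y' q = 0 := by
      simp only [hy', h_add_left, h_smul_left, hq, hpq, mul_zero, mul_one, add_zero]
      exact add_self hF _
    have y3 : h y' m = 1 := by
      simp only [hy', h_add_left, h_smul_left, hpm, hqm, hy, mul_zero, add_zero]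
    have y4 : h m y' = 1 := by rw [← h_swap hF, y3, map_one]
    refine ⟨y' + (h y' y' * d) • m, ?_, ?_, ?_, ?_⟩
    · simp only [h_add_left, h_add_right hF, h_smul_left, h_smul_right hF, hm, y3, y4, mul_zero, add_zero, mul_one]
      rw [map_mul, h_swap hF y' y']
      linear_combination (h y' y') * hd + (h y' y') * two_zero hF
    · rw [h_add_left, h_smul_left, y1, hmp, mul_zero, add_zero]
    · rw [h_add_left, h_smul_left, y2, hmq, mul_zero, add_zero]
    · rw [h_add_right hF, h_smul_right hF, y4, hm, mul_zero, add_zero]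
      exact one_ne_zero
  · obtain ⟨r, hr, hrp, hrq, hrm⟩ := exists_unit_three hF hn hp hq hpq hmp hmq hm
    have hmr : h m r = 0 := by rw [← h_swap hF, hrm, map_zero]
    refine ⟨m + r, ?_, ?_, ?_, ?_⟩
    · rw [h_add_left, h_add_right hF, h_add_right hF, hm, hr, hrm, hmr, add_zero, zero_add]
      exact add_self hF 1
    · rw [h_add_left, hmp, hrp, add_zero]
    · rw [h_add_left, hmq, hrq, add_zero]
    · rw [h_add_right hF, hm, hmr, add_zero]
      exact one_ne_zero

/-- Two transvections that do not commute and their centralisers generate all transvections. -/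
theorem tu_mem_pair (hn : 5 ≤ n) {p q : V} (hp0 : p ≠ 0) (hp : h p p = 0) (hq : h q q = 0)
    (hnc : ¬ Commute (tu hF p) (tu hF q)) {m : V} (hm : h m m = 0) :
    tu hF m ∈ Subgroup.closure {a | (∃ w : V, h w w = 0 ∧ a = tu hF w) ∧
      (Commute a (tu hF p) ∨ Commute a (tu hF q))} := by
  have hne : h p q ≠ 0 := fun e => hnc (tu_commute hF hp hq e)
  clear hnc
  -- normalise the pair
  obtain ⟨a, ha, hpq'⟩ : ∃ a : F, a ≠ 0 ∧ h p (a • q) = 1 := by
    refine ⟨σ (h p q)⁻¹, ?_, ?_⟩
    · rw [ne_eq, map_eq_zero, inv_eq_zero]; exact hne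
    · rw [h_smul_right hF, frob_frob hF, inv_mul_cancel₀ hne]
  rw [← tu_smul hF hq ha]
  have hq' : h (a • q) (a • q) = 0 := by rw [h_smul_left, h_smul_right hF, hq, mul_zero, mul_zero]
  generalize a • q = q' at hpq' hq' ⊢
  clear hne ha hq a q
  rename' q' => q, hpq' => hpq, hq' => hq
  have hqp : h q p = 1 := by rw [← h_swap hF p q, hpq, map_one]
  set H := Subgroup.closure {a | (∃ w : V, h w w = 0 ∧ a = tu hF w) ∧
      (Commute a (tu hF p) ∨ Commute a (tu hF q))}
  have mp : ∀ w : V, h w w = 0 → h w p = 0 → tu hF w ∈ H := fun w hw e =>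
    Subgroup.subset_closure ⟨⟨w, hw, rfl⟩, Or.inl (tu_commute hF hw hp e)⟩
  have mq : ∀ w : V, h w w = 0 → h w q = 0 → tu hF w ∈ H := fun w hw e =>
    Subgroup.subset_closure ⟨⟨w, hw, rfl⟩, Or.inr (tu_commute hF hw hq e)⟩
  -- moving by a member of `H` into the centraliser of `p`
  have move : ∀ g : Cfsg.SU n F 2, g ∈ H → ∀ w : V, h w w = 0 → h (mat g *ᵥ w) p = 0 → tu hF w ∈ H := by
    intro g hg w hw e
    have h1 := mp (mat g *ᵥ w) (by rw [su_h, hw]) e
    rw [← tu_conj hF g hw] at h1
    have h2 := mul_mem (mul_mem (inv_mem hg) h1) hg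
    rwa [show g⁻¹ * (g * tu hF w * g⁻¹) * g = tu hF w by group] at h2
  by_cases hxp : h m p = 0
  · exact mp m hm hxp
  by_cases hxq : h m q = 0
  · exact mq m hm hxq
  by_cases hc : h m p + h m q = 0
  · refine move (tu hF q) (mq q hq hq) m hm ?_
    rw [tu_mulVec hF hq, h_add_left, h_smul_left, hqp, mul_one]
    exact hc
  set m' := m + h m q • p + h m p • q with hm'
  have m1 : h m' p = 0 := by
    simp only [hm', h_add_left, h_smul_left, hp, hqp, mul_zero, mul_one, add_zero]
    exact add_self hF _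
  have m2 : h m' q = 0 := by
    simp only [hm', h_add_left, h_smul_left, hq, hpq, mul_zero, mul_one, add_zero]
    exact add_self hF _
  by_cases hm0 : m' = 0
  · exfalso
    have em : m = h m q • p + h m p • q := by
      have e1 : m + (h m q • p + h m p • q) = 0 := by rw [← add_assoc]; exact hm0
      calc m = m + ((h m q • p + h m p • q) + (h m q • p + h m p • q)) := by rw [vadd_self hF, add_zero]
        _ = h m q • p + h m p • q := by rw [← add_assoc, e1, zero_add]
    have e2 : h m q * σ (h m p) + h m p * σ (h m q) = 0 := by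
      have e3 := hm
      nth_rewrite 1 [em] at e3
      rw [h_add_left, h_smul_left, h_smul_left, ← h_swap hF m p, ← h_swap hF m q] at e3
      exact e3
    set β := h m p
    set α := h m q
    apply hc
    have hfix : σ (α * σ β) = α * σ β := by
      rw [map_mul, frob_frob hF]
      linear_combination e2 - (α * σ β) * two_zero hF
    rcases fixed hF hfix with h0 | h1
    · exact (mul_eq_zero.mp h0).elim (fun e => absurd e hxq) fun hβ => absurd ((map_eq_zero σ).mp hβ) hxp
    · have e7 : α = β := by
        have := norm_one hF hxp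
        linear_combination β * h1 - α * this
      rw [e7]; exact add_self hF β
  obtain ⟨u, huu, hup, huq, hmu⟩ := exists_partner_perp hF hn hp hq hpq m1 m2 hm0
  have hm'u : h m' u = h m u := by
    have epu : h p u = 0 := by rw [← h_swap hF, hup, map_zero]
    have equ : h q u = 0 := by rw [← h_swap hF, huq, map_zero]
    simp only [hm', h_add_left, h_smul_left, epu, equ, mul_zero, add_zero]
  rw [hm'u] at hmu
  set u' := σ ((h m p + h m q) / h m u) • u with hu'
  have hw : h (q + u') (q + u') = 0 := by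
    have equ : h q u = 0 := by rw [← h_swap hF, huq, map_zero]
    simp only [hu', h_add_left, h_add_right hF, h_smul_left, h_smul_right hF, hq, huu, huq, equ, mul_zero, add_zero]
  have hwq : h (q + u') q = 0 := by
    simp only [hu', h_add_left, h_smul_left, hq, huq, mul_zero, add_zero]
  refine move (tu hF (q + u')) (mq _ hw hwq) m hm ?_
  have e1 : h (q + u') p = 1 := by simp only [hu', h_add_left, h_smul_left, hqp, hup, mul_zero, add_zero]
  have e2 : h m (q + u') = h m q + (h m p + h m q) := by
    simp only [hu', h_add_right hF, h_smul_right hF, frob_frob hF, div_mul_cancel₀ _ hmu]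
  rw [tu_mulVec hF hw, h_add_left, h_smul_left, e1, mul_one, e2]
  linear_combination (h m p + h m q) * two_zero hF

/-- Five pairwise commuting transvections with product one. -/
theorem five (hn : 5 ≤ n) : ∃ w : Fin 5 → V, (∀ i, w i ≠ 0 ∧ h (w i) (w i) = 0) ∧
    (∀ i j, h (w i) (w j) = 0) ∧
    tu hF (w 0) * tu hF (w 1) * tu hF (w 2) * tu hF (w 3) * tu hF (w 4) = 1 := by
  obtain ⟨d, hd⟩ := exists_trace_one hF
  let i : Fin 4 → Fin n := fun k => ⟨k.1, by omega⟩
  let a : V := Pi.single (i 0) 1 + Pi.single (i 1) 1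
  let b : V := Pi.single (i 2) 1 + Pi.single (i 3) 1
  have hs : ∀ x y : Fin n, h (Pi.single x 1) (Pi.single y 1 : V) = if x = y then 1 else 0 := fun x y => by
    rw [UnitaryOrder.herm_single_right hF, Pi.single_apply]
    simp [eq_comm]
  have haa : h a a = 0 := by
    simp only [a, h_add_left, h_add_right hF, hs]
    simp [i, Fin.ext_iff, add_self hF]
  have hbb : h b b = 0 := by
    simp only [b, h_add_left, h_add_right hF, hs]
    simp [i, Fin.ext_iff, add_self hF]
  have hab : h a b = 0 := by
    simp only [a, b, h_add_left, h_add_right hF, hs]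
    simp [i, Fin.ext_iff]
  have hba : h b a = 0 := by rw [← h_swap hF, hab, map_zero]
  have hspan : ∀ x y x' y' : F, h (x • a + y • b) (x' • a + y' • b) = 0 := fun x y x' y' => by
    simp only [h_add_left, h_add_right hF, h_smul_left, h_smul_right hF, haa, hbb, hab, hba, mul_zero, add_zero]
  have hnz : ∀ x y : F, (x, y) ≠ 0 → x • a + y • b ≠ 0 := by
    intro x y hxy e
    have e0 := congrFun e (i 0)
    have e2 := congrFun e (i 2)
    simp [a, b, i, Pi.single_apply, Fin.ext_iff] at e0 e2
    exact hxy (Prod.ext e0 e2)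
  let c : Fin 5 → F × F := ![(1, 0), (0, 1), (1, 1), (1, d), (1, d + 1)]
  refine ⟨fun k => (c k).1 • a + (c k).2 • b, fun k => ⟨hnz _ _ ?_, hspan _ _ _ _⟩,
    fun k l => hspan _ _ _ _, ?_⟩
  · fin_cases k <;> simp [c]
  · refine su_ext fun v => ?_
    simp only [mat_mul, mat_one, one_mulVec, ← mulVec_mulVec]
    rw [tu_mulVec hF (hspan _ _ _ _), tu_mulVec hF (hspan _ _ _ _), tu_mulVec hF (hspan _ _ _ _),
      tu_mulVec hF (hspan _ _ _ _), tu_mulVec hF (hspan _ _ _ _)]
    simp only [h_add_left, h_smul_left, hspan, mul_zero, add_zero]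
    ext j
    simp [c, h_add_right hF, h_smul_right hF]
    have hd2 : σ d = d + 1 := by linear_combination hd - d * two_zero hF
    have hn1 : d * σ d = 1 := norm_one hF fun e => by rw [e, map_zero, add_zero] at hd; exact zero_ne_one hd
    rw [hd2] at hn1 ⊢
    linear_combination (2 * h v a * a j + h v a * b j * (d + 1) + h v b * a j * (d + 2) +
      h v b * b j * (d ^ 2 + 2 * d + 2)) * two_zero hF

end CfsgUniqueTT.Unitary
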