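/-
Strongly regular graphs: the discriminant is a square outside the conference case, and positivity.
-/
import Cfsg.Agent.Lib.ThreeTrans.Srg

set_option autoImplicit false
set_option linter.unusedSectionVars false

namespace CfsgThreeTrans.Srg

open Matrix Finset

variable {V : Type*} [Fintype V] [DecidableEq V] {R : V → V → Prop} [DecidableRel R] {k l m : ℕ}

theorem trace_idem {P : Matrix V V ℝ} (hP : P * P = P) : ∃ N : ℕ, P.trace = N := by
  have hi : IsIdempotentElem (Matrix.toLin' P) := by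
    show Matrix.toLin' P * Matrix.toLin' P = Matrix.toLin' P
    rw [Module.End.mul_eq_comp, ← Matrix.toLin'_mul, hP]
  exact ⟨_, (Matrix.trace_toLin'_eq P).symm.trans (LinearMap.IsIdempotentElem.isProj_range _ hi).trace⟩

/-- Outside the conference case the discriminant is a square. -/
theorem discr_square' [Nonempty V] (h : IsReg R k l m) (hm : m ≤ k)
    (hne : (2 : ℤ) * k + ((Fintype.card V : ℤ) - 1) * ((l : ℤ) - m) ≠ 0) :
    IsSquare (((l : ℤ) - m) ^ 2 + 4 * ((k : ℤ) - m)) := by
  set d : ℤ := (l : ℤ) - m with hd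
  set s : ℤ := d ^ 2 + 4 * ((k : ℤ) - m) with hs
  set n : ℤ := (Fintype.card V : ℤ)
  set e : ℤ := 2 * k - d with he
  have hcount := count h
  have hs0 : 0 ≤ s := by
    have : (m : ℤ) ≤ k := by exact_mod_cast hm
    nlinarith [sq_nonneg d]
  rcases hs0.eq_or_lt with h0 | hspos
  · rw [← h0]; exact IsSquare.zero
  set r : ℝ := Real.sqrt s
  have hspos' : (0 : ℝ) < s := by exact_mod_cast hspos
  have hr : r * r = s := Real.mul_self_sqrt hspos'.le
  have hr0 : r ≠ 0 := (Real.sqrt_pos.mpr hspos').ne'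
  have hn0 : (n : ℝ) ≠ 0 := by
    show ((Fintype.card V : ℤ) : ℝ) ≠ 0
    exact_mod_cast Fintype.card_ne_zero
  set T : Matrix V V ℤ := (2 : ℤ) • adjM R - d • (1 : Matrix V V ℤ) with hT
  set J : Matrix V V ℝ := (allOne V).map (Int.castRingHom ℝ)
  set T' : Matrix V V ℝ := T.map (Int.castRingHom ℝ)
  have eTT : T * T = s • (1 : Matrix V V ℤ) + (4 * (m : ℤ)) • allOne V := by
    rw [hT, Matrix.sub_mul, Matrix.mul_sub, Matrix.mul_sub]
    simp only [Matrix.smul_mul, Matrix.mul_smul, Matrix.one_mul, Matrix.mul_one, adj_sq h, ← hd, hs]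
    module
  have eTJ : T * allOne V = e • allOne V := by
    rw [hT, Matrix.sub_mul, Matrix.smul_mul, Matrix.smul_mul, adj_allOne h, Matrix.one_mul, he]
    module
  have eJT : allOne V * T = e • allOne V := by
    rw [hT, Matrix.mul_sub, Matrix.mul_smul, Matrix.mul_smul, allOne_adj h, Matrix.mul_one, he]
    module
  have mapsmul : ∀ (a : ℤ) (M : Matrix V V ℤ),
      (a • M).map (Int.castRingHom ℝ) = (a : ℝ) • M.map (Int.castRingHom ℝ) := fun a M => by
    ext x y
    show (((a * M x y : ℤ)) : ℝ) = (a : ℝ) * (M x y : ℝ)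
    push_cast
    rfl
  have hTT : T' * T' = (s : ℝ) • (1 : Matrix V V ℝ) + (4 * (m : ℝ)) • J := by
    rw [← Matrix.map_mul, eTT, Matrix.map_add _ (map_add _), mapsmul, mapsmul,
      Matrix.map_one _ (map_zero _) (map_one _)]
    push_cast
    rfl
  have hTJ : T' * J = (e : ℝ) • J := by rw [← Matrix.map_mul, eTJ, mapsmul]
  have hJT : J * T' = (e : ℝ) • J := by rw [← Matrix.map_mul, eJT, mapsmul]
  have hJJ : J * J = (n : ℝ) • J := by rw [← Matrix.map_mul, allOne_sq, mapsmul]
  have hee : (e : ℝ) * e = s + 4 * m * n := by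
    have : e * e = s + 4 * m * n := by
      rw [he, hs, hd]
      linear_combination (-4) * hcount
    exact_mod_cast this
  set X : Matrix V V ℝ := T' - ((e : ℝ) / n) • J with hX
  set Y : Matrix V V ℝ := 1 - ((1 : ℝ) / n) • J with hY
  have hYY : Y * Y = Y := by
    simp only [hY, Matrix.sub_mul, Matrix.mul_sub, Matrix.one_mul, Matrix.smul_mul, Matrix.mul_one,
      Matrix.mul_smul, hJJ, smul_smul]
    match_scalars <;> field_simp <;> ring
  have hXY : X * Y = X := by
    simp only [hX, hY, Matrix.mul_sub, Matrix.mul_one, Matrix.mul_smul, Matrix.sub_mul, Matrix.smul_mul, hTJ, hJJ,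
      smul_smul]
    match_scalars <;> field_simp <;> ring
  have hYX : Y * X = X := by
    simp only [hX, hY, Matrix.sub_mul, Matrix.one_mul, Matrix.smul_mul, Matrix.mul_sub, Matrix.mul_smul, hJT, hJJ,
      smul_smul]
    match_scalars <;> field_simp <;> ring
  have hXX : X * X = (s : ℝ) • Y := by
    simp only [hX, hY, Matrix.sub_mul, Matrix.mul_sub, Matrix.smul_mul, Matrix.mul_smul,
      hTT, hTJ, hJT, hJJ, smul_smul, smul_sub]
    match_scalars
    · ring
    · field_simp
      linear_combination (-1 : ℝ) * hee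
  set P : Matrix V V ℝ := (1 / (2 * r)) • (r • Y + X) with hP
  have hPP : P * P = P := by
    simp only [hP, Matrix.smul_mul, Matrix.mul_smul, Matrix.add_mul, Matrix.mul_add, hYY, hYX, hXY, hXX, ← hr]
    match_scalars <;> field_simp <;> ring
  obtain ⟨N, hN⟩ := trace_idem hPP
  have tA : T'.trace = -(n : ℝ) * d := by
    have e1 : ∀ x, T' x x = -(d : ℝ) := fun x => by
      show ((2 * adjM R x x - d * (1 : Matrix V V ℤ) x x : ℤ) : ℝ) = _
      simp [adjM, h.irrefl x]
    rw [Matrix.trace, Finset.sum_congr rfl fun x _ => (show T'.diag x = _ from e1 x)]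
    simp [n]
  have tJ : J.trace = (n : ℝ) := by simp [J, allOne, Matrix.trace, n]
  rw [hP, trace_smul, trace_add, trace_smul, hY, hX, trace_sub, trace_sub, trace_smul, trace_smul, tA, tJ,
    trace_one, show (Fintype.card V : ℝ) = (n : ℝ) from (Int.cast_natCast _).symm, smul_eq_mul, smul_eq_mul,
    smul_eq_mul, smul_eq_mul] at hN
  set q : ℤ := 2 * (N : ℤ) - (n - 1)
  have hq : r * (q : ℝ) = -((2 * k + (n - 1) * d : ℤ) : ℝ) := by
    field_simp at hN
    simp only [q, he] at hN ⊢
    push_cast at hN ⊢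
    linear_combination -hN
  have hq0 : q ≠ 0 := fun e0 => hne (by
    rw [e0, Int.cast_zero, mul_zero] at hq
    exact_mod_cast neg_eq_zero.mp hq.symm)
  have hsq : (s : ℝ) * ((q : ℝ) * q) = ((2 * k + (n - 1) * d : ℤ) : ℝ) * ((2 * k + (n - 1) * d : ℤ) : ℝ) := by
    rw [← hr]
    linear_combination (r * (q : ℝ) - ((2 * k + (n - 1) * d : ℤ) : ℝ)) * hq
  have hsqZ : s * (q * q) = (2 * k + (n - 1) * d) * (2 * k + (n - 1) * d) := by exact_mod_cast hsq
  rw [← Rat.isSquare_intCast_iff]
  refine ⟨((2 * k + (n - 1) * d : ℤ) : ℚ) / q, ?_⟩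
  have hq0' : (q : ℚ) ≠ 0 := Int.cast_ne_zero.mpr hq0
  rw [div_mul_div_comm, eq_div_iff (mul_ne_zero hq0' hq0')]
  exact_mod_cast hsqZ

/-- A general combination of adjacency, identity and all-ones matrices. -/
def comb3 (R : V → V → Prop) [DecidableRel R] (a b g : ℤ) : Matrix V V ℤ :=
  a • adjM R + b • (1 : Matrix V V ℤ) + g • allOne V

/-- A scaled idempotent combination is nonnegative. -/
theorem comb3_nonneg (h : IsReg R k l m) {a b g c : ℤ} (h1 : a * a * ((l : ℤ) - m) + 2 * a * b = c * a)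
    (h2 : a * a * ((k : ℤ) - m) + b * b = c * b)
    (h3 : a * a * m + g * g * Fintype.card V + 2 * a * g * k + 2 * b * g = c * g) (hc : 0 < c) (y : V → ℤ) :
    0 ≤ y ⬝ᵥ (comb3 R a b g *ᵥ y) ∧ (y ⬝ᵥ (comb3 R a b g *ᵥ y) = 0 → comb3 R a b g *ᵥ y = 0) := by
  have hsym : (comb3 R a b g)ᵀ = comb3 R a b g := by
    rw [comb3, transpose_add, transpose_add, transpose_smul, transpose_smul, transpose_smul, adj_symm h,
      transpose_one]
    rfl
  have hsq : comb3 R a b g * comb3 R a b g = c • comb3 R a b g := by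
    simp only [comb3, Matrix.add_mul, Matrix.mul_add, Matrix.smul_mul, Matrix.mul_smul, Matrix.one_mul,
      Matrix.mul_one, adj_sq h, adj_allOne h, allOne_adj h, allOne_sq]
    ext x y
    simp only [Matrix.add_apply, Matrix.smul_apply, smul_eq_mul]
    linear_combination (1 : Matrix V V ℤ) x y * h2 + adjM R x y * h1 + allOne V x y * h3
  have key : (comb3 R a b g *ᵥ y) ⬝ᵥ (comb3 R a b g *ᵥ y) = c * (y ⬝ᵥ (comb3 R a b g *ᵥ y)) := by
    rw [dotProduct_mulVec, ← mulVec_transpose, hsym, mulVec_mulVec, hsq, smul_mulVec, smul_dotProduct,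
      dotProduct_comm, smul_eq_mul]
  have hnn : 0 ≤ (comb3 R a b g *ᵥ y) ⬝ᵥ (comb3 R a b g *ᵥ y) :=
    Finset.sum_nonneg fun i _ => mul_self_nonneg _
  exact ⟨nonneg_of_mul_nonneg_right (key ▸ hnn) hc, fun h0 => dotProduct_self_eq_zero.mp (by rw [key, h0, mul_zero])⟩

/-- The indicator vector of a predicate. -/
def indic (P : V → Prop) [DecidablePred P] : V → ℤ := fun z => if P z then 1 else 0

theorem comb3_indic (a b g : ℤ) (P : V → Prop) [DecidablePred P] (z : V) :
    (comb3 R a b g *ᵥ indic P) z =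
      a * ((univ.filter fun w => R z w ∧ P w).card : ℤ) + b * indic P z + g * ((univ.filter P).card : ℤ) := by
  simp only [comb3, Matrix.add_mulVec, Matrix.smul_mulVec, Matrix.one_mulVec, Pi.add_apply, Pi.smul_apply,
    smul_eq_mul]
  congr 1
  congr 1
  · congr 1
    rw [Finset.natCast_card_filter]
    refine Finset.sum_congr rfl fun w _ => ?_
    simp only [adjM, of_apply, indic]
    by_cases h1 : R z w <;> by_cases h2 : P w <;> simp [h1, h2]
  · congr 1
    rw [Finset.natCast_card_filter]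
    refine Finset.sum_congr rfl fun w _ => ?_
    simp [allOne, indic]

theorem indic_dot (P : V → Prop) [DecidablePred P] (f : V → ℤ) : indic P ⬝ᵥ f = ∑ z ∈ univ.filter P, f z := by
  rw [dotProduct, Finset.sum_filter]
  exact Finset.sum_congr rfl fun z _ => by simp only [indic]; split <;> simp

end CfsgThreeTrans.Srg
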