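/-
If the odd core of the partner subgroup moves a partner, the group is the symmetric group of degree five.
-/
import Cfsg.Agent.Lib.ThreeTrans.Fischer
import Cfsg.Agent.Lib.ThreeTrans.Petersen
import Cfsg.Agent.Lib.ThreeTrans.SrgTrace

set_option autoImplicit false

namespace CfsgThreeTrans.TwinFive

open Cfsg CfsgLib CfsgThreeTrans

universe u

variable {G : Type u} [Group G] {D : Set G}

/-- Conjugating by a member that commutes fixes. -/
theorem fix_of_commute (hD : IsThreeTranspositionSet D) {p a : G} (hp : p ∈ D) (h : Commute p a) :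
    p * a * p = a := by
  rw [h.eq, mul_assoc, mul_self hD hp, mul_one]

/-- The pullback of three members along six conjugations. -/
theorem pullback (hD : IsThreeTranspositionSet D) {x e e' d : G} (hx : x ∈ D) (he : e ∈ D) (he' : e' ∈ D)
    (hd : d ∈ D) (hxe : Commute x e) (hxe' : Commute x e') (hee' : ¬ Commute e e') (hde : Commute d e)
    (hde' : ¬ Commute d e') (hdx : ¬ Commute d x) :
    (d * x * e' * d * e * e') * x * (d * x * e' * d * e * e')⁻¹ = e' ∧
    (d * x * e' * d * e * e') * e * (d * x * e' * d * e * e')⁻¹ = x ∧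
    (d * x * e' * d * e * e') * e' * (d * x * e' * d * e * e')⁻¹ = (x * e * e') * d * (x * e * e')⁻¹ := by
  have mx := mul_self hD hx
  have me := mul_self hD he
  have me' := mul_self hD he'
  have md := mul_self hD hd
  have cx := mul_mul_cancel_self mx
  have ce := mul_mul_cancel_self me
  have ce' := mul_mul_cancel_self me'
  have cd := mul_mul_cancel_self md
  have bxd : d * x * d = x * d * x := braid hD hd hx hdx
  have bde : d * e' * d = e' * d * e' := braid hD hd he' hde'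
  have bee : e * e' * e = e' * e * e' := braid hD he he' hee'
  have hinv : (d * x * e' * d * e * e')⁻¹ = e' * e * d * e' * x * d := by
    simp only [mul_inv_rev, inv_self hD hx, inv_self hD he, inv_self hD he', inv_self hD hd, mul_assoc]
  have hinv2 : (x * e * e')⁻¹ = e' * e * x := by
    simp only [mul_inv_rev, inv_self hD hx, inv_self hD he, inv_self hD he', mul_assoc]
  rw [hinv, hinv2]
  refine ⟨?_, ?_, ?_⟩
  · calc (d * x * e' * d * e * e') * x * (e' * e * d * e' * x * d)
        = d * x * e' * d * (e * (e' * x * e') * e) * d * e' * x * d := by simp only [mul_assoc]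
      _ = d * x * e' * (d * x * d) * e' * x * d := by
          rw [fix_of_commute hD he' hxe'.symm, fix_of_commute hD he hxe.symm]; simp only [mul_assoc]
      _ = d * (x * e' * x) * d * (x * e' * x) * d := by rw [bxd]; simp only [mul_assoc]
      _ = (d * e' * d) * e' * d := by rw [fix_of_commute hD hx hxe']
      _ = (e' * d * e') * e' * d := by rw [bde]
      _ = e' := by simp only [mul_assoc, ce', md, mul_one]
  · calc (d * x * e' * d * e * e') * e * (e' * e * d * e' * x * d)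
        = d * x * e' * d * (e * (e' * e * e') * e) * d * e' * x * d := by simp only [mul_assoc]
      _ = d * x * e' * d * e' * d * e' * x * d := by rw [← bee]; simp only [mul_assoc, ce, me, mul_one]
      _ = d * x * e' * (d * e' * d) * e' * x * d := by simp only [mul_assoc]
      _ = d * x * d * x * d := by rw [bde]; simp only [mul_assoc, ce', me', mul_one]
      _ = (d * x * d) * x * d := rfl
      _ = x := by rw [bxd]; simp only [mul_assoc, cx, md, mul_one]
  · calc (d * x * e' * d * e * e') * e' * (e' * e * d * e' * x * d)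
        = d * x * e' * (d * (e * e' * e) * d) * e' * x * d := by simp only [mul_assoc, ce']
      _ = d * x * e' * ((d * e' * d) * (d * e * d) * (d * e' * d)) * e' * x * d := by
          rw [bee]; simp only [mul_assoc, cd]
      _ = d * x * ((e' * (e' * d * e')) * e * ((e' * d * e') * e')) * x * d := by
          rw [fix_of_commute hD hd hde, bde]; simp only [mul_assoc]
      _ = d * x * (d * (e' * e * e') * d) * x * d := by simp only [mul_assoc, ce', me', mul_one]
      _ = d * x * ((d * e) * e' * (e * d)) * x * d := by rw [← bee]; simp only [mul_assoc]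
      _ = d * x * (e * (d * e' * d) * e) * x * d := by rw [hde.eq, ← hde.eq]; simp only [mul_assoc]; rw [← mul_assoc d e, hde.eq]; simp only [mul_assoc]
      _ = d * ((x * e) * e' * d * e' * (e * x)) * d := by rw [bde]; simp only [mul_assoc]
      _ = d * ((e * x) * e' * d * e' * (x * e)) * d := by rw [hxe.eq]
      _ = d * (e * (x * e') * d * (e' * x) * e) * d := by simp only [mul_assoc]
      _ = d * (e * (e' * x) * d * (x * e') * e) * d := by rw [hxe'.eq]
      _ = d * (e * e' * (x * d * x) * e' * e) * d := by simp only [mul_assoc]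
      _ = (d * e) * e' * d * x * d * e' * (e * d) := by rw [← bxd]; simp only [mul_assoc]
      _ = (e * d) * e' * d * x * d * e' * (d * e) := by rw [hde.eq]
      _ = e * (d * e' * d) * x * (d * e' * d) * e := by simp only [mul_assoc]
      _ = e * e' * d * (e' * x * e') * d * e' * e := by rw [bde]; simp only [mul_assoc]
      _ = e * e' * (d * x * d) * e' * e := by
          rw [fix_of_commute hD he' hxe'.symm]; simp only [mul_assoc]
      _ = (e * (e' * x)) * d * ((x * e') * e) := by rw [bxd]; simp only [mul_assoc]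
      _ = (e * (x * e')) * d * ((e' * x) * e) := by rw [hxe'.eq]
      _ = ((e * x) * e') * d * (e' * (x * e)) := by simp only [mul_assoc]
      _ = ((x * e) * e') * d * (e' * (e * x)) := by rw [hxe.eq]
      _ = x * e * e' * d * (e' * e * x) := by simp only [mul_assoc]

/-- Two noncommuting partners of `x` with the same other partners there. -/
def Twins (D : Set G) (x e e' : G) : Prop :=
  e ∈ Ds D x ∧ e' ∈ Ds D x ∧ ¬ Commute e e' ∧ ∀ f ∈ Ds D x, f ≠ e → f ≠ e' → (Commute f e ↔ Commute f e')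

theorem Twins.map (hD : IsThreeTranspositionClass D) (g : G) {x e e' : G} (h : Twins D x e e') :
    Twins D (g * x * g⁻¹) (g * e * g⁻¹) (g * e' * g⁻¹) := by
  obtain ⟨he, he', hne, hf⟩ := h
  refine ⟨?_, ?_, fun hc => hne ((commute_cj_iff g).mp hc), fun f hfm h1 h2 => ?_⟩
  · rw [← cj_Ds hD]; exact ⟨e, he, rfl⟩
  · rw [← cj_Ds hD]; exact ⟨e', he', rfl⟩
  · rw [← cj_Ds hD] at hfm
    obtain ⟨f0, hf0, rfl⟩ := hfm
    rw [commute_cj_iff, commute_cj_iff]
    exact hf f0 hf0 (fun h => h1 (h ▸ rfl)) (fun h => h2 (h ▸ rfl))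

variable [Finite G]

/-- A partner moved by the odd core has a twin. -/
theorem exists_twins (hD : IsThreeTranspositionClass D) {x : G} (hx : x ∈ D)
    (h : ¬ oddCore ↥(Subgroup.closure (Ds D x)) ≤ Subgroup.center ↥(Subgroup.closure (Ds D x))) :
    ∃ e e', Twins D x e e' := by
  set H := Subgroup.closure (Ds D x) with hH
  set O := oddCore ↥H with hO
  obtain ⟨k, hk, e, he, hne⟩ : ∃ k ∈ O, ∃ e ∈ Ds D x, (k : G) * e * (k : G)⁻¹ ≠ e := by
    by_contra hno
    push Not at hno
    refine h fun k hk => Subgroup.mem_center_iff.mpr fun g => Subtype.ext ?_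
    have hle : H ≤ Subgroup.centralizer ({(k : G)} : Set G) := (Subgroup.closure_le _).mpr fun e he =>
      Subgroup.mem_centralizer_singleton_iff.mpr (mul_inv_eq_iff_eq_mul.mp (hno k hk e he)).symm
    exact Subgroup.mem_centralizer_singleton_iff.mp (hle g.2)
  set e' := (k : G) * e * (k : G)⁻¹ with he'def
  have heH : e ∈ H := Subgroup.subset_closure he
  have hke : Commute (k : G) x := closure_Ds_commute k.2
  have he' : e' ∈ Ds D x := by
    have hfx : (k : G) * x * (k : G)⁻¹ = x := by rw [hke.eq, mul_inv_cancel_right]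
    rw [← hfx, ← cj_Ds hD]; exact ⟨e, he, rfl⟩
  have he'H : e' ∈ H := Subgroup.subset_closure he'
  have hodd : Odd (Nat.card O) := odd_card_oddCore
  have hsq : ∀ z : ↥H, z ∈ O → (z : G) * z = 1 → (z : G) = 1 := by
    intro z hz hzz
    have h1 : orderOf z ∣ Nat.card O := by
      simpa using (orderOf_dvd_natCard (⟨z, hz⟩ : O))
    have h2 : orderOf z ∣ 2 := orderOf_dvd_of_pow_eq_one (Subtype.ext (by simpa [sq] using hzz))
    rcases (Nat.dvd_prime Nat.prime_two).mp h2 with h3 | h3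
    · rw [orderOf_eq_one_iff.mp h3]; rfl
    · exact absurd (h3 ▸ h1 : 2 ∣ Nat.card O) (Nat.two_dvd_ne_zero.mpr (Nat.odd_iff.mp hodd))
  have hprod : (⟨e, heH⟩ : ↥H) * ⟨e', he'H⟩ ∈ O := by
    have hconj := (inferInstance : O.Normal).conj_mem k hk ⟨e, heH⟩
    have := mul_mem hconj (inv_mem hk)
    convert this using 1
    refine Subtype.ext ?_
    simp only [Subgroup.coe_mul, Subgroup.coe_inv, he'def, inv_self hD.1 he.1, mul_assoc]
  have hnc : ¬ Commute e e' := fun hc => hne (by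
    have h1 := hsq _ hprod (by
      show e * e' * (e * e') = 1
      rw [← sq]; exact (commute_iff_sq (hD.1.1 e he.1) (hD.1.1 e' he'.1)).mp hc)
    have h2 : e * e' = 1 := h1
    exact (inv_eq_of_mul_eq_one_right h2).symm.trans (inv_self hD.1 he.1))
  have hswap : (⟨e', he'H⟩ : ↥H) * ⟨e, heH⟩ ∈ O := by
    convert inv_mem hprod using 1
    refine Subtype.ext ?_
    simp only [Subgroup.coe_inv, Subgroup.coe_mul, mul_inv_rev, inv_self hD.1 he.1, inv_self hD.1 he'.1]
  have key : ∀ a (ha : a ∈ Ds D x) b (hb : b ∈ Ds D x),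
      (⟨a, Subgroup.subset_closure ha⟩ : ↥H) * ⟨b, Subgroup.subset_closure hb⟩ ∈ O →
      ∀ f ∈ Ds D x, f ≠ a → Commute f a → Commute f b := by
    intro a ha b hb hab f hf hfa hc
    by_contra hnf
    let q := QuotientGroup.mk' O
    set A : ↥H := ⟨a, Subgroup.subset_closure ha⟩
    set B : ↥H := ⟨b, Subgroup.subset_closure hb⟩
    set F : ↥H := ⟨f, Subgroup.subset_closure hf⟩
    have hAA : A * A = 1 := Subtype.ext (mul_self hD.1 ha.1)
    have hqB : q B = q A := by
      have h1 : q (A * B) = 1 := (QuotientGroup.eq_one_iff _).mpr hab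
      rw [map_mul] at h1
      calc q B = q (A * A) * q B := by rw [hAA, map_one, one_mul]
        _ = q A := by rw [map_mul, mul_assoc, h1, mul_one]
    have h2 : (F * A) ^ 2 = 1 := Subtype.ext (by
      show (f * a) ^ 2 = 1
      exact (commute_iff_sq (hD.1.1 f hf.1) (hD.1.1 a ha.1)).mp hc)
    have h3 : (F * B) ^ 3 = 1 := Subtype.ext (by
      show (f * b) ^ 3 = 1
      exact pow_three hD.1 hf.1 hb.1 hnf)
    have h4 : q (F * A) = 1 := by
      have e3 : q (F * A) ^ 3 = 1 := by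
        rw [map_mul, ← hqB, ← map_mul, ← map_pow, h3, map_one]
      have e2 : q (F * A) ^ 2 = 1 := by rw [← map_pow, h2, map_one]
      calc q (F * A) = q (F * A) * q (F * A) ^ 2 := by rw [e2, mul_one]
        _ = 1 := by rw [← pow_succ', e3]
    have h5 := hsq _ ((QuotientGroup.eq_one_iff _).mp h4) (by
      have := congrArg Subtype.val h2
      simpa [sq] using this)
    have h6 : f * a = 1 := h5
    exact hfa ((eq_inv_of_mul_eq_one_left h6).trans (inv_self hD.1 ha.1))
  exact ⟨e, e', he, he', hnc, fun f hf h1 h2 => ⟨key e he e' he' hprod f hf h1, key e' he' e he hswap f hf h2⟩⟩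

/-- A set of pairwise noncommuting members closed under conjugation has 3-power size. -/
theorem ncard_pow_three (hD : IsThreeTranspositionClass D) {S : Set G} (hS : S ⊆ D) (hne : S.Nonempty)
    (hcl : ∀ a ∈ S, ∀ b ∈ S, a * b * a⁻¹ ∈ S) (hnc : ∀ a ∈ S, ∀ b ∈ S, a ≠ b → ¬ Commute a b) :
    ∃ n : ℕ, S.ncard = 3 ^ n := by
  obtain ⟨P, hP, hPC, hmem⟩ := width_one_products S (fun a ha => hD.1.1 a (hS ha)) hcl fun a ha b hb => by
    by_cases hab : a = b
    · rw [← hab, mul_self hD.1 (hS ha), one_pow]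
    · exact pow_three hD.1 (hS ha) (hS hb) (hnc a ha b hb hab)
  obtain ⟨a, ha⟩ := hne
  have hst : ∀ k ∈ Subgroup.closure S, ∀ b ∈ S, k * b * k⁻¹ ∈ S := fun k hk => by
    refine Subgroup.closure_induction'' (p := fun k _ => ∀ b ∈ S, k * b * k⁻¹ ∈ S) hcl ?_ ?_ ?_ hk
    · intro c hc b hb
      rw [inv_self hD.1 (hS hc)]
      exact hcl c hc b hb
    · intro b hb; simpa using hb
    · intro p q _ _ hp hq b hb
      rw [← cj_cj]
      exact hp _ (hq b hb)
  have h := M22.card_orbit_stab P a S (fun k hk => hst k (hPC hk) a ha) fun b hb => by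
    refine ⟨a * b, hmem a ha b hb, ?_⟩
    by_cases hab : a = b
    · subst hab
      rw [mul_self hD.1 (hS ha), one_mul, inv_one, mul_one]
    rw [mul_inv_rev, inv_self hD.1 (hS ha), inv_self hD.1 (hS hb)]
    calc a * b * a * (b * a) = (a * b * a) * b * a := by simp only [mul_assoc]
      _ = b * a * b * b * a := by rw [braid hD.1 (hS ha) (hS hb) (hnc a ha b hb hab)]
      _ = b := by simp only [mul_assoc, mul_mul_cancel_self (mul_self hD.1 (hS hb)), mul_self hD.1 (hS ha), mul_one]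
  haveI : Fact (Nat.Prime 3) := ⟨Nat.prime_three⟩
  obtain ⟨N, hN⟩ := IsPGroup.iff_card.mp hP
  obtain ⟨n, -, hn⟩ := (Nat.dvd_prime_pow Nat.prime_three).mp (Dvd.intro _ (h.symm.trans hN) : S.ncard ∣ 3 ^ N)
  exact ⟨n, hn⟩

/-- In a primitive class with twins no two partners of a member commute. -/
theorem no_triangle (hD : IsThreeTranspositionClass D) (hp : IsPrimitiveUnderConj D)
    (hw : ∃ a ∈ D, ∃ b ∈ D, a ≠ b ∧ Commute a b)
    (htw : ∀ a ∈ D, ∀ b ∈ Ds D a, ∃ b', Twins D a b b')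
    {x e y : G} (hx : x ∈ D) (he : e ∈ Ds D x) (hy : y ∈ Ds D x) : ¬ y ∈ Ds D e := by
  intro hye
  obtain ⟨e', he1, he', hnc, htwin⟩ := htw x hx e he
  set M := Ds D x ∩ Ds D e with hM
  have hxe : Commute x e := he.2.2
  have hxe' : Commute x e' := he'.2.2
  have key : ∀ m ∈ M, ∀ d ∈ D, Commute d e → ¬ Commute d e' → Commute d m := by
    rintro m ⟨hm, hme⟩ d hd hde hde'
    by_cases hd_e : d = e
    · exact hd_e ▸ hme.2.2
    have hdx : ¬ Commute d x := by
      intro hdx
      have hdm : d ∈ Ds D x := ⟨hd, fun h => hde' (h ▸ hxe'), hdx.symm⟩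
      exact hde' ((htwin d hdm hd_e (fun h => hnc (h ▸ hde).symm)).mp hde)
    have hme' : Commute m e' :=
      (htwin m hm hme.2.1 (fun h => hnc (h ▸ hme.2.2))).mp hme.2.2.symm
    by_contra hdm
    obtain ⟨p1, p2, p3⟩ := pullback hD.1 hx he.1 he'.1 hd hxe hxe' hnc hde hde' hdx
    set g := d * x * e' * d * e * e'
    have q1 : g⁻¹ * e' * g = x := by rw [← p1]; group
    have q2 : g⁻¹ * x * g = e := by rw [← p2]; group
    have q3 : g⁻¹ * ((x * e * e') * d * (x * e * e')⁻¹) * g = e' := by rw [← p3]; group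
    set u := g⁻¹ * m * g
    have hu : ∀ a : G, Commute u (g⁻¹ * a * g) ↔ Commute m a := fun a => by
      have := commute_cj_iff g⁻¹ (x := m) (y := a)
      rwa [inv_inv] at this
    have huD : u ∈ D := by
      have := cls_conj hD g⁻¹ hm.1
      rwa [inv_inv] at this
    have u1 : Commute u x := q1 ▸ (hu _).mpr hme'
    have u2 : Commute u e := q2 ▸ (hu _).mpr hm.2.2.symm
    have u3 : ¬ Commute u e' := by
      rw [← q3, hu]
      intro h
      apply hdm
      set w := x * e * e'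
      have hmw : Commute m w := (hm.2.2.symm.mul_right hme.2.2.symm).mul_right hme'
      have h2 : Commute (w * m * w⁻¹) (w * d * w⁻¹) := by
        rwa [← hmw.eq, mul_inv_cancel_right]
      exact ((commute_cj_iff w).mp h2).symm
    have hinj : ∀ a b : G, g⁻¹ * a * g = g⁻¹ * b * g → a = b := fun a b h =>
      mul_left_cancel (mul_right_cancel h)
    have hux : u ≠ x := fun h => by
      have := hinj m e' (h.trans q1.symm)
      exact hnc (this ▸ hme.2.2)
    have hue : u ≠ e := fun h => hm.2.1 (hinj m x (h.trans q2.symm))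
    exact u3 ((htwin u ⟨huD, hux, u1.symm⟩ hue (fun h => u3 (h ▸ Commute.refl u))).mp u2)
  have hyM : y ∈ M := ⟨hy, hye⟩
  have hxM : x ∉ M := fun h => h.1.2.1 rfl
  have hxDe : x ∈ Ds D e := ⟨hx, fun h => he.2.1 h.symm, hxe.symm⟩
  have hconst : ∀ a ∈ Ds D e, (Ds D a ∩ Ds D e).ncard = M.ncard := by
    intro a ha
    obtain ⟨g, hg, hga⟩ := rank_three_near hD hp hw he.1 x hxDe a ha
    have hge : g * e * g⁻¹ = e := by rw [hg.eq, mul_inv_cancel_right]
    rw [← hga, ← hge, ← cj_Ds hD, ← cj_Ds hD, ← Set.image_inter (cj_injective g),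
      Set.ncard_image_of_injective _ (cj_injective g)]
  have hZM : ∀ z ∈ Ds D e, ¬ Commute z e' → Ds D z ∩ Ds D e = M := by
    intro z hz hze'
    refine (Set.eq_of_subset_of_ncard_le (fun m hm => ?_) (hconst z hz).le).symm
    refine ⟨⟨hm.1.1, fun h => ?_, key m hm z hz.1 hz.2.2.symm hze'⟩, hm.2⟩
    have hme' := (htwin m hm.1 hm.2.2.1 (fun h' => hnc (h' ▸ hm.2.2.2))).mp hm.2.2.2.symm
    exact hze' (h ▸ hme')
  have hcl : ∀ a ∈ Ds D e, ∀ b ∈ Ds D e, a * b * a⁻¹ ∈ Ds D e := by
    intro a ha b hb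
    have hae : a * e * a⁻¹ = e := by rw [ha.2.2.symm.eq, mul_inv_cancel_right]
    rw [← hae, ← cj_Ds hD]
    exact ⟨b, hb, rfl⟩
  obtain ⟨c, hc, hcx, hcM⟩ : ∃ c ∈ Ds D e, c ∉ M ∧ Ds D c ∩ Ds D e ≠ M := by
    by_contra hno
    push Not at hno
    have hinv : ∀ a ∈ Ds D e, ∀ s, s ∈ Ds D e ∧ s ∉ M → a * s * a⁻¹ ∈ Ds D e ∧ a * s * a⁻¹ ∉ M := by
      rintro a ha s ⟨hs, hsM⟩
      refine ⟨hcl a ha s hs, fun hmem => ?_⟩
      by_cases has : Commute a s
      · rw [has.eq, mul_inv_cancel_right] at hmem; exact hsM hmem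
      by_cases haM : a ∈ M
      · have : a ∈ Ds D s ∩ Ds D e := (hno s hs hsM).symm ▸ haM
        exact has this.1.2.2.symm
      have : a * s * a⁻¹ ∈ Ds D a ∩ Ds D e := (hno a ha haM).symm ▸ hmem
      have h2 : Commute (a * a * a⁻¹) (a * s * a⁻¹) := by
        rw [mul_inv_cancel_right]; exact this.1.2.2
      exact has ((commute_cj_iff a).mp h2)
    obtain ⟨g, hg, hgy⟩ := Ds_transitive hD hp hw he.1 x hxDe y hye
    have hgen : ∀ k ∈ Subgroup.closure (Ds D e), ∀ s, s ∈ Ds D e ∧ s ∉ M →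
        k * s * k⁻¹ ∈ Ds D e ∧ k * s * k⁻¹ ∉ M := fun k hk => by
      refine Subgroup.closure_induction'' (p := fun k _ => ∀ s, s ∈ Ds D e ∧ s ∉ M →
        k * s * k⁻¹ ∈ Ds D e ∧ k * s * k⁻¹ ∉ M) hinv ?_ ?_ ?_ hk
      · intro a ha s hs
        rw [inv_self hD.1 ha.1]
        exact hinv a ha s hs
      · intro s hs; simpa using hs
      · intro p q _ _ hp' hq s hs
        rw [← cj_cj]
        exact hp' _ (hq s hs)
    exact (hgy ▸ (hgen g hg x ⟨hxDe, hxM⟩).2) hyM
  have hce' : Commute c e' := by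
    by_contra h
    exact hcM (hZM c hc h)
  obtain ⟨z, hz, hze'⟩ : ∃ z ∈ Ds D e, ¬ Commute z e' := by
    by_contra hno
    push Not at hno
    have hsub : Ds D e ⊆ Ds D e' := fun z hz => ⟨hz.1, fun h => hnc (h ▸ hz.2.2), (hno z hz).symm⟩
    have hcard : (Ds D e').ncard ≤ (Ds D e).ncard := by
      obtain ⟨g, rfl⟩ := cls_exists_conj hD he.1 he'.1
      rw [← cj_Ds hD, Set.ncard_image_of_injective _ (cj_injective g)]
    have heW : e' ∈ Ws D e := ⟨he'.1, Set.eq_of_subset_of_ncard_le hsub hcard⟩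
    rw [Ws_trivial hD hp hw he.1, Set.mem_singleton_iff] at heW
    exact hnc (heW ▸ Commute.refl e)
  have hzc : ¬ Commute z c := by
    intro h
    exact hcx (hZM z hz hze' ▸ (⟨⟨hc.1, fun h' => hze' (h' ▸ hce'), h⟩, hc⟩ : c ∈ Ds D z ∩ Ds D e))
  have hc'e' : Commute (z * c * z⁻¹) e' := by
    by_contra h
    apply hcM
    have h1 := hZM _ (hcl z hz c hc) h
    have hze : z * e * z⁻¹ = e := by rw [hz.2.2.symm.eq, mul_inv_cancel_right]
    rw [← hze, ← cj_Ds hD, ← cj_Ds hD, ← Set.image_inter (cj_injective z)] at h1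
    have h2 : (fun t => z * t * z⁻¹) '' M = M := by
      refine Set.eq_of_subset_of_ncard_le ?_ (by rw [Set.ncard_image_of_injective _ (cj_injective z)])
      rintro _ ⟨m, hm, rfl⟩
      have hmz : m ∈ Ds D z ∩ Ds D e := (hZM z hz hze').symm ▸ hm
      show z * m * z⁻¹ ∈ M
      rw [hmz.1.2.2.eq, mul_inv_cancel_right]
      exact hm
    have h3 := h1.trans h2.symm
    exact (cj_injective z).image_injective h3
  apply hze'
  have hz2 : c * (z * c * z⁻¹) * c = z := by
    rw [inv_self hD.1 hz.1, braid hD.1 hz.1 hc.1 hzc]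
    simp only [mul_assoc, mul_mul_cancel_self (mul_self hD.1 hc.1), mul_self hD.1 hc.1, mul_one]
  rw [← hz2]
  exact (hce'.mul_left hc'e').mul_left hce'

/-- The only admissible parameters. -/
theorem no_sq (j : ℕ) : ∀ (y w : ℕ), w % 3 = 2 → y * y ≠ 3 ^ j * w := by
  induction j using Nat.strong_induction_on with
  | _ j ih =>
    intro y w hw h
    match j, ih, h with
    | 0, _, h =>
      rw [pow_zero, one_mul] at h
      have := Nat.mul_mod y y 3
      have hy := Nat.mod_lt y (show 3 > 0 by norm_num)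
      rw [h, hw] at this
      interval_cases y % 3 <;> simp at this
    | 1, _, h =>
      obtain ⟨z, rfl⟩ : 3 ∣ y := (Nat.Prime.dvd_mul Nat.prime_three).mp ⟨w, by rw [h, pow_one]⟩ |>.elim id id
      have : w = 3 * (z * z) := by
        rw [pow_one] at h
        nlinarith
      omega
    | j + 2, ih, h =>
      obtain ⟨z, rfl⟩ : 3 ∣ y := (Nat.Prime.dvd_mul Nat.prime_three).mp
        ⟨3 ^ (j + 1) * w, by rw [h, pow_succ, pow_succ]; ring⟩ |>.elim id id
      exact ih j (by omega) z w hw (by rw [pow_succ, pow_succ] at h; nlinarith)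

/-- A twin configuration forces the symmetric group of degree five. -/
theorem main (hD : IsThreeTranspositionClass D) (hp : IsPrimitiveUnderConj D)
    (hw : ∃ a ∈ D, ∃ b ∈ D, a ≠ b ∧ Commute a b) {x0 : G} (hx0 : x0 ∈ D)
    (h : ∃ e e', Twins D x0 e e') : Nonempty (G ≃* Equiv.Perm (Fin 5)) := by
  classical
  obtain ⟨e0, e0', ht⟩ := h
  have htw : ∀ a ∈ D, ∀ b ∈ Ds D a, ∃ b', Twins D a b b' := by
    intro a ha b hb
    obtain ⟨g, rfl⟩ := cls_exists_conj hD hx0 ha
    have he : g * e0 * g⁻¹ ∈ Ds D (g * x0 * g⁻¹) := by rw [← cj_Ds hD]; exact ⟨e0, ht.1, rfl⟩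
    obtain ⟨k, hk, hkb⟩ := rank_three_near hD hp hw ha _ he b hb
    refine ⟨k * (g * e0' * g⁻¹) * k⁻¹, ?_⟩
    have := (ht.map hD g).map hD k
    rwa [hkb, hk.eq, mul_inv_cancel_right] at this
  have hnt : ∀ a ∈ D, ∀ b ∈ Ds D a, ∀ c ∈ Ds D a, b ≠ c → ¬ Commute b c := fun a ha b hb c hc hne hcom =>
    no_triangle hD hp hw htw ha hb hc ⟨hc.1, fun h => hne h.symm, hcom⟩
  have hclDs : ∀ a, ∀ p ∈ Ds D a, ∀ q ∈ Ds D a, p * q * p⁻¹ ∈ Ds D a := by
    intro a p hp' q hq
    have hpa : p * a * p⁻¹ = a := by rw [hp'.2.2.symm.eq, mul_inv_cancel_right]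
    rw [← hpa, ← cj_Ds hD]
    exact ⟨q, hq, rfl⟩
  obtain ⟨n, hn⟩ := ncard_pow_three hD (S := Ds D x0) (fun y hy => hy.1) ⟨e0, ht.1⟩
    (hclDs x0) (hnt x0 hx0)
  have hn1 : 1 ≤ n := by
    rcases n with _ | n
    · obtain ⟨a, ha⟩ := Set.ncard_eq_one.mp hn
      have h1 : e0 ∈ ({a} : Set G) := ha ▸ ht.1
      have h2 : e0' ∈ ({a} : Set G) := ha ▸ ht.2.1
      rw [Set.mem_singleton_iff] at h1 h2
      exact absurd (h1.trans h2.symm ▸ Commute.refl e0') ht.2.2.1
    · omega
  have hdeg : ∀ a ∈ D, (Ds D a).ncard = 3 ^ n := by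
    intro a ha
    obtain ⟨g, rfl⟩ := cls_exists_conj hD hx0 ha
    rw [← cj_Ds hD, Set.ncard_image_of_injective _ (cj_injective g), hn]
  set p0 := Ds D e0 ∩ Ds D e0' with hp0
  have hfar : ∀ a ∈ D, ∀ b ∈ D, ¬ Commute a b → (Ds D a ∩ Ds D b).ncard = p0.ncard := by
    intro a ha b hb hab
    obtain ⟨g, rfl⟩ := cls_exists_conj hD ht.1.1 ha
    have hnc : ¬ Commute (g * e0 * g⁻¹) (g * e0' * g⁻¹) := fun h => ht.2.2.1 ((commute_cj_iff g).mp h)
    obtain ⟨k, hk, rfl⟩ := rank_three_far hD hp hw ha _ (cls_conj hD g ht.2.1.1) hnc b hb hab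
    set a' := g * e0 * g⁻¹ with ha'
    have hka : k * a' * k⁻¹ = a' := by rw [hk.eq, mul_inv_cancel_right]
    calc (Ds D a' ∩ Ds D (k * (g * e0' * g⁻¹) * k⁻¹)).ncard
        = (Ds D (k * a' * k⁻¹) ∩ Ds D (k * (g * e0' * g⁻¹) * k⁻¹)).ncard := by rw [hka]
      _ = (Ds D a' ∩ Ds D (g * e0' * g⁻¹)).ncard := by
          rw [← cj_Ds hD k a', ← cj_Ds hD k (g * e0' * g⁻¹), ← Set.image_inter (cj_injective k),
            Set.ncard_image_of_injective _ (cj_injective k)]
      _ = p0.ncard := by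
          rw [ha', ← cj_Ds hD g e0, ← cj_Ds hD g e0', ← Set.image_inter (cj_injective g),
            Set.ncard_image_of_injective _ (cj_injective g)]
  have hx0p : x0 ∈ p0 :=
    ⟨⟨hx0, fun h => ht.1.2.1 h.symm, ht.1.2.2.symm⟩, ⟨hx0, fun h => ht.2.1.2.1 h.symm, ht.2.1.2.2.symm⟩⟩
  obtain ⟨j, hj⟩ := ncard_pow_three hD (S := p0) (fun y hy => hy.1.1) ⟨x0, hx0p⟩
    (fun p hp' q hq => ⟨hclDs e0 p hp'.1 q hq.1, hclDs e0' p hp'.2 q hq.2⟩)
    (fun p hp' q hq => hnt e0 ht.1.1 p hp'.1 q hq.1)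
  have hjn : j < n := by
    by_contra hge
    push Not at hge
    have hle : (Ds D e0).ncard ≤ p0.ncard := by
      rw [hdeg e0 ht.1.1, hj]; exact Nat.pow_le_pow_right (by norm_num) hge
    have heq : p0 = Ds D e0 := Set.eq_of_subset_of_ncard_le Set.inter_subset_left hle
    have hsub : Ds D e0 ⊆ Ds D e0' := heq ▸ Set.inter_subset_right
    have hW : e0' ∈ Ws D e0 := ⟨ht.2.1.1,
      Set.eq_of_subset_of_ncard_le hsub (by rw [hdeg e0 ht.1.1, hdeg e0' ht.2.1.1])⟩
    rw [Ws_trivial hD hp hw ht.1.1, Set.mem_singleton_iff] at hW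
    exact ht.2.2.1 (hW ▸ Commute.refl e0)
  haveI : Fintype ↥D := Fintype.ofFinite _
  haveI : Nonempty ↥D := ⟨⟨x0, hx0⟩⟩
  let R : ↥D → ↥D → Prop := fun a b => (b : G) ∈ Ds D (a : G)
  have hcount : ∀ (P : G → Prop) [DecidablePred P], (∀ g, P g → g ∈ D) →
      ((Finset.univ.filter fun b : ↥D => P b).card = {g : G | P g}.ncard) := by
    intro P _ hP
    rw [← Set.ncard_coe_finset, ← Set.ncard_image_of_injective _ Subtype.val_injective]
    congr 1
    ext g
    constructor
    · rintro ⟨b, hb, rfl⟩; simpa using hb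
    · intro hg; exact ⟨⟨g, hP g hg⟩, by simpa using hg, rfl⟩
  have hreg : Srg.IsReg R (3 ^ n) 0 (3 ^ j) := by
    refine ⟨fun a b h => ⟨a.2, fun h' => h.2.1 h'.symm, h.2.2.symm⟩, fun a h => h.2.1 rfl,
      fun a => ?_, fun a b h => ?_, fun a b hab h => ?_⟩
    · rw [← hdeg a a.2]
      exact hcount (fun g => g ∈ Ds D (a : G)) fun g hg => hg.1
    · rw [Finset.card_eq_zero, Finset.filter_eq_empty_iff]
      rintro c - ⟨h1, h2⟩
      exact hnt a a.2 b h c h1 (fun e => h2.2.1 e.symm) h2.2.2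
    · have hnc : ¬ Commute (a : G) b := fun hc => h ⟨b.2, fun e => hab (Subtype.ext e.symm), hc⟩
      rw [← hj, ← hfar a a.2 b b.2 hnc]
      exact hcount (fun g => g ∈ Ds D (a : G) ∧ g ∈ Ds D (b : G)) fun g hg => hg.1.1
  have hc := Srg.count hreg
  push_cast at hc
  have hk3 : (3 : ℤ) ≤ 3 ^ n := le_self_pow₀ (by norm_num) (by omega)
  have hm1 : (1 : ℤ) ≤ 3 ^ j := one_le_pow₀ (by norm_num)
  have hsq := Srg.discr_square' hreg (Nat.pow_le_pow_right (by norm_num) hjn.le) (by
    push_cast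
    intro e
    have e1 : (3 : ℤ) ^ n * (3 ^ n + 3 ^ j - 3) = 0 := by linear_combination (-1 : ℤ) * hc - e
    rcases mul_eq_zero.mp e1 with e2 | e2 <;> linarith)
  push_cast at hsq
  obtain ⟨r, hr⟩ := hsq
  have hjn' : 3 ^ n = 3 ^ j * (3 * 3 ^ (n - j - 1)) := by
    rw [← pow_succ', ← pow_add]; congr 1; omega
  set t := 3 ^ (n - j - 1) with ht'
  have ht1 : 1 ≤ t := Nat.one_le_pow _ _ (by norm_num)
  have hr' : r.natAbs * r.natAbs = 3 ^ j * (3 ^ j + 12 * t - 4) := by
    zify [show 4 ≤ 3 ^ j + 12 * t by omega]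
    rw [abs_mul_abs_self, ← hr]
    have : ((3 : ℤ) ^ n) = 3 ^ j * (3 * (t : ℤ)) := by exact_mod_cast hjn'
    rw [this]; ring
  have hj0 : j = 0 := by
    by_contra hjne
    refine no_sq j _ _ ?_ hr'
    have : 3 ∣ 3 ^ j := dvd_pow_self 3 hjne
    omega
  subst hj0
  simp only [pow_zero, one_mul] at hr' hjn'
  have hn' : n = 1 := by
    by_contra hne
    have h3t : 3 ∣ t := ht' ▸ dvd_pow_self 3 (by omega)
    refine no_sq 1 r.natAbs (4 * t - 1) (by omega) ?_
    rw [hr']
    omega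
  subst hn'
  have hD10 : D.ncard = 10 := by
    norm_num at hc
    omega
  obtain ⟨φ, hφ, hrange, -⟩ := Petersen.main hD.1 (S := D) (fun _ h => h)
    (fun a ha b hb => cls_conj hD a hb) hD10
    (fun a ha => by
      rw [Set.inter_eq_right.mpr (fun y hy => hy.1), hdeg a ha, pow_one])
    (fun a ha b hb c hc' => hnt a ha b hb.2 c hc'.2)
  rw [hD.2.2] at hrange
  exact ⟨(MulEquiv.ofBijective φ ⟨hφ, MonoidHom.range_eq_top.mp hrange⟩).symm⟩

end CfsgThreeTrans.TwinFive
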