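/-
Normalisers of subgroups of order eleven, lifted from the centraliser of a transposition.
-/
import Cfsg.Agent.Lib.ThreeTrans.M22.InvolClasses
import Mathlib.GroupTheory.SchurZassenhaus
import Mathlib.GroupTheory.Sylow

set_option autoImplicit false
set_option linter.unusedSectionVars false

namespace CfsgThreeTrans.Eleven

open Cfsg CfsgLib
open scoped Pointwise

universe u v

variable {G : Type u} [Group G] [Finite G]

/-- The members of `D` centralising `X`. -/
abbrev fx (D : Set G) (X : Subgroup G) : Set G := D ∩ (Subgroup.centralizer (X : Set G) : Set G)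

/-- The local counts at a subgroup of order eleven. -/
structure GoodAt (D : Set G) (X : Subgroup G) (k : ℕ) : Prop where
  num : (fx D X).ncard = k
  comm : ∀ x ∈ fx D X, ∀ y ∈ fx D X, Commute x y
  span : Nat.card ↥(Subgroup.closure (fx D X)) = 2 ^ k
  norm : Nat.card ↥(Subgroup.normalizer (X : Set G) ⊓ Subgroup.centralizer (fx D X)) = 55 * 2 ^ k
  cent : Nat.card ↥(Subgroup.centralizer (X : Set G) ⊓ Subgroup.centralizer (fx D X)) = 11 * 2 ^ k

theorem map_centralizer (e : G ≃* G) (s : Set G) :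
    (Subgroup.centralizer s).map e.toMonoidHom = Subgroup.centralizer (e '' s) := by
  ext x
  simp only [Subgroup.mem_map, Subgroup.mem_centralizer_iff]
  constructor
  · rintro ⟨y, hy, rfl⟩ _ ⟨z, hz, rfl⟩
    simp [← map_mul, hy z hz]
  · intro hx
    refine ⟨e.symm x, fun z hz => e.injective ?_, e.apply_symm_apply x⟩
    simp [hx (e z) ⟨z, hz, rfl⟩]

theorem card_map (e : G ≃* G) (H : Subgroup G) : Nat.card ↥(H.map e.toMonoidHom) = Nat.card H :=
  (Nat.card_congr (H.equivMapOfInjective _ e.injective).toEquiv).symm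

theorem GoodAt.map {D : Set G} {X : Subgroup G} {k : ℕ} (h : GoodAt D X k) (e : G ≃* G) (he : e '' D = D) :
    GoodAt D (X.map e.toMonoidHom) k := by
  have hC : Subgroup.centralizer ((X.map e.toMonoidHom : Subgroup G) : Set G) =
      (Subgroup.centralizer (X : Set G)).map e.toMonoidHom := by
    rw [map_centralizer, Subgroup.coe_map]; rfl
  have hfx : fx D (X.map e.toMonoidHom) = e '' fx D X := by
    show D ∩ _ = _
    rw [hC, Subgroup.coe_map, Set.image_inter e.injective, he]
    rfl
  refine ⟨?_, ?_, ?_, ?_, ?_⟩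
  · rw [hfx, Set.ncard_image_of_injective _ e.injective, h.num]
  · rw [hfx]
    rintro _ ⟨x, hx, rfl⟩ _ ⟨y, hy, rfl⟩
    show e x * e y = e y * e x
    rw [← map_mul, ← map_mul, (h.comm x hx y hy).eq]
  · have hcl := MonoidHom.map_closure e.toMonoidHom (fx D X)
    rw [MulEquiv.coe_toMonoidHom] at hcl
    rw [hfx, ← hcl, card_map, h.span]
  · rw [hfx, ← map_centralizer, ← Subgroup.map_equiv_normalizer_eq,
      ← Subgroup.map_inf _ _ _ e.injective, card_map, h.norm]
  · rw [hfx, ← map_centralizer, hC, ← Subgroup.map_inf _ _ _ e.injective, card_map, h.cent]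

/-- Subgroups of order eleven inside `H` are conjugate under `H`. -/
theorem conj_in (h121 : ¬ 121 ∣ Nat.card G) {H X Y : Subgroup G} (hX : Nat.card X = 11) (hY : Nat.card Y = 11)
    (XH : X ≤ H) (YH : Y ≤ H) : ∃ c ∈ H, X.map (MulAut.conj c).toMonoidHom = Y := by
  haveI : Fact (Nat.Prime 11) := ⟨by norm_num⟩
  have hfac : (Nat.card H).factorization 11 = 1 := by
    refine le_antisymm ?_ ?_
    · by_contra hlt
      exact h121 (((Nat.Prime.pow_dvd_iff_le_factorization (by norm_num) Nat.card_pos.ne').mpr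
        (by omega : 2 ≤ (Nat.card H).factorization 11)).trans (Subgroup.card_subgroup_dvd_card H))
    · refine (Nat.Prime.pow_dvd_iff_le_factorization (by norm_num) Nat.card_pos.ne').mp ?_
      rw [pow_one, ← hX]
      exact Subgroup.card_dvd_of_le XH
  have hc : ∀ Z : Subgroup G, Z ≤ H → Nat.card Z = 11 → Nat.card ↥(Z.subgroupOf H) = 11 ^ (Nat.card H).factorization 11 :=
    fun Z ZH hZ => by rw [Nat.card_congr (Subgroup.subgroupOfEquivOfLe ZH).toEquiv, hZ, hfac, pow_one]
  let P : Sylow 11 H := Sylow.ofCard _ (hc X XH hX)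
  let R : Sylow 11 H := Sylow.ofCard _ (hc Y YH hY)
  obtain ⟨c, hcc⟩ := MulAction.exists_smul_eq H P R
  refine ⟨c, c.2, Subgroup.eq_of_le_of_card_ge ?_ ?_⟩
  · rintro _ ⟨x, hx, rfl⟩
    have hm : MulAut.conj c • (⟨x, XH hx⟩ : H) ∈ MulAut.conj c • (P : Subgroup H) :=
      Subgroup.smul_mem_pointwise_smul _ _ _ hx
    rw [← Sylow.coe_subgroup_smul] at hm
    change MulAut.conj c • (⟨x, XH hx⟩ : H) ∈ ((c • P : Sylow 11 H) : Subgroup H) at hm
    rw [hcc] at hm
    exact hm
  · rw [card_map, hX, hY]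

/-- An element mapping a finite subgroup into itself normalises it. -/
theorem mem_norm {X : Subgroup G} {g : G} (h : ∀ x ∈ X, g * x * g⁻¹ ∈ X) : g ∈ Subgroup.normalizer (X : Set G) := by
  have e : X.map (MulAut.conj g).toMonoidHom = X :=
    Subgroup.eq_of_le_of_card_ge (by rintro _ ⟨x, hx, rfl⟩; exact h x hx)
      (card_map (MulAut.conj g) X).ge
  refine Subgroup.mem_normalizer_iff.mpr fun x => ⟨h x, fun hx => ?_⟩
  rw [← e] at hx
  obtain ⟨y, hy, hy'⟩ := hx
  rwa [← cj_injective g (show g * y * g⁻¹ = g * x * g⁻¹ from hy')]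

/-- The basic case, without transpositions centralising a subgroup of order eleven. -/
theorem base {D : Set G} (hD : ∀ e ∈ D, orderOf e = 2) {X : Subgroup G}
    (hC : Nat.card ↥(Subgroup.centralizer (X : Set G)) = 11)
    (hN : Nat.card ↥(Subgroup.normalizer (X : Set G)) = 55) : GoodAt D X 0 := by
  have h0 : fx D X = ∅ := by
    refine Set.eq_empty_of_forall_notMem fun e he => ?_
    have := Subgroup.orderOf_dvd_natCard _ (he.2 : e ∈ Subgroup.centralizer (X : Set G))
    rw [hD e he.1, hC] at this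
    norm_num at this
  refine ⟨by rw [h0, Set.ncard_empty], by simp [h0], ?_, ?_, ?_⟩
  · rw [h0, Subgroup.closure_empty, Subgroup.card_bot, pow_zero]
  · rw [h0, Subgroup.centralizer_eq_top_iff_subset.mpr (Set.empty_subset _), inf_top_eq, hN]
    norm_num
  · rw [h0, Subgroup.centralizer_eq_top_iff_subset.mpr (Set.empty_subset _), inf_top_eq, hC]
    norm_num

set_option maxHeartbeats 1000000 in
/-- The counts pass from the quotient of the centraliser of a transposition to the group. -/
theorem step {D : Set G} {Q : Type v} [Group Q] [Finite Q] {E : Set Q} {k n m a : ℕ}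
    (hD : IsThreeTranspositionClass D) (hp : IsPrimitiveUnderConj D) (hw : ∃ a ∈ D, ∃ b ∈ D, a ≠ b ∧ Commute a b)
    {t : G} (ht : t ∈ D) {C : Subgroup G} (hC : C = Subgroup.centralizer ({t} : Set G)) (q : C →* Q)
    (hq : Function.Surjective q)
    (hker : ∀ z : C, q z = 1 → (z : G) = 1 ∨ (z : G) = t) (hqt : ∀ z : C, (z : G) = t → q z = 1)
    (hE : E = q '' {y : C | (y : G) ∈ Ds D t})
    (hinj : Set.InjOn q {y : C | (y : G) ∈ Ds D t})
    (hcomm : ∀ y y' : C, (y : G) ∈ Ds D t → (y' : G) ∈ Ds D t → Commute (q y) (q y') → Commute (y : G) y')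
    (hn : D.ncard = n) (hm : (Ds D t).ncard = m) (hn' : ¬ 11 ∣ n) (hfar : 11 ∣ n - 1 - m)
    (hQ : Nat.card Q = a) (ha : 11 ∣ a) (ha2 : ¬ 121 ∣ a)
    (hgood : ∀ Y : Subgroup Q, Nat.card Y = 11 → GoodAt E Y k) :
    ¬ 121 ∣ Nat.card G ∧
      (∀ X Y : Subgroup G, Nat.card X = 11 → Nat.card Y = 11 → ∃ g : G, X.map (MulAut.conj g).toMonoidHom = Y) ∧
      ∀ X : Subgroup G, Nat.card X = 11 → GoodAt D X (k + 1) := by
  haveI : Fact (Nat.Prime 11) := ⟨by norm_num⟩
  have hCm : ∀ g : G, g ∈ C ↔ g * t = t * g := fun g => by rw [hC, Subgroup.mem_centralizer_singleton_iff]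
  have ht2 : orderOf t = 2 := hD.1.1 t ht
  have htC : t ∈ C := (hCm t).mpr rfl
  set T : C := ⟨t, htC⟩
  have hkerT : q.ker = Subgroup.zpowers T := by
    refine le_antisymm (fun z hz => ?_) (Subgroup.zpowers_le.mpr (hqt T rfl))
    rcases hker z hz with e | e
    · rw [show z = 1 from Subtype.ext e]; exact one_mem _
    · rw [show z = T from Subtype.ext e]; exact Subgroup.mem_zpowers _
  have hk2 : Nat.card q.ker = 2 := by
    rw [hkerT, Nat.card_zpowers, ← ht2, ← Subgroup.orderOf_coe]
  have hcC : Nat.card C = 2 * a := by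
    rw [Subgroup.card_eq_card_quotient_mul_card_subgroup q.ker,
      Nat.card_congr (QuotientGroup.quotientKerEquivOfSurjective q hq).toEquiv, hQ, hk2, mul_comm]
  have hcomap : ∀ K : Subgroup Q, Nat.card (K.comap q) = 2 * Nat.card K := by
    intro K
    have e2 := (K.comap q).card_mul_index
    rw [Subgroup.index_comap_of_surjective _ hq, hcC, ← hQ, ← K.card_mul_index] at e2
    exact Nat.eq_of_mul_eq_mul_right (Nat.pos_of_ne_zero K.index_ne_zero_of_finite) (by rw [e2]; ring)
  have hG : Nat.card G = n * (2 * a) := by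
    rw [← hcC, ← hn, ← M22.index_centralizer hD ht, hC, Subgroup.index_mul_card]
  have h121 : ¬ 121 ∣ Nat.card G := by
    intro h
    rw [hG, ← mul_assoc] at h
    refine ha2 (Nat.Coprime.dvd_of_dvd_mul_left ?_ h)
    refine Nat.Coprime.mul_right ?_ (by norm_num)
    exact ((Nat.Prime.coprime_iff_not_dvd (by norm_num : Nat.Prime 11)).mpr hn').pow_left 2
  have hconj : ∀ X Y : Subgroup G, Nat.card X = 11 → Nat.card Y = 11 →
      ∃ g : G, X.map (MulAut.conj g).toMonoidHom = Y := fun X Y hX hY => by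
    obtain ⟨c, -, hc⟩ := conj_in h121 hX hY (le_top : X ≤ ⊤) le_top
    exact ⟨c, hc⟩
  refine ⟨h121, hconj, ?_⟩
  have main : ∀ X : Subgroup G, Nat.card X = 11 → X ≤ C → GoodAt D X (k + 1) := by
    intro X hX hXC
    set X' := X.subgroupOf C
    have hpow : ∀ x : C, (x : G) ∈ X → x ^ 11 = 1 := by
      intro x hx
      refine Subtype.ext ?_
      have := pow_card_eq_one' (G := X) (x := ⟨x, hx⟩)
      rw [hX] at this
      simpa using congrArg (fun z : X => (z : G)) this
    have huniq : ∀ u w : C, u ^ 11 = 1 → w ^ 11 = 1 → q u = q w → u = w := by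
      intro u w hu hw' e
      rcases hker (u * w⁻¹) (by rw [map_mul, map_inv, e, mul_inv_cancel]) with h | h
      · exact mul_inv_eq_one.mp (Subtype.ext h)
      · exfalso
        have e1 : u = T * w := by
          rw [← show u * w⁻¹ = T from Subtype.ext h, inv_mul_cancel_right]
        have hTw : Commute T w := Subtype.ext ((hCm w).mp w.2).symm
        rw [e1, hTw.mul_pow, hw', mul_one] at hu
        have h11 := orderOf_dvd_of_pow_eq_one hu
        rw [← Subgroup.orderOf_coe] at h11
        change orderOf t ∣ 11 at h11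
        rw [ht2] at h11
        norm_num at h11
    set Xb := X'.map q with hXb
    have hXb11 : Nat.card Xb = 11 := by
      have hi : Function.Injective (q.comp X'.subtype) := fun u w e => Subtype.ext
        (huniq u w (hpow u u.2) (hpow w w.2) e)
      rw [← hX, ← Nat.card_congr (Subgroup.subgroupOfEquivOfLe hXC).toEquiv,
        Nat.card_congr (MonoidHom.ofInjective hi).toEquiv, MonoidHom.range_comp, Subgroup.range_subtype]
    have hg := hgood Xb hXb11
    have hlift : ∀ u : C, u ^ 11 = 1 → q u ∈ Xb → (u : G) ∈ X := by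
      rintro u hu ⟨w, hw', e⟩
      rw [huniq u w hu (hpow w hw') e.symm]
      exact hw'
    have hmemX : ∀ y : C, (y : G) ∈ Subgroup.centralizer (X : Set G) ↔ q y ∈ Subgroup.centralizer (Xb : Set Q) := by
      intro y
      constructor
      · intro hy
        refine Subgroup.mem_centralizer_iff.mpr ?_
        rintro _ ⟨x, hx, rfl⟩
        rw [← map_mul, ← map_mul, show x * y = y * x from Subtype.ext (Subgroup.mem_centralizer_iff.mp hy x hx)]
      · intro hy
        refine Subgroup.mem_centralizer_iff.mpr fun x hx => ?_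
        set x' : C := ⟨x, hXC hx⟩
        have e : y * x' * y⁻¹ = x' := huniq _ _ (by rw [conj_pow, hpow x' hx, mul_one, mul_inv_cancel]) (hpow x' hx)
          (by
            rw [map_mul, map_mul, map_inv, ← Subgroup.mem_centralizer_iff.mp hy _ ⟨x', hx, rfl⟩,
              mul_inv_cancel_right])
        exact (congrArg Subtype.val (mul_inv_eq_iff_eq_mul.mp e)).symm
    have htfx : t ∈ fx D X := ⟨ht, Subgroup.mem_centralizer_iff.mpr fun x hx =>
      (hCm x).mp (hXC hx)⟩
    have hnear : ∀ y ∈ fx D X, Commute t y := by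
      intro y hy
      by_contra hty
      set F := {c | c ∈ D ∧ ¬ Commute t c}
      have hF : F = D \ insert t (Ds D t) := by
        ext c
        simp only [F, Set.mem_ofPred_eq, Set.mem_diff, Set.mem_insert_iff, Ds]
        refine ⟨fun h => ⟨h.1, ?_⟩, fun h => ⟨h.1, fun hc => h.2 ?_⟩⟩
        · rintro (rfl | h')
          · exact h.2 (Commute.refl _)
          · exact h.2 h'.2.2
        · by_cases e : c = t
          · exact Or.inl e
          · exact Or.inr ⟨h.1, e, hc⟩
      have hFn : F.ncard = n - 1 - m := by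
        rw [hF, Set.ncard_diff (Set.insert_subset ht fun c hc => hc.1), Set.ncard_insert_of_notMem
          (fun h => h.2.1 rfl), hn, hm]
        omega
      have e := M22.card_orbit_stab C y F (fun g hg' => ⟨cls_conj hD g hy.1, fun h => hty ((commute_cj_iff g).mp (by
          rwa [show g * t * g⁻¹ = t by rw [(hCm g).mp hg', mul_inv_cancel_right]]))⟩)
        (fun c hc => by
          obtain ⟨g, hg', e⟩ := rank_three_far hD hp hw ht y hy.1 hty c hc.1 hc.2
          exact ⟨g, (hCm g).mpr hg'.eq, e⟩)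
      have h11 : 11 ∣ Nat.card ↥(C ⊓ Subgroup.centralizer ({y} : Set G)) := by
        rw [← hX]
        refine Subgroup.card_dvd_of_le (le_inf hXC fun x hx => Subgroup.mem_centralizer_singleton_iff.mpr ?_)
        exact Subgroup.mem_centralizer_iff.mp hy.2 x hx
      refine h121 (dvd_trans ?_ (Subgroup.card_subgroup_dvd_card C))
      rw [e, hFn]
      exact Nat.mul_dvd_mul hfar h11
    have hfxC : fx D X ⊆ C := fun y hy => (hCm y).mpr (hnear y hy).eq.symm
    set S' := fx E Xb with hS'
    set U : Set C := {y | (y : G) ∈ fx D X}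
    have hfxU : fx D X = Subtype.val '' U := by
      ext y
      exact ⟨fun hy => ⟨⟨y, hfxC hy⟩, hy, rfl⟩, by rintro ⟨y, hy, rfl⟩; exact hy⟩
    have hUt : ∀ y ∈ U, y = T ∨ (y : G) ∈ Ds D t := fun y hy => by
      by_cases e : (y : G) = t
      · exact Or.inl (Subtype.ext e)
      · exact Or.inr ⟨hy.1, e, hnear _ hy⟩
    have hS'eq : S' = q '' {y : C | (y : G) ∈ Ds D t ∧ q y ∈ Subgroup.centralizer (Xb : Set Q)} := by
      ext e
      rw [hS']
      constructor
      · rintro ⟨he, he'⟩
        rw [hE] at he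
        obtain ⟨y, hy, rfl⟩ := he
        exact ⟨y, ⟨hy, he'⟩, rfl⟩
      · rintro ⟨y, ⟨hy, hy'⟩, rfl⟩
        exact ⟨by rw [hE]; exact ⟨y, hy, rfl⟩, hy'⟩
    have hUeq : U = insert T {y : C | (y : G) ∈ Ds D t ∧ q y ∈ Subgroup.centralizer (Xb : Set Q)} := by
      ext y
      constructor
      · intro hy
        exact (hUt y hy).imp id fun h => ⟨h, (hmemX y).mp hy.2⟩
      · rintro (rfl | ⟨h1, h2⟩)
        · exact htfx
        · exact ⟨h1.1, (hmemX y).mpr h2⟩
    have hTn : T ∉ {y : C | (y : G) ∈ Ds D t ∧ q y ∈ Subgroup.centralizer (Xb : Set Q)} := fun h => h.1.2.1 rfl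
    have hqU : q '' U = insert 1 S' := by rw [hUeq, Set.image_insert_eq, hqt T rfl, ← hS'eq]
    have hsub : ∀ y ∈ U, q y = 1 ∨ q y ∈ S' := fun y hy => by
      have : q y ∈ q '' U := ⟨y, hy, rfl⟩
      rwa [hqU] at this
    refine ⟨?_, ?_, ?_, ?_, ?_⟩
    · rw [hfxU, Set.ncard_image_of_injective _ Subtype.val_injective, hUeq, Set.ncard_insert_of_notMem hTn,
        ← Set.InjOn.ncard_image (hinj.mono fun y hy => hy.1), ← hS'eq, hg.num]
    · intro x hx y hy
      by_cases ex : x = t
      · rw [ex]; exact hnear y hy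
      by_cases ey : y = t
      · rw [ey]; exact (hnear x hx).symm
      have hxU : (⟨x, hfxC hx⟩ : C) ∈ U := hx
      have hyU : (⟨y, hfxC hy⟩ : C) ∈ U := hy
      have dx : x ∈ Ds D t := ⟨hx.1, ex, hnear x hx⟩
      have dy : y ∈ Ds D t := ⟨hy.1, ey, hnear y hy⟩
      refine hcomm ⟨x, hfxC hx⟩ ⟨y, hfxC hy⟩ dx dy (hg.comm _ ?_ _ ?_)
      · exact ⟨by rw [hE]; exact ⟨_, dx, rfl⟩, (hmemX ⟨x, hfxC hx⟩).mp hx.2⟩
      · exact ⟨by rw [hE]; exact ⟨_, dy, rfl⟩, (hmemX ⟨y, hfxC hy⟩).mp hy.2⟩
    · have e : Subgroup.closure U = (Subgroup.closure S').comap q := by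
        rw [← Subgroup.closure_insert_one S', ← hqU, ← MonoidHom.map_closure, Subgroup.comap_map_eq_self]
        rw [hkerT, Subgroup.zpowers_le]
        exact Subgroup.subset_closure htfx
      have hcl : Subgroup.closure (fx D X) = (Subgroup.closure U).map C.subtype := by
        rw [MonoidHom.map_closure, hfxU]; rfl
      rw [hcl, Subgroup.card_map_of_injective C.subtype_injective, e, hcomap, hg.span, pow_succ, mul_comm]
    -- the centraliser of the transpositions, below and above
    · have e : (Subgroup.normalizer (X : Set G) ⊓ Subgroup.centralizer (fx D X)).subgroupOf C =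
          (Subgroup.normalizer (Xb : Set Q) ⊓ Subgroup.centralizer S').comap q := by
        ext g
        simp only [Subgroup.mem_subgroupOf, Subgroup.mem_comap, Subgroup.mem_inf]
        constructor
        · rintro ⟨h1, h2⟩
          refine ⟨mem_norm ?_, Subgroup.mem_centralizer_iff.mpr fun e he => ?_⟩
          · rintro _ ⟨x, hx, rfl⟩
            exact ⟨g * x * g⁻¹, (Subgroup.mem_normalizer_iff.mp h1 x).mp hx, by simp⟩
          · rw [hS'eq] at he
            obtain ⟨y, hy, rfl⟩ := he
            rw [← map_mul, ← map_mul, show y * g = g * y from Subtype.ext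
              (Subgroup.mem_centralizer_iff.mp h2 y ⟨hy.1.1, (hmemX y).mpr hy.2⟩)]
        · rintro ⟨h1, h2⟩
          refine ⟨mem_norm fun x hx => ?_, Subgroup.mem_centralizer_iff.mpr fun y hy => ?_⟩
          · refine hlift (g * ⟨x, hXC hx⟩ * g⁻¹) ?_ ?_
            · rw [conj_pow, hpow ⟨x, hXC hx⟩ hx, mul_one, mul_inv_cancel]
            · rw [map_mul, map_mul, map_inv]
              exact (Subgroup.mem_normalizer_iff.mp h1 _).mp ⟨⟨x, hXC hx⟩, hx, rfl⟩
          · by_cases e : y = t
            · rw [e]; exact ((hCm g).mp g.2).symm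
            set y' : C := ⟨y, hfxC hy⟩
            have dy : y ∈ Ds D t := ⟨hy.1, e, hnear y hy⟩
            have hgt : (g : G) * t * (g : G)⁻¹ = t := by
              rw [(hCm g).mp g.2, mul_inv_cancel_right]
            have dg : (g : G) * y * (g : G)⁻¹ ∈ Ds D t := by
              rw [← hgt, ← cj_Ds hD]; exact ⟨y, dy, rfl⟩
            have he : g * y' * g⁻¹ = y' := hinj dg dy (by
              rw [map_mul, map_mul, map_inv, ← Subgroup.mem_centralizer_iff.mp h2 (q y')
                ⟨by rw [hE]; exact ⟨y', dy, rfl⟩, (hmemX y').mp hy.2⟩, mul_inv_cancel_right])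
            exact (congrArg Subtype.val (mul_inv_eq_iff_eq_mul.mp he)).symm
      rw [← Nat.card_congr (Subgroup.subgroupOfEquivOfLe (show Subgroup.normalizer (X : Set G) ⊓ Subgroup.centralizer (fx D X) ≤ C from
        fun g hg' => (hCm g).mpr (Subgroup.mem_centralizer_iff.mp hg'.2 t htfx).symm)).toEquiv, e,
        hcomap, hg.norm, pow_succ]
      ring
    · have e : (Subgroup.centralizer (X : Set G) ⊓ Subgroup.centralizer (fx D X)).subgroupOf C =
          (Subgroup.centralizer (Xb : Set Q) ⊓ Subgroup.centralizer S').comap q := by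
        ext g
        simp only [Subgroup.mem_subgroupOf, Subgroup.mem_comap, Subgroup.mem_inf, hmemX g]
        refine and_congr_right fun _ => ⟨fun h2 => ?_, fun h2 => ?_⟩
        · refine Subgroup.mem_centralizer_iff.mpr fun e he => ?_
          rw [hS'eq] at he
          obtain ⟨y, hy, rfl⟩ := he
          rw [← map_mul, ← map_mul, show y * g = g * y from Subtype.ext
            (Subgroup.mem_centralizer_iff.mp h2 y ⟨hy.1.1, (hmemX y).mpr hy.2⟩)]
        · refine Subgroup.mem_centralizer_iff.mpr fun y hy => ?_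
          by_cases e : y = t
          · rw [e]; exact ((hCm g).mp g.2).symm
          set y' : C := ⟨y, hfxC hy⟩
          have dy : y ∈ Ds D t := ⟨hy.1, e, hnear y hy⟩
          have hgt : (g : G) * t * (g : G)⁻¹ = t := by
            rw [(hCm g).mp g.2, mul_inv_cancel_right]
          have dg : (g : G) * y * (g : G)⁻¹ ∈ Ds D t := by
            rw [← hgt, ← cj_Ds hD]; exact ⟨y, dy, rfl⟩
          have he : g * y' * g⁻¹ = y' := hinj dg dy (by
            rw [map_mul, map_mul, map_inv, ← Subgroup.mem_centralizer_iff.mp h2 (q y')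
              ⟨by rw [hE]; exact ⟨y', dy, rfl⟩, (hmemX y').mp hy.2⟩, mul_inv_cancel_right])
          exact (congrArg Subtype.val (mul_inv_eq_iff_eq_mul.mp he)).symm
      rw [← Nat.card_congr (Subgroup.subgroupOfEquivOfLe (show Subgroup.centralizer (X : Set G) ⊓ Subgroup.centralizer (fx D X) ≤ C from
        fun g hg' => (hCm g).mpr (Subgroup.mem_centralizer_iff.mp hg'.2 t htfx).symm)).toEquiv, e,
        hcomap, hg.cent, pow_succ]
      ring
  intro X hX
  obtain ⟨x₀, hx₀⟩ := exists_prime_orderOf_dvd_card' (G := C) 11 (by rw [hcC]; exact dvd_mul_of_dvd_right ha 2)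
  set X₀ := (Subgroup.zpowers x₀).map C.subtype
  have hX₀ : Nat.card X₀ = 11 := by
    rw [Subgroup.card_map_of_injective C.subtype_injective, Nat.card_zpowers, hx₀]
  obtain ⟨g, hg⟩ := hconj X₀ X hX₀ hX
  rw [← hg]
  exact (main X₀ hX₀ (Subgroup.map_subtype_le _)).map _
    (Set.eq_of_subset_of_ncard_le (by rintro _ ⟨d, hd, rfl⟩; exact cls_conj hD g hd)
      (Set.ncard_image_of_injective _ (MulAut.conj g).injective).ge)

/-- A complement of order fifty-five to the elementary abelian part. -/
theorem frob {D : Set G} {X : Subgroup G} {k : ℕ} (hX : Nat.card X = 11) (h : GoodAt D X k) :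
    ∃ F : Subgroup G, Nat.card F = 55 ∧ X ≤ F ∧ F ⊓ Subgroup.centralizer (X : Set G) = X ∧
      F ⊓ Subgroup.closure (fx D X) = ⊥ ∧ (∀ x ∈ F, ∀ y ∈ Subgroup.closure (fx D X), x * y = y * x) ∧
      F ⊔ Subgroup.closure (fx D X) = Subgroup.normalizer (X : Set G) ⊓ Subgroup.centralizer (fx D X) := by
  set S := fx D X
  set V := Subgroup.closure S
  set K := Subgroup.normalizer (X : Set G) ⊓ Subgroup.centralizer S
  have hVc : ∀ g ∈ Subgroup.centralizer S, ∀ v ∈ V, g * v = v * g := by
    intro g hg v hv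
    have : V ≤ Subgroup.centralizer ({g} : Set G) := (Subgroup.closure_le _).mpr fun y hy =>
      Subgroup.mem_centralizer_singleton_iff.mpr (Subgroup.mem_centralizer_iff.mp hg y hy)
    exact (Subgroup.mem_centralizer_singleton_iff.mp (this hv)).symm
  have hVX : V ≤ Subgroup.centralizer (X : Set G) := (Subgroup.closure_le _).mpr fun y hy => hy.2
  have hVK : V ≤ K := le_inf (hVX.trans (Subgroup.centralizer_le_normalizer _))
    ((Subgroup.closure_le _).mpr fun y hy => Subgroup.mem_centralizer_iff.mpr fun z hz => (h.comm z hz y hy).eq)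
  have hXpow : ∀ x ∈ X, x ^ 11 = 1 := fun x hx => by
    have := pow_card_eq_one' (G := X) (x := ⟨x, hx⟩)
    rw [hX] at this
    exact congrArg Subtype.val this
  have hXK : X ≤ K := le_inf Subgroup.le_normalizer fun x hx => Subgroup.mem_centralizer_iff.mpr fun y hy =>
    (Subgroup.mem_centralizer_iff.mp hy.2 x hx).symm
  set V' := V.subgroupOf K
  haveI : V'.Normal := ⟨fun v hv g => by
    show ((g : G) * v * (g : G)⁻¹) ∈ V
    rwa [hVc g g.2.2 v hv, mul_inv_cancel_right]⟩
  have hV' : Nat.card V' = 2 ^ k := by rw [Nat.card_congr (Subgroup.subgroupOfEquivOfLe hVK).toEquiv, h.span]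
  have hidx : V'.index = 55 := by
    have := V'.card_mul_index
    rw [hV', h.norm, mul_comm] at this
    exact Nat.eq_of_mul_eq_mul_right (Nat.two_pow_pos k) this
  have hco : Nat.Coprime (Nat.card V') V'.index := by
    rw [hV', hidx]; exact Nat.Coprime.pow_left k (by norm_num)
  obtain ⟨H, hH⟩ := Subgroup.exists_left_complement'_of_coprime hco
  have hH55 : Nat.card H = 55 := by
    have := hH.card_mul_card
    rw [hV', h.norm] at this
    exact Nat.eq_of_mul_eq_mul_right (Nat.two_pow_pos k) this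
  set F := H.map K.subtype
  have hF55 : Nat.card F = 55 := by rw [Subgroup.card_map_of_injective K.subtype_injective, hH55]
  have hFK : F ≤ K := Subgroup.map_subtype_le _
  have hXF : X ≤ F := by
    intro x hx
    obtain ⟨⟨⟨f, hf⟩, ⟨v, hv⟩⟩, e⟩ := hH.2 ⟨x, hXK hx⟩
    have e' : (f : G) * v = x := congrArg Subtype.val e
    have hc : Commute (f : G) v := hVc f f.2.2 v hv
    have hfp : (f : G) ^ 55 = 1 := by
      have := pow_card_eq_one' (G := H) (x := ⟨f, hf⟩)
      rw [hH55] at this
      exact congrArg (fun z : H => ((z : K) : G)) this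
    have hvp : (v : G) ^ (2 ^ k) = 1 := by
      have := pow_card_eq_one' (G := V') (x := ⟨v, hv⟩)
      rw [hV'] at this
      exact congrArg (fun z : V' => ((z : K) : G)) this
    have hv55 : (v : G) ^ 55 = 1 := by
      have hx55 : x ^ 55 = 1 := by rw [show (55 : ℕ) = 11 * 5 from rfl, pow_mul, hXpow x hx, one_pow]
      rwa [← e', hc.mul_pow, hfp, one_mul] at hx55
    have hv1 : (v : G) = 1 := by
      have := pow_gcd_eq_one.mpr ⟨hv55, hvp⟩
      rwa [show Nat.gcd 55 (2 ^ k) = 1 from Nat.Coprime.pow_right k (by norm_num), pow_one] at this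
    exact ⟨f, hf, by rw [← e', hv1, mul_one]; rfl⟩
  refine ⟨F, hF55, hXF, ?_, ?_, fun x hx y hy => hVc x (hFK hx).2 y hy, ?_⟩
  · have hXC : X ≤ Subgroup.centralizer (X : Set G) := by
      haveI : IsCyclic X := isCyclic_of_prime_card (p := 11) (hp := ⟨by norm_num⟩) hX
      exact fun x hx => Subgroup.mem_centralizer_iff.mpr fun y hy =>
        congrArg Subtype.val (IsCyclic.commGroup.mul_comm (⟨y, hy⟩ : X) ⟨x, hx⟩)
    refine (Subgroup.eq_of_le_of_card_ge (le_inf hXF hXC) ?_).symm
    rw [hX]
    have h1 : Nat.card ↥(F ⊓ Subgroup.centralizer (X : Set G)) ∣ 55 := hF55 ▸ Subgroup.card_dvd_of_le inf_le_left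
    have h2 : Nat.card ↥(F ⊓ Subgroup.centralizer (X : Set G)) ∣ 11 * 2 ^ k :=
      h.cent ▸ Subgroup.card_dvd_of_le (le_inf inf_le_right (inf_le_left.trans (hFK.trans inf_le_right)))
    refine Nat.le_of_dvd (by norm_num) ((Nat.Coprime.dvd_of_dvd_mul_right ?_) h2)
    exact Nat.Coprime.coprime_dvd_left h1 (Nat.Coprime.pow_right k (by norm_num))
  · refine Subgroup.inf_eq_bot_of_coprime ?_
    rw [hF55, h.span]
    exact Nat.Coprime.pow_right k (by norm_num)
  · rw [show V = V'.map K.subtype from (Subgroup.map_subgroupOf_eq_of_le hVK).symm, ← Subgroup.map_sup,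
      hH.sup_eq_top, ← MonoidHom.range_eq_map, Subgroup.range_subtype]

/-- Any permutation of the centralising transpositions induced in the group is induced by the normaliser. -/
theorem realise {D : Set G} {X : Subgroup G} (h121 : ¬ 121 ∣ Nat.card G) (hX : Nat.card X = 11) (g : G)
    (hg : ∀ y ∈ fx D X, g * y * g⁻¹ ∈ fx D X) :
    ∃ n ∈ Subgroup.normalizer (X : Set G), ∀ y ∈ fx D X, n * y * n⁻¹ = g * y * g⁻¹ := by
  set S := fx D X
  have hsurj : ∀ y ∈ S, ∃ z ∈ S, g * z * g⁻¹ = y := by
    intro y hy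
    have e : (fun z => g * z * g⁻¹) '' S = S := Set.eq_of_subset_of_ncard_le (by rintro _ ⟨z, hz, rfl⟩; exact hg z hz)
      (Set.ncard_image_of_injective _ (cj_injective g)).ge
    obtain ⟨z, hz, hz'⟩ := e.symm.subset hy
    exact ⟨z, hz, hz'⟩
  have hXS : X ≤ Subgroup.centralizer S := fun x hx => Subgroup.mem_centralizer_iff.mpr fun y hy =>
    (Subgroup.mem_centralizer_iff.mp hy.2 x hx).symm
  have hYS : X.map (MulAut.conj g).toMonoidHom ≤ Subgroup.centralizer S := by
    rintro _ ⟨x, hx, rfl⟩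
    refine Subgroup.mem_centralizer_iff.mpr fun y hy => ?_
    obtain ⟨z, hz, rfl⟩ := hsurj y hy
    exact ((commute_cj_iff g).mpr (show Commute z x from Subgroup.mem_centralizer_iff.mp (hXS hx) z hz)).eq
  obtain ⟨c, hc, hcX⟩ := conj_in h121 (by rw [card_map, hX]) hX hYS hXS
  refine ⟨c * g, mem_norm fun x hx => ?_, fun y hy => ?_⟩
  · rw [← cj_cj, ← hcX]
    exact ⟨g * x * g⁻¹, ⟨x, hx, rfl⟩, rfl⟩
  · rw [← cj_cj, ← Subgroup.mem_centralizer_iff.mp hc _ (hg y hy), mul_inv_cancel_right]

end CfsgThreeTrans.Eleven
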