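/-
Normalisers of subgroups of order seven, lifted from the centraliser of a transposition.
-/
import Cfsg.Agent.Lib.ThreeTrans.Eleven

set_option autoImplicit false
set_option linter.unusedSectionVars false

namespace CfsgThreeTrans.Seven

open Cfsg CfsgLib
open scoped Pointwise

universe u v

variable {G : Type u} [Group G] [Finite G]

/-- The members of `D` centralising `X`. -/
abbrev fx (D : Set G) (X : Subgroup G) : Set G := D ∩ (Subgroup.centralizer (X : Set G) : Set G)

/-- The local counts at a transposition `t` centralising a subgroup of order seven. -/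
structure At (D : Set G) (X : Subgroup G) (t : G) (k c r : ℕ) : Prop where
  mem : t ∈ fx D X
  near : (fx D X ∩ Ds D t).ncard = k
  nc : ∀ x ∈ fx D X ∩ Ds D t, ∀ y ∈ fx D X ∩ Ds D t, x ≠ y → ¬ Commute x y
  cent : Nat.card ↥(Subgroup.centralizer (X : Set G) ⊓ Subgroup.centralizer ({t} : Set G)) = 2 * c
  norm : Nat.card ↥(Subgroup.normalizer (X : Set G) ⊓ Subgroup.centralizer ({t} : Set G)) = 12 * c
  far : {y | y ∈ fx D X ∧ ¬ Commute t y}.ncard % 7 = r
  farDvd : ∀ c0 ∈ {y | y ∈ fx D X ∧ ¬ Commute t y}, 7 * {y | y ∈ fx D X ∧ ¬ Commute t y}.ncard ∣ 12 * c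

theorem At.map {D : Set G} {X : Subgroup G} {t : G} {k c r : ℕ} (h : At D X t k c r) (e : G ≃* G) (he : e '' D = D) :
    At D (X.map e.toMonoidHom) (e t) k c r := by
  have hC : Subgroup.centralizer ((X.map e.toMonoidHom : Subgroup G) : Set G) =
      (Subgroup.centralizer (X : Set G)).map e.toMonoidHom := by
    rw [Eleven.map_centralizer, Subgroup.coe_map]; rfl
  have hfx : fx D (X.map e.toMonoidHom) = e '' fx D X := by
    show D ∩ _ = _
    rw [hC, Subgroup.coe_map, Set.image_inter e.injective, he]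
    rfl
  have hcomm : ∀ x y : G, Commute (e x) (e y) ↔ Commute x y := fun x y =>
    ⟨fun h => e.injective (by rw [map_mul, map_mul]; exact h), fun h => h.map e⟩
  have hDs : Ds D (e t) = e '' Ds D t := by
    ext y
    constructor
    · rintro ⟨hy, hne, hc⟩
      rw [← he] at hy
      obtain ⟨x, hx, rfl⟩ := hy
      exact ⟨x, ⟨hx, fun e' => hne (by rw [e']), (hcomm _ _).mp hc⟩, rfl⟩
    · rintro ⟨x, ⟨hx, hne, hc⟩, rfl⟩
      exact ⟨he ▸ ⟨x, hx, rfl⟩, fun e' => hne (e.injective e'), (hcomm _ _).mpr hc⟩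
  have hfar : {y | y ∈ fx D (X.map e.toMonoidHom) ∧ ¬ Commute (e t) y} = e '' {y | y ∈ fx D X ∧ ¬ Commute t y} := by
    rw [hfx]
    ext y
    constructor
    · rintro ⟨⟨x, hx, rfl⟩, hc⟩
      exact ⟨x, ⟨hx, fun h => hc ((hcomm _ _).mpr h)⟩, rfl⟩
    · rintro ⟨x, ⟨hx, hc⟩, rfl⟩
      exact ⟨⟨x, hx, rfl⟩, fun h => hc ((hcomm _ _).mp h)⟩
  have hsing : ({e t} : Set G) = e '' {t} := (Set.image_singleton).symm
  refine ⟨hfx ▸ ⟨t, h.mem, rfl⟩, ?_, ?_, ?_, ?_, ?_, ?_⟩
  · rw [hfx, hDs, ← Set.image_inter e.injective, Set.ncard_image_of_injective _ e.injective, h.near]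
  · rw [hfx, hDs, ← Set.image_inter e.injective]
    rintro _ ⟨x, hx, rfl⟩ _ ⟨y, hy, rfl⟩ hne hc
    exact h.nc x hx y hy (fun e' => hne (by rw [e'])) ((hcomm _ _).mp hc)
  · rw [hC, hsing, ← Eleven.map_centralizer, ← Subgroup.map_inf _ _ _ e.injective, Eleven.card_map, h.cent]
  · rw [← Subgroup.map_equiv_normalizer_eq, hsing, ← Eleven.map_centralizer, ← Subgroup.map_inf _ _ _ e.injective,
      Eleven.card_map, h.norm]
  · rw [hfar, Set.ncard_image_of_injective _ e.injective, h.far]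
  · rw [hfar, Set.ncard_image_of_injective _ e.injective]
    rintro _ ⟨x, hx, rfl⟩
    exact h.farDvd x hx

/-- Subgroups of order seven inside `H` are conjugate under `H`. -/
theorem conj_in (h49 : ¬ 49 ∣ Nat.card G) {H X Y : Subgroup G} (hX : Nat.card X = 7) (hY : Nat.card Y = 7)
    (XH : X ≤ H) (YH : Y ≤ H) : ∃ c ∈ H, X.map (MulAut.conj c).toMonoidHom = Y := by
  haveI : Fact (Nat.Prime 7) := ⟨by norm_num⟩
  have hfac : (Nat.card H).factorization 7 = 1 := by
    refine le_antisymm ?_ ?_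
    · by_contra hlt
      exact h49 (((Nat.Prime.pow_dvd_iff_le_factorization (by norm_num) Nat.card_pos.ne').mpr
        (by omega : 2 ≤ (Nat.card H).factorization 7)).trans (Subgroup.card_subgroup_dvd_card H))
    · refine (Nat.Prime.pow_dvd_iff_le_factorization (by norm_num) Nat.card_pos.ne').mp ?_
      rw [pow_one, ← hX]
      exact Subgroup.card_dvd_of_le XH
  have hc : ∀ Z : Subgroup G, Z ≤ H → Nat.card Z = 7 → Nat.card ↥(Z.subgroupOf H) = 7 ^ (Nat.card H).factorization 7 :=
    fun Z ZH hZ => by rw [Nat.card_congr (Subgroup.subgroupOfEquivOfLe ZH).toEquiv, hZ, hfac, pow_one]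
  let P : Sylow 7 H := Sylow.ofCard _ (hc X XH hX)
  let R : Sylow 7 H := Sylow.ofCard _ (hc Y YH hY)
  obtain ⟨c, hcc⟩ := MulAction.exists_smul_eq H P R
  refine ⟨c, c.2, Subgroup.eq_of_le_of_card_ge ?_ ?_⟩
  · rintro _ ⟨x, hx, rfl⟩
    have hm : MulAut.conj c • (⟨x, XH hx⟩ : H) ∈ MulAut.conj c • (P : Subgroup H) :=
      Subgroup.smul_mem_pointwise_smul _ _ _ hx
    rw [← Sylow.coe_subgroup_smul] at hm
    change MulAut.conj c • (⟨x, XH hx⟩ : H) ∈ ((c • P : Sylow 7 H) : Subgroup H) at hm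
    rw [hcc] at hm
    exact hm
  · rw [Eleven.card_map, hX, hY]

set_option maxHeartbeats 1000000 in
/-- The counts pass from the quotient of the centraliser of a transposition to the group. -/
theorem step {D : Set G} {Q : Type v} [Group Q] [Finite Q] {E : Set Q} {k c n m a : ℕ}
    (hD : IsThreeTranspositionClass D) (hp : IsPrimitiveUnderConj D) (hw : ∃ a ∈ D, ∃ b ∈ D, a ≠ b ∧ Commute a b)
    {t : G} (ht : t ∈ D) {C : Subgroup G} (hC : C = Subgroup.centralizer ({t} : Set G)) (q : C →* Q)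
    (hq : Function.Surjective q)
    (hker : ∀ z : C, q z = 1 → (z : G) = 1 ∨ (z : G) = t) (hqt : ∀ z : C, (z : G) = t → q z = 1)
    (hE : E = q '' {y : C | (y : G) ∈ Ds D t})
    (hinj : Set.InjOn q {y : C | (y : G) ∈ Ds D t})
    (hn : D.ncard = n) (hm : (Ds D t).ncard = m) (hn' : ¬ 7 ∣ n)
    (hQ : Nat.card Q = a) (ha : 7 ∣ a) (ha2 : ¬ 49 ∣ a)
    (hgood : ∀ Y : Subgroup Q, Nat.card Y = 7 → (fx E Y).ncard = k ∧
      Nat.card ↥(Subgroup.centralizer (Y : Set Q)) = c ∧ Nat.card ↥(Subgroup.normalizer (Y : Set Q)) = 6 * c ∧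
      ∀ x ∈ fx E Y, ∀ y ∈ fx E Y, x ≠ y → ¬ Commute x y) :
    ¬ 49 ∣ Nat.card G ∧
      (∀ X Y : Subgroup G, Nat.card X = 7 → Nat.card Y = 7 → ∃ g : G, X.map (MulAut.conj g).toMonoidHom = Y) ∧
      ∀ X : Subgroup G, Nat.card X = 7 →
        (∃ s, At D X s k c ((n - 1 - m) % 7)) ∧ ∀ s ∈ fx D X, At D X s k c ((n - 1 - m) % 7) := by
  haveI : Fact (Nat.Prime 7) := ⟨by norm_num⟩
  have hCm : ∀ g : G, g ∈ C ↔ g * t = t * g := fun g => by rw [hC, Subgroup.mem_centralizer_singleton_iff]
  have ht2 : orderOf t = 2 := hD.1.1 t ht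
  have htC : t ∈ C := (hCm t).mpr rfl
  set T : C := ⟨t, htC⟩
  have hkerT : q.ker = Subgroup.zpowers T := by
    refine le_antisymm (fun z hz => ?_) (Subgroup.zpowers_le.mpr (hqt T rfl))
    rcases hker z hz with e | e
    · rw [show z = 1 from Subtype.ext e]; exact one_mem _
    · rw [show z = T from Subtype.ext e]; exact Subgroup.mem_zpowers _
  have hk2 : Nat.card q.ker = 2 := by
    rw [hkerT, Nat.card_zpowers, ← ht2, ← Subgroup.orderOf_coe]
  have hcC : Nat.card C = 2 * a := by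
    rw [Subgroup.card_eq_card_quotient_mul_card_subgroup q.ker,
      Nat.card_congr (QuotientGroup.quotientKerEquivOfSurjective q hq).toEquiv, hQ, hk2, mul_comm]
  have hcomap : ∀ K : Subgroup Q, Nat.card (K.comap q) = 2 * Nat.card K := by
    intro K
    have e2 := (K.comap q).card_mul_index
    rw [Subgroup.index_comap_of_surjective _ hq, hcC, ← hQ, ← K.card_mul_index] at e2
    exact Nat.eq_of_mul_eq_mul_right (Nat.pos_of_ne_zero K.index_ne_zero_of_finite) (by rw [e2]; ring)
  have hG : Nat.card G = n * (2 * a) := by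
    rw [← hcC, ← hn, ← M22.index_centralizer hD ht, hC, Subgroup.index_mul_card]
  have h49 : ¬ 49 ∣ Nat.card G := by
    intro h
    rw [hG, ← mul_assoc] at h
    refine ha2 (Nat.Coprime.dvd_of_dvd_mul_left ?_ h)
    refine Nat.Coprime.mul_right ?_ (by norm_num)
    exact ((Nat.Prime.coprime_iff_not_dvd (by norm_num : Nat.Prime 7)).mpr hn').pow_left 2
  have hconj : ∀ X Y : Subgroup G, Nat.card X = 7 → Nat.card Y = 7 →
      ∃ g : G, X.map (MulAut.conj g).toMonoidHom = Y := fun X Y hX hY => by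
    obtain ⟨c, -, hc⟩ := conj_in h49 hX hY (le_top : X ≤ ⊤) le_top
    exact ⟨c, hc⟩
  refine ⟨h49, hconj, ?_⟩
  have main : ∀ X : Subgroup G, Nat.card X = 7 → X ≤ C → At D X t k c ((n - 1 - m) % 7) := by
    intro X hX hXC
    set X' := X.subgroupOf C
    have hpow : ∀ x : C, (x : G) ∈ X → x ^ 7 = 1 := by
      intro x hx
      refine Subtype.ext ?_
      have := pow_card_eq_one' (G := X) (x := ⟨x, hx⟩)
      rw [hX] at this
      simpa using congrArg (fun z : X => (z : G)) this
    have huniq : ∀ u w : C, u ^ 7 = 1 → w ^ 7 = 1 → q u = q w → u = w := by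
      intro u w hu hw' e
      rcases hker (u * w⁻¹) (by rw [map_mul, map_inv, e, mul_inv_cancel]) with h | h
      · exact mul_inv_eq_one.mp (Subtype.ext h)
      · exfalso
        have e1 : u = T * w := by
          rw [← show u * w⁻¹ = T from Subtype.ext h, inv_mul_cancel_right]
        have hTw : Commute T w := Subtype.ext ((hCm w).mp w.2).symm
        rw [e1, hTw.mul_pow, hw', mul_one] at hu
        have h7 := orderOf_dvd_of_pow_eq_one hu
        rw [← Subgroup.orderOf_coe] at h7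
        change orderOf t ∣ 7 at h7
        rw [ht2] at h7
        norm_num at h7
    set Xb := X'.map q with hXb
    have hXb7 : Nat.card Xb = 7 := by
      have hi : Function.Injective (q.comp X'.subtype) := fun u w e => Subtype.ext
        (huniq u w (hpow u u.2) (hpow w w.2) e)
      rw [← hX, ← Nat.card_congr (Subgroup.subgroupOfEquivOfLe hXC).toEquiv,
        Nat.card_congr (MonoidHom.ofInjective hi).toEquiv, MonoidHom.range_comp, Subgroup.range_subtype]
    have hg := hgood Xb hXb7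
    have hlift : ∀ u : C, u ^ 7 = 1 → q u ∈ Xb → (u : G) ∈ X := by
      rintro u hu ⟨w, hw', e⟩
      rw [huniq u w hu (hpow w hw') e.symm]
      exact hw'
    have hmemX : ∀ y : C, (y : G) ∈ Subgroup.centralizer (X : Set G) ↔ q y ∈ Subgroup.centralizer (Xb : Set Q) := by
      intro y
      constructor
      · intro hy
        refine Subgroup.mem_centralizer_iff.mpr ?_
        rintro _ ⟨x, hx, rfl⟩
        rw [← map_mul, ← map_mul, show x * y = y * x from Subtype.ext (Subgroup.mem_centralizer_iff.mp hy x hx)]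
      · intro hy
        refine Subgroup.mem_centralizer_iff.mpr fun x hx => ?_
        set x' : C := ⟨x, hXC hx⟩
        have e : y * x' * y⁻¹ = x' := huniq _ _ (by rw [conj_pow, hpow x' hx, mul_one, mul_inv_cancel]) (hpow x' hx)
          (by
            rw [map_mul, map_mul, map_inv, ← Subgroup.mem_centralizer_iff.mp hy _ ⟨x', hx, rfl⟩,
              mul_inv_cancel_right])
        exact (congrArg Subtype.val (mul_inv_eq_iff_eq_mul.mp e)).symm
    have htfx : t ∈ fx D X := ⟨ht, Subgroup.mem_centralizer_iff.mpr fun x hx =>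
      (hCm x).mp (hXC hx)⟩
    have hnear : fx D X ∩ Ds D t = Subtype.val '' {y : C | (y : G) ∈ Ds D t ∧ q y ∈ Subgroup.centralizer (Xb : Set Q)} := by
      ext y
      constructor
      · rintro ⟨hy, hy'⟩
        exact ⟨⟨y, (hCm y).mpr hy'.2.2.eq.symm⟩, ⟨hy', (hmemX _).mp hy.2⟩, rfl⟩
      · rintro ⟨y, ⟨hy, hy'⟩, rfl⟩
        exact ⟨⟨hy.1, (hmemX y).mpr hy'⟩, hy⟩
    have hS'eq : fx E Xb = q '' {y : C | (y : G) ∈ Ds D t ∧ q y ∈ Subgroup.centralizer (Xb : Set Q)} := by
      ext e
      constructor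
      · rintro ⟨he, he'⟩
        rw [hE] at he
        obtain ⟨y, hy, rfl⟩ := he
        exact ⟨y, ⟨hy, he'⟩, rfl⟩
      · rintro ⟨y, ⟨hy, hy'⟩, rfl⟩
        exact ⟨by rw [hE]; exact ⟨y, hy, rfl⟩, hy'⟩
    obtain ⟨gk, gc, gn, gnc⟩ := hg
    have hcent : Nat.card ↥(Subgroup.centralizer (X : Set G) ⊓ C) = 2 * c := by
      rw [← Nat.card_congr (Subgroup.subgroupOfEquivOfLe (inf_le_right : Subgroup.centralizer (X : Set G) ⊓ C ≤ C)).toEquiv,
        show (Subgroup.centralizer (X : Set G) ⊓ C).subgroupOf C = (Subgroup.centralizer (Xb : Set Q)).comap q from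
          Subgroup.ext fun g => by
            simp only [Subgroup.mem_subgroupOf, Subgroup.mem_inf, Subgroup.mem_comap]
            exact ⟨fun h => (hmemX g).mp h.1, fun h => ⟨(hmemX g).mpr h, g.2⟩⟩, hcomap, gc]
    have hnorm : Nat.card ↥(Subgroup.normalizer (X : Set G) ⊓ C) = 12 * c := by
      rw [← Nat.card_congr (Subgroup.subgroupOfEquivOfLe (inf_le_right : Subgroup.normalizer (X : Set G) ⊓ C ≤ C)).toEquiv,
        show (Subgroup.normalizer (X : Set G) ⊓ C).subgroupOf C = (Subgroup.normalizer (Xb : Set Q)).comap q from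
          Subgroup.ext fun g => by
            simp only [Subgroup.mem_subgroupOf, Subgroup.mem_inf, Subgroup.mem_comap]
            constructor
            · rintro ⟨h1, -⟩
              refine Eleven.mem_norm ?_
              rintro _ ⟨x, hx, rfl⟩
              exact ⟨g * x * g⁻¹, (Subgroup.mem_normalizer_iff.mp h1 x).mp hx, by simp⟩
            · refine fun h1 => ⟨Eleven.mem_norm fun x hx => ?_, g.2⟩
              refine hlift (g * ⟨x, hXC hx⟩ * g⁻¹) ?_ ?_
              · rw [conj_pow, hpow ⟨x, hXC hx⟩ hx, mul_one, mul_inv_cancel]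
              · rw [map_mul, map_mul, map_inv]
                exact (Subgroup.mem_normalizer_iff.mp h1 _).mp ⟨⟨x, hXC hx⟩, hx, rfl⟩, hcomap, gn]
      ring
    refine ⟨htfx, ?_, ?_, hC ▸ hcent, hC ▸ hnorm, ?_, ?_⟩
    · rw [hnear, Set.ncard_image_of_injective _ Subtype.val_injective,
        ← Set.InjOn.ncard_image (hinj.mono fun y hy => hy.1), ← hS'eq, gk]
    · intro x hx y hy hxy hc
      rw [hnear] at hx hy
      obtain ⟨x, ⟨dx, hx⟩, rfl⟩ := hx
      obtain ⟨y, ⟨dy, hy⟩, rfl⟩ := hy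
      refine gnc (q x) ⟨by rw [hE]; exact ⟨x, dx, rfl⟩, hx⟩ (q y) ⟨by rw [hE]; exact ⟨y, dy, rfl⟩, hy⟩
        (fun e => hxy (congrArg Subtype.val (hinj dx dy e))) (Commute.map (show Commute x y from Subtype.ext hc) q)
    -- the fixed points in the far set
    · letI : MulAction X {y : G // y ∈ D ∧ ¬ Commute t y} :=
        { smul := fun x y => ⟨x * y * (x : G)⁻¹, cls_conj hD _ y.2.1, fun h => y.2.2 ((commute_cj_iff (x : G)).mp (by
            rwa [show (x : G) * t * (x : G)⁻¹ = t by rw [(hCm x).mp (hXC x.2), mul_inv_cancel_right]]))⟩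
          one_smul := fun y => Subtype.ext (by show (1 : G) * y * (1 : G)⁻¹ = y; simp)
          mul_smul := fun x x' y => Subtype.ext (by
            show ((x : G) * x') * y * ((x : G) * x')⁻¹ = x * (x' * y * (x' : G)⁻¹) * (x : G)⁻¹
            group) }
      have hPG : IsPGroup 7 X := IsPGroup.of_card (n := 1) (by rw [hX, pow_one])
      have hmod := hPG.card_modEq_card_fixedPoints {y : G // y ∈ D ∧ ¬ Commute t y}
      have e1 : Nat.card {y : G // y ∈ D ∧ ¬ Commute t y} = n - 1 - m := by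
        have : {y : G | y ∈ D ∧ ¬ Commute t y} = D \ insert t (Ds D t) := by
          ext c
          simp only [Set.mem_ofPred_eq, Set.mem_diff, Set.mem_insert_iff, Ds]
          refine ⟨fun h => ⟨h.1, ?_⟩, fun h => ⟨h.1, fun hc => h.2 ?_⟩⟩
          · rintro (rfl | h')
            · exact h.2 (Commute.refl _)
            · exact h.2 h'.2.2
          · by_cases e : c = t
            · exact Or.inl e
            · exact Or.inr ⟨h.1, e, hc⟩
        show Nat.card ↥{y : G | y ∈ D ∧ ¬ Commute t y} = _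
        rw [Nat.card_coe_set_eq, this, Set.ncard_diff (Set.insert_subset ht fun c hc => hc.1),
          Set.ncard_insert_of_notMem (fun h => h.2.1 rfl), hn, hm]
        omega
      have e2 : Nat.card (MulAction.fixedPoints X {y : G // y ∈ D ∧ ¬ Commute t y}) =
          {y | y ∈ fx D X ∧ ¬ Commute t y}.ncard := by
        rw [← Nat.card_coe_set_eq]
        refine Nat.card_congr
          { toFun := fun y => ⟨y.1.1, ⟨y.1.2.1, Subgroup.mem_centralizer_iff.mpr fun x hx =>
              mul_inv_eq_iff_eq_mul.mp (congrArg Subtype.val (y.2 ⟨x, hx⟩))⟩, y.1.2.2⟩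
            invFun := fun y => ⟨⟨y.1, y.2.1.1, y.2.2⟩, fun x => Subtype.ext (mul_inv_eq_iff_eq_mul.mpr
              (Subgroup.mem_centralizer_iff.mp y.2.1.2 x x.2))⟩
            left_inv := fun y => rfl
            right_inv := fun y => rfl }
      rw [e1, e2] at hmod
      exact hmod.symm
    · intro c0 hc0
      set W := {y | y ∈ fx D X ∧ ¬ Commute t y}
      have htr : ∀ y ∈ W, ∃ g ∈ Subgroup.normalizer (X : Set G) ⊓ C, g * c0 * g⁻¹ = y := by
        intro y hy
        obtain ⟨g, hg', hgy⟩ := rank_three_far hD hp hw ht c0 hc0.1.1 hc0.2 y hy.1.1 hy.2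
        set K := C ⊓ Subgroup.centralizer ({y} : Set G)
        have hXK : X ≤ K := le_inf hXC fun x hx => Subgroup.mem_centralizer_singleton_iff.mpr
          (Subgroup.mem_centralizer_iff.mp hy.1.2 x hx)
        have hgC : g ∈ C := (hCm g).mpr hg'.eq
        have hYK : X.map (MulAut.conj g).toMonoidHom ≤ K := by
          rintro _ ⟨x, hx, rfl⟩
          refine ⟨C.mul_mem (C.mul_mem hgC (hXC hx)) (C.inv_mem hgC), Subgroup.mem_centralizer_singleton_iff.mpr ?_⟩
          rw [← hgy]
          exact ((commute_cj_iff g).mpr (show Commute x c0 from Subgroup.mem_centralizer_iff.mp hc0.1.2 x hx)).eq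
        obtain ⟨k, hk, hkX⟩ := conj_in h49 (by rw [Eleven.card_map, hX]) hX hYK hXK
        refine ⟨k * g, ⟨Eleven.mem_norm fun x hx => ?_, C.mul_mem hk.1 hgC⟩, ?_⟩
        · rw [← cj_cj, ← hkX]
          exact ⟨g * x * g⁻¹, ⟨x, hx, rfl⟩, rfl⟩
        · rw [← cj_cj, hgy]
          exact mul_inv_eq_iff_eq_mul.mpr (Subgroup.mem_centralizer_singleton_iff.mp hk.2)
      have e := M22.card_orbit_stab (Subgroup.normalizer (X : Set G) ⊓ C) c0 W (fun g hg' => ?_) htr
      · rw [← hnorm, e, mul_comm 7]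
        refine Nat.mul_dvd_mul_left _ (hX ▸ Subgroup.card_dvd_of_le ?_)
        exact le_inf (le_inf Subgroup.le_normalizer hXC) fun x hx => Subgroup.mem_centralizer_singleton_iff.mpr
          (Subgroup.mem_centralizer_iff.mp hc0.1.2 x hx)
      · refine ⟨⟨cls_conj hD g hc0.1.1, Subgroup.mem_centralizer_iff.mpr fun x hx => ?_⟩, fun h => hc0.2 ?_⟩
        · obtain ⟨z, hz, rfl⟩ : ∃ z ∈ X, g * z * g⁻¹ = x :=
            ⟨g⁻¹ * x * g⁻¹⁻¹, (Subgroup.mem_normalizer_iff.mp (inv_mem hg'.1) x).mp hx, by group⟩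
          exact ((commute_cj_iff g).mpr (show Commute z c0 from Subgroup.mem_centralizer_iff.mp hc0.1.2 z hz)).eq
        · refine (commute_cj_iff g).mp ?_
          rwa [show g * t * g⁻¹ = t by rw [(hCm g).mp hg'.2, mul_inv_cancel_right]]
  intro X hX
  obtain ⟨x₀, hx₀⟩ := exists_prime_orderOf_dvd_card' (G := C) 7 (by rw [hcC]; exact dvd_mul_of_dvd_right ha 2)
  set X₀ := (Subgroup.zpowers x₀).map C.subtype
  have hX₀ : Nat.card X₀ = 7 := by
    rw [Subgroup.card_map_of_injective C.subtype_injective, Nat.card_zpowers, hx₀]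
  obtain ⟨g, hg⟩ := hconj X₀ X hX₀ hX
  have hgD : MulAut.conj g '' D = D := Set.eq_of_subset_of_ncard_le
    (by rintro _ ⟨d, hd, rfl⟩; exact cls_conj hD g hd)
    (Set.ncard_image_of_injective _ (MulAut.conj g).injective).ge
  subst hC
  have h0 := (main X₀ hX₀ (Subgroup.map_subtype_le _)).map _ hgD
  rw [hg] at h0
  refine ⟨⟨_, h0⟩, fun s hs => ?_⟩
  obtain ⟨k', hk'⟩ := cls_exists_conj hD ht hs.1
  have hkD : MulAut.conj k' '' D = D := Set.eq_of_subset_of_ncard_le
    (by rintro _ ⟨d, hd, rfl⟩; exact cls_conj hD k' hd)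
    (Set.ncard_image_of_injective _ (MulAut.conj k').injective).ge
  have hXs : X.map (MulAut.conj k'⁻¹).toMonoidHom ≤ Subgroup.centralizer ({t} : Set G) := by
    rintro _ ⟨x, hx, rfl⟩
    refine Subgroup.mem_centralizer_singleton_iff.mpr ?_
    have := (commute_cj_iff k'⁻¹).mpr (show Commute x s from Subgroup.mem_centralizer_iff.mp hs.2 x hx)
    rw [show k'⁻¹ * s * k'⁻¹⁻¹ = t by rw [← hk']; group] at this
    exact this.eq
  have h1 := (main _ (by rw [Eleven.card_map, hX]) hXs).map (MulAut.conj k') hkD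
  have e : (X.map (MulAut.conj k'⁻¹).toMonoidHom).map (MulAut.conj k').toMonoidHom = X := by
    ext x
    simp [Subgroup.mem_map, mul_assoc]
  rw [e, show MulAut.conj k' t = s from hk'] at h1
  exact h1

/-- The normaliser as a product, once the orders are known. -/
theorem product {D : Set G} {X : Subgroup G} (hX : Nat.card X = 7)
    (hF : Nat.card ↥(Subgroup.normalizer (X : Set G) ⊓ Subgroup.centralizer (fx D X)) = 42)
    (hC : Nat.card ↥(Subgroup.centralizer (X : Set G) ⊓ Subgroup.centralizer (fx D X)) = 7)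
    (hN : Nat.card ↥(Subgroup.normalizer (X : Set G)) = 42 * Nat.card ↥(Subgroup.closure (fx D X)))
    (h7 : ¬ 7 ∣ Nat.card ↥(Subgroup.closure (fx D X))) :
    ∃ F : Subgroup G, Nat.card F = 42 ∧ X ≤ F ∧ F ⊓ Subgroup.centralizer (X : Set G) = X ∧
      F ⊓ Subgroup.closure (fx D X) = ⊥ ∧ (∀ x ∈ F, ∀ y ∈ Subgroup.closure (fx D X), x * y = y * x) ∧
      F ⊔ Subgroup.closure (fx D X) = Subgroup.normalizer (X : Set G) := by
  haveI : Fact (Nat.Prime 7) := ⟨by norm_num⟩
  set S := fx D X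
  set V := Subgroup.closure S
  set F := Subgroup.normalizer (X : Set G) ⊓ Subgroup.centralizer S
  have hVX : V ≤ Subgroup.centralizer (X : Set G) := (Subgroup.closure_le _).mpr fun y hy => hy.2
  have hXS : X ≤ Subgroup.centralizer S := fun x hx => Subgroup.mem_centralizer_iff.mpr fun y hy =>
    (Subgroup.mem_centralizer_iff.mp hy.2 x hx).symm
  have hVc : ∀ g ∈ F, ∀ v ∈ V, g * v = v * g := by
    intro g hg v hv
    have : V ≤ Subgroup.centralizer ({g} : Set G) := (Subgroup.closure_le _).mpr fun y hy =>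
      Subgroup.mem_centralizer_singleton_iff.mpr (Subgroup.mem_centralizer_iff.mp hg.2 y hy)
    exact (Subgroup.mem_centralizer_singleton_iff.mp (this hv)).symm
  have hXF : X ≤ F := le_inf Subgroup.le_normalizer hXS
  have hXC : X ≤ Subgroup.centralizer (X : Set G) := by
    haveI : IsCyclic X := isCyclic_of_prime_card (p := 7) hX
    exact fun x hx => Subgroup.mem_centralizer_iff.mpr fun y hy =>
      congrArg Subtype.val (IsCyclic.commGroup.mul_comm (⟨y, hy⟩ : X) ⟨x, hx⟩)
  have hFX : F ⊓ Subgroup.centralizer (X : Set G) = X := by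
    refine (Subgroup.eq_of_le_of_card_ge (le_inf hXF hXC) ?_).symm
    rw [hX, ← hC]
    exact Subgroup.card_le_of_le (le_inf inf_le_right (inf_le_left.trans inf_le_right))
  have hbot : F ⊓ V = ⊥ := by
    refine le_bot_iff.mp ((show F ⊓ V ≤ X ⊓ V from le_inf ((le_inf inf_le_left (inf_le_right.trans hVX)).trans hFX.le)
      inf_le_right).trans (le_of_eq (Subgroup.inf_eq_bot_of_coprime ?_)))
    rw [hX]
    exact (Nat.Prime.coprime_iff_not_dvd (by norm_num)).mpr h7
  refine ⟨F, hF, hXF, hFX, hbot, hVc, ?_⟩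
  refine Subgroup.eq_of_le_of_card_ge (sup_le inf_le_left (hVX.trans (Subgroup.centralizer_le_normalizer _))) ?_
  rw [hN, ← hF, ← Nat.card_prod]
  refine Nat.card_le_card_of_injective (fun p : F × V => (⟨p.1 * p.2, Subgroup.mul_mem_sup p.1.2 p.2.2⟩ :
    ↥(F ⊔ V))) fun p r e => ?_
  have e' : (p.1 : G) * p.2 = r.1 * r.2 := congrArg Subtype.val e
  have e1 : (r.1 : G)⁻¹ * p.1 = r.2 * (p.2 : G)⁻¹ := by
    rw [eq_mul_inv_iff_mul_eq, mul_assoc, e']; group
  have hm : (r.1 : G)⁻¹ * p.1 ∈ F ⊓ V := Subgroup.mem_inf.mpr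
    ⟨F.mul_mem (F.inv_mem r.1.2) p.1.2, e1 ▸ V.mul_mem r.2.2 (V.inv_mem p.2.2)⟩
  rw [hbot, Subgroup.mem_bot, inv_mul_eq_one] at hm
  refine Prod.ext (Subtype.ext hm.symm) (Subtype.ext ?_)
  rw [← hm] at e'
  exact mul_left_cancel e'

end CfsgThreeTrans.Seven
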