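/-
Normalisers of subgroups of order five, lifted from the centraliser of a transposition.
-/
import Cfsg.Agent.Lib.ThreeTrans.Seven

set_option autoImplicit false
set_option linter.unusedSectionVars false

namespace CfsgThreeTrans.Five

open Cfsg CfsgLib
open scoped Pointwise

universe u v

variable {G : Type u} [Group G] [Finite G]

/-- The members of `D` centralising `X`. -/
abbrev fx (D : Set G) (X : Subgroup G) : Set G := D ∩ (Subgroup.centralizer (X : Set G) : Set G)

/-- The members of `D` centralising `X` and partners of `t`. -/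
abbrev nr (D : Set G) (X : Subgroup G) (t : G) : Set G := fx D X ∩ Ds D t

/-- The local counts at a transposition `t` centralising a subgroup of order five. -/
structure At (D : Set G) (X : Subgroup G) (t : G) (k j c r : ℕ) (P : Prop) : Prop where
  mem : t ∈ fx D X
  near : (nr D X t).ncard = k
  sub : ∀ b ∈ nr D X t, (nr D X t ∩ Ds D b).ncard = j
  nc : j < 4 → ∀ b ∈ nr D X t, ∀ x ∈ nr D X t ∩ Ds D b, ∀ y ∈ nr D X t ∩ Ds D b, x ≠ y → ¬ Commute x y
  chain : 4 ≤ j → ∃ v : Fin 6 → G, (∀ i, v i ∈ nr D X t) ∧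
    (∀ i l : Fin 6, i.val + 1 < l.val → Commute (v i) (v l)) ∧
    (∀ i l : Fin 6, i.val + 1 = l.val → ¬ Commute (v i) (v l)) ∧ v 0 ≠ v 2
  cent : Nat.card ↥(Subgroup.centralizer (X : Set G) ⊓ Subgroup.centralizer ({t} : Set G)) = 2 * c
  norm : Nat.card ↥(Subgroup.normalizer (X : Set G) ⊓ Subgroup.centralizer ({t} : Set G)) = 8 * c
  far : {y | y ∈ fx D X ∧ ¬ Commute t y}.ncard % 5 = r
  farTrans : P → ∀ c0 ∈ {y | y ∈ fx D X ∧ ¬ Commute t y}, ∀ y ∈ {y | y ∈ fx D X ∧ ¬ Commute t y},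
    ∃ g ∈ Subgroup.normalizer (X : Set G) ⊓ Subgroup.centralizer ({t} : Set G), g * c0 * g⁻¹ = y

theorem At.map {D : Set G} {X : Subgroup G} {t : G} {k j c r : ℕ} {P : Prop} (h : At D X t k j c r P) (e : G ≃* G) (he : e '' D = D) :
    At D (X.map e.toMonoidHom) (e t) k j c r P := by
  have hC : Subgroup.centralizer ((X.map e.toMonoidHom : Subgroup G) : Set G) =
      (Subgroup.centralizer (X : Set G)).map e.toMonoidHom := by
    rw [Eleven.map_centralizer, Subgroup.coe_map]; rfl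
  have hfx : fx D (X.map e.toMonoidHom) = e '' fx D X := by
    show D ∩ _ = _
    rw [hC, Subgroup.coe_map, Set.image_inter e.injective, he]
    rfl
  have hcomm : ∀ x y : G, Commute (e x) (e y) ↔ Commute x y := fun x y =>
    ⟨fun h => e.injective (by rw [map_mul, map_mul]; exact h), fun h => h.map e⟩
  have hDs : Ds D (e t) = e '' Ds D t := by
    ext y
    constructor
    · rintro ⟨hy, hne, hc⟩
      rw [← he] at hy
      obtain ⟨x, hx, rfl⟩ := hy
      exact ⟨x, ⟨hx, fun e' => hne (by rw [e']), (hcomm _ _).mp hc⟩, rfl⟩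
    · rintro ⟨x, ⟨hx, hne, hc⟩, rfl⟩
      exact ⟨he ▸ ⟨x, hx, rfl⟩, fun e' => hne (e.injective e'), (hcomm _ _).mpr hc⟩
  have hfar : {y | y ∈ fx D (X.map e.toMonoidHom) ∧ ¬ Commute (e t) y} = e '' {y | y ∈ fx D X ∧ ¬ Commute t y} := by
    rw [hfx]
    ext y
    constructor
    · rintro ⟨⟨x, hx, rfl⟩, hc⟩
      exact ⟨x, ⟨hx, fun h => hc ((hcomm _ _).mpr h)⟩, rfl⟩
    · rintro ⟨x, ⟨hx, hc⟩, rfl⟩
      exact ⟨⟨x, hx, rfl⟩, fun h => hc ((hcomm _ _).mp h)⟩
  have hsing : ({e t} : Set G) = e '' {t} := (Set.image_singleton).symm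
  have hnr : nr D (X.map e.toMonoidHom) (e t) = e '' nr D X t := by
    show _ ∩ _ = _
    rw [hfx, hDs, ← Set.image_inter e.injective]
  have hDsb : ∀ b, Ds D (e b) = e '' Ds D b := by
    intro b
    ext y
    constructor
    · rintro ⟨hy, hne, hc⟩
      rw [← he] at hy
      obtain ⟨x, hx, rfl⟩ := hy
      exact ⟨x, ⟨hx, fun e' => hne (by rw [e']), (hcomm _ _).mp hc⟩, rfl⟩
    · rintro ⟨x, ⟨hx, hne, hc⟩, rfl⟩
      exact ⟨he ▸ ⟨x, hx, rfl⟩, fun e' => hne (e.injective e'), (hcomm _ _).mpr hc⟩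
  refine ⟨hfx ▸ ⟨t, h.mem, rfl⟩, ?_, ?_, ?_, ?_, ?_, ?_, ?_, ?_⟩
  · rw [hnr, Set.ncard_image_of_injective _ e.injective, h.near]
  · rw [hnr]
    rintro _ ⟨b, hb, rfl⟩
    rw [hDsb, ← Set.image_inter e.injective, Set.ncard_image_of_injective _ e.injective, h.sub b hb]
  · rw [hnr]
    rintro hj _ ⟨b, hb, rfl⟩
    rw [hDsb, ← Set.image_inter e.injective]
    rintro _ ⟨x, hx, rfl⟩ _ ⟨y, hy, rfl⟩ hne hc
    exact h.nc hj b hb x hx y hy (fun e' => hne (by rw [e'])) ((hcomm _ _).mp hc)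
  · intro hj
    obtain ⟨v, hv, h1, h2, h3⟩ := h.chain hj
    exact ⟨e ∘ v, fun i => by rw [hnr]; exact ⟨v i, hv i, rfl⟩, fun i l hil => (hcomm _ _).mpr (h1 i l hil),
      fun i l hil hc => h2 i l hil ((hcomm _ _).mp hc), fun e' => h3 (e.injective e')⟩
  · rw [hC, hsing, ← Eleven.map_centralizer, ← Subgroup.map_inf _ _ _ e.injective, Eleven.card_map, h.cent]
  · rw [← Subgroup.map_equiv_normalizer_eq, hsing, ← Eleven.map_centralizer, ← Subgroup.map_inf _ _ _ e.injective,
      Eleven.card_map, h.norm]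
  · rw [hfar, Set.ncard_image_of_injective _ e.injective, h.far]
  · rw [hfar, ← Subgroup.map_equiv_normalizer_eq, hsing, ← Eleven.map_centralizer,
      ← Subgroup.map_inf _ _ _ e.injective]
    rintro hP _ ⟨x, hx, rfl⟩ _ ⟨y, hy, rfl⟩
    obtain ⟨g, hg, hg'⟩ := h.farTrans hP x hx y hy
    exact ⟨e g, ⟨g, hg, rfl⟩, by rw [← hg', map_mul, map_mul, map_inv]⟩

/-- Subgroups of order five inside `H` are conjugate under `H`. -/
theorem conj_in {H X Y : Subgroup G} (h25 : ¬ 25 ∣ Nat.card H) (hX : Nat.card X = 5) (hY : Nat.card Y = 5)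
    (XH : X ≤ H) (YH : Y ≤ H) : ∃ c ∈ H, X.map (MulAut.conj c).toMonoidHom = Y := by
  haveI : Fact (Nat.Prime 5) := ⟨by norm_num⟩
  have hfac : (Nat.card H).factorization 5 = 1 := by
    refine le_antisymm ?_ ?_
    · by_contra hlt
      exact h25 ((Nat.Prime.pow_dvd_iff_le_factorization (p := 5) (k := 2) (by norm_num) Nat.card_pos.ne').mpr (by omega))
    · refine (Nat.Prime.pow_dvd_iff_le_factorization (by norm_num) Nat.card_pos.ne').mp ?_
      rw [pow_one, ← hX]
      exact Subgroup.card_dvd_of_le XH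
  have hc : ∀ Z : Subgroup G, Z ≤ H → Nat.card Z = 5 → Nat.card ↥(Z.subgroupOf H) = 5 ^ (Nat.card H).factorization 5 :=
    fun Z ZH hZ => by rw [Nat.card_congr (Subgroup.subgroupOfEquivOfLe ZH).toEquiv, hZ, hfac, pow_one]
  let P : Sylow 5 H := Sylow.ofCard _ (hc X XH hX)
  let R : Sylow 5 H := Sylow.ofCard _ (hc Y YH hY)
  obtain ⟨c, hcc⟩ := MulAction.exists_smul_eq H P R
  refine ⟨c, c.2, Subgroup.eq_of_le_of_card_ge ?_ ?_⟩
  · rintro _ ⟨x, hx, rfl⟩
    have hm : MulAut.conj c • (⟨x, XH hx⟩ : H) ∈ MulAut.conj c • (P : Subgroup H) :=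
      Subgroup.smul_mem_pointwise_smul _ _ _ hx
    rw [← Sylow.coe_subgroup_smul] at hm
    change MulAut.conj c • (⟨x, XH hx⟩ : H) ∈ ((c • P : Sylow 5 H) : Subgroup H) at hm
    rw [hcc] at hm
    exact hm
  · rw [Eleven.card_map, hX, hY]

set_option maxHeartbeats 1000000 in
/-- The counts pass from the quotient of the centraliser of a transposition to the group. -/
theorem step (P : Prop) {D : Set G} {Q : Type v} [Group Q] [Finite Q] {E : Set Q} {k j c n m a : ℕ}
    (hD : IsThreeTranspositionClass D) (hp : IsPrimitiveUnderConj D) (hw : ∃ a ∈ D, ∃ b ∈ D, a ≠ b ∧ Commute a b)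
    {t : G} (ht : t ∈ D) {C : Subgroup G} (hC : C = Subgroup.centralizer ({t} : Set G)) (q : C →* Q)
    (hq : Function.Surjective q)
    (hker : ∀ z : C, q z = 1 → (z : G) = 1 ∨ (z : G) = t) (hqt : ∀ z : C, (z : G) = t → q z = 1)
    (hE : E = q '' {y : C | (y : G) ∈ Ds D t})
    (hinj : Set.InjOn q {y : C | (y : G) ∈ Ds D t})
    (hcomm : ∀ y y' : C, (y : G) ∈ Ds D t → (y' : G) ∈ Ds D t → Commute (q y) (q y') → Commute (y : G) y')
    (hn : D.ncard = n) (hm : (Ds D t).ncard = m)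
    (hQ : Nat.card Q = a) (ha : 5 ∣ a) (ha2 : P → ¬ 25 * (n - 1 - m) ∣ 2 * a)
    (hconjQ : ∀ Y Y' : Subgroup Q, Nat.card Y = 5 → Nat.card Y' = 5 → ∃ g : Q, Y.map (MulAut.conj g).toMonoidHom = Y')
    (hgood : ∀ Y : Subgroup Q, Nat.card Y = 5 → (fx E Y).ncard = k ∧
      Nat.card ↥(Subgroup.centralizer (Y : Set Q)) = c ∧ Nat.card ↥(Subgroup.normalizer (Y : Set Q)) = 4 * c ∧
      (∀ b ∈ fx E Y, (fx E Y ∩ Ds E b).ncard = j ∧
        (j < 4 → ∀ x ∈ fx E Y ∩ Ds E b, ∀ y ∈ fx E Y ∩ Ds E b, x ≠ y → ¬ Commute x y)) ∧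
      (4 ≤ j → ∃ v : Fin 6 → Q, (∀ i, v i ∈ fx E Y) ∧ (∀ i l : Fin 6, i.val + 1 < l.val → Commute (v i) (v l)) ∧
        (∀ i l : Fin 6, i.val + 1 = l.val → ¬ Commute (v i) (v l)) ∧ v 0 ≠ v 2)) :
    (∀ X Y : Subgroup G, Nat.card X = 5 → Nat.card Y = 5 → (fx D X).Nonempty → (fx D Y).Nonempty →
        ∃ g : G, X.map (MulAut.conj g).toMonoidHom = Y) ∧
      (∃ X : Subgroup G, Nat.card X = 5 ∧ X ≤ C) ∧
      ∀ X : Subgroup G, Nat.card X = 5 → ∀ s ∈ fx D X, At D X s k j c ((n - 1 - m) % 5) P := by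
  haveI : Fact (Nat.Prime 5) := ⟨by norm_num⟩
  have hCm : ∀ g : G, g ∈ C ↔ g * t = t * g := fun g => by rw [hC, Subgroup.mem_centralizer_singleton_iff]
  have ht2 : orderOf t = 2 := hD.1.1 t ht
  have htC : t ∈ C := (hCm t).mpr rfl
  set T : C := ⟨t, htC⟩
  have hkerT : q.ker = Subgroup.zpowers T := by
    refine le_antisymm (fun z hz => ?_) (Subgroup.zpowers_le.mpr (hqt T rfl))
    rcases hker z hz with e | e
    · rw [show z = 1 from Subtype.ext e]; exact one_mem _
    · rw [show z = T from Subtype.ext e]; exact Subgroup.mem_zpowers _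
  have hk2 : Nat.card q.ker = 2 := by
    rw [hkerT, Nat.card_zpowers, ← ht2, ← Subgroup.orderOf_coe]
  have hcC : Nat.card C = 2 * a := by
    rw [Subgroup.card_eq_card_quotient_mul_card_subgroup q.ker,
      Nat.card_congr (QuotientGroup.quotientKerEquivOfSurjective q hq).toEquiv, hQ, hk2, mul_comm]
  have hcomap : ∀ K : Subgroup Q, Nat.card (K.comap q) = 2 * Nat.card K := by
    intro K
    have e2 := (K.comap q).card_mul_index
    rw [Subgroup.index_comap_of_surjective _ hq, hcC, ← hQ, ← K.card_mul_index] at e2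
    exact Nat.eq_of_mul_eq_mul_right (Nat.pos_of_ne_zero K.index_ne_zero_of_finite) (by rw [e2]; ring)
  have hG : Nat.card G = n * (2 * a) := by
    rw [← hcC, ← hn, ← M22.index_centralizer hD ht, hC, Subgroup.index_mul_card]
  have hfarK : P → ∀ y ∈ D, ¬ Commute t y → ¬ 25 ∣ Nat.card ↥(C ⊓ Subgroup.centralizer ({y} : Set G)) := by
    intro hP y hy hty h25
    set W := {c | c ∈ D ∧ ¬ Commute t c}
    have hW : W = D \ insert t (Ds D t) := by
      ext c
      simp only [W, Set.mem_ofPred_eq, Set.mem_diff, Set.mem_insert_iff, Ds]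
      refine ⟨fun h => ⟨h.1, ?_⟩, fun h => ⟨h.1, fun hc => h.2 ?_⟩⟩
      · rintro (rfl | h')
        · exact h.2 (Commute.refl _)
        · exact h.2 h'.2.2
      · by_cases e : c = t
        · exact Or.inl e
        · exact Or.inr ⟨h.1, e, hc⟩
    have hWn : W.ncard = n - 1 - m := by
      rw [hW, Set.ncard_diff (Set.insert_subset ht fun c hc => hc.1), Set.ncard_insert_of_notMem
        (fun h => h.2.1 rfl), hn, hm]
      omega
    have e := M22.card_orbit_stab C y W (fun g hg' => ⟨cls_conj hD g hy, fun h => hty ((commute_cj_iff g).mp (by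
        rwa [show g * t * g⁻¹ = t by rw [(hCm g).mp hg', mul_inv_cancel_right]]))⟩)
      (fun c hc => by
        obtain ⟨g, hg', e⟩ := rank_three_far hD hp hw ht y hy hty c hc.1 hc.2
        exact ⟨g, (hCm g).mpr hg'.eq, e⟩)
    refine ha2 hP ?_
    rw [← hcC, e, hWn, mul_comm 25]
    exact Nat.mul_dvd_mul_left _ h25
  have huniq0 : ∀ u w : C, u ^ 5 = 1 → w ^ 5 = 1 → q u = q w → u = w := by
    intro u w hu hw' e
    rcases hker (u * w⁻¹) (by rw [map_mul, map_inv, e, mul_inv_cancel]) with h | h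
    · exact mul_inv_eq_one.mp (Subtype.ext h)
    · exfalso
      have e1 : u = T * w := by
        rw [← show u * w⁻¹ = T from Subtype.ext h, inv_mul_cancel_right]
      have hTw : Commute T w := Subtype.ext ((hCm w).mp w.2).symm
      rw [e1, hTw.mul_pow, hw', mul_one] at hu
      have h5 := orderOf_dvd_of_pow_eq_one hu
      rw [← Subgroup.orderOf_coe] at h5
      change orderOf t ∣ 5 at h5
      rw [ht2] at h5
      norm_num at h5
  have hconjC : ∀ X Y : Subgroup G, Nat.card X = 5 → Nat.card Y = 5 → X ≤ C → Y ≤ C →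
      ∃ g ∈ C, X.map (MulAut.conj g).toMonoidHom = Y := by
    intro X Y hX hY hXC hYC
    have hpw : ∀ (Z : Subgroup G), Nat.card Z = 5 → ∀ x : C, (x : G) ∈ Z → x ^ 5 = 1 := by
      intro Z hZ x hx
      refine Subtype.ext ?_
      have := pow_card_eq_one' (G := Z) (x := ⟨x, hx⟩)
      rw [hZ] at this
      simpa using congrArg (fun z : Z => (z : G)) this
    have hb : ∀ (Z : Subgroup G), Nat.card Z = 5 → Z ≤ C → Nat.card ((Z.subgroupOf C).map q) = 5 := by
      intro Z hZ hZC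
      have hi : Function.Injective (q.comp (Z.subgroupOf C).subtype) := fun u w e => Subtype.ext
        (huniq0 u w (hpw Z hZ u u.2) (hpw Z hZ w w.2) e)
      rw [← hZ, ← Nat.card_congr (Subgroup.subgroupOfEquivOfLe hZC).toEquiv,
        Nat.card_congr (MonoidHom.ofInjective hi).toEquiv, MonoidHom.range_comp, Subgroup.range_subtype]
    obtain ⟨g', hg'⟩ := hconjQ _ _ (hb X hX hXC) (hb Y hY hYC)
    obtain ⟨g, rfl⟩ := hq g'
    refine ⟨g, g.2, Subgroup.eq_of_le_of_card_ge ?_ (by rw [Eleven.card_map, hX, hY])⟩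
    rintro _ ⟨x, hx, rfl⟩
    have hm : q (g * ⟨x, hXC hx⟩ * g⁻¹) ∈ (Y.subgroupOf C).map q := by
      rw [← hg', map_mul, map_mul, map_inv]
      exact ⟨q ⟨x, hXC hx⟩, ⟨⟨x, hXC hx⟩, hx, rfl⟩, rfl⟩
    obtain ⟨y, hy, ey⟩ := hm
    show ((g * ⟨x, hXC hx⟩ * g⁻¹ : C) : G) ∈ Y
    rw [huniq0 _ y (by rw [conj_pow, hpw X hX ⟨x, hXC hx⟩ hx, mul_one, mul_inv_cancel]) (hpw Y hY y hy) ey.symm]
    exact hy
  have main : ∀ X : Subgroup G, Nat.card X = 5 → X ≤ C → At D X t k j c ((n - 1 - m) % 5) P := by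
    intro X hX hXC
    set X' := X.subgroupOf C
    have hpow : ∀ x : C, (x : G) ∈ X → x ^ 5 = 1 := by
      intro x hx
      refine Subtype.ext ?_
      have := pow_card_eq_one' (G := X) (x := ⟨x, hx⟩)
      rw [hX] at this
      simpa using congrArg (fun z : X => (z : G)) this
    have huniq : ∀ u w : C, u ^ 5 = 1 → w ^ 5 = 1 → q u = q w → u = w := by
      intro u w hu hw' e
      rcases hker (u * w⁻¹) (by rw [map_mul, map_inv, e, mul_inv_cancel]) with h | h
      · exact mul_inv_eq_one.mp (Subtype.ext h)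
      · exfalso
        have e1 : u = T * w := by
          rw [← show u * w⁻¹ = T from Subtype.ext h, inv_mul_cancel_right]
        have hTw : Commute T w := Subtype.ext ((hCm w).mp w.2).symm
        rw [e1, hTw.mul_pow, hw', mul_one] at hu
        have h5 := orderOf_dvd_of_pow_eq_one hu
        rw [← Subgroup.orderOf_coe] at h5
        change orderOf t ∣ 5 at h5
        rw [ht2] at h5
        norm_num at h5
    set Xb := X'.map q with hXb
    have hXb5 : Nat.card Xb = 5 := by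
      have hi : Function.Injective (q.comp X'.subtype) := fun u w e => Subtype.ext
        (huniq u w (hpow u u.2) (hpow w w.2) e)
      rw [← hX, ← Nat.card_congr (Subgroup.subgroupOfEquivOfLe hXC).toEquiv,
        Nat.card_congr (MonoidHom.ofInjective hi).toEquiv, MonoidHom.range_comp, Subgroup.range_subtype]
    have hg := hgood Xb hXb5
    have hlift : ∀ u : C, u ^ 5 = 1 → q u ∈ Xb → (u : G) ∈ X := by
      rintro u hu ⟨w, hw', e⟩
      rw [huniq u w hu (hpow w hw') e.symm]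
      exact hw'
    have hmemX : ∀ y : C, (y : G) ∈ Subgroup.centralizer (X : Set G) ↔ q y ∈ Subgroup.centralizer (Xb : Set Q) := by
      intro y
      constructor
      · intro hy
        refine Subgroup.mem_centralizer_iff.mpr ?_
        rintro _ ⟨x, hx, rfl⟩
        rw [← map_mul, ← map_mul, show x * y = y * x from Subtype.ext (Subgroup.mem_centralizer_iff.mp hy x hx)]
      · intro hy
        refine Subgroup.mem_centralizer_iff.mpr fun x hx => ?_
        set x' : C := ⟨x, hXC hx⟩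
        have e : y * x' * y⁻¹ = x' := huniq _ _ (by rw [conj_pow, hpow x' hx, mul_one, mul_inv_cancel]) (hpow x' hx)
          (by
            rw [map_mul, map_mul, map_inv, ← Subgroup.mem_centralizer_iff.mp hy _ ⟨x', hx, rfl⟩,
              mul_inv_cancel_right])
        exact (congrArg Subtype.val (mul_inv_eq_iff_eq_mul.mp e)).symm
    have htfx : t ∈ fx D X := ⟨ht, Subgroup.mem_centralizer_iff.mpr fun x hx =>
      (hCm x).mp (hXC hx)⟩
    have hnear : fx D X ∩ Ds D t = Subtype.val '' {y : C | (y : G) ∈ Ds D t ∧ q y ∈ Subgroup.centralizer (Xb : Set Q)} := by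
      ext y
      constructor
      · rintro ⟨hy, hy'⟩
        exact ⟨⟨y, (hCm y).mpr hy'.2.2.eq.symm⟩, ⟨hy', (hmemX _).mp hy.2⟩, rfl⟩
      · rintro ⟨y, ⟨hy, hy'⟩, rfl⟩
        exact ⟨⟨hy.1, (hmemX y).mpr hy'⟩, hy⟩
    have hS'eq : fx E Xb = q '' {y : C | (y : G) ∈ Ds D t ∧ q y ∈ Subgroup.centralizer (Xb : Set Q)} := by
      ext e
      constructor
      · rintro ⟨he, he'⟩
        rw [hE] at he
        obtain ⟨y, hy, rfl⟩ := he
        exact ⟨y, ⟨hy, he'⟩, rfl⟩
      · rintro ⟨y, ⟨hy, hy'⟩, rfl⟩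
        exact ⟨by rw [hE]; exact ⟨y, hy, rfl⟩, hy'⟩
    obtain ⟨gk, gc, gn, gsub, gchain⟩ := hg
    have hcent : Nat.card ↥(Subgroup.centralizer (X : Set G) ⊓ C) = 2 * c := by
      rw [← Nat.card_congr (Subgroup.subgroupOfEquivOfLe (inf_le_right : Subgroup.centralizer (X : Set G) ⊓ C ≤ C)).toEquiv,
        show (Subgroup.centralizer (X : Set G) ⊓ C).subgroupOf C = (Subgroup.centralizer (Xb : Set Q)).comap q from
          Subgroup.ext fun g => by
            simp only [Subgroup.mem_subgroupOf, Subgroup.mem_inf, Subgroup.mem_comap]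
            exact ⟨fun h => (hmemX g).mp h.1, fun h => ⟨(hmemX g).mpr h, g.2⟩⟩, hcomap, gc]
    have hnorm : Nat.card ↥(Subgroup.normalizer (X : Set G) ⊓ C) = 8 * c := by
      rw [← Nat.card_congr (Subgroup.subgroupOfEquivOfLe (inf_le_right : Subgroup.normalizer (X : Set G) ⊓ C ≤ C)).toEquiv,
        show (Subgroup.normalizer (X : Set G) ⊓ C).subgroupOf C = (Subgroup.normalizer (Xb : Set Q)).comap q from
          Subgroup.ext fun g => by
            simp only [Subgroup.mem_subgroupOf, Subgroup.mem_inf, Subgroup.mem_comap]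
            constructor
            · rintro ⟨h1, -⟩
              refine Eleven.mem_norm ?_
              rintro _ ⟨x, hx, rfl⟩
              exact ⟨g * x * g⁻¹, (Subgroup.mem_normalizer_iff.mp h1 x).mp hx, by simp⟩
            · refine fun h1 => ⟨Eleven.mem_norm fun x hx => ?_, g.2⟩
              refine hlift (g * ⟨x, hXC hx⟩ * g⁻¹) ?_ ?_
              · rw [conj_pow, hpow ⟨x, hXC hx⟩ hx, mul_one, mul_inv_cancel]
              · rw [map_mul, map_mul, map_inv]
                exact (Subgroup.mem_normalizer_iff.mp h1 _).mp ⟨⟨x, hXC hx⟩, hx, rfl⟩, hcomap, gn]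
      ring
    refine ⟨htfx, ?_, ?_, ?_, ?_, hC ▸ hcent, hC ▸ hnorm, ?_, ?_⟩
    · rw [show nr D X t = fx D X ∩ Ds D t from rfl, hnear, Set.ncard_image_of_injective _ Subtype.val_injective,
        ← Set.InjOn.ncard_image (hinj.mono fun y hy => hy.1), ← hS'eq, gk]
    · intro b hb
      rw [show nr D X t = fx D X ∩ Ds D t from rfl, hnear] at hb ⊢
      obtain ⟨b, ⟨db, hb⟩, rfl⟩ := hb
      have hbS : q b ∈ fx E Xb := ⟨by rw [hE]; exact ⟨b, db, rfl⟩, hb⟩
      rw [← (gsub _ hbS).1]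
      have e1 : Subtype.val '' {y : C | (y : G) ∈ Ds D t ∧ q y ∈ Subgroup.centralizer (Xb : Set Q)} ∩ Ds D b =
          Subtype.val '' {y : C | ((y : G) ∈ Ds D t ∧ q y ∈ Subgroup.centralizer (Xb : Set Q)) ∧ (y : G) ∈ Ds D b} := by
        ext z
        exact ⟨fun ⟨⟨y, hy, e⟩, hz⟩ => ⟨y, ⟨hy, e ▸ hz⟩, e⟩, fun ⟨y, hy, e⟩ => ⟨⟨y, hy.1, e⟩, e ▸ hy.2⟩⟩
      rw [e1, Set.ncard_image_of_injective _ Subtype.val_injective, ← Set.InjOn.ncard_image (hinj.mono fun y hy => hy.1.1)]
      congr 1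
      ext z
      constructor
      · rintro ⟨y, ⟨⟨dy, hy⟩, hyb⟩, rfl⟩
        have hyE : q y ∈ E := by rw [hE]; exact ⟨y, dy, rfl⟩
        exact ⟨⟨hyE, hy⟩, hyE, fun e => hyb.2.1 (congrArg Subtype.val (hinj dy db e)),
          Commute.map (show Commute b y from Subtype.ext hyb.2.2) q⟩
      · rintro ⟨⟨hz, hz'⟩, -, hne, hc⟩
        rw [hE] at hz
        obtain ⟨y, dy, rfl⟩ := hz
        exact ⟨y, ⟨⟨dy, hz'⟩, dy.1, fun e => hne (congrArg q (Subtype.ext e)), hcomm b y db dy hc⟩, rfl⟩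
    · intro hj b hb x hx y hy hxy hc
      rw [show nr D X t = fx D X ∩ Ds D t from rfl, hnear] at hb hx hy
      obtain ⟨b, ⟨db, hb⟩, rfl⟩ := hb
      obtain ⟨⟨x, ⟨dx, hx⟩, rfl⟩, xb⟩ := hx
      obtain ⟨⟨y, ⟨dy, hy⟩, rfl⟩, yb⟩ := hy
      have mk : ∀ w : C, (w : G) ∈ Ds D t → q w ∈ Subgroup.centralizer (Xb : Set Q) → (w : G) ∈ Ds D b →
          q w ∈ fx E Xb ∩ Ds E (q b) := fun w dw hw' wb =>
        ⟨⟨by rw [hE]; exact ⟨w, dw, rfl⟩, hw'⟩, by rw [hE]; exact ⟨w, dw, rfl⟩,
          fun e => wb.2.1 (congrArg Subtype.val (hinj dw db e)), Commute.map (show Commute b w from Subtype.ext wb.2.2) q⟩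
      exact (gsub _ ⟨by rw [hE]; exact ⟨b, db, rfl⟩, hb⟩).2 hj (q x) (mk x dx hx xb) (q y) (mk y dy hy yb)
        (fun e => hxy (congrArg Subtype.val (hinj dx dy e))) (Commute.map (show Commute x y from Subtype.ext hc) q)
    · intro hj
      obtain ⟨v, hv, h1, h2, h3⟩ := gchain hj
      have hw : ∀ i, ∃ y : C, ((y : G) ∈ Ds D t ∧ q y ∈ Subgroup.centralizer (Xb : Set Q)) ∧ q y = v i := fun i => by
        have := hv i
        rw [hS'eq] at this
        obtain ⟨y, hy, e⟩ := this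
        exact ⟨y, hy, e⟩
      choose w hw hwv using hw
      refine ⟨fun i => (w i : G), fun i => ?_, fun i l hil => ?_, fun i l hil hc => h2 i l hil ?_, fun e => h3 ?_⟩
      · rw [show nr D X t = fx D X ∩ Ds D t from rfl, hnear]
        exact ⟨w i, hw i, rfl⟩
      · exact hcomm _ _ (hw i).1 (hw l).1 (by rw [hwv, hwv]; exact h1 i l hil)
      · rw [← hwv, ← hwv]
        exact Commute.map (show Commute (w i) (w l) from Subtype.ext hc) q
      · rw [← hwv, ← hwv, show w 0 = w 2 from Subtype.ext e]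
    -- the fixed points in the far set
    · letI : MulAction X {y : G // y ∈ D ∧ ¬ Commute t y} :=
        { smul := fun x y => ⟨x * y * (x : G)⁻¹, cls_conj hD _ y.2.1, fun h => y.2.2 ((commute_cj_iff (x : G)).mp (by
            rwa [show (x : G) * t * (x : G)⁻¹ = t by rw [(hCm x).mp (hXC x.2), mul_inv_cancel_right]]))⟩
          one_smul := fun y => Subtype.ext (by show (1 : G) * y * (1 : G)⁻¹ = y; simp)
          mul_smul := fun x x' y => Subtype.ext (by
            show ((x : G) * x') * y * ((x : G) * x')⁻¹ = x * (x' * y * (x' : G)⁻¹) * (x : G)⁻¹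
            group) }
      have hPG : IsPGroup 5 X := IsPGroup.of_card (n := 1) (by rw [hX, pow_one])
      have hmod := hPG.card_modEq_card_fixedPoints {y : G // y ∈ D ∧ ¬ Commute t y}
      have e1 : Nat.card {y : G // y ∈ D ∧ ¬ Commute t y} = n - 1 - m := by
        have : {y : G | y ∈ D ∧ ¬ Commute t y} = D \ insert t (Ds D t) := by
          ext c
          simp only [Set.mem_ofPred_eq, Set.mem_diff, Set.mem_insert_iff, Ds]
          refine ⟨fun h => ⟨h.1, ?_⟩, fun h => ⟨h.1, fun hc => h.2 ?_⟩⟩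
          · rintro (rfl | h')
            · exact h.2 (Commute.refl _)
            · exact h.2 h'.2.2
          · by_cases e : c = t
            · exact Or.inl e
            · exact Or.inr ⟨h.1, e, hc⟩
        show Nat.card ↥{y : G | y ∈ D ∧ ¬ Commute t y} = _
        rw [Nat.card_coe_set_eq, this, Set.ncard_diff (Set.insert_subset ht fun c hc => hc.1),
          Set.ncard_insert_of_notMem (fun h => h.2.1 rfl), hn, hm]
        omega
      have e2 : Nat.card (MulAction.fixedPoints X {y : G // y ∈ D ∧ ¬ Commute t y}) =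
          {y | y ∈ fx D X ∧ ¬ Commute t y}.ncard := by
        rw [← Nat.card_coe_set_eq]
        refine Nat.card_congr
          { toFun := fun y => ⟨y.1.1, ⟨y.1.2.1, Subgroup.mem_centralizer_iff.mpr fun x hx =>
              mul_inv_eq_iff_eq_mul.mp (congrArg Subtype.val (y.2 ⟨x, hx⟩))⟩, y.1.2.2⟩
            invFun := fun y => ⟨⟨y.1, y.2.1.1, y.2.2⟩, fun x => Subtype.ext (mul_inv_eq_iff_eq_mul.mpr
              (Subgroup.mem_centralizer_iff.mp y.2.1.2 x x.2))⟩
            left_inv := fun y => rfl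
            right_inv := fun y => rfl }
      rw [e1, e2] at hmod
      exact hmod.symm
    · intro hP c0 hc0 y hy
      obtain ⟨g, hg', hgy⟩ := rank_three_far hD hp hw ht c0 hc0.1.1 hc0.2 y hy.1.1 hy.2
      set K := C ⊓ Subgroup.centralizer ({y} : Set G)
      have hXK : X ≤ K := le_inf hXC fun x hx => Subgroup.mem_centralizer_singleton_iff.mpr
        (Subgroup.mem_centralizer_iff.mp hy.1.2 x hx)
      have hgC : g ∈ C := (hCm g).mpr hg'.eq
      have hYK : X.map (MulAut.conj g).toMonoidHom ≤ K := by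
        rintro _ ⟨x, hx, rfl⟩
        refine ⟨C.mul_mem (C.mul_mem hgC (hXC hx)) (C.inv_mem hgC), Subgroup.mem_centralizer_singleton_iff.mpr ?_⟩
        rw [← hgy]
        exact ((commute_cj_iff g).mpr (show Commute x c0 from Subgroup.mem_centralizer_iff.mp hc0.1.2 x hx)).eq
      obtain ⟨k, hk, hkX⟩ := conj_in (hfarK hP y hy.1.1 hy.2) (by rw [Eleven.card_map, hX]) hX hYK hXK
      refine ⟨k * g, ⟨Eleven.mem_norm fun x hx => ?_, hC ▸ C.mul_mem hk.1 hgC⟩, ?_⟩
      · rw [← cj_cj, ← hkX]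
        exact ⟨g * x * g⁻¹, ⟨x, hx, rfl⟩, rfl⟩
      · rw [← cj_cj, hgy]
        exact mul_inv_eq_iff_eq_mul.mpr (Subgroup.mem_centralizer_singleton_iff.mp hk.2)
  subst hC
  have hgD : ∀ g : G, MulAut.conj g '' D = D := fun g => Set.eq_of_subset_of_ncard_le
    (by rintro _ ⟨d, hd, rfl⟩; exact cls_conj hD g hd)
    (Set.ncard_image_of_injective _ (MulAut.conj g).injective).ge
  have toBase : ∀ X : Subgroup G, Nat.card X = 5 → ∀ s ∈ fx D X, ∃ k' : G, k' * t * k'⁻¹ = s ∧
      X.map (MulAut.conj k'⁻¹).toMonoidHom ≤ Subgroup.centralizer ({t} : Set G) := by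
    intro X hX s hs
    obtain ⟨k', hk'⟩ := cls_exists_conj hD ht hs.1
    refine ⟨k', hk', ?_⟩
    rintro _ ⟨x, hx, rfl⟩
    refine Subgroup.mem_centralizer_singleton_iff.mpr ?_
    have := (commute_cj_iff k'⁻¹).mpr (show Commute x s from Subgroup.mem_centralizer_iff.mp hs.2 x hx)
    rw [show k'⁻¹ * s * k'⁻¹⁻¹ = t by rw [← hk']; group] at this
    exact this.eq
  refine ⟨fun X Y hX hY ⟨s, hs⟩ ⟨r, hr⟩ => ?_, ?_, fun X hX s hs => ?_⟩
  · obtain ⟨k, -, hkX⟩ := toBase X hX s hs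
    obtain ⟨l, -, hlY⟩ := toBase Y hY r hr
    obtain ⟨c, -, hc⟩ := hconjC _ _ (by rw [Eleven.card_map, hX]) (by rw [Eleven.card_map, hY]) hkX hlY
    refine ⟨l * c * k⁻¹, ?_⟩
    have e : (Y.map (MulAut.conj l⁻¹).toMonoidHom).map (MulAut.conj l).toMonoidHom = Y := by
      ext x; simp [Subgroup.mem_map, mul_assoc]
    rw [← e, ← hc]
    ext x
    simp [Subgroup.mem_map, mul_assoc]
  · obtain ⟨x₀, hx₀⟩ := exists_prime_orderOf_dvd_card' (G := Subgroup.centralizer ({t} : Set G)) 5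
      (by rw [hcC]; exact dvd_mul_of_dvd_right ha 2)
    exact ⟨(Subgroup.zpowers x₀).map (Subgroup.centralizer ({t} : Set G)).subtype, by
      rw [Subgroup.card_map_of_injective (Subgroup.subtype_injective _), Nat.card_zpowers, hx₀],
      Subgroup.map_subtype_le _⟩
  obtain ⟨k', hk', hXs⟩ := toBase X hX s hs
  have h1 := (main _ (by rw [Eleven.card_map, hX]) hXs).map (MulAut.conj k') (hgD k')
  have e : (X.map (MulAut.conj k'⁻¹).toMonoidHom).map (MulAut.conj k').toMonoidHom = X := by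
    ext x
    simp [Subgroup.mem_map, mul_assoc]
  rw [e, show MulAut.conj k' t = s from hk'] at h1
  exact h1

/-- The normaliser as a product, once the orders are known. -/
theorem product {D : Set G} {X : Subgroup G} (hX : Nat.card X = 5)
    (hF : Nat.card ↥(Subgroup.normalizer (X : Set G) ⊓ Subgroup.centralizer (fx D X)) = 20)
    (hC : Nat.card ↥(Subgroup.centralizer (X : Set G) ⊓ Subgroup.centralizer (fx D X)) = 5)
    (hN : Nat.card ↥(Subgroup.normalizer (X : Set G)) = 20 * Nat.card ↥(Subgroup.closure (fx D X)))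
    (h5 : X ⊓ Subgroup.closure (fx D X) = ⊥) :
    ∃ F : Subgroup G, Nat.card F = 20 ∧ X ≤ F ∧ F ⊓ Subgroup.centralizer (X : Set G) = X ∧
      F ⊓ Subgroup.closure (fx D X) = ⊥ ∧ (∀ x ∈ F, ∀ y ∈ Subgroup.closure (fx D X), x * y = y * x) ∧
      F ⊔ Subgroup.closure (fx D X) = Subgroup.normalizer (X : Set G) := by
  haveI : Fact (Nat.Prime 5) := ⟨by norm_num⟩
  set S := fx D X
  set V := Subgroup.closure S
  set F := Subgroup.normalizer (X : Set G) ⊓ Subgroup.centralizer S
  have hVX : V ≤ Subgroup.centralizer (X : Set G) := (Subgroup.closure_le _).mpr fun y hy => hy.2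
  have hXS : X ≤ Subgroup.centralizer S := fun x hx => Subgroup.mem_centralizer_iff.mpr fun y hy =>
    (Subgroup.mem_centralizer_iff.mp hy.2 x hx).symm
  have hVc : ∀ g ∈ F, ∀ v ∈ V, g * v = v * g := by
    intro g hg v hv
    have : V ≤ Subgroup.centralizer ({g} : Set G) := (Subgroup.closure_le _).mpr fun y hy =>
      Subgroup.mem_centralizer_singleton_iff.mpr (Subgroup.mem_centralizer_iff.mp hg.2 y hy)
    exact (Subgroup.mem_centralizer_singleton_iff.mp (this hv)).symm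
  have hXF : X ≤ F := le_inf Subgroup.le_normalizer hXS
  have hXC : X ≤ Subgroup.centralizer (X : Set G) := by
    haveI : IsCyclic X := isCyclic_of_prime_card (p := 5) hX
    exact fun x hx => Subgroup.mem_centralizer_iff.mpr fun y hy =>
      congrArg Subtype.val (IsCyclic.commGroup.mul_comm (⟨y, hy⟩ : X) ⟨x, hx⟩)
  have hFX : F ⊓ Subgroup.centralizer (X : Set G) = X := by
    refine (Subgroup.eq_of_le_of_card_ge (le_inf hXF hXC) ?_).symm
    rw [hX, ← hC]
    exact Subgroup.card_le_of_le (le_inf inf_le_right (inf_le_left.trans inf_le_right))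
  have hbot : F ⊓ V = ⊥ := by
    refine le_bot_iff.mp ((show F ⊓ V ≤ X ⊓ V from le_inf ((le_inf inf_le_left (inf_le_right.trans hVX)).trans hFX.le)
      inf_le_right).trans (le_of_eq h5))
  refine ⟨F, hF, hXF, hFX, hbot, hVc, ?_⟩
  refine Subgroup.eq_of_le_of_card_ge (sup_le inf_le_left (hVX.trans (Subgroup.centralizer_le_normalizer _))) ?_
  rw [hN, ← hF, ← Nat.card_prod]
  refine Nat.card_le_card_of_injective (fun p : F × V => (⟨p.1 * p.2, Subgroup.mul_mem_sup p.1.2 p.2.2⟩ :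
    ↥(F ⊔ V))) fun p r e => ?_
  have e' : (p.1 : G) * p.2 = r.1 * r.2 := congrArg Subtype.val e
  have e1 : (r.1 : G)⁻¹ * p.1 = r.2 * (p.2 : G)⁻¹ := by
    rw [eq_mul_inv_iff_mul_eq, mul_assoc, e']; group
  have hm : (r.1 : G)⁻¹ * p.1 ∈ F ⊓ V := Subgroup.mem_inf.mpr
    ⟨F.mul_mem (F.inv_mem r.1.2) p.1.2, e1 ▸ V.mul_mem r.2.2 (V.inv_mem p.2.2)⟩
  rw [hbot, Subgroup.mem_bot, inv_mul_eq_one] at hm
  refine Prod.ext (Subtype.ext hm.symm) (Subtype.ext ?_)
  rw [← hm] at e'
  exact mul_left_cancel e'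

end CfsgThreeTrans.Five
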