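/-
A subgroup of odd prime order, free in a rank-three action, whose automiser has order two: exceptional
characters give divisibility conditions on the degrees of the constituents.
-/
import Cfsg.Agent.Lib.CharTheory.PermChar
import Cfsg.Agent.Lib.ThreeTrans.M22.ThirteenChar
import Cfsg.Agent.Lib.ThreeTrans.Eleven
import Cfsg.Agent.Lib.CharTheory.ThreeDegrees

set_option autoImplicit false
set_option linter.unusedSectionVars false

namespace CfsgThreeTrans.ExceptChar

open Cfsg CfsgLib CfsgLib.CharTheory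
open scoped ComplexConjugate

universe u

variable {G : Type u} [Group G] [Finite G]

set_option maxHeartbeats 1000000 in
/-- The automiser of a free subgroup of odd prime order does not have order two. -/
theorem no_two {p n v : ℕ} (hp : p.Prime) (hodd : p ≠ 2) (hdeg : ∀ d, d < v - 1 → d ∣ Nat.card G → (v - 1 - d) ∣ Nat.card G → 2 ≤ d →
      ¬ (d - 1) ∣ Nat.card G) {X C N H : Subgroup G} (hX : Nat.card X = p)
    (hC : C = Subgroup.centralizer (X : Set G)) (hN : N = Subgroup.normalizer (X : Set G))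
    (hCn : Nat.card C = p * n) (hn : Nat.Coprime p n) (hN2 : Nat.card N = 2 * (p * n)) (hH : H.index = v)
    (hfree : ∀ y ∈ C, y ^ n ≠ 1 → ∀ g : G, g⁻¹ * y * g ∉ H)
    (hsum : Nat.card {p : H × G // p.2⁻¹ * (p.1 : G) * p.2 ∈ H} = 3 * Nat.card H * Nat.card H) : False := by
  classical
  haveI : Fintype G := Fintype.ofFinite G
  haveI : Fintype C := Fintype.ofFinite C
  haveI : Fintype H := Fintype.ofFinite H
  haveI : Fact p.Prime := ⟨hp⟩
  obtain ⟨j2, hj2⟩ := hp.odd_of_ne_two hodd
  have hp1 := hp.one_lt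
  have hn0 : 0 < n := Nat.pos_of_ne_zero fun k => by
    have h' := Nat.card_pos (α := C)
    rw [hCn, k, mul_zero] at h'
    exact lt_irrefl 0 h'
  have hpn : 0 < p * n := Nat.mul_pos hp.pos hn0
  have hCN : C ≤ N := by rw [hC, hN]; exact Subgroup.centralizer_le_normalizer _
  obtain ⟨x', hx'⟩ := exists_prime_orderOf_dvd_card' (G := X) p (by rw [hX])
  set x : G := (x' : G)
  have hx : orderOf x = p := by rw [Subgroup.orderOf_coe]; exact hx'
  haveI : IsCyclic X := isCyclic_of_prime_card hX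
  have hXC : X ≤ C := by
    rw [hC]
    exact fun y hy => Subgroup.mem_centralizer_iff.mpr fun z hz =>
      congrArg Subtype.val (IsCyclic.commGroup.mul_comm (⟨z, hz⟩ : X) ⟨y, hy⟩)
  have hXN : X ≤ N := hXC.trans hCN
  set X' := X.subgroupOf C
  have hXc : X' ≤ Subgroup.center C := fun z hz => Subgroup.mem_center_iff.mpr fun g =>
    Subtype.ext (Subgroup.mem_centralizer_iff.mp (hC ▸ g.2 : (g : G) ∈ Subgroup.centralizer (X : Set G)) _ hz).symm
  haveI : X'.Normal := ⟨fun z hz g => by
    rw [Subgroup.mem_center_iff.mp (hXc hz) g, mul_inv_cancel_right]; exact hz⟩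
  have hX17 : Nat.card X' = p := by rw [Nat.card_congr (Subgroup.subgroupOfEquivOfLe hXC).toEquiv, hX]
  have hidxX : X'.index = n := by
    have := X'.card_mul_index
    rw [hX17, hCn] at this
    exact Nat.eq_of_mul_eq_mul_left hp.pos this
  obtain ⟨m, hm⟩ : (Subgroup.center C).index ∣ n := hidxX ▸ Subgroup.index_dvd_of_le hXc
  let Z := Subgroup.center C
  letI : CommGroup Z := { (inferInstance : Group Z) with
    mul_comm := fun a b => Subtype.ext (Subgroup.mem_center_iff.mp b.2 a) }
  let ex : C →* Z := (powMonoidHom m).comp (MonoidHom.transferCenterPow C)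
  have hex : ∀ y : C, ((ex y : Z) : C) = y ^ n := fun y => by
    show (y ^ (Subgroup.center C).index) ^ m = _
    rw [← pow_mul, ← hm]
  set xC : C := ⟨x, hXC x'.2⟩
  have hxC : orderOf xC = p := by rw [← Subgroup.orderOf_coe]; exact hx
  obtain ⟨μ, hμ⟩ := CommGroup.exists_apply_ne_one_of_hasEnoughRootsOfUnity Z ℂ (a := ex xC) (by
    intro e
    have e' : xC ^ n = 1 := by rw [← hex, e]; rfl
    have := orderOf_dvd_of_pow_eq_one e'
    rw [hxC] at this
    have := Nat.eq_one_of_dvd_coprimes hn dvd_rfl this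
    omega)
  let lamHom : C →* ℂˣ := μ.comp ex
  let lam : C → ℂ := fun y => (lamHom y : ℂ)
  have lmul : ∀ a b, lam (a * b) = lam a * lam b := fun a b => by simp only [lam, map_mul, Units.val_mul]
  have l1 : lam 1 = 1 := by simp [lam]
  have linv : ∀ a, lam a⁻¹ * lam a = 1 := fun a => by rw [← lmul, inv_mul_cancel, l1]
  have lcj : ∀ a b : C, lam (a⁻¹ * b * a) = lam b := fun a b => by
    rw [lmul, lmul, mul_comm (lam a⁻¹) (lam b), mul_assoc, linv, mul_one]
  have hlx : lam xC ≠ 1 := fun e => hμ (Units.ext e)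
  have l17 : ∀ y : C, lam y ^ p = 1 := fun y => by
    have e : ex y ^ p = 1 := Subtype.ext (by
      show ((ex y : Z) : C) ^ p = 1
      rw [hex, ← pow_mul, mul_comm, ← hCn]; exact pow_card_eq_one')
    simp only [lam, lamHom, MonoidHom.comp_apply]
    rw [← Units.val_pow_eq_pow_val, ← map_pow, e, map_one, Units.val_one]
  have lconj : ∀ y : C, conj (lam y) = lam y⁻¹ := fun y => by
    have hn' : ‖lam y‖ = 1 := Complex.norm_eq_one_of_pow_eq_one (l17 y) (by omega)
    rw [← Complex.inv_eq_conj hn']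
    exact inv_eq_of_mul_eq_one_left (linv y)
  have orth : ∀ φ : C → ℂ, (∀ a b, φ (a * b) = φ a * φ b) → φ xC ≠ 1 → ∑ y : C, φ y = 0 := by
    intro φ hφ hne
    have e : ∑ y : C, φ y = φ xC * ∑ y : C, φ y := by
      rw [Finset.mul_sum, ← Equiv.sum_comp (Equiv.mulLeft xC)]
      exact Finset.sum_congr rfl fun y _ => hφ xC y
    have : (φ xC - 1) * ∑ y : C, φ y = 0 := by rw [sub_mul, one_mul, ← e, sub_self]
    exact (mul_eq_zero.mp this).resolve_left (sub_ne_zero.mpr hne)
  have s1 : ∑ y : C, lam y = 0 := orth lam lmul hlx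
  have s2 : ∑ y : C, lam y ^ 2 = 0 := orth (fun y => lam y ^ 2) (fun a b => by simp only [lmul, mul_pow]) (fun e => by
    refine hlx ?_
    have := l17 xC
    rw [hj2, pow_succ, pow_mul, e, one_pow, one_mul] at this
    exact this)
  have si : ∑ y : C, lam y⁻¹ = 0 := by
    rw [← s1]; exact Equiv.sum_comp (Equiv.inv C) lam
  -- the function to be induced
  let f : C → ℂ := fun y => 1 - lam y
  have hcardC : (Fintype.card C : ℂ) = ((p * n : ℕ) : ℂ) := by
    rw [← Nat.card_eq_fintype_card, hCn]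
  have hCne : ((p * n : ℕ) : ℂ) ≠ 0 := Nat.cast_ne_zero.mpr (by omega)
  have hfgen : IsGeneralizedCharacter C f := by
    refine isGenChar_sub (isGenChar_of_char (isCharacter_one (G := C))) (isGenChar_of_char ?_)
    exact isCharacter_of_irr (isIrrCharacter_linear lamHom)
  -- fusion
  have hpowX : ∀ y : C, (y : G) ^ n ∈ X := by
    intro y
    have := Subgroup.pow_index_mem X' y
    rw [hidxX] at this
    exact Subgroup.mem_subgroupOf.mp this
  have hcube : ∀ y : C, lam y ≠ 1 → ((y : G) ^ n ∈ X ∧ (y : G) ^ n ≠ 1) := by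
    intro y hy
    refine ⟨hpowX y, fun e => hy ?_⟩
    have e' : ex y = 1 := Subtype.ext ((hex y).trans (Subtype.ext e))
    simp only [lam, lamHom, MonoidHom.comp_apply]
    rw [e', map_one, Units.val_one]
  have hgenX : ∀ z ∈ X, z ≠ 1 → Subgroup.zpowers z = X := fun z hz hne =>
    Subgroup.eq_of_le_of_card_ge (Subgroup.zpowers_le.mpr hz) (by
      rw [hX, Nat.card_zpowers, orderOf_eq_prime (p := p) (by
        have := pow_card_eq_one' (G := X) (x := ⟨z, hz⟩)
        rw [hX] at this
        exact congrArg Subtype.val this) hne])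
  set θ := indFun C f
  have hθgen : IsGeneralizedCharacter G θ := isGenChar_indFun C hfgen
  have hnormC : ∀ g ∈ N, ∀ y : C, g⁻¹ * (y : G) * g ∈ C := by
    intro g hg y
    refine hC.ge (Subgroup.mem_centralizer_iff.mpr fun z hz => ?_)
    have hz' : g * z * g⁻¹ ∈ X := (Subgroup.mem_normalizer_iff.mp (hN ▸ hg) z).mp hz
    have := Subgroup.mem_centralizer_iff.mp (hC ▸ y.2 : (y : G) ∈ Subgroup.centralizer (X : Set G)) _ hz'
    calc z * (g⁻¹ * y * g) = g⁻¹ * (g * z * g⁻¹ * y) * g := by group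
      _ = g⁻¹ * (y * (g * z * g⁻¹)) * g := by rw [this]
      _ = g⁻¹ * y * g * z := by group
  have hext : ∀ y : C, lam y ≠ 1 → ∀ g : G, g ∉ N → extendByZero C f (g⁻¹ * y * g) = 0 := by
    intro y hy g hg
    by_cases hm : g⁻¹ * (y : G) * g ∈ C
    · rw [extendByZero_of_mem _ _ hm]
      by_contra hne
      have hz := hcube ⟨_, hm⟩ (fun e => hne (by simp only [f, e, sub_self]))
      have hy3 := hcube y hy
      refine hg ?_
      have hz' : g⁻¹ * ((y : G) ^ n) * g ∈ X := by
        have h' : (g⁻¹ * (y : G) * g) ^ n ∈ X := hz.1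
        rwa [show g⁻¹ * (y : G) * g = g⁻¹ * (y : G) * g⁻¹⁻¹ by rw [inv_inv], conj_pow, inv_inv] at h'
      rw [hN]
      refine inv_inv g ▸ inv_mem (Eleven.mem_norm fun z hzX => ?_)
      rw [← hgenX _ hy3.1 hy3.2] at hzX
      obtain ⟨k, rfl⟩ := Subgroup.mem_zpowers_iff.mp hzX
      rw [show g⁻¹ * ((y : G) ^ n) ^ k * g⁻¹⁻¹ = (g⁻¹ * (y : G) ^ n * g⁻¹⁻¹) ^ k from (conj_zpow ..).symm,
        inv_inv]
      exact zpow_mem hz' k
    · exact extendByZero_of_not_mem _ _ hm
  -- the two cosets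
  obtain ⟨w, hnN, hnC⟩ : ∃ w ∈ N, w ∉ C := by
    by_contra h
    push Not at h
    have := Nat.le_of_dvd Nat.card_pos (Subgroup.card_dvd_of_le (show N ≤ C from h))
    rw [hN2, hCn] at this
    omega
  have hidx : (C.subgroupOf N).index = 2 := by
    have := (C.subgroupOf N).card_mul_index
    rw [Nat.card_congr (Subgroup.subgroupOfEquivOfLe hCN).toEquiv, hCn, hN2, mul_comm 2] at this
    exact Nat.eq_of_mul_eq_mul_left (by omega) this
  have hinvx : w⁻¹ * x * w = x⁻¹ := by
    have h2 : w * w ∈ C := Subgroup.mul_self_mem_of_index_two hidx (⟨w, hnN⟩ : N)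
    have hxm : w⁻¹ * x * w ∈ X := by
      have := (Subgroup.mem_normalizer_iff.mp (inv_mem (hN ▸ hnN)) x).mp x'.2
      rwa [inv_inv] at this
    have hxne : x ≠ 1 := fun e => by rw [e, orderOf_one] at hx; omega
    obtain ⟨k, hk⟩ := Subgroup.mem_zpowers_iff.mp ((hgenX x x'.2 hxne).symm ▸ hxm : w⁻¹ * x * w ∈ Subgroup.zpowers x)
    have hcj : ∀ j : ℤ, w⁻¹ * x ^ j * w = (w⁻¹ * x * w) ^ j := fun j => by
      rw [show w⁻¹ * x * w = w⁻¹ * x * w⁻¹⁻¹ by rw [inv_inv], conj_zpow, inv_inv]
    have hk2 : x ^ (k * k) = x := by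
      have hc : (w * w)⁻¹ * x * (w * w) = x := by
        have := Subgroup.mem_centralizer_iff.mp (hC ▸ h2 : w * w ∈ Subgroup.centralizer (X : Set G)) x x'.2
        rw [mul_assoc, this, ← mul_assoc, inv_mul_cancel, one_mul]
      rw [zpow_mul, hk, ← hcj, hk]
      conv_rhs => rw [← hc]
      group
    have hd : (p : ℤ) ∣ k * k - 1 := by
      have : x ^ (k * k - 1) = 1 := by rw [zpow_sub_one, hk2, mul_inv_cancel]
      have := orderOf_dvd_iff_zpow_eq_one.mpr this
      rwa [hx] at this
    have hp' : Prime (p : ℤ) := Int.prime_iff_natAbs_prime.mpr (by simpa using hp)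
    rcases hp'.dvd_or_dvd (show (p : ℤ) ∣ (k - 1) * (k + 1) by rwa [show (k - 1) * (k + 1) = k * k - 1 by ring])
      with h | h
    · exfalso
      have e : x ^ (k - 1) = 1 := orderOf_dvd_iff_zpow_eq_one.mp (by rw [hx]; exact h)
      rw [zpow_sub_one, mul_inv_eq_one, hk] at e
      refine hnC ?_
      rw [hC, Subgroup.mem_centralizer_iff]
      intro z hz
      rw [← hgenX x x'.2 hxne] at hz
      obtain ⟨j, rfl⟩ := Subgroup.mem_zpowers_iff.mp hz
      have : Commute x w := by
        show x * w = w * x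
        conv_rhs => rw [← e]
        group
      exact (this.zpow_left j).eq
    · rw [← hk]
      have e : x ^ (k + 1) = 1 := orderOf_dvd_iff_zpow_eq_one.mp (by rw [hx]; exact h)
      rw [zpow_add_one] at e
      exact eq_inv_of_mul_eq_one_left e
  have hlinv : ∀ y : C, ∀ (h : w⁻¹ * (y : G) * w ∈ C), lam ⟨_, h⟩ = lam y⁻¹ := by
    intro y hm
    have hxne : x ≠ 1 := fun e => by rw [e, orderOf_one] at hx; omega
    obtain ⟨k, hk⟩ := mem_powers_iff_mem_zpowers.mpr ((hgenX x x'.2 hxne).symm ▸ hpowX y : (y : G) ^ n ∈ Subgroup.zpowers x)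
    have hk' : (y : G) ^ n = x ^ k := hk.symm
    have e : ex ⟨_, hm⟩ = ex y⁻¹ := by
      refine Subtype.ext ?_
      rw [hex, hex]
      refine Subtype.ext ?_
      show (w⁻¹ * (y : G) * w) ^ n = ((y : G)⁻¹) ^ n
      rw [inv_pow, hk', ← inv_pow, ← hinvx, show w⁻¹ * (y : G) * w = w⁻¹ * (y : G) * w⁻¹⁻¹ by rw [inv_inv],
        show w⁻¹ * x * w = w⁻¹ * x * w⁻¹⁻¹ by rw [inv_inv], conj_pow, conj_pow, hk']
    simp only [lam, lamHom, MonoidHom.comp_apply]
    rw [e]
  have hθval : ∀ y : C, lam y ≠ 1 → θ y = 2 - lam y - lam y⁻¹ := by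
    intro y hy
    show (Nat.card C : ℂ)⁻¹ * _ = _
    have hval : ∀ g : G, extendByZero C f (g⁻¹ * y * g) =
        (if g ∈ C then 1 - lam y else 0) + (if g ∈ N ∧ g ∉ C then 1 - lam y⁻¹ else 0) := by
      intro g
      by_cases hg : g ∈ N
      · rw [extendByZero_of_mem _ _ (hnormC g hg y)]
        by_cases hgC : g ∈ C
        · rw [if_pos hgC, if_neg (fun h => h.2 hgC), add_zero]
          show 1 - lam _ = _
          rw [show (⟨g⁻¹ * (y : G) * g, hnormC g hg y⟩ : C) = ⟨g, hgC⟩⁻¹ * y * ⟨g, hgC⟩ from rfl, lcj]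
        · rw [if_neg hgC, if_pos ⟨hg, hgC⟩, zero_add]
          have hc : g * w⁻¹ ∈ C := by
            have := (Subgroup.mul_mem_iff_of_index_two hidx (a := ⟨g, hg⟩) (b := ⟨w, hnN⟩⁻¹)).mpr (by
              simp only [inv_mem_iff]
              exact iff_of_false hgC hnC)
            exact this
          show 1 - lam _ = _
          rw [show (⟨g⁻¹ * (y : G) * g, hnormC g hg y⟩ : C) =
            ⟨w⁻¹ * ((⟨g * w⁻¹, hc⟩⁻¹ * y * ⟨g * w⁻¹, hc⟩ : C) : G) * w,
              hnormC w hnN _⟩ from Subtype.ext (by simp only [Subgroup.coe_mul, InvMemClass.coe_inv]; group),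
            hlinv, mul_inv_rev, mul_inv_rev, inv_inv, ← mul_assoc, lcj]
      · rw [hext y hy g hg, if_neg (fun h => hg (hCN h)), if_neg (fun h => hg h.1), add_zero]
    simp only [hval]
    rw [Finset.sum_add_distrib, ← Finset.sum_filter, ← Finset.sum_filter, Finset.sum_const, Finset.sum_const]
    have c1 : (Finset.univ.filter fun g => g ∈ C).card = p * n := by
      rw [← Fintype.card_subtype, ← Nat.card_eq_fintype_card]; exact hCn
    have c2 : (Finset.univ.filter fun g => g ∈ N ∧ g ∉ C).card = p * n := by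
      have e : (Finset.univ.filter fun g => g ∈ N ∧ g ∉ C) =
          (Finset.univ.filter fun g => g ∈ N) \ (Finset.univ.filter fun g => g ∈ C) := by ext; simp
      rw [e, Finset.card_sdiff_of_subset (fun g hg => by simp at hg ⊢; exact hCN hg), c1, ← Fintype.card_subtype,
        ← Nat.card_eq_fintype_card]
      show Nat.card N - p * n = p * n
      rw [hN2]; omega
    rw [c1, c2, hCn, nsmul_eq_mul, nsmul_eq_mul, ← mul_add, ← mul_assoc, inv_mul_cancel₀ hCne]
    ring
  have hθcf : IsClassFunction G θ := indFun_isClassFunction C f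
  have hθθ : classInner θ θ = 3 := by
    rw [frobenius_reciprocity C f hθcf]
    simp only [classInner]
    have e : ∀ y : C, f y * conj (θ y) = 3 - 3 * lam y - lam y⁻¹ + lam y ^ 2 := by
      intro y
      by_cases hy : lam y = 1
      · simp only [f, hy, sub_self, zero_mul]
        have := linv y
        rw [hy, mul_one] at this
        rw [this]; norm_num
      · rw [hθval y hy, map_sub, map_sub, lconj, lconj, inv_inv, map_ofNat]
        simp only [f]
        linear_combination linv y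
    simp only [e]
    rw [Finset.sum_add_distrib, Finset.sum_sub_distrib, Finset.sum_sub_distrib, ← Finset.mul_sum, s1, s2, si,
      Finset.sum_const, Finset.card_univ, nsmul_eq_mul, hcardC, hCn, mul_zero, sub_zero, sub_zero, add_zero,
      ← mul_assoc, inv_mul_cancel₀ hCne, one_mul]
  have hθ1 : classInner θ (fun _ => 1) = 1 := by
    rw [frobenius_reciprocity C f isClassFunction_one]
    simp only [classInner, map_one, mul_one, f]
    rw [Finset.sum_sub_distrib, s1, Finset.sum_const, Finset.card_univ, nsmul_eq_mul, hcardC, hCn, sub_zero,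
      mul_one, inv_mul_cancel₀ hCne]
  have hθone : θ 1 = 0 := by
    show indFun C f 1 = 0
    rw [indFun_apply_one]; simp [f, l1]
  -- the permutation character
  set π := indFun H (fun _ => (1 : ℂ))
  have hπch : IsCharacter G π := isCharacter_indFun H isCharacter_one
  have hπcf : IsClassFunction G π := indFun_isClassFunction H _
  have hπone : π 1 = (v : ℂ) := by
    show indFun H _ 1 = _
    rw [indFun_apply_one, hH, mul_one]
  have hππ : classInner π π = 3 := by
    rw [frobenius_reciprocity H _ hπcf]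
    have e : ∀ h : H, π h = ((Nat.card {y : G // y⁻¹ * (h : G) * y ∈ H} : ℂ)) / (Nat.card H : ℂ) := by
      intro h
      show indFun H _ _ = _
      rw [indFun_one_eq_permChar, eq_div_iff (Nat.cast_ne_zero.mpr Nat.card_pos.ne'), mul_comm]
      have := card_mul_permChar H (h : G)
      exact_mod_cast this
    simp only [classInner, e, one_mul, map_div₀, map_natCast]
    rw [← Finset.sum_div, ← Nat.cast_sum, ← Nat.card_sigma]
    have hs : Nat.card (Σ h : H, {y : G // y⁻¹ * (h : G) * y ∈ H}) = 3 * Nat.card H * Nat.card H := by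
      rw [← hsum]
      exact Nat.card_congr
        { toFun := fun p => ⟨(p.1, p.2.1), p.2.2⟩
          invFun := fun p => ⟨p.1.1, p.1.2, p.2⟩
          left_inv := fun p => rfl
          right_inv := fun p => rfl }
    rw [hs]
    have : (Nat.card H : ℂ) ≠ 0 := Nat.cast_ne_zero.mpr Nat.card_pos.ne'
    push_cast
    field_simp
  have hπ1 : classInner π (fun _ => 1) = 1 := by
    rw [frobenius_reciprocity H _ isClassFunction_one]
    simp only [classInner, map_one, mul_one]
    rw [Finset.sum_const, Finset.card_univ, nsmul_eq_mul, mul_one, ← Nat.card_eq_fintype_card,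
      inv_mul_cancel₀ (Nat.cast_ne_zero.mpr Nat.card_pos.ne')]
  have hθπ : classInner θ π = 0 := by
    rw [frobenius_reciprocity C f hπcf]
    simp only [classInner]
    rw [Finset.sum_eq_zero, mul_zero]
    intro y _
    by_cases hy : lam y = 1
    · simp [f, hy]
    · have : π (y : G) = 0 := indFun_eq_zero_of_not_isConj H _ (hfree y y.2 (hcube y hy).2)
      rw [this, map_zero, mul_zero]
  -- coefficients
  obtain ⟨c, hcθ, hcc, hcn⟩ := classInner_self_eq_sum_sq hθgen
  obtain ⟨m, hmπ, hmc, hmn⟩ := classInner_self_eq_sum_sq (isGenChar_of_char hπch)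
  rw [hθθ] at hcn
  rw [hππ] at hmn
  let one : IrrCharacter G := ⟨fun _ => 1, isIrrCharacter_one⟩
  have hc1 : c one = 1 := by exact_mod_cast (hcc one).symm.trans hθ1
  have hm1 : m one = 1 := by exact_mod_cast (hmc one).symm.trans hπ1
  obtain ⟨hcv, a', b', ha', hb', hab', hcs⟩ := M22.ThirteenChar.support_three c one (by exact_mod_cast hcn.symm) hc1
  obtain ⟨hmv, α₀, β₀, hα₀, hβ₀, hαβ₀, hms⟩ := M22.ThirteenChar.support_three m one (by exact_mod_cast hmn.symm) hm1
  have hmnn : ∀ ψ, 0 ≤ m ψ := by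
    intro ψ
    obtain ⟨k, hk⟩ := classInner_char_nat hπch (isCharacter_of_irr ψ.2)
    have : (m ψ : ℂ) = ((k : ℤ) : ℂ) := by rw [← hmc, hk]; norm_num
    rw [show m ψ = (k : ℤ) from Int.cast_injective this]
    exact Int.natCast_nonneg k
  have hmone : ∀ ψ, ψ = one ∨ ψ = α₀ ∨ ψ = β₀ → m ψ = 1 := by
    intro ψ hψ
    rcases hmv ψ with e | e | e
    · exact absurd e ((hms ψ).mpr hψ)
    · exact e
    · have := hmnn ψ; omega
  have hcm : ∑ ψ, c ψ * m ψ = 0 := by
    have : classInner θ π = ((∑ ψ, c ψ * m ψ : ℤ) : ℂ) := by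
      rw [classInner_eq_sum_irr hθcf]
      push_cast
      exact Finset.sum_congr rfl fun ψ _ => by rw [hcc, ← classInner_comm π, hmc, map_intCast]
    rw [hθπ] at this
    exact_mod_cast this.symm
  have sub3 : ∀ (g : IrrCharacter G → ℤ), (∀ ψ, m ψ = 0 → g ψ = 0) → ∑ ψ, g ψ = g one + g α₀ + g β₀ := by
    intro g hg
    rw [← Finset.sum_subset (Finset.subset_univ ({one, α₀, β₀} : Finset (IrrCharacter G))) fun ψ _ hψ => by
      refine hg ψ (not_not.mp fun h => hψ ?_)
      have := (hms ψ).mp h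
      simpa using this,
      Finset.sum_insert (by simp [hα₀.symm, hβ₀.symm]), Finset.sum_pair hαβ₀]
    ring
  rw [sub3 _ (fun ψ h => by rw [h, mul_zero]), hc1, hm1, hmone α₀ (by tauto), hmone β₀ (by tauto)] at hcm
  obtain ⟨α, β, hα, hβ, hαβ, hms', hcα⟩ : ∃ α β : IrrCharacter G, α ≠ one ∧ β ≠ one ∧ α ≠ β ∧
      (∀ ψ, m ψ ≠ 0 ↔ (ψ = one ∨ ψ = α ∨ ψ = β)) ∧ c α = -1 := by
    rcases hcv α₀ with e | e | e
    · exact ⟨β₀, α₀, hβ₀, hα₀, hαβ₀.symm, fun ψ => (hms ψ).trans (by tauto), by omega⟩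
    · have := hcv β₀; omega
    · exact ⟨α₀, β₀, hα₀, hβ₀, hαβ₀, hms, e⟩
  obtain ⟨b, hb1, hbα, hcb⟩ : ∃ b, b ≠ one ∧ b ≠ α ∧ ∀ ψ, c ψ ≠ 0 ↔ (ψ = one ∨ ψ = α ∨ ψ = b) := by
    rcases (hcs α).mp (by rw [hcα]; norm_num) with e | e | e
    · exact absurd e hα
    · exact ⟨b', hb', fun h => hab' (by rw [← e, h]), fun ψ => by rw [hcs ψ, e]⟩
    · exact ⟨a', ha', fun h => hab' (by rw [h, e]), fun ψ => by rw [hcs ψ, e]; tauto⟩
  choose d hd hdeq using fun φ : IrrCharacter G => irr_degree_pos φ.2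
  have hd1 : d one = 1 := by
    have := hdeq one
    have h' : ((1 : ℕ) : ℂ) = (d one : ℂ) := by rw [← this]; norm_num [one]
    exact_mod_cast h'.symm
  have hdvd : ∀ φ : IrrCharacter G, d φ ∣ Nat.card G := by
    intro φ
    have := ThreeDegrees.degree_dvd_card φ.2
    rwa [show charDegree (φ : G → ℂ) = d φ by simp [charDegree, hdeq]] at this
  have eθ : (0 : ℤ) = ∑ φ, c φ * (d φ : ℤ) := by
    have e := congrFun hcθ 1
    simp only [hθone, Finset.sum_apply, Pi.smul_apply, smul_eq_mul, hdeq] at e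
    exact_mod_cast e
  have eπ : (v : ℤ) = ∑ φ, m φ * (d φ : ℤ) := by
    have e := congrFun hmπ 1
    simp only [hπone, Finset.sum_apply, Pi.smul_apply, smul_eq_mul, hdeq] at e
    exact_mod_cast e
  have three : ∀ (g : IrrCharacter G → ℤ) (u v : IrrCharacter G), u ≠ one → v ≠ one → u ≠ v →
      (∀ ψ, g ψ ≠ 0 → (ψ = one ∨ ψ = u ∨ ψ = v)) → ∑ ψ, g ψ = g one + g u + g v := by
    intro g u v hu hv huv hg
    rw [← Finset.sum_subset (Finset.subset_univ ({one, u, v} : Finset (IrrCharacter G))) fun ψ _ hψ =>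
      not_not.mp fun h => hψ (by simpa using hg ψ h),
      Finset.sum_insert (by simp [hu.symm, hv.symm]), Finset.sum_pair huv]
    ring
  rw [three _ α b hα hb1 hbα.symm (fun ψ h => (hcb ψ).mp (left_ne_zero_of_mul h)), hc1, hcα, hd1] at eθ
  rw [three _ α β hα hβ hαβ (fun ψ h => (hms' ψ).mp (left_ne_zero_of_mul h)), hm1, hd1] at eπ
  have hmα : m α = 1 := by
    have := (hms' α).mpr (by tauto); have := hmv α; have := hmnn α; omega
  have hmβ : m β = 1 := by
    have := (hms' β).mpr (by tauto); have := hmv β; have := hmnn β; omega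
  rw [hmα, hmβ] at eπ
  push_cast at eθ eπ
  rcases hcv b with e | e | e
  · exact (hcb b).mpr (by tauto) e
  all_goals rw [e] at eθ
  · have hlt : d α < v - 1 := by have := hd β; omega
    refine hdeg (d α) hlt (hdvd α) ?_ (by have := hd b; omega) ?_
    · rw [show v - 1 - d α = d β by omega]; exact hdvd β
    · rw [show d α - 1 = d b by omega]; exact hdvd b
  · have := hd b; have := hd α; omega

end CfsgThreeTrans.ExceptChar
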