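/-
Symmetric groups of degree seven and nine from chains of transpositions.
-/
import Cfsg.Agent.Lib.ThreeTrans.Petersen

set_option autoImplicit false
set_option linter.unusedSectionVars false

namespace CfsgThreeTrans.SymChain

open Cfsg CfsgLib

universe u

variable {G : Type u} [Group G] [Finite G] {D : Set G}

/-- A permutation commuting with all adjacent transpositions is trivial. -/
theorem central_triv (n : ℕ) (hn : 2 ≤ n) (σ : Equiv.Perm (Fin (n + 1)))
    (h : ∀ i : Fin n, Commute σ (Equiv.swap i.castSucc i.succ)) : σ = 1 := by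
  have hall : ∀ τ : Equiv.Perm (Fin (n + 1)), Commute σ τ := by
    intro τ
    have hm : τ ∈ Submonoid.closure (Set.range fun i : Fin n => Equiv.swap i.castSucc i.succ) :=
      (Equiv.Perm.mclosure_swap_castSucc_succ n).symm ▸ Submonoid.mem_top τ
    induction hm using Submonoid.closure_induction with
    | mem x hx => obtain ⟨i, rfl⟩ := hx; exact h i
    | one => exact Commute.one_right _
    | mul x y _ _ hx hy => exact hx.mul_right hy
  ext i
  by_contra hne
  have hne' : σ i ≠ i := fun e => hne (by rw [e]; rfl)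
  obtain ⟨j, hj1, hj2⟩ : ∃ j, j ≠ i ∧ j ≠ σ i := by
    by_contra hc
    push Not at hc
    have := Finset.card_le_card (s := Finset.univ) (t := {i, σ i}) fun j _ => by
      rw [Finset.mem_insert, Finset.mem_singleton]
      exact (em (j = i)).imp_right (hc j)
    rw [Finset.card_univ, Fintype.card_fin] at this
    have := this.trans Finset.card_le_two
    omega
  have e := congrArg (fun p : Equiv.Perm (Fin (n + 1)) => p i) (hall (Equiv.swap i j)).eq
  simp only [Equiv.Perm.mul_apply, Equiv.swap_apply_left, Equiv.swap_apply_of_ne_of_ne hne' hj2.symm] at e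
  exact hj1 (σ.injective e)

theorem alt_trick (n : ℕ) (hn : 4 ≤ n) (φ : Equiv.Perm (Fin (n + 1)) →* G)
    (hφ : ∃ τ ∈ alternatingGroup (Fin (n + 1)), φ τ ≠ 1) : Function.Injective φ := by
  classical
  haveI : IsSimpleGroup (alternatingGroup (Fin (n + 1))) :=
    alternatingGroup.isSimpleGroup (by rw [Nat.card_eq_fintype_card, Fintype.card_fin]; omega)
  have hK : (φ.comp (alternatingGroup (Fin (n + 1))).subtype).ker = ⊥ := by
    refine ((MonoidHom.normal_ker _).eq_bot_or_eq_top).resolve_right fun ht => ?_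
    obtain ⟨τ, hτ, hne⟩ := hφ
    refine hne ?_
    show (φ.comp (alternatingGroup (Fin (n + 1))).subtype) ⟨τ, hτ⟩ = 1
    rw [← MonoidHom.mem_ker, ht]; trivial
  refine (injective_iff_map_eq_one φ).mpr fun σ hσ => central_triv n (by omega) σ fun i => ?_
  set s := Equiv.swap (i.castSucc) i.succ
  have hev : σ * s * σ⁻¹ * s⁻¹ ∈ alternatingGroup (Fin (n + 1)) := by
    rw [Equiv.Perm.mem_alternatingGroup]
    rcases Int.units_eq_one_or (Equiv.Perm.sign σ) with e | e <;>
      rcases Int.units_eq_one_or (Equiv.Perm.sign s) with e' | e' <;> simp [map_mul, e, e']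
  have h1 : (⟨_, hev⟩ : alternatingGroup (Fin (n + 1))) = 1 := by
    rw [← Subgroup.mem_bot, ← hK, MonoidHom.mem_ker]
    show φ (σ * s * σ⁻¹ * s⁻¹) = 1
    simp [hσ]
  have h2 : σ * s * σ⁻¹ * s⁻¹ = 1 := congrArg Subtype.val h1
  rw [mul_inv_eq_one, mul_inv_eq_iff_eq_mul] at h2
  exact h2

/-- A chain gives a homomorphism from a symmetric group. -/
theorem exists_hom_chain (n : ℕ) (hn : 4 ≤ n) (hD : IsThreeTranspositionSet D) (v : Fin n → G)
    (hv : ∀ i, v i ∈ D)
    (hfar : ∀ i j : Fin n, i.val + 1 < j.val → Commute (v i) (v j))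
    (hadj : ∀ i j : Fin n, i.val + 1 = j.val → ¬ Commute (v i) (v j))
    (hne : v ⟨0, by omega⟩ ≠ v ⟨2, by omega⟩) :
    ∃ φ : Equiv.Perm (Fin (n + 1)) →* G, Function.Injective φ ∧
      (∀ i : Fin n, φ (Equiv.swap i.castSucc i.succ) = v i) ∧ φ.range = Subgroup.closure (Set.range v) := by
  classical
  obtain ⟨cs, hcs⟩ := Cfsg.Agent.S2530.result n
  have hlift : (CoxeterMatrix.A n).IsLiftable v := by
    intro i j
    rcases eq_or_ne i j with rfl | hij
    · simp [CoxeterMatrix.A, mul_self hD (hv i)]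
    · have hij' : i.val ≠ j.val := fun e => hij (Fin.ext e)
      by_cases h1 : i.val + 1 = j.val ∨ j.val + 1 = i.val
      · have hM : (CoxeterMatrix.A n) i j = 3 := by simp [CoxeterMatrix.A, hij]; omega
        rw [hM]
        refine pow_three hD (hv i) (hv j) ?_
        rcases h1 with h1 | h1
        exacts [hadj i j h1, fun h => hadj j i h1 h.symm]
      · have hM : (CoxeterMatrix.A n) i j = 2 := by simp [CoxeterMatrix.A, hij]; omega
        rw [hM]
        refine (commute_iff_sq (hD.1 _ (hv i)) (hD.1 _ (hv j))).mp ?_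
        rcases Nat.lt_or_ge i.val j.val with h2 | h2
        exacts [hfar i j (by omega), (hfar j i (by omega)).symm]
  let φ : Equiv.Perm (Fin (n + 1)) →* G := cs.lift ⟨v, hlift⟩
  have hφ : ∀ i : Fin n, φ (Equiv.swap i.castSucc i.succ) = v i := fun i => by
    rw [← hcs i]; exact cs.lift_apply_simple hlift i
  refine ⟨φ, ?_, hφ, le_antisymm ?_ ((Subgroup.closure_le _).mpr ?_)⟩
  · refine alt_trick n hn φ ⟨Equiv.swap (⟨0, by omega⟩ : Fin n).castSucc (⟨0, by omega⟩ : Fin n).succ *
      Equiv.swap (⟨2, by omega⟩ : Fin n).castSucc (⟨2, by omega⟩ : Fin n).succ, ?_, ?_⟩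
    · rw [Equiv.Perm.mem_alternatingGroup, map_mul, Equiv.Perm.sign_swap (ne_of_lt Fin.castSucc_lt_succ),
        Equiv.Perm.sign_swap (ne_of_lt Fin.castSucc_lt_succ)]
      simp
    · rw [map_mul, hφ, hφ]
      intro e
      exact hne (by rw [eq_inv_of_mul_eq_one_left e, inv_self hD (hv _)])
  · rintro _ ⟨σ, rfl⟩
    have hm : σ ∈ Submonoid.closure (Set.range fun i : Fin n => Equiv.swap i.castSucc i.succ) :=
      (Equiv.Perm.mclosure_swap_castSucc_succ n).symm ▸ Submonoid.mem_top σ
    induction hm using Submonoid.closure_induction with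
    | mem x hx =>
      obtain ⟨i, rfl⟩ := hx
      rw [hφ]
      exact Subgroup.subset_closure ⟨i, rfl⟩
    | one => rw [map_one]; exact one_mem _
    | mul x y _ _ hx hy => rw [map_mul]; exact mul_mem hx hy
  · rintro x ⟨i, rfl⟩
    exact ⟨_, hφ i⟩

/-- The transposition joining two points, as a conjugate of the first one. -/
theorem pair_conj {n : ℕ} (i j : Fin (n + 2)) (hij : i ≠ j) :
    ∃ σ : Equiv.Perm (Fin (n + 2)), σ * Equiv.swap 0 1 * σ⁻¹ = Equiv.swap i j := by
  refine ⟨Equiv.swap 0 i * Equiv.swap 1 (Equiv.swap 0 i j), ?_⟩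
  rw [← Equiv.swap_apply_apply]
  have h1 : Equiv.swap (0 : Fin (n + 2)) i j ≠ 0 := by
    intro e
    have := congrArg (Equiv.swap (0 : Fin (n + 2)) i) e
    rw [Equiv.swap_apply_self, Equiv.swap_apply_left] at this
    exact hij this.symm
  rw [Equiv.Perm.mul_apply, Equiv.Perm.mul_apply, Equiv.swap_apply_of_ne_of_ne (a := (1 : Fin (n + 2))) (by simp) h1.symm,
    Equiv.swap_apply_left, Equiv.swap_apply_left, Equiv.swap_apply_self]

section
variable {m : ℕ}

theorem not_comm_share {i j k : Fin m} (hij : i ≠ j) (hjk : j ≠ k) (hik : i ≠ k) :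
    ¬ Commute (Equiv.swap i j) (Equiv.swap j k) := fun h => by
  have e := congrArg (fun p : Equiv.Perm (Fin m) => p i) h.eq
  simp only [Equiv.Perm.mul_apply, Equiv.swap_apply_left, Equiv.swap_apply_of_ne_of_ne hij hik] at e
  exact hjk e

theorem comm_disjoint {i j k l : Fin m} (hik : i ≠ k) (hil : i ≠ l) (hjk : j ≠ k) (hjl : j ≠ l) :
    Commute (Equiv.swap i j) (Equiv.swap k l) := by
  refine mul_inv_eq_iff_eq_mul.mp ?_
  rw [← Equiv.swap_apply_apply, Equiv.swap_apply_of_ne_of_ne hik.symm hjk.symm,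
    Equiv.swap_apply_of_ne_of_ne hil.symm hjl.symm]

/-- Commuting distinct transpositions have disjoint supports. -/
theorem disjoint_of_comm {i j k l : Fin m} (hij : i ≠ j) (hkl : k ≠ l) (hne : Equiv.swap i j ≠ Equiv.swap k l)
    (h : Commute (Equiv.swap i j) (Equiv.swap k l)) : i ≠ k ∧ i ≠ l ∧ j ≠ k ∧ j ≠ l := by
  refine ⟨?_, ?_, ?_, ?_⟩ <;> rintro rfl
  · by_cases e : j = l
    · exact hne (by rw [e])
    · exact not_comm_share hij.symm hkl e (Equiv.swap_comm i j ▸ h)
  · by_cases e : j = k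
    · exact hne (by rw [e, Equiv.swap_comm])
    · exact not_comm_share hij.symm hkl.symm e (Equiv.swap_comm i j ▸ Equiv.swap_comm k i ▸ h)
  · by_cases e : i = l
    · exact hne (by rw [e, Equiv.swap_comm])
    · exact not_comm_share hij hkl e h
  · by_cases e : i = k
    · exact hne (by rw [e])
    · exact not_comm_share hij hkl.symm e (Equiv.swap_comm k j ▸ h)

/-- A transposition meeting `{0, 1}` in one point is a conjugate of the second generator. -/
theorem far_align {n : ℕ} {i j : Fin (n + 3)} (hij : i ≠ j)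
    (h : ¬ Commute (Equiv.swap 0 1) (Equiv.swap i j)) :
    ∃ ρ : Equiv.Perm (Fin (n + 3)), ρ * Equiv.swap 0 1 = Equiv.swap 0 1 * ρ ∧
      ρ * Equiv.swap 1 2 * ρ⁻¹ = Equiv.swap i j := by
  have main : ∀ x : Fin (n + 3), x ≠ 0 → x ≠ 1 → ∀ e : Fin (n + 3), e = 0 ∨ e = 1 →
      ∃ ρ : Equiv.Perm (Fin (n + 3)), ρ * Equiv.swap 0 1 = Equiv.swap 0 1 * ρ ∧
        ρ * Equiv.swap 1 2 * ρ⁻¹ = Equiv.swap e x := by
    intro x h0 h1 e he
    have n01 : (0 : Fin (n + 3)) ≠ 1 := by simp
    have n02 : (0 : Fin (n + 3)) ≠ 2 :=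
      Fin.ne_of_val_ne (by simp [Nat.mod_eq_of_lt (show 2 < n + 3 by omega)])
    have n12 : (1 : Fin (n + 3)) ≠ 2 :=
      Fin.ne_of_val_ne (by simp [Nat.mod_eq_of_lt (show 2 < n + 3 by omega)])
    have c1 : Commute (Equiv.swap (2 : Fin (n + 3)) x) (Equiv.swap 0 1) :=
      comm_disjoint n02.symm n12.symm h0 h1
    rcases he with rfl | rfl
    · refine ⟨Equiv.swap 0 1 * Equiv.swap 2 x, ((Commute.refl _).mul_left c1).eq, ?_⟩
      rw [← Equiv.swap_apply_apply]
      simp [Equiv.Perm.mul_apply, Equiv.swap_apply_of_ne_of_ne, n01, n02, n12, n01.symm, n02.symm, n12.symm, h0, h1,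
        h0.symm, h1.symm]
    · refine ⟨Equiv.swap 2 x, c1.eq, ?_⟩
      rw [← Equiv.swap_apply_apply]
      simp [Equiv.swap_apply_of_ne_of_ne, n12, h1.symm]
  by_cases hi : i = 0 ∨ i = 1
  · by_cases hj : j = 0 ∨ j = 1
    · exfalso
      refine h ?_
      rcases hi with rfl | rfl <;> rcases hj with rfl | rfl
      exacts [absurd rfl hij, Commute.refl _, Equiv.swap_comm (1 : Fin (n + 3)) 0 ▸ Commute.refl _, absurd rfl hij]
    · exact main j (fun e => hj (Or.inl e)) (fun e => hj (Or.inr e)) i hi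
  · by_cases hj : j = 0 ∨ j = 1
    · obtain ⟨ρ, h1, h2⟩ := main i (fun e => hi (Or.inl e)) (fun e => hi (Or.inr e)) j hj
      exact ⟨ρ, h1, h2.trans (Equiv.swap_comm _ _)⟩
    · exact absurd (comm_disjoint (fun e => hi (Or.inl e.symm)) (fun e => hj (Or.inl e.symm))
        (fun e => hi (Or.inr e.symm)) (fun e => hj (Or.inr e.symm))) h

end

/-- A group permuting the transpositions of an embedded symmetric group is that group times a centraliser. -/
theorem card_preserving {n : ℕ} (φ : Equiv.Perm (Fin (n + 2)) →* G) (hφ : Function.Injective φ) {S : Set G}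
    (hsw : ∀ i j : Fin (n + 2), i ≠ j → φ (Equiv.swap i j) ∈ S)
    (hsurj : ∀ y ∈ S, ∃ i j : Fin (n + 2), i ≠ j ∧ φ (Equiv.swap i j) = y) (hn : 2 ≤ n) (H : Subgroup G)
    (hVH : φ.range ≤ H) (hH : ∀ k ∈ H, ∀ x ∈ S, k * x * k⁻¹ ∈ S) :
    Nat.card H = (n + 2).factorial * Nat.card ↥(H ⊓ Subgroup.centralizer S) := by
  let gen : Fin (n + 1) → Equiv.Perm (Fin (n + 2)) := fun l => Equiv.swap l.castSucc l.succ
  have hne : ∀ l : Fin (n + 1), l.castSucc ≠ l.succ := fun l => ne_of_lt Fin.castSucc_lt_succ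
  have claim : ∀ m ≤ n + 1, ∀ k ∈ H, ∃ σ : Equiv.Perm (Fin (n + 2)),
      ∀ l : Fin (n + 1), l.val < m → (φ σ * k) * φ (gen l) * (φ σ * k)⁻¹ = φ (gen l) := by
    intro m
    induction m with
    | zero => exact fun _ k _ => ⟨1, fun l hl => absurd hl (Nat.not_lt_zero _)⟩
    | succ m ih =>
      intro hm k hk
      obtain ⟨σ, hσ⟩ := ih (by omega) k hk
      set k' := φ σ * k
      have hk' : k' ∈ H := H.mul_mem (hVH ⟨σ, rfl⟩) hk
      set M : Fin (n + 1) := ⟨m, by omega⟩
      obtain ⟨i, j, hij, hy⟩ := hsurj _ (hH k' hk' _ (hsw _ _ (hne M)))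
      change φ (Equiv.swap i j) = k' * φ (gen M) * k'⁻¹ at hy
      suffices hρ : ∃ ρ, (∀ l : Fin (n + 1), l.val < m → ρ * gen l * ρ⁻¹ = gen l) ∧
          ρ * Equiv.swap i j * ρ⁻¹ = gen M by
        obtain ⟨ρ, h1, h2⟩ := hρ
        refine ⟨ρ * σ, fun l hl => ?_⟩
        rw [map_mul, mul_assoc (φ ρ) (φ σ) k, ← cj_cj]
        rcases Nat.lt_succ_iff_lt_or_eq.mp hl with hl | hl
        · rw [hσ l hl, ← map_inv, ← map_mul, ← map_mul, h1 l hl]
        · rw [show l = M from Fin.ext hl, ← hy, ← map_inv, ← map_mul, ← map_mul, h2]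
      have hrel : ∀ l : Fin (n + 1), l.val < m → l ≠ M → Equiv.swap i j ≠ gen l ∧
          (Commute (gen l) (Equiv.swap i j) ↔ Commute (gen l) (gen M)) := by
        intro l hl hlM
        refine ⟨fun e => hlM ?_, ⟨fun h => ?_, fun h => ?_⟩⟩
        · have e' : k' * φ (gen l) * k'⁻¹ = k' * φ (gen M) * k'⁻¹ := by rw [hσ l hl, ← hy, e]
          have e'' := hφ (cj_injective k' e')
          have := congrArg (fun p : Equiv.Perm (Fin (n + 2)) => p l.castSucc) e''
          simp only [gen, Equiv.swap_apply_left] at this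
          by_contra hne'
          rcases eq_or_ne l.castSucc M.succ with e1 | e1
          · have := congrArg Fin.val e1; simp [M] at this; omega
          · rw [Equiv.swap_apply_of_ne_of_ne (fun e2 => hne' (Fin.castSucc_injective _ e2)) e1] at this
            exact hne l this.symm
        · refine hφ (cj_injective k' ?_)
          have h' := h.map φ
          rw [hy, ← hσ l hl] at h'
          have := (commute_cj_iff k').mp h'
          rw [map_mul, map_mul, this.eq]
        · refine hφ ?_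
          rw [map_mul, map_mul, hy, ← hσ l hl]
          exact ((commute_cj_iff k').mpr (h.map φ)).eq
      rcases m with _ | _ | m
      · obtain ⟨ρ, hρ⟩ := pair_conj i j hij
        refine ⟨ρ⁻¹, fun l hl => absurd hl (Nat.not_lt_zero _), ?_⟩
        rw [← hρ]
        show _ = gen M
        rw [show gen M = Equiv.swap 0 1 from rfl]
        group
      · have g0 : gen ⟨0, by omega⟩ = Equiv.swap 0 1 := rfl
        have g1 : gen M = Equiv.swap 1 2 := by
          show Equiv.swap _ _ = _
          congr 1 <;> apply Fin.ext <;> simp [M, Nat.mod_eq_of_lt (show 2 < n + 2 by omega)]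
        have hnc : ¬ Commute (Equiv.swap (0 : Fin (n + 2)) 1) (Equiv.swap i j) := fun h => by
          have hc := (hrel ⟨0, by omega⟩ (by simp) (by simp [M, Fin.ext_iff])).2.mp (g0 ▸ h)
          rw [g0, g1] at hc
          exact not_comm_share (by simp) (Fin.ne_of_val_ne (by simp [Nat.mod_eq_of_lt (show 2 < n + 2 by omega)]))
            (Fin.ne_of_val_ne (by simp [Nat.mod_eq_of_lt (show 2 < n + 2 by omega)])) hc
        obtain ⟨n', rfl⟩ : ∃ n', n = n' + 1 := ⟨n - 1, by omega⟩
        obtain ⟨ρ, h1, h2⟩ := far_align hij hnc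
        refine ⟨ρ⁻¹, fun l hl => ?_, ?_⟩
        · rw [show l = ⟨0, by omega⟩ from Fin.ext (show l.val = 0 by omega), g0, inv_inv,
            mul_assoc, ← h1]
          group
        · rw [g1, ← h2]; group
      · set P : Fin (n + 1) := ⟨m + 1, by omega⟩
        have hPne : P ≠ M := fun e => by simp [P, M, Fin.ext_iff] at e
        have hnc : ¬ Commute (gen P) (Equiv.swap i j) := fun h =>
          not_comm_share (i := P.castSucc) (j := P.succ) (k := M.succ) (hne P)
            (by simp [P, M, Fin.ext_iff]) (by simp [P, M, Fin.ext_iff])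
            (by
              have h2 := (hrel P (by simp [P]) hPne).2.mp h
              simpa [gen, show M.castSucc = P.succ from Fin.ext rfl] using h2)
        have hlow : ∀ l : Fin (n + 1), l.val < m + 1 → ∀ x, (x = i ∨ x = j) → x ≠ l.castSucc ∧ x ≠ l.succ := by
          intro l hl x hx
          have hlM : l ≠ M := fun e => by rw [e] at hl; simp [M] at hl
          have hc := (hrel l (by omega) hlM).2.mpr (comm_disjoint
            (by simp [M, Fin.ext_iff]; omega) (by simp [M, Fin.ext_iff]; omega)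
            (by simp [M, Fin.ext_iff]; omega) (by simp [M, Fin.ext_iff]; omega))
          have hd := disjoint_of_comm hij (hne l) (hrel l (by omega) hlM).1 hc.symm
          rcases hx with rfl | rfl
          exacts [⟨hd.1, hd.2.1⟩, ⟨hd.2.2.1, hd.2.2.2⟩]
        have hbig : ∀ x, (x = i ∨ x = j) → m + 2 ≤ x.val := by
          intro x hx
          by_contra hlt
          rcases Nat.lt_or_ge x.val (m + 1) with h' | h'
          · exact (hlow ⟨x.val, by omega⟩ h' x hx).1 (Fin.ext rfl)
          · exact (hlow ⟨m, by omega⟩ (by simp) x hx).2 (Fin.ext (show x.val = m + 1 by omega))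
        have hone : i.val = m + 2 ∨ j.val = m + 2 := by
          by_contra hcon
          push Not at hcon
          have bi := hbig i (Or.inl rfl)
          have bj := hbig j (Or.inr rfl)
          refine hnc (comm_disjoint ?_ ?_ ?_ ?_) <;> simp [P, Fin.ext_iff] <;> omega
        obtain ⟨x, hxe, hxne, hxM⟩ : ∃ x : Fin (n + 2), Equiv.swap i j = Equiv.swap M.castSucc x ∧
            x ≠ M.castSucc ∧ m + 2 < x.val := by
          rcases hone with e | e
          · have hi : i = M.castSucc := Fin.ext e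
            have bj := hbig j (Or.inr rfl)
            refine ⟨j, by rw [hi], fun e' => hij (hi.trans e'.symm), ?_⟩
            have : j.val ≠ i.val := fun e' => hij (Fin.ext e'.symm)
            omega
          · have hj : j = M.castSucc := Fin.ext e
            have bi := hbig i (Or.inl rfl)
            refine ⟨i, by rw [hj, Equiv.swap_comm], fun e' => hij (e'.trans hj.symm), ?_⟩
            have : j.val ≠ i.val := fun e' => hij (Fin.ext e'.symm)
            omega
        refine ⟨Equiv.swap M.succ x, fun l hl => ?_, ?_⟩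
        · show _ * Equiv.swap l.castSucc l.succ * _ = Equiv.swap l.castSucc l.succ
          rw [← Equiv.swap_apply_apply, Equiv.swap_apply_of_ne_of_ne, Equiv.swap_apply_of_ne_of_ne] <;>
            simp [M, Fin.ext_iff] <;> omega
        · rw [hxe, ← Equiv.swap_apply_apply, Equiv.swap_apply_right,
            Equiv.swap_apply_of_ne_of_ne (hne M) hxne.symm]
  have hfin : ∀ k ∈ H, ∃ σ, φ σ * k ∈ H ⊓ Subgroup.centralizer S := by
    intro k hk
    obtain ⟨σ, hσ⟩ := claim (n + 1) le_rfl k hk
    refine ⟨σ, H.mul_mem (hVH ⟨σ, rfl⟩) hk, Subgroup.mem_centralizer_iff.mpr fun y hy => ?_⟩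
    obtain ⟨i, j, -, rfl⟩ := hsurj y hy
    generalize Equiv.swap i j = τ
    have hm : τ ∈ Submonoid.closure (Set.range gen) :=
      (Equiv.Perm.mclosure_swap_castSucc_succ (n + 1)).symm ▸ Submonoid.mem_top τ
    induction hm using Submonoid.closure_induction with
    | mem x hx => obtain ⟨l, rfl⟩ := hx; exact (mul_inv_eq_iff_eq_mul.mp (hσ l l.2)).symm
    | one => simp
    | mul x y _ _ hx hy => rw [map_mul, mul_assoc, hy, ← mul_assoc, hx, mul_assoc]
  have hcard : Nat.card (Equiv.Perm (Fin (n + 2))) = (n + 2).factorial := by rw [Nat.card_perm, Nat.card_fin]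
  rw [← hcard, ← Nat.card_prod]
  refine (Nat.card_congr (Equiv.ofBijective (fun p : Equiv.Perm (Fin (n + 2)) × ↥(H ⊓ Subgroup.centralizer S) =>
    (⟨φ p.1 * p.2, H.mul_mem (hVH ⟨p.1, rfl⟩) p.2.2.1⟩ : H)) ⟨fun p r e => ?_, fun k => ?_⟩)).symm
  · have e' : φ p.1 * (p.2 : G) = φ r.1 * r.2 := congrArg Subtype.val e
    have h1 : φ (r.1⁻¹ * p.1) = (r.2 : G) * (p.2 : G)⁻¹ := by
      rw [map_mul, map_inv, eq_mul_inv_iff_mul_eq, mul_assoc, e']; group
    have hcm : φ (r.1⁻¹ * p.1) ∈ Subgroup.centralizer S :=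
      h1 ▸ (Subgroup.centralizer S).mul_mem r.2.2.2 ((Subgroup.centralizer S).inv_mem p.2.2.2)
    have : r.1⁻¹ * p.1 = 1 := central_triv (n + 1) (by omega) _ fun l => hφ (by
      rw [map_mul _ (r.1⁻¹ * p.1), map_mul _ _ (r.1⁻¹ * p.1)]
      exact (Subgroup.mem_centralizer_iff.mp hcm _ (hsw _ _ (hne l))).symm)
    have e1 : p.1 = r.1 := (inv_mul_eq_one.mp this).symm
    rw [e1] at e'
    exact Prod.ext e1 (Subtype.ext (mul_left_cancel e'))
  · obtain ⟨σ, hσ⟩ := hfin k k.2
    exact ⟨(σ⁻¹, ⟨_, hσ⟩), Subtype.ext (by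
      show φ σ⁻¹ * (φ σ * k) = k
      rw [map_inv, inv_mul_cancel_left])⟩

end CfsgThreeTrans.SymChain
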