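/-
Commuting products of two noncommuting transpositions with products of the same kind.
-/
import Cfsg.Agent.Lib.ThreeTrans.M22.Quasi
import Cfsg.Agent.Lib.ThreeTrans.M23.Centraliser

set_option autoImplicit false
set_option linter.unusedSectionVars false

namespace CfsgThreeTrans.RootQuad

open scoped Matrix
open Matrix (mulVec_smul mulVec_mulVec mulVec_add)
open Cfsg CfsgLib CfsgLib.UnitaryTransvection CfsgLib.UnitarySimple CfsgThreeTrans.M22

universe u v

/-- A product of two noncommuting members. -/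
def Root {G : Type u} [Group G] (D : Set G) (r : G) : Prop := ∃ a ∈ D, ∃ d ∈ D, ¬ Commute a d ∧ r = a * d

/-- Three commuting roots whose quotients are roots. -/
structure Quad {G : Type u} [Group G] (D : Set G) (r : Fin 3 → G) : Prop where
  root : ∀ i, Root D (r i)
  comm : ∀ i j, Commute (r i) (r j)
  quot : ∀ i j, i ≠ j → Root D ((r i)⁻¹ * r j)

variable {G : Type u} [Group G] [Finite G] {D : Set G}

/-- A quadrangle of roots lifts through a central extension by a transposition. -/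
theorem lift (hD : IsThreeTranspositionClass D) {t : G} (ht : t ∈ D) {Q : Type v} [Group Q]
    (q : ↥(Subgroup.closure (Ds D t)) →* Q) (hker : ∀ z, q z = 1 → (z : G) = 1 ∨ (z : G) = t)
    {r : Fin 3 → Q} (h : Quad (q '' {z | (z : G) ∈ Ds D t}) r) : ∃ s : Fin 3 → G, Quad D s := by
  classical
  have htt : t * t = 1 := mul_self hD.1 ht
  have huniq : ∀ u w : ↥(Subgroup.closure (Ds D t)), (u : G) ^ 3 = 1 → (w : G) ^ 3 = 1 → q u = q w → u = w := by
    intro u w hu hw e
    rcases hker (u * w⁻¹) (by rw [map_mul, map_inv, e, mul_inv_cancel]) with k | k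
    · exact mul_inv_eq_one.mp (Subtype.ext k)
    · exfalso
      have e1 : (u : G) = t * w := mul_inv_eq_iff_eq_mul.mp k
      have hc : Commute t (w : G) := (closure_Ds_commute w.2).symm
      rw [e1, hc.mul_pow, hw, mul_one, pow_succ, pow_two, htt, one_mul] at hu
      have := hD.1.1 t ht
      rw [hu, orderOf_one] at this
      norm_num at this
  have hlift : ∀ x : Q, Root (q '' {z : ↥(Subgroup.closure (Ds D t)) | (z : G) ∈ Ds D t}) x →
      ∃ w : ↥(Subgroup.closure (Ds D t)), q w = x ∧ (w : G) ^ 3 = 1 ∧ Root D (w : G) := by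
    rintro _ ⟨_, ⟨a, ha, rfl⟩, _, ⟨d, hd, rfl⟩, had, rfl⟩
    have had' : ¬ Commute (a : G) d := fun k => had ((show Commute a d from Subtype.ext k.eq).map q)
    exact ⟨a * d, map_mul q a d, pow_three hD.1 ha.1 hd.1 had', a, ha.1, d, hd.1, had', rfl⟩
  choose s hq h3 hroot using fun i => hlift (r i) (h.root i)
  have hcomm : ∀ i j, Commute (s i : G) (s j) := by
    intro i j
    have e := huniq (s i * s j * (s i)⁻¹) (s j)
      (by simp only [Subgroup.coe_mul, InvMemClass.coe_inv, conj_pow, h3, mul_one, mul_inv_cancel]) (h3 j)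
      (by rw [map_mul, map_mul, map_inv, hq, hq, (h.comm i j).eq, mul_inv_cancel_right])
    exact congrArg Subtype.val (mul_inv_eq_iff_eq_mul.mp e)
  refine ⟨fun i => s i, ⟨hroot, hcomm, fun i j hij => ?_⟩⟩
  obtain ⟨w, hw, hw3, hwr⟩ := hlift _ (h.quot i j hij)
  have e := huniq ((s i)⁻¹ * s j) w (by
    simp only [Subgroup.coe_mul, InvMemClass.coe_inv]
    rw [((hcomm i j).inv_left).mul_pow, inv_pow, h3, h3, inv_one, one_mul]) hw3
    (by rw [map_mul, map_inv, hq, hq, hw])
  show Root D ((s i : G)⁻¹ * s j)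
  rw [show ((s i : G)⁻¹ * s j) = (((s i)⁻¹ * s j : ↥(Subgroup.closure (Ds D t))) : G) from rfl, e]
  exact hwr

variable {F : Type} [Field F] [Fintype F] [DecidableEq F] {hF : Fintype.card F = 2 ^ 2}

set_option maxHeartbeats 1000000 in
/-- A quadrangle in type M(22). -/
theorem exists_m22 (hD : IsThreeTranspositionClass D) (hp : IsPrimitiveUnderConj D) (hZ : Subgroup.center G = ⊥)
    (A : Data D F hF) : ∃ r : Fin 3 → G, Quad D r := by
  classical
  obtain ⟨z, z0, z1, hz, hs, -⟩ := exists_zeta hF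
  have h3 : z * z * z = 1 := by rw [← cube hF z0]; ring
  have h2 := two_zero hF
  let e : Fin 6 → Fin 6 → F := fun i => Pi.single i 1
  have he : ∀ (x : Fin 6 → F) i, Cfsg.hermForm 6 F 2 x (e i) = x i := fun x i => by
    simp [e, UnitaryOrder.herm_single_right hF]
  let p : Fin 6 → Fin 6 → (Fin 6 → F) := fun i j => e i + e j
  let w : Fin 6 → Fin 6 → (Fin 6 → F) := fun i j => e i + z • e j
  have hp' : ∀ i j (x : Fin 6 → F), Cfsg.hermForm 6 F 2 x (p i j) = x i + x j := fun i j x => by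
    simp only [p, h_add_right hF, he]
  have hw' : ∀ i j (x : Fin 6 → F), Cfsg.hermForm 6 F 2 x (w i j) = x i + z * z * x j := fun i j x => by
    simp only [w, h_add_right hF, h_smul_right hF, he, hs]
  have hpp : ∀ i j, i ≠ j → Cfsg.hermForm 6 F 2 (p i j) (p i j) = 0 := fun i j hij => by
    rw [hp']; simp [p, e, hij, Ne.symm hij, add_self hF]
  have hww : ∀ i j, i ≠ j → Cfsg.hermForm 6 F 2 (w i j) (w i j) = 0 := fun i j hij => by
    rw [hw']; simp [w, e, hij, Ne.symm hij]
    linear_combination h3 + h2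
  have hpw : ∀ i j, i ≠ j → Cfsg.hermForm 6 F 2 (p i j) (w i j) = 1 + z * z := fun i j hij => by
    rw [hw']; simp [p, e, hij, Ne.symm hij]
  have hpw0 : ∀ i j, i ≠ j → Cfsg.hermForm 6 F 2 (p i j) (w i j) ≠ 0 := fun i j hij k => by
    rw [hpw i j hij] at k
    exact z0 (by linear_combination hz - k)
  let τ : Fin 6 → Fin 6 → Cfsg.SU 6 F 2 := fun i j => tu hF (p i j) * tu hF (w i j)
  have hτ : ∀ i j, i ≠ j → ∀ x : Fin 6 → F,
      mat (τ i j) *ᵥ x = x + ((z + 1) * x i) • e i + ((z * z + 1) * x j) • e j := by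
    intro i j hij x
    simp only [τ]
    rw [mat_mul, ← mulVec_mulVec, tu_mulVec hF (hww i j hij), tu_mulVec hF (hpp i j hij), hw', hp']
    have ei : (w i j) i = 1 := by simp [w, e, hij]
    have ej : (w i j) j = z := by simp [w, e, Ne.symm hij]
    simp only [Pi.add_apply, Pi.smul_apply, smul_eq_mul, ei, ej]
    simp only [p, w]
    match_scalars
    · ring
    · linear_combination (x i + z * z * x j + x j) * h2 + x j * h3
    · linear_combination (x i + z * x i + z * z * z * x j) * h2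
  have hcomm : ∀ j k : Fin 6, (0 : Fin 6) ≠ j → (0 : Fin 6) ≠ k → j ≠ k →
      τ 0 j * τ 0 k = τ 0 k * τ 0 j ∧ τ 0 j * τ j k = τ 0 k := by
    intro j k hj hk hjk
    refine ⟨su_ext fun x => ?_, su_ext fun x => ?_⟩
    · rw [mat_mul (τ 0 j) (τ 0 k), mat_mul (τ 0 k) (τ 0 j), ← mulVec_mulVec, ← mulVec_mulVec, hτ 0 k hk, hτ 0 j hj, hτ 0 j hj, hτ 0 k hk]
      simp [e, hj, hk, hjk, Ne.symm hj, Ne.symm hk, Ne.symm hjk]
      module
    · rw [mat_mul (τ 0 j) (τ j k), ← mulVec_mulVec, hτ j k hjk, hτ 0 j hj, hτ 0 k hk]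
      simp [e, hj, hk, hjk, Ne.symm hj, Ne.symm hk, Ne.symm hjk]
      match_scalars
      all_goals first | ring1 | linear_combination (x j) * h3 + (x j * (z * z + z + 2)) * h2 | linear_combination (x j) * h3 + (x j * (z * z + z + 2)) * h2 - x j * hz
  let k : Fin 3 → Fin 6 := fun i => ⟨i.val + 1, by omega⟩
  have hk : ∀ i, (0 : Fin 6) ≠ k i := fun i h' => by
    have := congrArg Fin.val h'
    simp [k] at this
  have hkk : ∀ i j, i ≠ j → k i ≠ k j := fun i j hij h' => hij (Fin.ext (by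
    have := congrArg Fin.val h'
    simpa [k] using this))
  let π := QuotientGroup.mk' (Subgroup.center (Cfsg.SU 6 F 2))
  have hroot : ∀ i j, i ≠ j → Root (A.φ '' {y : ↥(Subgroup.closure (Ds D A.t)) | (y : G) ∈ Ds D A.t}) (π (τ i j)) := by
    intro i j hij
    have np : p i j ≠ 0 := fun h' => hpw0 i j hij (by rw [h', h_zero_left hF])
    have nw : w i j ≠ 0 := fun h' => hpw0 i j hij (by rw [h', h_zero_right hF])
    refine ⟨_, ⟨⟨_, point_mem' A ⟨p i j, np, hpp i j hij⟩⟩, point_mem A _, rfl⟩, _,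
      ⟨⟨_, point_mem' A ⟨w i j, nw, hww i j hij⟩⟩, point_mem A _, rfl⟩, ?_, ?_⟩
    · rw [point_φ, point_φ]
      exact fun c => hpw0 i j hij (of_mk_tu_commute hF (hpp i j hij) np (hww i j hij) c)
    · rw [point_φ, point_φ, ← map_mul]
  refine lift hD A.ht A.φ ?_ (r := fun i => π (τ 0 (k i))) ⟨fun i => hroot _ _ (hk i), fun i j => ?_,
    fun i j hij => ?_⟩
  · intro y hy
    rw [← MonoidHom.mem_ker, A.ker_φ] at hy
    refine kernel_eq hD hp hZ A A.ht (closure_Ds_commute y.2) fun b hb => ?_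
    exact (congrArg Subtype.val (Subgroup.mem_center_iff.mp hy ⟨b, Subgroup.subset_closure hb⟩)).symm
  · by_cases hij : i = j
    · rw [hij]
    · exact (show Commute (τ 0 (k i)) (τ 0 (k j)) from (hcomm _ _ (hk i) (hk j) (hkk i j hij)).1).map π
  · have := (hcomm _ _ (hk i) (hk j) (hkk i j hij)).2
    rw [← map_inv, ← map_mul, show (τ 0 (k i))⁻¹ * τ 0 (k j) = τ (k i) (k j) by rw [← this, inv_mul_cancel_left]]
    exact hroot _ _ (hkk i j hij)

/-- A quadrangle in type M(23). -/
theorem exists_m23 (hD : IsThreeTranspositionClass D) (hp : IsPrimitiveUnderConj D) (hZ : Subgroup.center G = ⊥)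
    (B : M23.Base D) : ∃ r : Fin 3 → G, Quad D r := by
  obtain ⟨r, hr⟩ := exists_m22 B.cls B.prim B.ty.1 B.A
  refine lift hD B.ht (M23.qt D B.t) (fun y hy => M23.ker_cases hD hp hZ B y.2 ?_) hr
  rwa [M23.bar_eq]

end CfsgThreeTrans.RootQuad
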