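/-
The kernel of a 3-transposition group over a quotient with a rich commuting structure is elementary abelian:
commutators of products of two members over two non-commuting images are central, hence trivial.
-/
import Mathlib
import Cfsg.Prelude.Def_KGroupFacts
import Cfsg.Prelude.Def_Transfer
import Cfsg.Agent.Lib.ThreeTrans.Basic

set_option autoImplicit false

namespace CfsgUniqueTT

open Cfsg
open scoped commutatorElement

variable {G K : Type*} [Group G] [Finite G] [Group K]

theorem elementary_of {D : Set G} (hD : Cfsg.IsThreeTranspositionClass D) (hZ : Subgroup.center G = ⊥)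
    (φ : G →* K) (hφ : Function.Surjective φ) (hO : IsPGroup 2 φ.ker)
    (hgen2 : ∀ k ∈ φ '' D, ∀ l ∈ φ '' D, ¬ Commute k l →
      φ '' D ⊆ Subgroup.closure {m | m ∈ φ '' D ∧ (Commute m k ∨ Commute m l)})
    (hfive : ∃ k : Fin 5 → K, (∀ i, k i ∈ φ '' D) ∧ (∀ i j, Commute (k i) (k j)) ∧
      k 0 * k 1 * k 2 * k 3 * k 4 = 1)
    (hstem : ∀ (Γ : Type) [Group Γ] [Finite Γ] (σ : Γ →* K), Cfsg.IsStemExtension σ → σ.ker = ⊥) :
    Cfsg.IsElementaryAbelian 2 φ.ker := by
  classical
  obtain ⟨hS, ⟨d₀, hd₀, hDc⟩, hgen⟩ := hD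
  have hsq : ∀ d ∈ D, d * d = 1 := fun d hd => CfsgThreeTrans.mul_self hS hd
  have hconjD : ∀ g : G, ∀ d ∈ D, g * d * g⁻¹ ∈ D := fun g d hd => by
    rw [hDc] at hd ⊢
    exact (show IsConj d₀ d from hd).trans (isConj_iff.mpr ⟨g, rfl⟩)
  have hconjD' : ∀ d ∈ D, ∀ e ∈ D, IsConj d e := fun d hd e he => by
    rw [hDc] at hd he
    exact (show IsConj d₀ d from hd).symm.trans (show IsConj d₀ e from he)
  -- members with commuting images commute
  have lift : ∀ d ∈ D, ∀ e ∈ D, Commute (φ d) (φ e) → Commute d e := by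
    intro d hd e he hc
    rcases hS.2 d hd e he with h | h
    · exact (CfsgThreeTrans.commute_iff_sq (hS.1 d hd) (hS.1 e he)).mpr h
    · have h2 : (φ (d * e)) ^ 2 = 1 := by
        rw [map_mul, hc.mul_pow, pow_two, pow_two, ← map_mul, ← map_mul, hsq d hd, hsq e he, map_one, one_mul]
      have h3 : (φ (d * e)) ^ 3 = 1 := by rw [← map_pow, h, map_one]
      rw [pow_succ, h2, one_mul] at h3
      obtain ⟨i, hi⟩ := IsPGroup.iff_orderOf.mp hO ⟨d * e, h3⟩
      rw [← Subgroup.orderOf_coe] at hi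
      change orderOf (d * e) = 2 ^ i at hi
      have hd3 : orderOf (d * e) ∣ 3 := orderOf_dvd_of_pow_eq_one h
      have h1 : orderOf (d * e) = 1 := by
        have hcop : Nat.Coprime (2 ^ i) 3 := Nat.Coprime.pow_left _ (by norm_num)
        rw [hi] at hd3 ⊢
        exact hcop.eq_one_of_dvd hd3
      have hde : d = e := by
        rw [orderOf_eq_one_iff] at h1
        calc d = d * (e * e) := by rw [hsq e he, mul_one]
          _ = e := by rw [← mul_assoc, h1, one_mul]
      rw [hde]
  -- products of two members over the same image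
  let P : K → Set G := fun k => {u | ∃ d ∈ D, ∃ d' ∈ D, φ d = k ∧ φ d' = k ∧ u = d * d'}
  have Pker : ∀ k, ∀ u ∈ P k, φ u = 1 := by
    rintro k u ⟨d, hd, d', hd', h1, h2, rfl⟩
    rw [map_mul, h2, ← h1, ← map_mul, hsq d hd, map_one]
  have Pinv : ∀ k, ∀ u ∈ P k, u * u = 1 := by
    rintro k u ⟨d, hd, d', hd', h1, h2, rfl⟩
    have hc : Commute d d' := lift d hd d' hd' (by rw [h1, h2])
    rw [mul_assoc, ← mul_assoc d' d d', ← hc.eq, mul_assoc d d' d', hsq d' hd', mul_one, hsq d hd]
  have Pd : ∀ k, ∀ u ∈ P k, ∀ g ∈ D, Commute (φ g) k → Commute g u := by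
    rintro k u ⟨d, hd, d', hd', h1, h2, rfl⟩ g hg hc
    exact (lift g hg d hd (h1 ▸ hc)).mul_right (lift g hg d' hd' (h2 ▸ hc))
  have Pcomm : ∀ k l, Commute k l → ∀ u ∈ P k, ∀ v ∈ P l, Commute u v := by
    rintro k l hc u hu v ⟨d, hd, d', hd', h1, h2, rfl⟩
    exact ((Pd k u hu d hd (h1 ▸ hc.symm)).symm).mul_right (Pd k u hu d' hd' (h2 ▸ hc.symm)).symm
  have shift : ∀ v, φ v = 1 → ∀ g ∈ D, v⁻¹ * (g * v * g⁻¹) ∈ P (φ g) := by
    intro v hv g hg
    refine ⟨v⁻¹ * g * (v⁻¹)⁻¹, hconjD v⁻¹ g hg, g, hg, ?_, rfl, ?_⟩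
    · simp [map_mul, map_inv, hv]
    · rw [CfsgThreeTrans.inv_self hS hg, inv_inv]; simp only [mul_assoc]
  -- they commute pairwise
  have Pall : ∀ k l, ∀ u ∈ P k, ∀ v ∈ P l, Commute u v := by
    intro k l u hu v hv
    by_cases hkl : Commute k l
    · exact Pcomm k l hkl u hu v hv
    set H := Subgroup.centralizer ({⁅u, v⁆} : Set G) with hH
    have hkD : k ∈ φ '' D := by obtain ⟨d, hd, -, -, h1, -, -⟩ := hu; exact ⟨d, hd, h1⟩
    have hlD : l ∈ φ '' D := by obtain ⟨d, hd, -, -, h1, -, -⟩ := hv; exact ⟨d, hd, h1⟩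
    have hfix : ∀ g ∈ D, Commute (φ g) k ∨ Commute (φ g) l → g ∈ H := by
      intro g hg hor
      rw [hH, Subgroup.mem_centralizer_singleton_iff]
      have key : g * ⁅u, v⁆ * g⁻¹ = ⁅u, v⁆ := by
        rw [show g * ⁅u, v⁆ * g⁻¹ = ⁅g * u * g⁻¹, g * v * g⁻¹⁆ by simp only [commutatorElement_def]; group]
        rcases hor with hc | hc
        · have hgu : g * u * g⁻¹ = u := by rw [(Pd k u hu g hg hc).eq, mul_inv_cancel_right]
          set w := v⁻¹ * (g * v * g⁻¹) with hw
          have hwu : Commute u w := (Pcomm k (φ g) hc.symm u hu w (shift v (Pker l v hv) g hg))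
          have hgv : g * v * g⁻¹ = v * w := by rw [hw, mul_inv_cancel_left]
          rw [hgu, hgv, commutatorElement_def, commutatorElement_def]
          calc u * (v * w) * u⁻¹ * (v * w)⁻¹ = u * v * (w * u⁻¹) * w⁻¹ * v⁻¹ := by group
            _ = u * v * (u⁻¹ * w) * w⁻¹ * v⁻¹ := by rw [hwu.symm.inv_right.eq]
            _ = u * v * u⁻¹ * v⁻¹ := by group
        · have hgv : g * v * g⁻¹ = v := by rw [(Pd l v hv g hg hc).eq, mul_inv_cancel_right]
          set w := u⁻¹ * (g * u * g⁻¹) with hw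
          have hwv : Commute v w := (Pcomm l (φ g) hc.symm v hv w (shift u (Pker k u hu) g hg))
          have hgu : g * u * g⁻¹ = u * w := by rw [hw, mul_inv_cancel_left]
          rw [hgu, hgv, commutatorElement_def, commutatorElement_def]
          calc u * w * v * (u * w)⁻¹ * v⁻¹ = u * (w * v) * w⁻¹ * u⁻¹ * v⁻¹ := by group
            _ = u * (v * w) * w⁻¹ * u⁻¹ * v⁻¹ := by rw [hwv.eq]
            _ = u * v * u⁻¹ * v⁻¹ := by group
      calc g * ⁅u, v⁆ = g * ⁅u, v⁆ * g⁻¹ * g := by group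
        _ = ⁅u, v⁆ * g := by rw [key]
    have hmap : H.map φ = ⊤ := by
      rw [eq_top_iff, ← Subgroup.map_top_of_surjective φ hφ, ← hgen, MonoidHom.map_closure, Subgroup.closure_le]
      refine (hgen2 k hkD l hlD hkl).trans ?_
      rw [SetLike.coe_subset_coe, Subgroup.closure_le]
      rintro m ⟨⟨g, hg, rfl⟩, hor⟩
      exact ⟨g, hfix g hg hor, rfl⟩
    have htop : ∀ g ∈ D, g ∈ H := by
      intro g hg
      obtain ⟨d, hd, hdk⟩ := hkD
      obtain ⟨x, hx⟩ := isConj_iff.mp (hconjD' d hd g hg)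
      obtain ⟨y, hy, hyx⟩ := (hmap ▸ Subgroup.mem_top (φ x) : φ x ∈ H.map φ)
      have hmem : y⁻¹ * g * y ∈ H := by
        refine hfix _ (by simpa using hconjD y⁻¹ g hg) (Or.inl ?_)
        rw [map_mul, map_mul, map_inv, hyx, ← hx, map_mul, map_mul, map_inv, hdk]
        rw [show (φ x)⁻¹ * (φ x * k * (φ x)⁻¹) * φ x = k by group]
      have := mul_mem (mul_mem hy hmem) (inv_mem hy)
      rwa [show y * (y⁻¹ * g * y) * y⁻¹ = g by group] at this
    have hc : ⁅u, v⁆ ∈ Subgroup.center G := Subgroup.mem_center_iff.mpr fun g => by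
      have : g ∈ H := ((Subgroup.closure_le H).mpr htop) (hgen ▸ Subgroup.mem_top g)
      exact Subgroup.mem_centralizer_singleton_iff.mp this
    rw [hZ, Subgroup.mem_bot] at hc
    exact commutatorElement_eq_one_iff_commute.mp hc
  -- the subgroup they generate
  set N := Subgroup.closure {u | ∃ k, u ∈ P k} with hN
  haveI hNn : N.Normal := by
    refine ⟨fun n hn g => ?_⟩
    have h := Subgroup.mem_map_of_mem (MulAut.conj g).toMonoidHom hn
    rw [hN, MonoidHom.map_closure] at h
    refine Subgroup.closure_mono ?_ h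
    rintro _ ⟨u, ⟨k, d, hd, d', hd', h1, h2, rfl⟩, rfl⟩
    refine ⟨φ g * k * (φ g)⁻¹, g * d * g⁻¹, hconjD g d hd, g * d' * g⁻¹, hconjD g d' hd', ?_, ?_, ?_⟩
    · rw [map_mul, map_mul, map_inv, h1]
    · rw [map_mul, map_mul, map_inv, h2]
    · show g * (d * d') * g⁻¹ = _
      group
  have hNker : N ≤ φ.ker := (Subgroup.closure_le _).mpr fun u ⟨k, hu⟩ => Pker k u hu
  have hNab : ∀ a ∈ N, ∀ b ∈ N, Commute a b := by
    intro a ha b hb
    have h1 : N ≤ Subgroup.centralizer ({u | ∃ k, u ∈ P k} : Set G) := (Subgroup.closure_le _).mpr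
      fun u ⟨k, hu⟩ => Subgroup.mem_centralizer_iff.mpr fun v ⟨l, hv⟩ => (Pall l k v hv u hu).eq
    have h2 : N ≤ Subgroup.centralizer ({a} : Set G) := (Subgroup.closure_le _).mpr fun u hu =>
      Subgroup.mem_centralizer_singleton_iff.mpr (Subgroup.mem_centralizer_iff.mp (h1 ha) u hu)
    exact (Subgroup.mem_centralizer_singleton_iff.mp (h2 hb)).symm
  -- five lifts
  obtain ⟨k, hk, hkc, hk1⟩ := hfive
  choose δ hδ hδk using hk
  have hδc : ∀ i j, Commute (δ i) (δ j) := fun i j => lift _ (hδ i) _ (hδ j) (by rw [hδk, hδk]; exact hkc i j)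
  set v := δ 0 * δ 1 * δ 2 * δ 3 * δ 4 with hv
  have hvker : φ v = 1 := by simp only [hv, map_mul, hδk, hk1]
  have hvv : v * v = 1 := by
    have c4 : Commute (δ 0 * δ 1 * δ 2 * δ 3) (δ 4) :=
      (((hδc 0 4).mul_left (hδc 1 4)).mul_left (hδc 2 4)).mul_left (hδc 3 4)
    have c3 : Commute (δ 0 * δ 1 * δ 2) (δ 3) := ((hδc 0 3).mul_left (hδc 1 3)).mul_left (hδc 2 3)
    have c2 : Commute (δ 0 * δ 1) (δ 2) := (hδc 0 2).mul_left (hδc 1 2)
    rw [← pow_two, hv, c4.mul_pow, c3.mul_pow, c2.mul_pow, (hδc 0 1).mul_pow]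
    simp only [pow_two, hsq _ (hδ _), mul_one]
  let q : G →* G ⧸ N := QuotientGroup.mk' N
  have hcen : ∀ u, φ u = 1 → ∀ g, Commute (q u) (q g) := by
    intro u hu g
    have hall : Subgroup.closure D ≤ (Subgroup.centralizer ({q u} : Set (G ⧸ N))).comap q := by
      rw [Subgroup.closure_le]
      intro d hd
      rw [SetLike.mem_coe, Subgroup.mem_comap, Subgroup.mem_centralizer_singleton_iff]
      have h1 : q (u⁻¹ * (d * u * d⁻¹)) = 1 :=
        (QuotientGroup.eq_one_iff _).mpr (Subgroup.subset_closure ⟨φ d, shift u hu d hd⟩)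
      calc q d * q u = q u * q (u⁻¹ * (d * u * d⁻¹)) * q d := by simp [map_mul, map_inv, mul_assoc]
        _ = q u * q d := by rw [h1, mul_one]
    rw [hgen] at hall
    exact (Subgroup.mem_centralizer_singleton_iff.mp (hall (Subgroup.mem_top g))).symm
  have hvN : ∀ a ∈ N, Commute v a := by
    have hle : N ≤ Subgroup.centralizer ({v} : Set G) := by
      rw [hN, Subgroup.closure_le]
      rintro u ⟨l, hu⟩
      obtain ⟨d, hd, d', hd', h1, h2, rfl⟩ := hu
      obtain ⟨x, hx⟩ := isConj_iff.mp (hconjD' (δ 0) (hδ 0) d hd)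
      set d'' := x⁻¹ * d' * x with hd''
      have hd''D : d'' ∈ D := by simpa [hd''] using hconjD x⁻¹ d' hd'
      have hu0 : δ 0 * d'' ∈ P (k 0) := by
        refine ⟨δ 0, hδ 0, d'', hd''D, hδk 0, ?_, rfl⟩
        rw [hd'', map_mul, map_mul, map_inv, h2, ← h1, ← hx, map_mul, map_mul, map_inv, hδk]
        group
      set u₀ := δ 0 * d'' with hu₀
      have hvu : Commute v u₀ := by
        have h : ∀ i, Commute (δ i) u₀ := fun i => Pd _ _ hu0 _ (hδ i) (by rw [hδk]; exact hkc i 0)
        exact ((((h 0).mul_left (h 1)).mul_left (h 2)).mul_left (h 3)).mul_left (h 4)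
      have hu0N : u₀ ∈ N := Subgroup.subset_closure ⟨_, hu0⟩
      have hn : v⁻¹ * (x⁻¹ * v * x) ∈ N := by
        refine (QuotientGroup.eq_one_iff _).mp ?_
        show q _ = 1
        simp only [map_mul, map_inv]
        rw [show (q x)⁻¹ * q v * q x = q v by rw [mul_assoc, (hcen v hvker x).eq, inv_mul_cancel_left], inv_mul_cancel]
      have h3 : Commute (x⁻¹ * v * x) u₀ := by
        have := hvu.mul_left (hNab _ hn _ hu0N)
        rwa [mul_inv_cancel_left] at this
      have h4 := (h3.map (MulAut.conj x).toMonoidHom).eq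
      rw [SetLike.mem_coe, Subgroup.mem_centralizer_singleton_iff]
      have e1 : d * d' = x * u₀ * x⁻¹ := by rw [← hx, hu₀, hd'']; group
      simp only [MulEquiv.toMonoidHom_eq_coe, MonoidHom.coe_coe, MulAut.conj_apply] at h4
      rw [show x * (x⁻¹ * v * x) * x⁻¹ = v by group, ← e1] at h4
      exact h4.symm
    exact fun a ha => (Subgroup.mem_centralizer_singleton_iff.mp (hle ha)).symm
  -- the kernel is `N ⟨v⟩`
  set M := N ⊔ Subgroup.zpowers v with hM
  have hMker : M ≤ φ.ker := sup_le hNker (Subgroup.zpowers_le.mpr hvker)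
  have hMel : Cfsg.IsElementaryAbelian 2 M := by
    have hset : M = Subgroup.closure ({u | ∃ l, u ∈ P l} ∪ {v}) := by
      rw [hM, Subgroup.closure_union, ← hN, Subgroup.zpowers_eq_closure]
    have hgenc : ∀ a ∈ ({u | ∃ l, u ∈ P l} ∪ {v} : Set G), ∀ b ∈ ({u | ∃ l, u ∈ P l} ∪ {v} : Set G), Commute a b := by
      rintro a (⟨l, ha⟩ | rfl) b (⟨l', hb⟩ | rfl)
      · exact Pall l l' a ha b hb
      · exact (hvN a (Subgroup.subset_closure ⟨l, ha⟩)).symm
      · exact hvN b (Subgroup.subset_closure ⟨l', hb⟩)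
      · exact Commute.refl _
    have hab : ∀ a ∈ M, ∀ b ∈ M, Commute a b := by
      intro a ha b hb
      rw [hset] at ha hb
      have h1 : Subgroup.closure ({u | ∃ l, u ∈ P l} ∪ {v}) ≤ Subgroup.centralizer (({u | ∃ l, u ∈ P l} ∪ {v}) : Set G) :=
        (Subgroup.closure_le _).mpr fun x hx => Subgroup.mem_centralizer_iff.mpr fun y hy => (hgenc y hy x hx).eq
      have h2 : Subgroup.closure ({u | ∃ l, u ∈ P l} ∪ {v}) ≤ Subgroup.centralizer ({a} : Set G) :=
        (Subgroup.closure_le _).mpr fun x hx => Subgroup.mem_centralizer_singleton_iff.mpr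
          (Subgroup.mem_centralizer_iff.mp (h1 ha) x hx)
      exact (Subgroup.mem_centralizer_singleton_iff.mp (h2 hb)).symm
    refine ⟨⟨⟨fun a b => Subtype.ext (hab a a.2 b b.2)⟩⟩, fun a ha => ?_⟩
    have hmemM : ∀ x ∈ Subgroup.closure ({u | ∃ l, u ∈ P l} ∪ {v}), x ∈ M := fun x hx => hset ▸ hx
    rw [hset] at ha
    induction ha using Subgroup.closure_induction with
    | mem x hx =>
      rw [pow_two]
      rcases hx with ⟨l, hx⟩ | rfl
      · exact Pinv l x hx
      · exact hvv
    | one => exact one_pow 2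
    | mul x y hx hy ihx ihy => rw [(hab x (hmemM x hx) y (hmemM y hy)).mul_pow, ihx, ihy, one_mul]
    | inv x _ ih => rw [inv_pow, ih, inv_one]
  haveI hMn : M.Normal := by
    refine ⟨fun a ha g => ?_⟩
    have h1 : q (a⁻¹ * (g * a * g⁻¹)) = 1 := by
      simp only [map_mul, map_inv]
      rw [(hcen a (hMker ha) g).symm.eq, mul_inv_cancel_right, inv_mul_cancel]
    have h2 : a⁻¹ * (g * a * g⁻¹) ∈ M := Subgroup.mem_sup_left ((QuotientGroup.eq_one_iff _).mp h1)
    have := mul_mem ha h2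
    rwa [mul_inv_cancel_left] at this
  suffices hle : φ.ker ≤ M by rwa [le_antisymm hle hMker]
  let Q := G ⧸ M
  let m : G →* Q := QuotientGroup.mk' M
  let ψ : Q →* K := QuotientGroup.lift M φ (fun x hx => hMker hx)
  have hψ : ∀ g, ψ (m g) = φ g := fun g => rfl
  have hψs : Function.Surjective ψ := fun y => by obtain ⟨g, rfl⟩ := hφ y; exact ⟨m g, hψ g⟩
  have hψc : ψ.ker ≤ Subgroup.center Q := by
    intro z hz
    obtain ⟨u, rfl⟩ := QuotientGroup.mk'_surjective M z
    refine Subgroup.mem_center_iff.mpr fun w => ?_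
    obtain ⟨g, rfl⟩ := QuotientGroup.mk'_surjective M w
    show m g * m u = m u * m g
    rw [← map_mul, ← map_mul]
    refine QuotientGroup.eq.mpr (Subgroup.mem_sup_left ((QuotientGroup.eq_one_iff _).mp ?_))
    show q _ = 1
    have hu : φ u = 1 := hz
    simp only [map_mul, map_inv, (hcen u hu g).eq, mul_inv_rev]
    group
  have htop : commutator Q = ⊤ := by
    have hmem : ∀ d ∈ D, Abelianization.of (m d) = 1 := by
      intro d hd
      have hsame : ∀ e ∈ D, Abelianization.of (m e) = Abelianization.of (m d) := fun e he => by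
        obtain ⟨g, hg⟩ := isConj_iff.mp (hconjD' d hd e he)
        rw [← hg]
        simp only [map_mul, map_inv]
        rw [mul_comm (Abelianization.of (m g)), mul_inv_cancel_right]
      have h2 : Abelianization.of (m d) * Abelianization.of (m d) = 1 := by
        rw [← map_mul, ← map_mul, hsq d hd, map_one, map_one]
      have hv1 : m v = 1 := (QuotientGroup.eq_one_iff v).mpr (Subgroup.mem_sup_right (Subgroup.mem_zpowers v))
      have h5 := congrArg Abelianization.of hv1
      simp only [hv, map_mul, map_one, hsame _ (hδ _)] at h5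
      rwa [h2, one_mul, h2, one_mul] at h5
    rw [eq_top_iff]
    intro z _
    obtain ⟨g, rfl⟩ := QuotientGroup.mk'_surjective M z
    have hle : Subgroup.closure D ≤ (Abelianization.of.comp m).ker := (Subgroup.closure_le _).mpr hmem
    rw [hgen] at hle
    have hg : Abelianization.of (m g) = 1 := hle (Subgroup.mem_top g)
    rw [← Abelianization.ker_of]
    exact hg
  haveI : Small.{0} Q := Countable.toSmall Q
  let e : Shrink.{0} Q ≃* Q := Shrink.mulEquiv
  haveI : Finite (Shrink.{0} Q) := Finite.of_equiv _ e.symm.toEquiv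
  have hker : (ψ.comp e.toMonoidHom).ker = ⊥ := by
    refine hstem _ _ ⟨hψs.comp e.surjective, fun z hz => ?_, ?_⟩
    · refine Subgroup.mem_center_iff.mpr fun w => e.injective ?_
      rw [map_mul, map_mul]
      exact Subgroup.mem_center_iff.mp (hψc hz) (e w)
    · have : commutator (Shrink.{0} Q) = ⊤ := by
        rw [eq_top_iff]
        intro z _
        have h := Subgroup.mem_map_of_mem e.symm.toMonoidHom (htop ▸ Subgroup.mem_top (e z) : e z ∈ commutator Q)
        rw [commutator_def, Subgroup.map_commutator] at h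
        simp only [MulEquiv.toMonoidHom_eq_coe, MonoidHom.coe_coe, MulEquiv.symm_apply_apply] at h
        rw [commutator_def]
        exact Subgroup.commutator_mono le_top le_top h
      rw [this]; exact le_top
  intro u hu
  have h1 : e.symm (m u) ∈ (ψ.comp e.toMonoidHom).ker := by
    rw [MonoidHom.mem_ker, MonoidHom.comp_apply]
    show ψ (e (e.symm (m u))) = 1
    rw [e.apply_symm_apply, hψ]; exact hu
  rw [hker, Subgroup.mem_bot] at h1
  have h2 : m u = 1 := by rw [← e.apply_symm_apply (m u), h1, map_one]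
  exact (QuotientGroup.eq_one_iff u).mp h2

end CfsgUniqueTT
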