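/-
Lifting connectedness of a commuting graph through a centre of odd order that is inverted.
-/
import Cfsg.Agent.Lib.ThreeTrans.Basic
import Cfsg.Agent.Lib.Components

set_option autoImplicit false

namespace CfsgThreeTrans

open Cfsg CfsgLib
open scoped commutatorElement

universe u

variable {G : Type u} [Group G] [Finite G]

theorem conn_lift (L : Subgroup G) [L.Normal] (hL : IsQuasisimple L) (d : G) (hd : orderOf d = 2)
    (hgen : L ⊔ Subgroup.zpowers d = ⊤) (hodd : Odd (Nat.card ↥(Subgroup.center ↥L)))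
    (hinv : ∀ c ∈ (Subgroup.center ↥L).map L.subtype, d * c * d⁻¹ = c⁻¹)
    [hn : ((Subgroup.center ↥L).map L.subtype).Normal]
    (hconn : (commutingGraph (conjugatesOf (QuotientGroup.mk d : G ⧸ (Subgroup.center ↥L).map L.subtype))).Connected) :
    (commutingGraph (conjugatesOf d)).Connected := by
  set Z := (Subgroup.center ↥L).map L.subtype with hZ
  set q := QuotientGroup.mk' Z
  have hperf : ⁅L, L⁆ = L := by
    have h := congrArg (Subgroup.map L.subtype) hL.1.1
    rwa [commutator_def, Subgroup.map_commutator, ← MonoidHom.range_eq_map, Subgroup.range_subtype] at h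
  have hZL : ∀ l ∈ L, ∀ c ∈ Z, Commute l c := by
    rintro l hl _ ⟨c, hc, rfl⟩
    exact congrArg Subtype.val (Subgroup.mem_center_iff.mp hc ⟨l, hl⟩)
  have hinvu : ∀ u ∈ conjugatesOf d, ∀ c ∈ Z, u * c * u⁻¹ = c⁻¹ := by
    intro u hu c hc
    obtain ⟨g, rfl⟩ := isConj_iff.1 (show IsConj d u from hu)
    obtain ⟨l, hl, t, ht, rfl⟩ := Subgroup.mem_sup_of_normal_left.mp (hgen ▸ Subgroup.mem_top g)
    obtain ⟨k, rfl⟩ := Subgroup.mem_zpowers_iff.mp ht
    have e : l * d ^ k * d * (l * d ^ k)⁻¹ = l * d * l⁻¹ := by group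
    rw [e]
    calc l * d * l⁻¹ * c * (l * d * l⁻¹)⁻¹ = l * (d * (l⁻¹ * c * l⁻¹⁻¹) * d⁻¹) * l⁻¹ := by group
      _ = l * c⁻¹ * l⁻¹ := by
          rw [(hZL _ (inv_mem hl) c hc).eq, mul_inv_cancel_right, hinv c hc]
      _ = c⁻¹ := by rw [(hZL _ hl _ (inv_mem hc)).eq, mul_inv_cancel_right]
  have hsqu : ∀ u ∈ conjugatesOf d, u * u = 1 := by
    intro u hu
    obtain ⟨g, rfl⟩ := isConj_iff.1 (show IsConj d u from hu)
    rw [show g * d * g⁻¹ * (g * d * g⁻¹) = g * (d * d) * g⁻¹ by group,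
      CfsgThreeTrans.mul_self_of_order_two hd, mul_one, mul_inv_cancel]
  haveI : Nonempty (conjugatesOf d) := ⟨⟨d, mem_conjugatesOf_self⟩⟩
  set d0 : conjugatesOf d := ⟨d, mem_conjugatesOf_self⟩
  let C : Set G := {u | ∃ hu : u ∈ conjugatesOf d, (commutingGraph (conjugatesOf d)).Reachable d0 ⟨u, hu⟩}
  have hdC : d ∈ C := ⟨mem_conjugatesOf_self, SimpleGraph.Reachable.refl _⟩
  -- every fibre meets `C`
  have hfib : ∀ v ∈ conjugatesOf d, ∃ c ∈ C, q c = q v := by
    intro v hv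
    have hqv : ∀ w ∈ conjugatesOf d, q w ∈ conjugatesOf (q d) := fun w hw => q.map_isConj hw
    obtain ⟨p⟩ := hconn.preconnected ⟨q d, hqv d mem_conjugatesOf_self⟩ ⟨q v, hqv v hv⟩
    suffices ∀ (a b : conjugatesOf (q d)) (_ : (commutingGraph (conjugatesOf (q d))).Walk a b),
        (∃ c ∈ C, q c = a.1) → ∃ c ∈ C, q c = b.1 from this _ _ p ⟨d, hdC, rfl⟩
    intro a b p
    induction p with
    | nil => exact id
    | @cons a b _ hab _ ih =>
      rintro ⟨c, ⟨hc, hr⟩, hca⟩
      refine ih ?_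
      obtain ⟨g, hg⟩ := isConj_iff.1 (show IsConj (q d) b.1 from b.2)
      obtain ⟨g, rfl⟩ := QuotientGroup.mk'_surjective Z g
      set v0 := g * d * g⁻¹ with hv0
      have hv0m : v0 ∈ conjugatesOf d := isConj_iff.2 ⟨g, rfl⟩
      have hqv0 : q v0 = b.1 := by rw [← hg, hv0]; simp only [map_mul, map_inv]; rfl
      have hcom : Commute a.1 b.1 := by
        rcases ((SimpleGraph.fromRel_adj _ _ _).mp hab).2 with h | h
        exacts [h, h.symm]
      have hz : v0⁻¹ * (c * v0 * c⁻¹) ∈ Z := by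
        refine (QuotientGroup.eq_one_iff _).mp ?_
        show q (v0⁻¹ * (c * v0 * c⁻¹)) = 1
        simp only [map_mul, map_inv, hca, hqv0, hcom.eq]
        group
      set z := v0⁻¹ * (c * v0 * c⁻¹) with hzdef
      -- a fourth root of `z`
      have hoddZ : Odd (Nat.card Z) := by
        rwa [← Nat.card_congr (Subgroup.equivMapOfInjective (Subgroup.center ↥L) L.subtype L.subtype_injective).toEquiv]
      obtain ⟨m, hm⟩ := hoddZ
      have hzm : z ^ (2 * m + 1) = 1 := by
        have := pow_card_eq_one' (x := (⟨z, hz⟩ : Z))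
        rw [hm] at this
        exact congrArg Subtype.val this
      set f := (z ^ (m + 1)) ^ (m + 1) with hf
      have hf4 : f ^ 4 = z := by
        rw [hf, ← pow_mul, ← pow_mul,
          show (m + 1) * ((m + 1) * 4) = (2 * m + 1) * (2 * m + 3) + 1 by ring, pow_succ, pow_mul, hzm, one_pow,
          one_mul]
      have hfZ : f ∈ Z := pow_mem (pow_mem hz _) _
      set v1 := f⁻¹ * v0 * f with hv1
      have hv1e : v1 = v0 * (f * f) := by
        have h := hinvu v0 hv0m f hfZ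
        rw [hv1]
        calc f⁻¹ * v0 * f = v0 * f * v0⁻¹ * v0 * f := by rw [h]
          _ = v0 * (f * f) := by group
      have hv1m : v1 ∈ conjugatesOf d := hv0m.trans (isConj_iff.2 ⟨f⁻¹, by rw [hv1]; group⟩)
      have hcv : Commute c v1 := by
        have h1 : c * v1 * c⁻¹ = v1 := by
          rw [hv1e, show c * (v0 * (f * f)) * c⁻¹ = (c * v0 * c⁻¹) * (c * (f * f) * c⁻¹) by group,
            hinvu c hc _ (mul_mem hfZ hfZ)]
          rw [show c * v0 * c⁻¹ = v0 * z by rw [hzdef]; group, ← hf4]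
          group
          exact (congrArg (v0 * ·) (zpow_two f)).trans (mul_assoc v0 f f).symm
        exact mul_inv_eq_iff_eq_mul.mp h1
      have hq1 : q v1 = b.1 := by
        rw [hv1e, map_mul, hqv0, show q (f * f) = 1 from (QuotientGroup.eq_one_iff _).mpr (mul_mem hfZ hfZ), mul_one]
      refine ⟨v1, ⟨hv1m, hr.trans (SimpleGraph.Adj.reachable ((SimpleGraph.fromRel_adj _ _ _).mpr ⟨?_, Or.inl hcv⟩))⟩, hq1⟩
      intro e
      exact ((SimpleGraph.fromRel_adj _ _ _).mp hab).1 (Subtype.ext (by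
        rw [← hca, ← hq1]; exact congrArg (fun w : conjugatesOf d => q w.1) e))
  -- the setwise stabiliser of `C`
  set M := Subgroup.closure C with hM
  have hCpres : ∀ u ∈ C, ∀ v ∈ C, u * v * u⁻¹ ∈ C := by
    rintro u ⟨hu, hru⟩ v ⟨hv, hrv⟩
    have hmem : ∀ w ∈ conjugatesOf d, u * w * u⁻¹ ∈ conjugatesOf d := fun w hw =>
      (show IsConj d w from hw).trans (isConj_iff.2 ⟨u, rfl⟩)
    let φ : commutingGraph (conjugatesOf d) →g commutingGraph (conjugatesOf d) :=
      { toFun := fun w => ⟨u * w.1 * u⁻¹, hmem w.1 w.2⟩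
        map_rel' := fun {a b} hab => by
          obtain ⟨hne, hc⟩ := (SimpleGraph.fromRel_adj _ _ _).mp hab
          refine (SimpleGraph.fromRel_adj _ _ _).mpr ⟨fun e => hne ?_, ?_⟩
          · exact Subtype.ext (mul_left_cancel (mul_right_cancel (congrArg Subtype.val e)))
          · exact hc.imp (fun h => h.map (MulAut.conj u).toMonoidHom) (fun h => h.map (MulAut.conj u).toMonoidHom) }
    have h1 := (hru.symm.trans hrv).map φ
    have h2 : φ ⟨u, hu⟩ = ⟨u, hu⟩ := Subtype.ext (mul_inv_cancel_right u u)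
    rw [h2] at h1
    exact ⟨hmem v hv, hru.trans h1⟩
  have hMpres : ∀ g ∈ M, ∀ v ∈ C, g * v * g⁻¹ ∈ C := by
    intro g hg
    refine Subgroup.closure_induction'' (p := fun g _ => ∀ v ∈ C, g * v * g⁻¹ ∈ C) hCpres ?_ ?_ ?_ hg
    · intro u hu
      obtain ⟨hu', -⟩ := id hu
      rw [show u⁻¹ = u from inv_eq_of_mul_eq_one_right (hsqu u hu')]
      exact hCpres u hu
    · intro v hv; simpa using hv
    · intro x y _ _ hx hy v hv
      rw [show x * y * v * (x * y)⁻¹ = x * (y * v * y⁻¹) * x⁻¹ by group]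
      exact hx _ (hy v hv)
  refine ⟨fun a b => ?_⟩
  suffices hall : ∀ v ∈ conjugatesOf d, v ∈ C by
    obtain ⟨_, ha⟩ := hall a.1 a.2
    obtain ⟨_, hb⟩ := hall b.1 b.2
    exact ha.symm.trans hb
  intro v hv
  obtain ⟨g, rfl⟩ := isConj_iff.1 (show IsConj d v from hv)
  obtain ⟨l, hl, t, ht, rfl⟩ := Subgroup.mem_sup_of_normal_left.mp (hgen ▸ Subgroup.mem_top g)
  obtain ⟨k, rfl⟩ := Subgroup.mem_zpowers_iff.mp ht
  rw [show l * d ^ k * d * (l * d ^ k)⁻¹ = l * d * l⁻¹ by group]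
  -- `N` is the part of `L` moving `d` inside `C` up to the centre
  set N := Subgroup.normalClosure ({d} : Set G) with hN
  have hNM : N ≤ M ⊔ Z := by
    rw [hN, Subgroup.normalClosure, Subgroup.closure_le]
    intro w hw
    obtain ⟨a, ha, hwa⟩ := Group.mem_conjugatesOfSet_iff.mp hw
    rw [Set.mem_singleton_iff] at ha; subst ha
    obtain ⟨c, hc, hcw⟩ := hfib w hwa
    have : w = c * (c⁻¹ * w) := by group
    rw [this]
    exact mul_mem (Subgroup.mem_sup_left (Subgroup.subset_closure hc)) (Subgroup.mem_sup_right (QuotientGroup.eq.mp hcw))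
  have hdN : d ∈ N := Subgroup.subset_normalClosure (Set.mem_singleton d)
  haveI hNn : N.Normal := Subgroup.normalClosure_normal
  haveI : (N.subgroupOf L).Normal := Subgroup.normal_subgroupOf
  rcases quasisimple_normal_le_center_or_eq_top hL (N.subgroupOf L) with h | h
  · -- then `d` centralises `L`
    suffices ∀ x ∈ L, x * d * x⁻¹ = d by rw [this l hl]; exact hdC
    have hc : ∀ x ∈ L, ⁅x, d⁆ ∈ Z := fun x hx => by
      have h1 : ⁅x, d⁆ ∈ L := by
        rw [commutatorElement_def, mul_assoc x, mul_assoc x]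
        exact mul_mem hx ((inferInstance : L.Normal).conj_mem _ (inv_mem hx) d)
      have h2 : ⁅x, d⁆ ∈ N := by
        rw [commutatorElement_def]
        exact mul_mem (hNn.conj_mem _ hdN x) (inv_mem hdN)
      exact ⟨⟨_, h1⟩, h (Subgroup.mem_subgroupOf.mpr h2), rfl⟩
    intro x hx
    have hmul : ∀ y ∈ L, ∀ w ∈ L, ⁅y * w, d⁆ = ⁅y, d⁆ * ⁅w, d⁆ := by
      intro y hy w hw
      calc ⁅y * w, d⁆ = y * ⁅w, d⁆ * y⁻¹ * ⁅y, d⁆ := by simp only [commutatorElement_def]; group
        _ = ⁅y, d⁆ * ⁅w, d⁆ := by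
            rw [(hZL y hy _ (hc w hw)).eq, mul_inv_cancel_right]
            obtain ⟨c', hc', hcc⟩ := hc y hy
            exact (hZL _ (hcc ▸ c'.2) _ (hc w hw)).eq.symm
    let φ : L →* Z :=
      { toFun := fun y => ⟨⁅(y : G), d⁆, hc y y.2⟩
        map_one' := Subtype.ext (by simp)
        map_mul' := fun y w => Subtype.ext (hmul y y.2 w w.2) }
    have hker : ⁅L, L⁆ ≤ φ.ker.map L.subtype := Subgroup.commutator_le.mpr fun y hy w hw => by
      refine ⟨⁅(⟨y, hy⟩ : L), ⟨w, hw⟩⁆, ?_, rfl⟩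
      rw [SetLike.mem_coe, MonoidHom.mem_ker, map_commutatorElement, commutatorElement_eq_one_iff_mul_comm]
      obtain ⟨c', hc', hcc⟩ := hc y hy
      exact Subtype.ext (hZL _ (show ⁅y, d⁆ ∈ L from hcc ▸ c'.2) _ (φ ⟨w, hw⟩).2).eq
    rw [hperf] at hker
    obtain ⟨y, hy, rfl⟩ := hker hx
    have h1 : ⁅(y : G), d⁆ = 1 := congrArg Subtype.val (MonoidHom.mem_ker.mp hy)
    show (y : G) * d * (y : G)⁻¹ = d
    rw [commutatorElement_eq_one_iff_mul_comm.mp h1, mul_inv_cancel_right]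
  · have hLMZ : L ≤ M ⊔ Z := (Subgroup.subgroupOf_eq_top.mp h).trans hNM
    have hLM : L ≤ M := by
      calc L = ⁅L, L⁆ := hperf.symm
        _ ≤ M := Subgroup.commutator_le.mpr fun a ha b hb => by
          obtain ⟨m1, hm1, z1, hz1, ea⟩ := Subgroup.mem_sup_of_normal_right.mp (hLMZ ha)
          obtain ⟨m2, hm2, z2, hz2, eb⟩ := Subgroup.mem_sup_of_normal_right.mp (hLMZ hb)
          have hZsub : Z ≤ L := Subgroup.map_subtype_le _
          have m1L : m1 ∈ L := by rw [eq_mul_inv_of_mul_eq ea]; exact mul_mem ha (inv_mem (hZsub hz1))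
          have m2L : m2 ∈ L := by rw [eq_mul_inv_of_mul_eq eb]; exact mul_mem hb (inv_mem (hZsub hz2))
          have e : ⁅a, b⁆ = ⁅m1, m2⁆ := by
            rw [← ea, ← eb]
            have c1 : ⁅m1 * z1, m2 * z2⁆ = m1 * (z1 * (m2 * z2) * z1⁻¹) * m1⁻¹ * (m2 * z2)⁻¹ := by
              rw [commutatorElement_def]; group
            rw [c1, ← (hZL _ (mul_mem m2L (hZsub hz2)) z1 hz1).eq, mul_inv_cancel_right,
              show m1 * (m2 * z2) * m1⁻¹ * (m2 * z2)⁻¹ = m1 * m2 * (z2 * m1⁻¹ * z2⁻¹) * m2⁻¹ by group,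
              ← (hZL _ (inv_mem m1L) z2 hz2).eq, mul_inv_cancel_right, commutatorElement_def]
          rw [e, commutatorElement_def]
          exact mul_mem (mul_mem (mul_mem hm1 hm2) (inv_mem hm1)) (inv_mem hm2)
    exact hMpres l (hLM hl) d hdC

end CfsgThreeTrans
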