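/-
The line system of a set of 3-transpositions is a Fischer space.
-/
import Cfsg.Agent.Lib.ThreeTrans.Elementary

set_option autoImplicit false

namespace CfsgThreeTrans.FSpace

open Cfsg

variable {G : Type*} [Group G] {D : Set G}

/-- The line of two members. -/
def mk (x y : D) : Set D := {z : D | (z : G) = x ∨ (z : G) = y ∨ (z : G) = (y : G) * (x : G) * (y : G)⁻¹}

theorem line_mem {x y : D} (h : ¬ Commute (x : G) (y : G)) : mk x y ∈ threeTranspositionLines D := ⟨x, y, h, rfl⟩

theorem nc_third (hD : IsThreeTranspositionSet D) {x y : G} (hx : x ∈ D) (hy : y ∈ D) (h : ¬ Commute x y) :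
    ¬ Commute y (y * x * y⁻¹) ∧ ¬ Commute x (y * x * y⁻¹) := by
  have e := inv_self hD hy
  have hconj : ∀ u v : G, Commute u v → ∀ g : G, Commute (g * u * g⁻¹) (g * v * g⁻¹) := fun u v huv g =>
    huv.map (MulAut.conj g).toMonoidHom
  refine ⟨fun hc => h ?_, fun hc => h ?_⟩
  · have := hconj _ _ hc y⁻¹
    simp [mul_assoc] at this
    exact this.symm
  · rw [e, ← braid hD hx hy h] at hc
    have := hconj _ _ hc x⁻¹
    rw [inv_inv, inv_self hD hx] at this
    simp [mul_assoc, mul_self hD hx, mul_mul_cancel_self (mul_self hD hx)] at this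
    exact this

theorem ne_of_nc {x y : G} (h : ¬ Commute x y) : x ≠ y := fun e => h (e ▸ Commute.refl x)

theorem third_symm (hD : IsThreeTranspositionSet D) {x y : G} (hx : x ∈ D) (hy : y ∈ D) (h : ¬ Commute x y) :
    y * x * y⁻¹ = x * y * x⁻¹ := by
  rw [inv_self hD hy, inv_self hD hx, braid hD hx hy h]

theorem line_eq (hD : IsThreeTranspositionSet D) {l : Set D} (hl : l ∈ threeTranspositionLines D) {p q : D}
    (hp : p ∈ l) (hq : q ∈ l) (hpq : p ≠ q) : ¬ Commute (p : G) (q : G) ∧ l = mk p q := by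
  obtain ⟨x, y, h, rfl⟩ := hl
  have hx := x.2
  have hy := y.2
  obtain ⟨h1, h2⟩ := nc_third hD hx hy h
  have hs := third_symm hD hx hy h
  have hyy : (y : G) * y = 1 := mul_self hD hy
  have hxx : (x : G) * x = 1 := mul_self hD hx
  have hyi := inv_self hD hy
  have hxi := inv_self hD hx
  -- conjugating back from the third point
  have eA : ((y : G) * x * (y : G)⁻¹) * x * ((y : G) * x * (y : G)⁻¹)⁻¹ = y := by
    rw [hs, hxi]
    simp only [mul_inv_rev, hxi, hyi, mul_assoc, mul_mul_cancel_self hxx]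
    rw [← mul_assoc (y : G) x, ← mul_assoc ((y : G) * x), braid hD hy hx (fun e => h e.symm)]
    simp [mul_assoc, mul_mul_cancel_self hxx, hxx, hyy]
  have eB : ((y : G) * x * (y : G)⁻¹) * y * ((y : G) * x * (y : G)⁻¹)⁻¹ = x := by
    simp only [mul_inv_rev, hxi, hyi, mul_assoc, mul_mul_cancel_self hyy]
    rw [← mul_assoc (x : G) y, ← mul_assoc ((x : G) * y), braid hD hx hy h]
    simp [mul_assoc, mul_mul_cancel_self hyy, hxx, hyy]
  have eC : (x : G) * ((y : G) * x * (y : G)⁻¹) * (x : G)⁻¹ = y := by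
    rw [hs]; simp [mul_assoc, hxi, hxx, mul_mul_cancel_self hxx]
  have eD : (y : G) * ((y : G) * x * (y : G)⁻¹) * (y : G)⁻¹ = x := by
    simp [mul_assoc, hyi, hyy, mul_mul_cancel_self hyy]
  rcases hp with hp | hp | hp <;> rcases hq with hq | hq | hq
  all_goals first
    | exact absurd (Subtype.ext (hp.trans hq.symm)) hpq
    | skip
  all_goals refine ⟨?_, Set.ext fun z => ?_⟩
  all_goals first
    | (rw [hp, hq]; first | exact h | exact fun e => h e.symm | exact h1 | exact fun e => h1 e.symm | exact h2 |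
        exact fun e => h2 e.symm)
    | skip
  all_goals simp only [mk, Set.mem_setOf_eq, hp, hq]
  all_goals first
    | exact Iff.rfl
    | (simp only [← hs]; tauto)
    | (simp only [eA]; tauto)
    | (simp only [eB]; tauto)
    | (simp only [eC]; tauto)
    | (simp only [eD]; tauto)

theorem partialLinear (hD : IsThreeTranspositionSet D) : LineSystem.IsPartialLinear (threeTranspositionLines D) :=
  fun _ hl _ hm _ _ hxy hxl hyl hxm hym => (line_eq hD hl hxl hyl hxy).2.trans (line_eq hD hm hxm hym hxy).2.symm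

theorem line_ncard (hD : IsThreeTranspositionSet D) (hconj : ∀ g : G, ∀ d ∈ D, g * d * g⁻¹ ∈ D) {l : Set D}
    (hl : l ∈ threeTranspositionLines D) : l.ncard = 3 := by
  obtain ⟨x, y, h, rfl⟩ := hl
  obtain ⟨h1, h2⟩ := nc_third hD x.2 y.2 h
  refine Set.ncard_eq_three.mpr ⟨x, y, ⟨_, hconj (y : G) x x.2⟩, fun e => ne_of_nc h (congrArg Subtype.val e),
    fun e => ne_of_nc h2 (congrArg Subtype.val e), fun e => ne_of_nc h1 (congrArg Subtype.val e), ?_⟩
  ext z
  simp [Subtype.ext_iff]

/-- A finite model of the subspace generated by two lines. -/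
theorem iso_of_model (hD : IsThreeTranspositionSet D) {Y : Type} (M : Set (Set Y)) (f : Y → D)
    (hf : Function.Injective f) (col : Y → Y → Prop) (th : Y → Y → Y)
    (hM : ∀ l : Set Y, l ∈ M ↔ ∃ u w, col u w ∧ l = {u, w, th u w})
    (hcol : ∀ u w, col u w ↔ ¬ Commute (f u : G) (f w : G))
    (hth : ∀ u w, col u w → (f w : G) * (f u : G) * (f w : G)⁻¹ = (f (th u w) : G))
    (S : Set D) (hS : S ⊆ Set.range f)
    (hgen : ∀ T : Set D, S ⊆ T → LineSystem.IsSubspace (threeTranspositionLines D) T → Set.range f ⊆ T) :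
    LineSystem.Isomorphic (LineSystem.restrict (threeTranspositionLines D) (LineSystem.span (threeTranspositionLines D) S)) M := by
  have hline : ∀ u w, col u w → mk (f u) (f w) = f '' {u, w, th u w} := by
    intro u w huw
    ext z
    simp [mk, Set.image_insert_eq, hth u w huw, Subtype.ext_iff]
  have hsub : LineSystem.IsSubspace (threeTranspositionLines D) (Set.range f) := by
    rintro l hl _ ⟨u, rfl⟩ _ ⟨w, rfl⟩ hne hu hw
    obtain ⟨hnc, rfl⟩ := line_eq hD hl hu hw hne
    rw [hline u w ((hcol u w).mpr hnc)]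
    exact Set.image_subset_range _ _
  have hspan : LineSystem.span (threeTranspositionLines D) S = Set.range f :=
    Set.Subset.antisymm (Set.sInter_subset_of_mem ⟨hS, hsub⟩) (Set.subset_sInter fun T hT => hgen T hT.1 hT.2)
  rw [hspan]
  refine ⟨(Equiv.ofInjective f hf).symm, fun m => ?_⟩
  set e := Equiv.ofInjective f hf
  have he : ∀ (u : Y) (l : Set Y), e u ∈ e '' l ↔ u ∈ l := fun u l => e.injective.mem_set_image
  constructor
  · rintro ⟨l, hl, hlS, rfl⟩
    obtain ⟨x, y, hxy, rfl⟩ := hl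
    obtain ⟨u, rfl⟩ := hlS (show x ∈ {z : D | (z : G) = x ∨ (z : G) = y ∨ _} from Or.inl rfl)
    obtain ⟨w, rfl⟩ := hlS (show y ∈ {z : D | (z : G) = f u ∨ (z : G) = y ∨ _} from Or.inr (Or.inl rfl))
    refine (hM _).mpr ⟨u, w, (hcol u w).mpr hxy, ?_⟩
    rw [← e.symm_image_image ({u, w, th u w} : Set Y)]
    congr 1
    ext p
    obtain ⟨v, rfl⟩ := e.surjective p
    rw [he]
    show f v ∈ mk (f u) (f w) ↔ _
    rw [hline u w ((hcol u w).mpr hxy), hf.mem_set_image]
  · intro h
    obtain ⟨u, w, huw, he'⟩ := (hM _).mp h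
    refine ⟨mk (f u) (f w), line_mem ((hcol u w).mp huw), by rw [hline u w huw]; exact Set.image_subset_range _ _, ?_⟩
    have hm : m = e '' {u, w, th u w} := by rw [← he']; exact (e.image_symm_image m).symm
    rw [hm]
    ext p
    obtain ⟨v, rfl⟩ := e.surjective p
    rw [he]
    show _ ↔ f v ∈ mk (f u) (f w)
    rw [hline u w huw, hf.mem_set_image]

theorem subspace_third {T : Set D} (hT : LineSystem.IsSubspace (threeTranspositionLines D) T) {x y z : D}
    (hx : x ∈ T) (hy : y ∈ T) (h : ¬ Commute (x : G) (y : G)) (hz : (z : G) = (y : G) * x * (y : G)⁻¹) : z ∈ T :=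
  hT _ (line_mem h) x hx y hy (fun e => ne_of_nc h (congrArg Subtype.val e)) (Or.inl rfl) (Or.inr (Or.inl rfl))
    (Or.inr (Or.inr hz))

/-- The transposition of a point of the dual affine plane. -/
def tau (s : DualAffinePoint) : Equiv.Perm (Fin 4) :=
  if s.1 = {0, 1} then Equiv.swap 0 1 else if s.1 = {0, 2} then Equiv.swap 0 2 else if s.1 = {0, 3} then Equiv.swap 0 3
  else if s.1 = {1, 2} then Equiv.swap 1 2 else if s.1 = {1, 3} then Equiv.swap 1 3 else Equiv.swap 2 3

/-- Collinearity in the dual affine plane. -/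
def dcol (u w : DualAffinePoint) : Prop := u ≠ w ∧ (u.1 ∩ w.1).Nonempty

/-- The third point in the dual affine plane. -/
def dth (u w : DualAffinePoint) : DualAffinePoint :=
  if h : (symmDiff u.1 w.1).card = 2 then ⟨symmDiff u.1 w.1, h⟩ else u

theorem tau_inj : Function.Injective tau := by unfold Function.Injective; decide +kernel

theorem tau_col : ∀ u w, (u ≠ w ∧ (u.1 ∩ w.1).Nonempty) ↔ ¬ tau u * tau w = tau w * tau u := by decide +kernel

theorem tau_th : ∀ u w : DualAffinePoint, (u ≠ w ∧ (u.1 ∩ w.1).Nonempty) →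
    tau w * tau u * (tau w)⁻¹ = tau (dth u w) := by decide +kernel

set_option synthInstance.maxSize 2000 in
theorem dual_lines_aux : (∀ i : Fin 4, ∃ u w : DualAffinePoint, (u ≠ w ∧ (u.1 ∩ w.1).Nonempty) ∧
      ∀ s : DualAffinePoint, i ∉ s.1 ↔ (s = u ∨ s = w ∨ s = dth u w)) ∧
    (∀ u w : DualAffinePoint, (u ≠ w ∧ (u.1 ∩ w.1).Nonempty) → ∃ i : Fin 4,
      ∀ s : DualAffinePoint, i ∉ s.1 ↔ (s = u ∨ s = w ∨ s = dth u w)) := by decide +kernel

theorem dual_lines (l : Set DualAffinePoint) :
    l ∈ dualAffinePlaneTwo ↔ ∃ u w, dcol u w ∧ l = {u, w, dth u w} := by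
  constructor
  · rintro ⟨i, rfl⟩
    obtain ⟨u, w, huw, h⟩ := dual_lines_aux.1 i
    exact ⟨u, w, huw, Set.ext fun s => by simpa using h s⟩
  · rintro ⟨u, w, huw, rfl⟩
    obtain ⟨i, h⟩ := dual_lines_aux.2 u w huw
    exact ⟨i, Set.ext fun s => by simpa using (h s).symm⟩

theorem affine_lines_aux : ∀ v w : Fin 2 → ZMod 3, (∀ c : ZMod 3, v + c • w = v ∨ v + c • w = v + w ∨ v + c • w = -v - (v + w)) ∧
    (w ≠ 0 → v ≠ v + w) ∧ -v - (v + w) = v + (2 : ZMod 3) • w := by decide +kernel

theorem affine_lines (l : Set (Fin 2 → ZMod 3)) :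
    l ∈ affinePlaneThree ↔ ∃ u w, u ≠ w ∧ l = {u, w, -u - w} := by
  constructor
  · rintro ⟨v, w, hw, rfl⟩
    refine ⟨v, v + w, (affine_lines_aux v w).2.1 hw, Set.ext fun p => ⟨?_, ?_⟩⟩
    · rintro ⟨c, rfl⟩
      simpa using (affine_lines_aux v w).1 c
    · rintro (rfl | rfl | rfl)
      · exact ⟨0, by simp⟩
      · exact ⟨1, by simp⟩
      · exact ⟨2, (affine_lines_aux v w).2.2⟩
  · rintro ⟨u, w, huw, rfl⟩
    refine ⟨u, w - u, sub_ne_zero.mpr huw.symm, Set.ext fun p => ⟨?_, ?_⟩⟩
    · rintro (rfl | rfl | rfl)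
      · exact ⟨0, by simp⟩
      · exact ⟨1, by simp⟩
      · exact ⟨2, by
          have := (affine_lines_aux u (w - u)).2.2
          rwa [add_sub_cancel] at this⟩
    · rintro ⟨c, rfl⟩
      have := (affine_lines_aux u (w - u)).1 c
      rw [add_sub_cancel] at this
      simpa using this

theorem dual_case (hD : IsThreeTranspositionSet D) (hconj : ∀ g : G, ∀ d ∈ D, g * d * g⁻¹ ∈ D) {a b c : D}
    (hab : ¬ Commute (a : G) (b : G)) (hac : ¬ Commute (a : G) (c : G)) (hbc : Commute (b : G) (c : G)) (hne : b ≠ c) :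
    LineSystem.Isomorphic (LineSystem.restrict (threeTranspositionLines D)
      (LineSystem.span (threeTranspositionLines D) (mk a b ∪ mk a c))) dualAffinePlaneTwo := by
  obtain ⟨φ, hφi, hφb, hφa, hφc⟩ := S4_exists hD b.2 a.2 c.2 (fun e => hne (Subtype.ext e)) hbc
    (fun e => hab e.symm) hac
  have hmem : ∀ s, φ (tau s) ∈ D := by
    intro s
    have key : ∀ s, ∃ g : Equiv.Perm (Fin 4), tau s = g * Equiv.swap 1 2 * g⁻¹ := by decide +kernel
    obtain ⟨g, hg⟩ := key s
    rw [hg, map_mul, map_mul, map_inv, hφa]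
    exact hconj _ _ a.2
  let f : DualAffinePoint → D := fun s => ⟨φ (tau s), hmem s⟩
  let p : ∀ i j : Fin 4, i ≠ j → DualAffinePoint := fun i j h => ⟨{i, j}, Finset.card_pair h⟩
  have fa : f (p 1 2 (by decide)) = a := Subtype.ext hφa
  have fb : f (p 0 1 (by decide)) = b := Subtype.ext hφb
  have fc : f (p 2 3 (by decide)) = c := Subtype.ext hφc
  have hcomm : ∀ u w, dcol u w ↔ ¬ Commute (f u : G) (f w : G) := fun u w => by
    show _ ↔ ¬ Commute (φ (tau u)) (φ (tau w))
    rw [commute_iff_eq, ← map_mul, ← map_mul, hφi.eq_iff]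
    exact tau_col u w
  have hth : ∀ u w, dcol u w → (f w : G) * (f u : G) * (f w : G)⁻¹ = (f (dth u w) : G) := fun u w h => by
    show φ (tau w) * φ (tau u) * (φ (tau w))⁻¹ = φ (tau (dth u w))
    rw [← map_inv, ← map_mul, ← map_mul, tau_th u w h]
  have hline : ∀ u w, dcol u w → mk (f u) (f w) ⊆ Set.range f := by
    intro u w h z hz
    rcases hz with e | e | e
    exacts [⟨u, (Subtype.ext e).symm⟩, ⟨w, (Subtype.ext e).symm⟩,
      ⟨dth u w, (Subtype.ext (e.trans (hth u w h))).symm⟩]
  refine iso_of_model hD _ f (fun u w h => tau_inj (hφi (congrArg Subtype.val h))) dcol dth dual_lines hcomm hth _ ?_ ?_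
  · rw [← fa, ← fb, ← fc]
    exact Set.union_subset (hline _ _ ((hcomm _ _).mpr (by rw [fa, fb]; exact hab)))
      (hline _ _ ((hcomm _ _).mpr (by rw [fa, fc]; exact hac)))
  · intro T hST hT
    have h12 : f (p 1 2 (by decide)) ∈ T := fa ▸ hST (Or.inl (Or.inl rfl))
    have h01 : f (p 0 1 (by decide)) ∈ T := fb ▸ hST (Or.inl (Or.inr (Or.inl rfl)))
    have h23 : f (p 2 3 (by decide)) ∈ T := fc ▸ hST (Or.inr (Or.inr (Or.inl rfl)))
    have step : ∀ u w, dcol u w → f u ∈ T → f w ∈ T → f (dth u w) ∈ T := fun u w h hu hw =>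
      subspace_third hT hu hw ((hcomm u w).mp h) (hth u w h).symm
    have h02 : f (p 0 2 (by decide)) ∈ T :=
      (show dth (p 0 1 (by decide)) (p 1 2 (by decide)) = p 0 2 (by decide) from by decide +kernel) ▸
        step _ _ (by unfold dcol; decide +kernel) h01 h12
    have h13 : f (p 1 3 (by decide)) ∈ T :=
      (show dth (p 1 2 (by decide)) (p 2 3 (by decide)) = p 1 3 (by decide) from by decide +kernel) ▸
        step _ _ (by unfold dcol; decide +kernel) h12 h23
    have h03 : f (p 0 3 (by decide)) ∈ T :=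
      (show dth (p 0 2 (by decide)) (p 2 3 (by decide)) = p 0 3 (by decide) from by decide +kernel) ▸
        step _ _ (by unfold dcol; decide +kernel) h02 h23
    rintro _ ⟨s, rfl⟩
    have key : ∀ s : DualAffinePoint, s.1 = {0, 1} ∨ s.1 = {0, 2} ∨ s.1 = {0, 3} ∨ s.1 = {1, 2} ∨ s.1 = {1, 3} ∨
        s.1 = {2, 3} := by decide +kernel
    rcases key s with e | e | e | e | e | e
    exacts [(Subtype.ext e : s = p 0 1 (by decide)) ▸ h01, (Subtype.ext e : s = p 0 2 (by decide)) ▸ h02,
      (Subtype.ext e : s = p 0 3 (by decide)) ▸ h03, (Subtype.ext e : s = p 1 2 (by decide)) ▸ h12,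
      (Subtype.ext e : s = p 1 3 (by decide)) ▸ h13, (Subtype.ext e : s = p 2 3 (by decide)) ▸ h23]

/-- Conjugation. -/
def act (g x : G) : G := g * x * g⁻¹

theorem act_act (g x y : G) : act g (act x y) = act (act g x) (act g y) := by simp [act, mul_assoc]

theorem commute_act (g x y : G) : Commute (act g x) (act g y) ↔ Commute x y := by
  refine ⟨fun h => ?_, fun h => h.map (MulAut.conj g).toMonoidHom⟩
  have := h.map (MulAut.conj g⁻¹).toMonoidHom
  simpa [act, mul_assoc] using this

/-- The nine points. -/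
def pts (a b c : G) (v : Fin 2 → ZMod 3) : G :=
  ![![a, c, act a c], ![b, act a (act b c), act c (act a b)], ![act a b, act b (act a c), act b c]]
    (v 0 : ZMod 3) (v 1 : ZMod 3)

theorem affine_case (hD : IsThreeTranspositionSet D) (hconj : ∀ g : G, ∀ d ∈ D, g * d * g⁻¹ ∈ D) {a b c : D}
    (hab : ¬ Commute (a : G) (b : G)) (hac : ¬ Commute (a : G) (c : G)) (hbc : ¬ Commute (b : G) (c : G))
    (hbc' : ¬ Commute (b : G) ((c : G) * a * (c : G)⁻¹)) :
    LineSystem.Isomorphic (LineSystem.restrict (threeTranspositionLines D)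
      (LineSystem.span (threeTranspositionLines D) (mk a b ∪ mk a c))) affinePlaneThree := by
  obtain ⟨a, ha⟩ := a; obtain ⟨b, hb⟩ := b; obtain ⟨c, hc⟩ := c
  simp only at hab hac hbc hbc'
  have hact : ∀ (g : G) {d : G}, d ∈ D → act g d ∈ D := fun g d hd => hconj g d hd
  have hsym : ∀ {x y : G}, x ∈ D → y ∈ D → ¬ Commute x y → act x y = act y x := fun hx hy h =>
    (third_symm hD hx hy h).symm
  have hinvol : ∀ {x : G}, x ∈ D → ∀ y, act x (act x y) = y := fun {x} hx y => by
    simp [act, mul_assoc, inv_self hD hx, mul_self hD hx, mul_mul_cancel_self (mul_self hD hx)]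
  have hself : ∀ x : G, act x x = x := fun x => by simp [act]
  replace hbc' : ¬ Commute b (act a c) := by rw [hsym ha hc hac]; exact hbc'
  have hbc2 : ¬ Commute (act a b) c := by
    intro e
    apply hbc'
    have := (commute_act a _ _).mpr e
    rwa [hinvol ha] at this
  -- the nine points
  set C := act a c with hC
  set B := act a b with hB
  have hCD : C ∈ D := hact _ hc
  have hBD : B ∈ D := hact _ hb
  have eab : act b a = B := (hsym ha hb hab).symm
  have eac : act c a = C := (hsym ha hc hac).symm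
  have ebc : act c b = act b c := (hsym hb hc hbc).symm
  have ebC : act C b = act b C := (hsym hb hCD hbc').symm
  have ecB : act B c = act c B := hsym hBD hc hbc2
  have hBC : ¬ Commute B C := fun e => hbc ((commute_act a b c).mp e)
  -- P 11 in its various forms
  set P := pts a b c with hP
  have p00 : P ![0, 0] = a := rfl
  have p01 : P ![0, 1] = c := rfl
  have p02 : P ![0, 2] = C := rfl
  have p10 : P ![1, 0] = b := rfl
  have p20 : P ![2, 0] = B := rfl
  have p11 : P ![1, 1] = act a (act b c) := rfl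
  have p12 : P ![1, 2] = act c B := rfl
  have p21 : P ![2, 1] = act b C := rfl
  have p22 : P ![2, 2] = act b c := rfl
  have hv : ∀ v : Fin 2 → ZMod 3, v = ![0, 0] ∨ v = ![0, 1] ∨ v = ![0, 2] ∨ v = ![1, 0] ∨ v = ![1, 1] ∨ v = ![1, 2] ∨
      v = ![2, 0] ∨ v = ![2, 1] ∨ v = ![2, 2] := by decide +kernel
  have neg_eq : ∀ (v w : Fin 2 → ZMod 3) (r : Fin 2 → ZMod 3), -v - w = r → P (-v - w) = P r := fun v w r h => by rw [h]
  have x12 : act a (act c B) = act b C := by rw [act_act, ← hC, hB, hinvol ha, ebC]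
  have x21 : act a (act b C) = act c B := by rw [act_act, ← hB, hC, hinvol ha, ecB]
  have y11 : act b (act a (act b c)) = act c B := by rw [act_act, eab, hinvol hb, ecB]
  have z11 : act c (act a (act b c)) = act b C := by rw [act_act, eac, ← ebc, hinvol hc, ebC]
  let H : (Fin 2 → ZMod 3) → Prop := fun u => ∀ w, act (P u) (P w) = P (-u - w)
  have H00 : H ![0, 0] := by
    intro w
    rcases hv w with rfl | rfl | rfl | rfl | rfl | rfl | rfl | rfl | rfl
    · rw [neg_eq _ _ ![0, 0] (by decide), p00, hself]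
    · rw [neg_eq _ _ ![0, 2] (by decide), p00, p01, p02]
    · rw [neg_eq _ _ ![0, 1] (by decide), p00, p01, p02, hC, hinvol ha]
    · rw [neg_eq _ _ ![2, 0] (by decide), p00, p10, p20]
    · rw [neg_eq _ _ ![2, 2] (by decide), p00, p11, p22, hinvol ha]
    · rw [neg_eq _ _ ![2, 1] (by decide), p00, p12, p21, x12]
    · rw [neg_eq _ _ ![1, 0] (by decide), p00, p10, p20, hB, hinvol ha]
    · rw [neg_eq _ _ ![1, 2] (by decide), p00, p12, p21, x21]
    · rw [neg_eq _ _ ![1, 1] (by decide), p00, p11, p22]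
  have H10 : H ![1, 0] := by
    intro w
    rcases hv w with rfl | rfl | rfl | rfl | rfl | rfl | rfl | rfl | rfl
    · rw [neg_eq _ _ ![2, 0] (by decide), p10, p00, p20, eab]
    · rw [neg_eq _ _ ![2, 2] (by decide), p10, p01, p22]
    · rw [neg_eq _ _ ![2, 1] (by decide), p10, p02, p21]
    · rw [neg_eq _ _ ![1, 0] (by decide), p10, hself]
    · rw [neg_eq _ _ ![1, 2] (by decide), p10, p11, p12, y11]
    · rw [neg_eq _ _ ![1, 1] (by decide), p10, p11, p12, ← y11, hinvol hb]
    · rw [neg_eq _ _ ![0, 0] (by decide), p10, p00, p20, ← eab, hinvol hb]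
    · rw [neg_eq _ _ ![0, 2] (by decide), p10, p02, p21, hinvol hb]
    · rw [neg_eq _ _ ![0, 1] (by decide), p10, p01, p22, hinvol hb]
  have H01 : H ![0, 1] := by
    intro w
    rcases hv w with rfl | rfl | rfl | rfl | rfl | rfl | rfl | rfl | rfl
    · rw [neg_eq _ _ ![0, 2] (by decide), p01, p00, p02, eac]
    · rw [neg_eq _ _ ![0, 1] (by decide), p01, hself]
    · rw [neg_eq _ _ ![0, 0] (by decide), p01, p00, p02, ← eac, hinvol hc]
    · rw [neg_eq _ _ ![2, 2] (by decide), p01, p10, p22, ebc]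
    · rw [neg_eq _ _ ![2, 1] (by decide), p01, p11, p21, z11]
    · rw [neg_eq _ _ ![2, 0] (by decide), p01, p12, p20, hinvol hc]
    · rw [neg_eq _ _ ![1, 2] (by decide), p01, p12, p20]
    · rw [neg_eq _ _ ![1, 1] (by decide), p01, p11, p21, ← z11, hinvol hc]
    · rw [neg_eq _ _ ![1, 0] (by decide), p01, p10, p22, ← ebc, hinvol hc]
  have hPD : ∀ v, P v ∈ D := by
    intro v
    rcases hv v with rfl | rfl | rfl | rfl | rfl | rfl | rfl | rfl | rfl
    exacts [ha, hc, hCD, hb, hact _ (hact _ hc), hact _ hBD, hBD, hact _ hCD, hact _ hc]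
  have comb : ∀ u v, H u → H v → H (-u - v) := by
    intro u v hu hv' w
    have e : act (act (P u) (P v)) (P w) = act (P u) (act (P v) (act (P u) (P w))) := by
      rw [act_act (P u) (P v), hinvol (hPD u)]
    rw [← hu v, e, hu w, hv' _, hu _]
    refine congrArg P (funext fun i => ?_)
    simp only [Pi.sub_apply, Pi.neg_apply]
    have key : ∀ x y t : ZMod 3, -x - (-y - (-x - t)) = -(-x - y) - t := by decide
    exact key _ _ _
  have hall : ∀ u, H u := by
    have c1 := comb _ _ H00 H10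
    have c2 := comb _ _ H00 H01
    have c3 := comb _ _ H10 H01
    rw [show -(![0, 0] : Fin 2 → ZMod 3) - ![1, 0] = ![2, 0] by decide] at c1
    rw [show -(![0, 0] : Fin 2 → ZMod 3) - ![0, 1] = ![0, 2] by decide] at c2
    rw [show -(![1, 0] : Fin 2 → ZMod 3) - ![0, 1] = ![2, 2] by decide] at c3
    have c4 := comb _ _ H00 c3
    have c5 := comb _ _ H01 c1
    have c6 := comb _ _ H10 c2
    rw [show -(![0, 0] : Fin 2 → ZMod 3) - ![2, 2] = ![1, 1] by decide] at c4
    rw [show -(![0, 1] : Fin 2 → ZMod 3) - ![2, 0] = ![1, 2] by decide] at c5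
    rw [show -(![1, 0] : Fin 2 → ZMod 3) - ![0, 2] = ![2, 1] by decide] at c6
    intro u
    rcases hv u with rfl | rfl | rfl | rfl | rfl | rfl | rfl | rfl | rfl
    exacts [H00, H01, c2, H10, c4, c5, c1, c6, c3]
  have hac1 : a ≠ c := ne_of_nc hac
  have hab1 : a ≠ b := ne_of_nc hab
  have hinj : Function.Injective P := by
    intro u w e
    by_contra hne
    have ht : ∀ t, P t = P (t + (u - w)) := by
      intro t
      have h1 := hall u (-u - t)
      have h2 := hall w (-u - t)
      rw [e] at h1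
      have := h1.symm.trans h2
      have k1 : ∀ x t : ZMod 3, -x - (-x - t) = t := by decide
      have k2 : ∀ x y t : ZMod 3, -y - (-x - t) = t + (x - y) := by decide
      rwa [show -u - (-u - t) = t from funext fun i => k1 _ _,
        show -w - (-u - t) = t + (u - w) from funext fun i => k2 _ _ _] at this
    rcases hv (u - w) with h | h | h | h | h | h | h | h | h
    · exact hne (sub_eq_zero.mp (h.trans (by decide)))
    · have := ht ![0, 0]
      rw [h, show (![0, 0] : Fin 2 → ZMod 3) + ![0, 1] = ![0, 1] by decide, p00, p01] at this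
      exact hac1 this
    · have := ht ![0, 0]
      rw [h, show (![0, 0] : Fin 2 → ZMod 3) + ![0, 2] = ![0, 2] by decide, p00, p02] at this
      refine hac1 ?_
      have h' := congrArg (act a) this
      rwa [hself, hC, hinvol ha] at h'
    · have := ht ![0, 0]
      rw [h, show (![0, 0] : Fin 2 → ZMod 3) + ![1, 0] = ![1, 0] by decide, p00, p10] at this
      exact hab1 this
    · have := ht ![0, 2]
      rw [h, show (![0, 2] : Fin 2 → ZMod 3) + ![1, 1] = ![1, 0] by decide, p02, p10] at this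
      exact ne_of_nc hbc' this.symm
    · have := ht ![0, 1]
      rw [h, show (![0, 1] : Fin 2 → ZMod 3) + ![1, 2] = ![1, 0] by decide, p01, p10] at this
      exact ne_of_nc hbc this.symm
    · have := ht ![0, 0]
      rw [h, show (![0, 0] : Fin 2 → ZMod 3) + ![2, 0] = ![2, 0] by decide, p00, p20] at this
      refine hab1 ?_
      have h' := congrArg (act a) this
      rwa [hself, hB, hinvol ha] at h'
    · have := ht ![1, 0]
      rw [h, show (![1, 0] : Fin 2 → ZMod 3) + ![2, 1] = ![0, 1] by decide, p01, p10] at this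
      exact ne_of_nc hbc this
    · have := ht ![1, 0]
      rw [h, show (![1, 0] : Fin 2 → ZMod 3) + ![2, 2] = ![0, 2] by decide, p02, p10] at this
      exact ne_of_nc hbc' this
  have hncP : ∀ u w, u ≠ w → ¬ Commute (P u) (P w) := by
    intro u w huw hcom
    refine huw ?_
    have h1 := hall u w
    rw [show act (P u) (P w) = P w by rw [act, hcom.eq, mul_inv_cancel_right]] at h1
    have k : ∀ x y : ZMod 3, -x - y = y → x = y := by decide
    exact funext fun i => k _ _ (congrFun (hinj h1).symm i)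
  have hth : ∀ u w : Fin 2 → ZMod 3, u ≠ w → P w * P u * (P w)⁻¹ = P (-u - w) := fun u w _ => by
    rw [show -u - w = -w - u by abel]; exact hall w u
  let f : (Fin 2 → ZMod 3) → D := fun v => ⟨P v, hPD v⟩
  have hline : ∀ u w, u ≠ w → mk (f u) (f w) ⊆ Set.range f := by
    intro u w h z hz
    rcases hz with e | e | e
    exacts [⟨u, (Subtype.ext e).symm⟩, ⟨w, (Subtype.ext e).symm⟩,
      ⟨-u - w, (Subtype.ext (e.trans (hth u w h))).symm⟩]
  refine iso_of_model hD _ f (fun u w h => hinj (congrArg Subtype.val h)) (fun u w => u ≠ w) (fun u w => -u - w)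
    affine_lines (fun u w => ⟨hncP u w, fun h e => h (e ▸ Commute.refl _)⟩) hth _ ?_ ?_
  · exact Set.union_subset (hline ![0, 0] ![1, 0] (by decide)) (hline ![0, 0] ![0, 1] (by decide))
  · intro T hST hT
    have q00 : f ![0, 0] ∈ T := hST (Or.inl (Or.inl rfl))
    have q10 : f ![1, 0] ∈ T := hST (Or.inl (Or.inr (Or.inl rfl)))
    have q01 : f ![0, 1] ∈ T := hST (Or.inr (Or.inr (Or.inl rfl)))
    have step : ∀ u w r : Fin 2 → ZMod 3, u ≠ w → -u - w = r → f u ∈ T → f w ∈ T → f r ∈ T := fun u w r h hr hu hw =>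
      subspace_third hT hu hw (hncP u w h) (by subst hr; exact (hth u w h).symm)
    have q20 : f ![2, 0] ∈ T := step _ _ _ (by decide) (by decide) q00 q10
    have q02 : f ![0, 2] ∈ T := step _ _ _ (by decide) (by decide) q00 q01
    have q22 : f ![2, 2] ∈ T := step _ _ _ (by decide) (by decide) q10 q01
    have q11 : f ![1, 1] ∈ T := step _ _ _ (by decide) (by decide) q00 q22
    have q12 : f ![1, 2] ∈ T := step _ _ _ (by decide) (by decide) q01 q20
    have q21 : f ![2, 1] ∈ T := step _ _ _ (by decide) (by decide) q10 q02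
    rintro _ ⟨v, rfl⟩
    rcases hv v with rfl | rfl | rfl | rfl | rfl | rfl | rfl | rfl | rfl
    exacts [q00, q01, q02, q10, q11, q12, q20, q21, q22]

theorem fischerSpace {D : Set G} (hD : IsThreeTranspositionGroup D) :
    IsFischerSpace (threeTranspositionLines D) := by
  obtain ⟨h, hconj, -⟩ := hD
  refine ⟨partialLinear h, fun l hl => line_ncard h hconj hl, ?_⟩
  intro l hl m hm hne hint
  obtain ⟨a, hal, ham⟩ := hint
  have hx : ∀ l ∈ threeTranspositionLines D, a ∈ l → ∃ b : D, ¬ Commute (a : G) (b : G) ∧ l = mk a b := by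
    intro l hl hal
    obtain ⟨x, y, hxy, rfl⟩ := hl
    by_cases hax : a = x
    · exact ⟨y, line_eq h (line_mem hxy) hal (Or.inr (Or.inl rfl)) (fun e => ne_of_nc hxy (by rw [← hax, e]))⟩
    · exact ⟨x, line_eq h (line_mem hxy) hal (Or.inl rfl) hax⟩
  obtain ⟨b, hab, rfl⟩ := hx l hl hal
  obtain ⟨c, hac, rfl⟩ := hx m hm ham
  have hpl := partialLinear h
  by_cases hbc : Commute (b : G) (c : G)
  · left
    refine dual_case h hconj hab hac hbc fun e => hne ?_
    rw [e]
  by_cases hbc' : Commute (b : G) ((c : G) * a * (c : G)⁻¹)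
  · left
    set c' : D := ⟨(c : G) * a * (c : G)⁻¹, hconj _ _ a.2⟩ with hc'
    have hac' : ¬ Commute (a : G) (c' : G) := (nc_third h a.2 c.2 hac).2
    have hmem : c' ∈ mk a c := Or.inr (Or.inr rfl)
    have e := (line_eq h hm ham hmem (fun e => ne_of_nc hac' (congrArg Subtype.val e))).2
    rw [e]
    refine dual_case h hconj hab hac' hbc' fun eb => hne ?_
    rw [eb]; exact e.symm
  · right
    exact affine_case h hconj hab hac hbc hbc'

end CfsgThreeTrans.FSpace
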