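/-
The maps t(x) of a Fischer space are 3-transpositions.
-/
import Cfsg.Agent.Lib.ThreeTrans.FischerSpace

set_option autoImplicit false

namespace CfsgThreeTrans.FMap

open Cfsg Cfsg.LineSystem

variable {X : Type*} {L : Set (Set X)}

theorem line_triple (h3 : ∀ l ∈ L, l.ncard = 3) {l : Set X} (hl : l ∈ L) {x y : X} (hxy : x ≠ y) (hx : x ∈ l)
    (hy : y ∈ l) : ∃ z, z ≠ x ∧ z ≠ y ∧ l = {x, y, z} := by
  obtain ⟨a, b, c, hab, hac, hbc, rfl⟩ := Set.ncard_eq_three.mp (h3 l hl)
  simp only [Set.mem_insert_iff, Set.mem_singleton_iff] at hx hy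
  rcases hx with rfl | rfl | rfl <;> rcases hy with rfl | rfl | rfl
  all_goals first
    | exact absurd rfl hxy
    | exact ⟨c, hac.symm, hbc.symm, rfl⟩
    | exact ⟨b, hab.symm, hbc, by ext; simp only [Set.mem_insert_iff, Set.mem_singleton_iff]; tauto⟩
    | exact ⟨c, hbc.symm, hac.symm, by ext; simp only [Set.mem_insert_iff, Set.mem_singleton_iff]; tauto⟩
    | exact ⟨a, hab, hac, by ext; simp only [Set.mem_insert_iff, Set.mem_singleton_iff]; tauto⟩
    | exact ⟨b, hbc, hab.symm, by ext; simp only [Set.mem_insert_iff, Set.mem_singleton_iff]; tauto⟩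
    | exact ⟨a, hac, hab, by ext; simp only [Set.mem_insert_iff, Set.mem_singleton_iff]; tauto⟩

theorem lineMap_of_line (hp : IsPartialLinear L) {x y z : X} (hxy : x ≠ y) (hzx : z ≠ x) (hzy : z ≠ y)
    (hl : ({x, y, z} : Set X) ∈ L) : lineMap L x y = z := by
  classical
  have h : ∃ z : X, z ≠ x ∧ z ≠ y ∧ x ≠ y ∧ ({x, y, z} : Set X) ∈ L := ⟨z, hzx, hzy, hxy, hl⟩
  rw [lineMap, dif_pos h]
  obtain ⟨h1, h2, -, h4⟩ := h.choose_spec
  have e := hp _ h4 _ hl x y hxy (by simp) (by simp) (by simp) (by simp)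
  have hm : h.choose ∈ ({x, y, z} : Set X) := e ▸ (by simp)
  simp only [Set.mem_insert_iff, Set.mem_singleton_iff] at hm
  rcases hm with e | e | e
  exacts [absurd e h1, absurd e h2, e]

theorem lineMap_of_collinear (hp : IsPartialLinear L) (h3 : ∀ l ∈ L, l.ncard = 3) {x y : X} (h : Collinear L x y) :
    lineMap L x y ≠ x ∧ lineMap L x y ≠ y ∧ ({x, y, lineMap L x y} : Set X) ∈ L := by
  obtain ⟨hxy, l, hl, hx, hy⟩ := h
  obtain ⟨z, hzx, hzy, rfl⟩ := line_triple h3 hl hxy hx hy
  rw [lineMap_of_line hp hxy hzx hzy hl]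
  exact ⟨hzx, hzy, hl⟩

theorem lineMap_of_not {x y : X} (h : ¬ Collinear L x y) : lineMap L x y = y := by
  rw [lineMap, dif_neg]
  rintro ⟨z, -, -, hxy, hl⟩
  exact h ⟨hxy, _, hl, by simp, by simp⟩

theorem lineMap_invol (hp : IsPartialLinear L) (h3 : ∀ l ∈ L, l.ncard = 3) (x y : X) :
    lineMap L x (lineMap L x y) = y := by
  by_cases h : Collinear L x y
  · obtain ⟨h1, h2, hl⟩ := lineMap_of_collinear hp h3 h
    refine lineMap_of_line hp h1.symm h.1.symm h2.symm ?_
    convert hl using 1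
    ext; simp only [Set.mem_insert_iff, Set.mem_singleton_iff]; tauto
  · rw [lineMap_of_not h, lineMap_of_not h]

theorem span_isSubspace (S : Set X) : IsSubspace L (LineSystem.span L S) := by
  intro l hl a ha b hb hab hal hbl
  exact Set.subset_sInter fun T hT => hT.2 l hl a (Set.mem_sInter.mp ha T hT) b (Set.mem_sInter.mp hb T hT) hab hal hbl

/-- The lines are preserved inside a subspace isomorphic to a good model. -/
theorem image_mem_of_model {Y : Type*} {M : Set (Set Y)} (hp : IsPartialLinear L) (h3 : ∀ l ∈ L, l.ncard = 3)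
    (t : Y → Y → Y)
    (ht1 : ∀ p q r : Y, p ≠ q → r ≠ p → r ≠ q → ({p, q, r} : Set Y) ∈ M → t p q = r)
    (ht2 : ∀ p q : Y, (∀ r, p ≠ q → r ≠ p → r ≠ q → ({p, q, r} : Set Y) ∉ M) → t p q = q)
    (ht3 : ∀ p, ∀ l ∈ M, t p '' l ∈ M) {S : Set X} (hS : IsSubspace L S)
    (h : Isomorphic (restrict L S) M) {x : X} (hx : x ∈ S) {m : Set X} (hm : m ∈ L) (hmS : m ⊆ S) :
    lineMap L x '' m ∈ L := by
  obtain ⟨e, he⟩ := h
  have hline : ∀ l ∈ L, l ⊆ S → e '' {s : S | (s : X) ∈ l} ∈ M := fun l hl hlS => (he _).mp ⟨l, hl, hlS, rfl⟩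
  have hkey : ∀ s : S, lineMap L x s = (e.symm (t (e ⟨x, hx⟩) (e s)) : X) := by
    intro s
    by_cases hc : Collinear L x s
    · obtain ⟨h1, h2, hl⟩ := lineMap_of_collinear hp h3 hc
      have hlS : ({x, (s : X), lineMap L x s} : Set X) ⊆ S := hS _ hl x hx s s.2 hc.1 (by simp) (by simp)
      have hzS : lineMap L x s ∈ S := hlS (by simp)
      have := hline _ hl hlS
      rw [show {u : S | (u : X) ∈ ({x, (s : X), lineMap L x s} : Set X)} = {⟨x, hx⟩, s, ⟨_, hzS⟩} by
        ext u; simp [Subtype.ext_iff], Set.image_insert_eq, Set.image_insert_eq, Set.image_singleton] at this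
      rw [ht1 _ _ _ (e.injective.ne fun e' => hc.1 (congrArg Subtype.val e'))
        (e.injective.ne fun e' => h1 (congrArg Subtype.val e'))
        (e.injective.ne fun e' => h2 (congrArg Subtype.val e')) this, Equiv.symm_apply_apply]
    · rw [lineMap_of_not hc, ht2 _ _ ?_, Equiv.symm_apply_apply]
      intro r hne _ _ hM
      obtain ⟨r, rfl⟩ := e.surjective r
      have hM' : e '' ({⟨x, hx⟩, s, r} : Set S) ∈ M := by
        rwa [Set.image_insert_eq, Set.image_insert_eq, Set.image_singleton]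
      obtain ⟨l, hl, -, hle⟩ := (he _).mpr hM'
      refine hc ⟨fun e' => hne (congrArg e (Subtype.ext e')), l, hl, ?_, ?_⟩
      · exact hle.le (Or.inl rfl)
      · exact hle.le (Or.inr (Or.inl rfl))
  have := ht3 (e ⟨x, hx⟩) _ (hline m hm hmS)
  obtain ⟨l, hl, hlS, hle⟩ := (he (e.symm '' (t (e ⟨x, hx⟩) '' (e '' {s : S | (s : X) ∈ m})))).mpr
    (by rwa [e.image_symm_image])
  convert hl using 1
  ext z
  constructor
  · rintro ⟨y, hy, rfl⟩
    rw [hkey ⟨y, hmS hy⟩]
    exact hle.le ⟨_, ⟨_, ⟨⟨y, hmS hy⟩, hy, rfl⟩, rfl⟩, rfl⟩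
  · intro hz
    obtain ⟨q, ⟨p, ⟨s, hs, rfl⟩, rfl⟩, hq⟩ := hle.ge (show (⟨z, hlS hz⟩ : S) ∈ {s : S | (s : X) ∈ l} from hz)
    exact ⟨s, hs, by rw [hkey s, hq]⟩

/-- The map of a point of the dual affine plane. -/
def dmap (p q : DualAffinePoint) : DualAffinePoint :=
  if p ≠ q ∧ (p.1 ∩ q.1).Nonempty then FSpace.dth p q else q

theorem dual_third : ∀ p q : DualAffinePoint, (p ≠ q ∧ (p.1 ∩ q.1).Nonempty) →
    FSpace.dth p q ≠ p ∧ FSpace.dth p q ≠ q := by decide +kernel

set_option synthInstance.maxSize 2000 in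
theorem dual_unique : ∀ u w p q r : DualAffinePoint, (u ≠ w ∧ (u.1 ∩ w.1).Nonempty) → p ≠ q → r ≠ p → r ≠ q →
    (p = u ∨ p = w ∨ p = FSpace.dth u w) → (q = u ∨ q = w ∨ q = FSpace.dth u w) →
    (r = u ∨ r = w ∨ r = FSpace.dth u w) → dmap p q = r := by decide +kernel

theorem dual_perm : ∀ (p : DualAffinePoint) (i : Fin 4), ∃ j : Fin 4,
    Finset.univ.filter (fun s => j ∉ s.1) = Finset.univ.filter (fun s : DualAffinePoint => i ∉ (dmap p s).1) := by
  decide +kernel

theorem dmap_invol : ∀ p q, dmap p (dmap p q) = q := by decide +kernel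

theorem dual_model {X : Type*} {L : Set (Set X)} (hp : IsPartialLinear L) (h3 : ∀ l ∈ L, l.ncard = 3) {S : Set X}
    (hS : IsSubspace L S) (h : Isomorphic (restrict L S) dualAffinePlaneTwo) {x : X} (hx : x ∈ S) {m : Set X}
    (hm : m ∈ L) (hmS : m ⊆ S) : lineMap L x '' m ∈ L := by
  refine image_mem_of_model hp h3 dmap ?_ ?_ ?_ hS h hx hm hmS
  · intro p q r hpq hrp hrq hl
    obtain ⟨u, w, huw, e⟩ := (FSpace.dual_lines _).mp hl
    have hm : ∀ t ∈ ({p, q, r} : Set DualAffinePoint), t = u ∨ t = w ∨ t = FSpace.dth u w := fun t ht => by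
      rw [e] at ht; exact ht
    exact dual_unique u w p q r huw hpq hrp hrq (hm p (by simp)) (hm q (by simp)) (hm r (by simp))
  · intro p q hall
    by_contra hne
    have hc : p ≠ q ∧ (p.1 ∩ q.1).Nonempty := by
      by_contra hc
      exact hne (if_neg hc)
    exact hall _ hc.1 (dual_third p q hc).1 (dual_third p q hc).2
      ((FSpace.dual_lines _).mpr ⟨p, q, hc, rfl⟩)
  · rintro p l ⟨i, rfl⟩
    obtain ⟨j, hj⟩ := dual_perm p i
    refine ⟨j, Set.ext fun s => ?_⟩
    have := Finset.ext_iff.mp hj s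
    simp only [Finset.mem_filter, Finset.mem_univ, true_and] at this
    rw [Set.mem_setOf_eq, this]
    constructor
    · rintro ⟨q, hq, rfl⟩
      rw [dmap_invol]; exact hq
    · exact fun hs => ⟨dmap p s, hs, dmap_invol p s⟩

theorem affine_model {X : Type*} {L : Set (Set X)} (hp : IsPartialLinear L) (h3 : ∀ l ∈ L, l.ncard = 3) {S : Set X}
    (hS : IsSubspace L S) (h : Isomorphic (restrict L S) affinePlaneThree) {x : X} (hx : x ∈ S) {m : Set X}
    (hm : m ∈ L) (hmS : m ⊆ S) : lineMap L x '' m ∈ L := by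
  refine image_mem_of_model hp h3 (fun p q => -p - q) ?_ ?_ ?_ hS h hx hm hmS
  · intro p q r hpq hrp hrq hl
    obtain ⟨u, w, -, e⟩ := (FSpace.affine_lines _).mp hl
    have hm : ∀ t ∈ ({p, q, r} : Set (Fin 2 → ZMod 3)), t = u ∨ t = w ∨ t = -u - w := fun t ht => by
      rw [e] at ht; exact ht
    have key : ∀ a b : ZMod 3, -a - (-a - b) = b ∧ -b - (-a - b) = a := by decide
    have k2 : ∀ a b : ZMod 3, -a - b = -b - a ∧ -(-a - b) - a = b ∧ -(-a - b) - b = a ∧ -a - (-a - b) = b ∧ -b - (-a - b) = a := by decide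
    rcases hm p (by simp) with h1 | h1 | h1 <;> rcases hm q (by simp) with h2 | h2 | h2 <;>
      rcases hm r (by simp) with h3' | h3' | h3' <;>
      first
        | exact absurd (h1.trans h2.symm) hpq
        | exact absurd (h3'.trans h1.symm) hrp
        | exact absurd (h3'.trans h2.symm) hrq
        | (rw [h1, h2, h3']; done)
        | (rw [h1, h2, h3']; funext i
           obtain ⟨c1, c2, c3, c4, c5⟩ := k2 (u i) (w i)
           simp only [Pi.sub_apply, Pi.neg_apply]
           first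
             | rfl
             | exact c1.symm
             | exact c2
             | exact c3
             | exact c4
             | exact c5)
  · intro p q hall
    by_cases hpq : p = q
    · subst hpq
      have key : ∀ a : ZMod 3, -a - a = a := by decide
      exact funext fun i => key _
    · have k1 : ∀ a b : ZMod 3, -a - b = a → a = b := by decide
      have k2 : ∀ a b : ZMod 3, -a - b = b → a = b := by decide
      exact absurd ((FSpace.affine_lines _).mpr ⟨p, q, hpq, rfl⟩)
        (hall _ hpq (fun e => hpq (funext fun i => k1 _ _ (congrFun e i)))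
          (fun e => hpq (funext fun i => k2 _ _ (congrFun e i))))
  · rintro p l ⟨v, w, hw, rfl⟩
    refine ⟨-p - v, -w, neg_ne_zero.mpr hw, Set.ext fun s => ⟨?_, ?_⟩⟩
    · rintro ⟨_, ⟨c, rfl⟩, rfl⟩
      exact ⟨c, by module⟩
    · rintro ⟨c, rfl⟩
      exact ⟨v + c • w, ⟨c, rfl⟩, by module⟩

theorem image_line (hF : IsFischerSpace L) (x : X) {m : Set X} (hm : m ∈ L) : lineMap L x '' m ∈ L := by
  obtain ⟨hp, h3, hplane⟩ := hF
  by_cases hxm : x ∈ m
  · suffices lineMap L x '' m = m by rw [this]; exact hm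
    have hmap : ∀ y ∈ m, lineMap L x y ∈ m := by
      intro y hy
      by_cases hxy : x = y
      · subst hxy; rw [lineMap_of_not (fun h => h.1 rfl)]; exact hy
      · obtain ⟨z, hzx, hzy, rfl⟩ := line_triple h3 hm hxy hxm hy
        rw [lineMap_of_line hp hxy hzx hzy hm]; simp
    refine Set.Subset.antisymm (Set.image_subset_iff.mpr hmap) fun y hy => ⟨_, hmap y hy, lineMap_invol hp h3 x y⟩
  by_cases hc : ∃ y ∈ m, Collinear L x y
  · obtain ⟨y, hy, hxy, l, hl, hxl, hyl⟩ := hc
    have hne : l ≠ m := fun e => hxm (e ▸ hxl)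
    have hsub : l ∪ m ⊆ LineSystem.span L (l ∪ m) := Set.subset_sInter fun T hT => hT.1
    rcases hplane l hl m hm hne ⟨y, hyl, hy⟩ with h | h
    · exact dual_model hp h3 (span_isSubspace _) h (hsub (Or.inl hxl)) hm (Set.subset_union_right.trans hsub)
    · exact affine_model hp h3 (span_isSubspace _) h (hsub (Or.inl hxl)) hm (Set.subset_union_right.trans hsub)
  · suffices lineMap L x '' m = m by rw [this]; exact hm
    push Not at hc
    exact (Set.image_congr fun y hy => lineMap_of_not (hc y hy)).trans (Set.image_id m)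

/-- The permutation of a point. -/
noncomputable def perm (hF : IsFischerSpace L) (x : X) : Equiv.Perm X where
  toFun := lineMap L x
  invFun := lineMap L x
  left_inv := lineMap_invol hF.1 hF.2.1 x
  right_inv := lineMap_invol hF.1 hF.2.1 x

theorem perm_mul_self (hF : IsFischerSpace L) (x : X) : perm hF x * perm hF x = 1 :=
  Equiv.ext fun y => lineMap_invol hF.1 hF.2.1 x y

theorem perm_inv (hF : IsFischerSpace L) (x : X) : (perm hF x)⁻¹ = perm hF x :=
  inv_eq_of_mul_eq_one_right (perm_mul_self hF x)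

theorem perm_iso (hF : IsFischerSpace L) (x : X) : IsIso L L (perm hF x) := fun l => by
  refine ⟨image_line hF x, fun h => ?_⟩
  have := image_line hF x h
  rwa [show lineMap L x '' (perm hF x '' l) = l from (perm hF x).symm_image_image l] at this

theorem collinear_perm (hF : IsFischerSpace L) (x : X) {a b : X} (h : Collinear L a b) :
    Collinear L (perm hF x a) (perm hF x b) := by
  obtain ⟨hab, l, hl, ha, hb⟩ := h
  exact ⟨(perm hF x).injective.ne hab, _, (perm_iso hF x l).mp hl, ⟨a, ha, rfl⟩, ⟨b, hb, rfl⟩⟩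

theorem perm_conj (hF : IsFischerSpace L) (x y : X) :
    perm hF x * perm hF y * perm hF x = perm hF (lineMap L x y) := by
  refine Equiv.ext fun w => ?_
  set σ := perm hF x with hσ
  have hinv : ∀ u, σ (σ u) = u := lineMap_invol hF.1 hF.2.1 x
  show σ (lineMap L y (σ w)) = lineMap L (σ y) w
  by_cases h : Collinear L y (σ w)
  · obtain ⟨h1, h2, hl⟩ := lineMap_of_collinear hF.1 hF.2.1 h
    have hl' := (perm_iso hF x _).mp hl
    rw [← hσ, Set.image_insert_eq, Set.image_insert_eq, Set.image_singleton, hinv] at hl'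
    refine (lineMap_of_line hF.1 ?_ (σ.injective.ne h1) ?_ hl').symm
    · exact fun e => h.1 (by rw [← hinv y, e])
    · exact fun e => h2 (by rw [← hinv (lineMap L y (σ w)), e])
  · rw [lineMap_of_not h, hinv, lineMap_of_not fun h' => h (by
      have := collinear_perm hF x h'
      rwa [← hσ, hinv] at this)]

theorem fischer_maps (hF : IsFischerSpace L) (hnd : IsNondegenerate L) :
    (∀ x : X, ∃ σ : Equiv.Perm X, ⇑σ = lineMap L x ∧ orderOf σ = 2 ∧ IsIso L L σ) ∧
      IsThreeTranspositionSet {σ : Equiv.Perm X | ∃ x : X, ⇑σ = lineMap L x} := by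
  have hord : ∀ x, orderOf (perm hF x) = 2 := by
    intro x
    refine orderOf_eq_prime (by rw [pow_two, perm_mul_self]) fun e => ?_
    obtain ⟨l, hl, hx⟩ := hnd x
    obtain ⟨y, hy, hyx⟩ := Set.exists_ne_of_one_lt_ncard (by rw [hF.2.1 l hl]; norm_num) x (s := l)
    exact (lineMap_of_collinear hF.1 hF.2.1 ⟨hyx.symm, l, hl, hx, hy⟩).2.1 (congrArg (· y) e)
  refine ⟨fun x => ⟨perm hF x, rfl, hord x, perm_iso hF x⟩, ?_⟩
  have hmem : ∀ σ : Equiv.Perm X, (∃ x : X, ⇑σ = lineMap L x) → ∃ x, σ = perm hF x := fun σ ⟨x, hx⟩ =>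
    ⟨x, Equiv.ext fun y => congrFun hx y⟩
  refine ⟨?_, ?_⟩
  · intro σ hσ
    obtain ⟨x, rfl⟩ := hmem σ hσ
    exact hord x
  · intro σ hσ τ hτ
    obtain ⟨x, rfl⟩ := hmem σ hσ
    obtain ⟨y, rfl⟩ := hmem τ hτ
    by_cases hc : Collinear L x y
    · right
      have e1 := perm_conj hF x y
      have e2 := perm_conj hF y x
      obtain ⟨h1, h2, hl⟩ := lineMap_of_collinear hF.1 hF.2.1 hc
      have : lineMap L y x = lineMap L x y := by
        refine lineMap_of_line hF.1 hc.1.symm h2 h1 ?_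
        convert hl using 1
        ext; simp only [Set.mem_insert_iff, Set.mem_singleton_iff]; tauto
      rw [this, ← e1] at e2
      rw [pow_succ, pow_succ, pow_one,
        show perm hF x * perm hF y * (perm hF x * perm hF y) * (perm hF x * perm hF y) =
          (perm hF x * perm hF y * perm hF x) * (perm hF y * perm hF x * perm hF y) by simp only [mul_assoc], e2]
      simp only [mul_assoc, CfsgThreeTrans.mul_mul_cancel_self (perm_mul_self hF x),
        CfsgThreeTrans.mul_mul_cancel_self (perm_mul_self hF y), perm_mul_self hF x]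
    · left
      have e1 := perm_conj hF x y
      rw [lineMap_of_not hc] at e1
      rw [pow_two, ← mul_assoc, e1, perm_mul_self]

end CfsgThreeTrans.FMap
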