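/-
A 3-transposition normalises a Sylow 3-subgroup when the quotient by a normal 2-subgroup has width one.
-/
import Cfsg.Agent.Lib.ThreeTrans.Basic
import Cfsg.Agent.Lib.Coprime
import Cfsg.Agent.Lib.Elementary

set_option autoImplicit false

namespace CfsgThreeTrans.InvSylow

open Cfsg CfsgLib

variable {G : Type*} [Group G] [Finite G]

theorem eq_one_of_two_three {x : G} {a b : ℕ} (h2 : x ^ (2 ^ a) = 1) (h3 : x ^ (3 ^ b) = 1) : x = 1 :=
  orderOf_eq_one_iff.mp (Nat.eq_one_of_dvd_coprimes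
    (Nat.Coprime.pow a b (by norm_num : Nat.Coprime 2 3)) (orderOf_dvd_of_pow_eq_one h2) (orderOf_dvd_of_pow_eq_one h3))

/-- The minimal case. -/
theorem base (Q M P0 : Subgroup G) [Q.Normal] [M.Normal] (hQM : Q ≤ M) (hQab : ∀ a ∈ Q, ∀ b ∈ Q, a * b = b * a)
    (hQsq : ∀ a ∈ Q, a * a = 1) (hmin : ∀ K : Subgroup G, K.Normal → K ≤ Q → K = ⊥ ∨ K = Q)
    (hP3 : IsPGroup 3 P0) (hP0M : P0 ≤ M) (hMP : ∀ m ∈ M, ∃ q ∈ Q, ∃ p ∈ P0, m = q * p)
    (hconjP : ∀ P1 : Subgroup G, P1 ≤ M → (∀ m ∈ M, ∃ q ∈ Q, ∃ p ∈ P1, m = q * p) → IsPGroup 3 P1 →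
      ∃ c ∈ Q, ∀ p ∈ P1, c * p * c⁻¹ ∈ P0)
    {d : G} (hd2 : d * d = 1) (hcov : ∀ g : G, g ∈ M ∨ d * g ∈ M)
    (hT : ∀ g : G, (d * (g * d * g⁻¹)) ^ 2 = 1 ∨ (d * (g * d * g⁻¹)) ^ 3 = 1)
    (hN : ∃ g : G, g * d * g⁻¹ * d ∉ Q) :
    ∃ P : Subgroup G, IsPGroup 3 P ∧ P ≤ M ∧ M ≤ P ⊔ Q ∧ ∀ p ∈ P, d * p * d ∈ P := by
  classical
  have hQ2 : IsPGroup 2 Q := fun a => ⟨1, Subtype.ext (by rw [pow_one, pow_two]; exact hQsq a a.2)⟩
  have hinvQ : ∀ a ∈ Q, a⁻¹ = a := fun a ha => inv_eq_of_mul_eq_one_right (hQsq a ha)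
  have hQn : ∀ g : G, ∀ a ∈ Q, g * a * g⁻¹ ∈ Q := fun g a ha => Subgroup.Normal.conj_mem inferInstance a ha g
  have hdi : d⁻¹ = d := inv_eq_of_mul_eq_one_right hd2
  have hdQ : ∀ a ∈ Q, d * a * d ∈ Q := fun a ha => by have := hQn d a ha; rwa [hdi] at this
  have hdis : ∀ x ∈ Q, x ∈ P0 → x = 1 := by
    intro x hxQ hxP
    obtain ⟨a, ha⟩ := hQ2 ⟨x, hxQ⟩
    obtain ⟨b, hb⟩ := hP3 ⟨x, hxP⟩
    exact eq_one_of_two_three (congrArg Subtype.val ha) (congrArg Subtype.val hb)
  have hnormal : ∀ W : Subgroup G, W ≤ Q → (∀ p ∈ P0, ∀ v ∈ W, p * v * p⁻¹ ∈ W) → (∀ v ∈ W, d * v * d ∈ W) →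
      W.Normal := by
    intro W hW hp hd
    have hM : ∀ m ∈ M, ∀ v ∈ W, m * v * m⁻¹ ∈ W := by
      intro m hm v hv
      obtain ⟨q, hq, p, hpP, rfl⟩ := hMP m hm
      rw [show q * p * v * (q * p)⁻¹ = q * (p * v * p⁻¹) * q⁻¹ by group, hQab q hq _ (hW (hp p hpP v hv)),
        mul_inv_cancel_right]
      exact hp p hpP v hv
    refine ⟨fun v hv g => ?_⟩
    rcases hcov g with h | h
    · exact hM g h v hv
    · have := hd _ (hM _ h v hv)
      rw [show d * (d * g * v * (d * g)⁻¹) * d = (d * d) * g * v * g⁻¹ * (d⁻¹ * d) by group, hd2, inv_mul_cancel,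
        one_mul, mul_one] at this
      exact this
  -- a complement fixed by `d` up to an element of `Q`
  obtain ⟨c, hc, hcP⟩ := hconjP (P0.map (MulAut.conj d).toMonoidHom) (by
      rintro _ ⟨p, hp, rfl⟩
      exact Subgroup.Normal.conj_mem inferInstance p (hP0M hp) d)
    (fun m hm => by
      have hm' : d * m * d⁻¹ ∈ M := Subgroup.Normal.conj_mem inferInstance m hm d
      obtain ⟨q, hq, p, hp, e⟩ := hMP _ hm'
      refine ⟨d * q * d⁻¹, hQn d q hq, MulAut.conj d p, ⟨p, hp, rfl⟩, ?_⟩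
      rw [MulAut.conj_apply, show d * q * d⁻¹ * (d * p * d⁻¹) = d * (q * p) * d⁻¹ by group, ← e, hdi,
        show d * (d * m * d) * d = (d * d) * m * (d * d) by group, hd2, one_mul, mul_one])
    (hP3.map _)
  by_cases hC : ∀ v ∈ Q, ∀ p ∈ P0, v * p = p * v
  · refine ⟨P0, hP3, hP0M, fun m hm => ?_, fun p hp => ?_⟩
    · obtain ⟨q, hq, p, hp, rfl⟩ := hMP m hm
      exact mul_mem (Subgroup.mem_sup_right hq) (Subgroup.mem_sup_left hp)
    · have hdpd : d * p * d⁻¹ ∈ M := Subgroup.Normal.conj_mem inferInstance p (hP0M hp) d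
      obtain ⟨q, hq, r, hr, e⟩ := hMP _ hdpd
      have hcomm : Commute q r := hC q hq r hr
      obtain ⟨b, hb⟩ := hP3 ⟨r, hr⟩
      obtain ⟨b', hb'⟩ := hP3 ⟨p, hp⟩
      have hr' : r ^ 3 ^ b = 1 := congrArg Subtype.val hb
      have hp' : p ^ 3 ^ b' = 1 := congrArg Subtype.val hb'
      have h1 : (q * r) ^ 3 ^ (b + b') = 1 := by
        rw [← e, ← MulAut.conj_apply, ← map_pow, pow_add, mul_comm (3 ^ b), pow_mul, hp', one_pow, map_one]
      have h3 : q ^ 3 ^ (b + b') = 1 := by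
        rw [hcomm.mul_pow, pow_add, pow_mul r, hr', one_pow, mul_one, ← pow_add] at h1
        exact h1
      have hq1 : q = 1 := eq_one_of_two_three (a := 1) (by rw [pow_one, pow_two]; exact hQsq q hq) h3
      rw [hdi, hq1, one_mul] at e
      exact e ▸ hr
  push Not at hC
  obtain ⟨v0, hv0, p0, hp0, hne⟩ := hC
  obtain ⟨n, hn⟩ : ∃ n, n = c * d := ⟨_, rfl⟩
  have hnconj : ∀ p ∈ P0, n * p * n⁻¹ ∈ P0 := fun p hp => by
    have := hcP _ ⟨p, hp, rfl⟩
    rw [MulEquiv.coe_toMonoidHom, MulAut.conj_apply] at this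
    rw [hn, show c * d * p * (c * d)⁻¹ = c * (d * p * d⁻¹) * c⁻¹ by group]
    exact this
  -- elements of `Q` fixed by the whole of `P0` are trivial
  have hfix0 : ∀ v ∈ Q, (∀ p ∈ P0, v * p = p * v) → v = 1 := by
    intro v hv hvp
    let W : Subgroup G := Q ⊓ Subgroup.centralizer (P0 : Set G)
    have hW : W.Normal := hnormal W inf_le_left (fun p hp u hu => by
        rw [show p * u * p⁻¹ = u by rw [Subgroup.mem_centralizer_iff.mp hu.2 p hp, mul_inv_cancel_right]]
        exact hu) (fun u hu => by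
        refine ⟨hdQ u hu.1, Subgroup.mem_centralizer_iff.mpr fun p hp => ?_⟩
        have h1 := Subgroup.mem_centralizer_iff.mp hu.2 _ (hnconj p hp)
        have h2 := congrArg (fun t => n⁻¹ * t * n) h1
        have h3 : n⁻¹ * u * n = d * u * d := by
          rw [hn, show (c * d)⁻¹ * u * (c * d) = d⁻¹ * (c⁻¹ * u * c) * d by group, hdi, hinvQ c hc,
            show c * u * c = u by rw [hQab c hc u hu.1, mul_assoc, hQsq c hc, mul_one]]
        have h4 : ∀ s t : G, n⁻¹ * (s * t) * n = (n⁻¹ * s * n) * (n⁻¹ * t * n) := fun s t => by group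
        have h5 : n⁻¹ * (n * p * n⁻¹) * n = p := by group
        simp only [h4 (n * p * n⁻¹) u, h4 u (n * p * n⁻¹), h3, h5] at h2
        exact h2)
    rcases hmin W hW inf_le_left with e | e
    · have : v ∈ W := ⟨hv, Subgroup.mem_centralizer_iff.mpr fun p hp => (hvp p hp).symm⟩
      rw [e] at this
      exact this
    · have : v0 ∈ W := by rw [e]; exact hv0
      exact absurd (Subgroup.mem_centralizer_iff.mp this.2 p0 hp0).symm hne
  have hcd : d * c * d = c := by
    have hnn : n * n ∈ Q := by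
      rw [hn, show c * d * (c * d) = c * (d * c * d) by group]
      exact mul_mem hc (hdQ c hc)
    have h1 : n * n = 1 := by
      refine hfix0 _ hnn fun p hp => ?_
      have h2 : (n * n) * p * (n * n)⁻¹ ∈ P0 := by
        rw [show n * n * p * (n * n)⁻¹ = n * (n * p * n⁻¹) * n⁻¹ by group]
        exact hnconj _ (hnconj p hp)
      have h3 : (n * n) * p * (n * n)⁻¹ * p⁻¹ = 1 := by
        refine hdis _ ?_ (mul_mem h2 (inv_mem hp))
        rw [show n * n * p * (n * n)⁻¹ * p⁻¹ = (n * n) * (p * (n * n)⁻¹ * p⁻¹) by group]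
        exact mul_mem hnn (hQn p _ (inv_mem hnn))
      rw [mul_inv_eq_one, mul_inv_eq_iff_eq_mul] at h3
      exact h3
    rw [hn, show c * d * (c * d) = c * (d * c * d) by group] at h1
    exact mul_left_cancel (h1.trans (hQsq c hc).symm)
  have hdn : d = c * n := by rw [hn, ← mul_assoc, hQsq c hc, one_mul]
  have hn2 : n * n = 1 := by
    rw [hn, show c * d * (c * d) = c * (d * c * d) by group, hcd, hQsq c hc]
  have hni : n⁻¹ = n := inv_eq_of_mul_eq_one_right hn2
  have hnQ : ∀ v ∈ Q, n * v * n = d * v * d := by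
    intro v hv
    rw [hn, show c * d * v * (c * d) = c * ((d * v * d) * (d⁻¹ * c * d)) by group, hdi, hcd,
      hQab _ (hdQ v hv) c hc, ← mul_assoc, hQsq c hc, one_mul]
  -- it suffices to write `c` as a norm
  suffices hsuf : ∃ v ∈ Q, c = v * (d * v * d) by
    obtain ⟨v, hv, hcv⟩ := hsuf
    refine ⟨P0.map (MulAut.conj v).toMonoidHom, hP3.map _, ?_, ?_, ?_⟩
    · rintro _ ⟨p, hp, rfl⟩
      exact Subgroup.Normal.conj_mem inferInstance p (hP0M hp) v
    · intro m hm
      obtain ⟨q, hq, p, hp, rfl⟩ := hMP m hm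
      rw [show q * p = (q * v⁻¹) * (v * p * v⁻¹) * v by group]
      exact mul_mem (mul_mem (Subgroup.mem_sup_right (mul_mem hq (inv_mem hv))) (Subgroup.mem_sup_left ⟨p, hp, rfl⟩))
        (Subgroup.mem_sup_right hv)
    · have hd' : d = v * n * v⁻¹ := by
        rw [hinvQ v hv, show v * n * v = v * (n * v * n) * n⁻¹ by group, hni, hnQ v hv, ← hcv, ← hdn]
      rintro _ ⟨p, hp, rfl⟩
      refine ⟨n * p * n⁻¹, hnconj p hp, ?_⟩
      rw [MulEquiv.coe_toMonoidHom, MulAut.conj_apply, MulAut.conj_apply]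
      conv_rhs => rw [hd']
      rw [hni]
      group
  -- a central element of `P0` modulo the kernel of the action
  set K : Subgroup P0 := (Subgroup.centralizer (Q : Set G)).subgroupOf P0 with hK
  have hKmem : ∀ p : P0, p ∈ K ↔ ∀ v ∈ Q, v * (p : G) = p * v := fun p => by
    rw [hK, Subgroup.mem_subgroupOf, Subgroup.mem_centralizer_iff]
    exact Iff.rfl
  have hKn : K.Normal := ⟨fun p hp r => by
    rw [hKmem] at hp ⊢
    intro v hv
    have h1 := hp ((r : G)⁻¹ * v * r) (by simpa using hQn (r : G)⁻¹ v hv)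
    have h2 := congrArg (fun t => (r : G) * t * (r : G)⁻¹) h1
    simpa [mul_assoc] using h2⟩
  haveI : Nontrivial (P0 ⧸ K) := by
    refine ⟨⟨QuotientGroup.mk ⟨p0, hp0⟩, 1, fun e => hne ?_⟩⟩
    exact (hKmem _).mp ((QuotientGroup.eq_one_iff _).mp e) v0 hv0
  haveI : Fact (Nat.Prime 3) := ⟨Nat.prime_three⟩
  have hq3 : IsPGroup 3 (P0 ⧸ K) := hP3.to_quotient K
  obtain ⟨zc, hzc⟩ := exists_prime_orderOf_dvd_card' (G := Subgroup.center (P0 ⧸ K)) 3 (by
    haveI := hq3.center_nontrivial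
    obtain ⟨k, hk⟩ := (hq3.to_subgroup (Subgroup.center (P0 ⧸ K))).exists_card_eq
    rw [hk]
    refine dvd_pow_self 3 fun e => ?_
    rw [e, pow_zero] at hk
    exact Finite.one_lt_card.ne' hk)
  obtain ⟨z, hz⟩ := QuotientGroup.mk_surjective (zc : P0 ⧸ K)
  have hzK : z ∉ K := by
    intro h
    have : zc = 1 := Subtype.ext (hz.symm.trans ((QuotientGroup.eq_one_iff z).mpr h))
    rw [this, orderOf_one] at hzc
    exact absurd hzc (by norm_num)
  have hz3 : z ^ 3 ∈ K := by
    rw [← QuotientGroup.eq_one_iff, QuotientGroup.mk_pow, hz]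
    exact congrArg Subtype.val (hzc ▸ pow_orderOf_eq_one zc : zc ^ 3 = 1)
  have hzcen : ∀ p : P0, (QuotientGroup.mk (p * z) : P0 ⧸ K) = QuotientGroup.mk (z * p) := fun p => by
    rw [QuotientGroup.mk_mul, QuotientGroup.mk_mul, hz]
    exact Subgroup.mem_center_iff.mp zc.2 _
  -- fixed-point-free elements
  have hfpf : ∀ y : P0, y ∉ K → y ^ 3 ∈ K → (∀ p : P0, (QuotientGroup.mk (p * y) : P0 ⧸ K) = QuotientGroup.mk (y * p)) →
      (∀ v ∈ Q, v * (y : G) = y * v → v * (n * (y : G) * n) = n * y * n * v) →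
      ∀ v ∈ Q, v * ((y : G) * v * (y : G)⁻¹) * ((y : G) ^ 2 * v * ((y : G) ^ 2)⁻¹) = 1 := by
    intro y hyK hy3 hyc hyn v hv
    let W : Subgroup G := Q ⊓ Subgroup.centralizer ({(y : G)} : Set G)
    have hmemW : ∀ u, u ∈ W ↔ u ∈ Q ∧ u * (y : G) = y * u := fun u =>
      and_congr Iff.rfl Subgroup.mem_centralizer_singleton_iff
    have hW : W.Normal := by
      refine hnormal W inf_le_left (fun p hp u hu => ?_) fun u hu => ?_
      · rw [hmemW] at hu ⊢
        refine ⟨hQn p u hu.1, ?_⟩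
        have hk : (⟨p, hp⟩ * y)⁻¹ * (y * ⟨p, hp⟩) ∈ K := QuotientGroup.eq.mp (hyc ⟨p, hp⟩)
        have hk' := (hKmem _).mp hk u hu.1
        have e : u * (p⁻¹ * y * p) = p⁻¹ * y * p * u := by
          calc u * (p⁻¹ * y * p) = u * (y * ((p * (y : G))⁻¹ * (y * p))) := by group
            _ = y * (u * ((p * (y : G))⁻¹ * (y * p))) := by rw [← mul_assoc, hu.2, mul_assoc]
            _ = y * (((p * (y : G))⁻¹ * (y * p)) * u) := congrArg _ hk'
            _ = p⁻¹ * y * p * u := by group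
        have h2 := congrArg (fun t => p * t * p⁻¹) e
        simpa [mul_assoc] using h2
      · rw [hmemW] at hu ⊢
        refine ⟨hdQ u hu.1, ?_⟩
        rw [← hnQ u hu.1]
        have h := congrArg (fun t => n * t * n) (hyn u hu.1 hu.2)
        simpa [mul_assoc, mul_mul_cancel_self hn2, hn2] using h
    have hWbot : ∀ u ∈ W, u = 1 := by
      rcases hmin W hW inf_le_left with e | e
      · intro u hu; rw [e] at hu; exact hu
      · refine absurd ((hKmem y).mpr fun u hu => ?_) hyK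
        rw [← e] at hu
        exact ((hmemW u).mp hu).2
    have h1 := hQn (y : G) v hv
    have h2 := hQn ((y : G) ^ 2) v hv
    refine hWbot _ ((hmemW _).mpr ⟨mul_mem (mul_mem hv h1) h2, ?_⟩)
    have hy3' : v * (y : G) ^ 3 = (y : G) ^ 3 * v := by
      have := (hKmem _).mp hy3 v hv
      simpa using this
    set a := (y : G) * v * (y : G)⁻¹ with ha
    set b := (y : G) ^ 2 * v * ((y : G) ^ 2)⁻¹ with hb
    have e1 : (y : G) * (v * a * b) * (y : G)⁻¹ = a * b * v := by
      rw [show (y : G) * (v * a * b) * (y : G)⁻¹ =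
        (y * v * (y : G)⁻¹) * (y * a * (y : G)⁻¹) * (y * b * (y : G)⁻¹) by group, ← ha]
      have e2 : (y : G) * a * (y : G)⁻¹ = b := by rw [ha, hb, pow_two]; group
      have e3 : (y : G) * b * (y : G)⁻¹ = v := by
        rw [show (y : G) * b * (y : G)⁻¹ = (y : G) ^ 3 * v * ((y : G) ^ 3)⁻¹ by rw [hb]; group, ← hy3',
          mul_inv_cancel_right]
      rw [e2, e3]
    rw [mul_inv_eq_iff_eq_mul] at e1
    rw [e1, hQab _ (mul_mem h1 h2) v hv, ← mul_assoc v a b]
  have hnc : n * c * n = c := by rw [hnQ c hc, hcd]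
  have hnz : n * (z : G) * n ∈ P0 := by have := hnconj z z.2; rwa [hni] at this
  set z' : P0 := ⟨n * (z : G) * n, hnz⟩ with hz'
  have hnK : ∀ k : P0, k ∈ K → ∀ v ∈ Q, v * (n * (k : G) * n) = n * k * n * v := by
    intro k hk v hv
    have h1 := (hKmem k).mp hk _ (hdQ v hv)
    rw [← hnQ v hv] at h1
    have h2 := congrArg (fun t => n * t * n) h1
    simp only [mul_assoc, mul_mul_cancel_self hn2, hn2, mul_one] at h2 ⊢
    exact h2
  have hcomm : (QuotientGroup.mk (z' * z) : P0 ⧸ K) = QuotientGroup.mk (z * z') := hzcen z'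
  by_cases hy : z⁻¹ * z' ∈ K
  · -- `z` can be chosen to commute with `n`
    set k := z⁻¹ * z' with hk
    have hkinv : n * (k : G) * n = (k : G)⁻¹ := by
      show n * ((z : G)⁻¹ * (n * z * n)) * n = ((z : G)⁻¹ * (n * z * n))⁻¹
      simp only [mul_inv_rev, inv_inv, hni, mul_assoc, mul_mul_cancel_self hn2, hn2, mul_one]
    obtain ⟨j, hj⟩ := hP3 k
    set m := k ^ ((3 ^ j + 1) / 2) with hm
    have hm2 : m * m = k := by
      rw [hm, ← pow_add]
      have he : (3 ^ j + 1) / 2 + (3 ^ j + 1) / 2 = 3 ^ j + 1 := by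
        have : Odd (3 ^ j) := (by decide : Odd 3).pow
        obtain ⟨r, hr⟩ := this
        omega
      rw [he, pow_succ, hj, one_mul]
    have hminv : n * (m : G) * n = (m : G)⁻¹ := by
      have e : MulAut.conj n (k : G) = (k : G)⁻¹ := by rw [MulAut.conj_apply, hni]; exact hkinv
      have := map_pow (MulAut.conj n) (k : G) ((3 ^ j + 1) / 2)
      rw [MulAut.conj_apply, hni, e, inv_pow] at this
      rw [hm]
      simpa using this
    obtain ⟨w, hw⟩ : ∃ w, w = z * m := ⟨_, rfl⟩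
    have hwn : n * (w : G) * n = w := by
      have : n * (w : G) * n = (n * (z : G) * n) * (n * (m : G) * n) := by
        rw [hw]; simp [mul_assoc, mul_mul_cancel_self hn2]
      rw [this, hminv, show n * (z : G) * n = (z : G) * (k : G) by rw [hk]; simp [hz'], ← hm2]
      simp [hw, mul_assoc]
    have hmK : m ∈ K := pow_mem hy _
    have hwmk : (QuotientGroup.mk w : P0 ⧸ K) = QuotientGroup.mk z := by
      rw [hw, QuotientGroup.mk_mul, (QuotientGroup.eq_one_iff m).mpr hmK, mul_one]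
    have hwK : w ∉ K := by
      intro h
      rw [← QuotientGroup.eq_one_iff, hwmk, QuotientGroup.eq_one_iff] at h
      exact hzK h
    have hw3 : w ^ 3 ∈ K := by
      rw [← QuotientGroup.eq_one_iff, QuotientGroup.mk_pow, hwmk, ← QuotientGroup.mk_pow, QuotientGroup.eq_one_iff]
      exact hz3
    have hfp := hfpf w hwK hw3 (fun p => by
      rw [QuotientGroup.mk_mul, QuotientGroup.mk_mul, hwmk, ← QuotientGroup.mk_mul, ← QuotientGroup.mk_mul]
      exact hzcen p) (fun v _ h => by rw [hwn]; exact h)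
    set s := (w : G) with hs
    have hsn : s * n = n * s := by
      have := congrArg (fun t => n * t) hwn
      simp only [← mul_assoc, hn2, one_mul] at this
      exact this
    obtain ⟨u, hu⟩ : ∃ u, u = c * (s * c * s⁻¹) := ⟨_, rfl⟩
    have hc' : s * c * s⁻¹ ∈ Q := hQn s c hc
    have huQ : u ∈ Q := hu ▸ mul_mem hc hc'
    have hdz : s * d * s⁻¹ = d * u := by
      have e1 : s * d * s⁻¹ = s * c * s⁻¹ * n := by
        rw [hdn, show s * (c * n) * s⁻¹ = s * c * s⁻¹ * (s * n * s⁻¹) by group, hsn, mul_inv_cancel_right]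
      have hdu : d * (s * c * s⁻¹) * d = s * c * s⁻¹ := by
        rw [← hnQ _ hc']
        calc n * (s * c * s⁻¹) * n = (n * s) * c * (s⁻¹ * n) := by group
          _ = (s * n) * c * (s⁻¹ * n) := by rw [hsn]
          _ = s * (n * c * n) * (n⁻¹ * s⁻¹ * n) := by group
          _ = s * c * s⁻¹ := by
              rw [hnc, hni]
              have : n * s⁻¹ * n = s⁻¹ := by
                have h := congrArg (fun t : G => t⁻¹) hwn
                simpa [mul_inv_rev, hni, mul_assoc] using h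
              rw [this]
      rw [e1, hn, hu, show d * (c * (s * c * s⁻¹)) = (d * c * d) * (d⁻¹ * (s * c * s⁻¹) * d) * d⁻¹ by group, hdi, hcd,
        hdu, hQab c hc _ hc']
      simp only [mul_assoc]
    obtain ⟨g, hg⟩ := hN
    set x := g * d * g⁻¹ * d with hx
    have hgdM : g * d * g⁻¹ * d ∈ M := by
      rcases hcov g with h | h
      · rw [show g * d * g⁻¹ * d = g * (d * g⁻¹ * d⁻¹) * (d * d) by group, hd2, mul_one]
        exact mul_mem h (Subgroup.Normal.conj_mem inferInstance _ (inv_mem h) d)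
      · rw [show g * d * g⁻¹ * d = (d⁻¹ * (d * g) * d) * (d * g)⁻¹ * (d * d) by group, hd2, mul_one]
        exact mul_mem (by simpa using Subgroup.Normal.conj_mem inferInstance _ h d⁻¹) (inv_mem h)
    have hsqQ : ∀ t ∈ M, t ^ 2 ∈ Q → t ∈ Q := by
      intro t ht h2
      obtain ⟨q, hq, p, hp, rfl⟩ := hMP t ht
      obtain ⟨b, hb⟩ := hP3 ⟨p, hp⟩
      have hp2 : p ^ 2 = 1 := by
        refine hdis _ ?_ (pow_mem hp 2)
        have e : (q * p) ^ 2 = q * (p * q * p⁻¹) * p ^ 2 := by rw [pow_two, pow_two]; group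
        rw [e] at h2
        exact (Subgroup.mul_mem_cancel_left _ (mul_mem hq (hQn p q hq))).mp h2
      have hp1 : p = 1 := eq_one_of_two_three (a := 1) (by rw [pow_one]; exact hp2) (congrArg Subtype.val hb)
      rw [hp1, mul_one]; exact hq
    have hrev : g * d * g⁻¹ * d = (d * (g * d * g⁻¹))⁻¹ := by
      simp [mul_inv_rev, hdi, mul_assoc]
    have hx3 : x ^ 3 = 1 := by
      rcases hT g with h | h
      · refine absurd (hsqQ _ hgdM ?_) hg
        rw [hrev, inv_pow, h, inv_one]; exact one_mem _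
      · rw [hx, hrev, inv_pow, h, inv_one]
    have hxu : x * u = g * (d * ((g⁻¹ * s) * d * (g⁻¹ * s)⁻¹)) * g⁻¹ := by
      rw [show g * (d * ((g⁻¹ * s) * d * (g⁻¹ * s)⁻¹)) * g⁻¹ = (g * d * g⁻¹) * (s * d * s⁻¹) by group, hdz, hx]
      group
    have hxu3 : (x * u) ^ 3 = 1 := by
      rcases hT (g⁻¹ * s) with h | h
      · exfalso
        have h2 : (x * u) ^ 2 = 1 := by
          rw [hxu, ← MulAut.conj_apply, ← map_pow, h, map_one]
        have := hsqQ (x * u) (mul_mem hgdM (hQM huQ)) (by rw [h2]; exact one_mem _)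
        exact hg ((Subgroup.mul_mem_cancel_right _ huQ).mp this)
      · rw [hxu, ← MulAut.conj_apply, ← map_pow, h, map_one]
    have hdxd : d * x * d = x⁻¹ := by
      rw [hx]; simp [mul_inv_rev, hdi, mul_assoc, hd2]
    set a := x * u * x⁻¹ with ha
    have haQ : a ∈ Q := hQn x u huQ
    set b := x⁻¹ * u * x with hb
    have hbQ : b ∈ Q := by have := hQn x⁻¹ u huQ; rwa [inv_inv] at this
    have hsum : a * b * u = 1 := by
      have hx2 : x * x = x⁻¹ := eq_inv_of_mul_eq_one_left (by rw [← pow_two, ← pow_succ, hx3])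
      rw [← hxu3, ha, hb, pow_succ, pow_two]
      calc x * u * x⁻¹ * (x⁻¹ * u * x) * u = x * u * x⁻¹ * (x⁻¹ * u * x) * u := rfl
        _ = x * u * x⁻¹ * ((x * x) * u * (x * x)⁻¹) * u := by rw [hx2, inv_inv]
        _ = x * u * x * u * (x * x)⁻¹ * u := by group
        _ = x * u * (x * u) * (x * u) := by rw [hx2, inv_inv]; group
    have hdu : d * u * d = u := by
      have h1 : (d * u) * (d * u) = 1 := by
        rw [← hdz]; simp [mul_assoc, mul_mul_cancel_self hd2, hd2]
      rw [show d * u * (d * u) = d * u * d * u by group] at h1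
      rw [eq_inv_of_mul_eq_one_left h1, hinvQ u huQ]
    have hda : d * a * d = b := by
      rw [ha, hb]
      have hdxd' : d * x⁻¹ * d = x := by
        have := congrArg (fun t : G => t⁻¹) hdxd
        simpa [mul_inv_rev, hdi, mul_assoc] using this
      calc d * (x * u * x⁻¹) * d = (d * x * d) * (d⁻¹ * u * d⁻¹) * (d * x⁻¹ * d) := by group
        _ = x⁻¹ * u * x := by rw [hdi, hdu, hdxd, hdxd']
    have hu' : u = a * (d * a * d) := by
      rw [hda, eq_inv_of_mul_eq_one_right hsum, hinvQ _ (mul_mem haQ hbQ)]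
    refine ⟨s * a * s⁻¹, hQn s a haQ, ?_⟩
    have hcu : c = s * u * s⁻¹ := by
      have hb2 : s ^ 2 * c * (s ^ 2)⁻¹ ∈ Q := hQn _ c hc
      rw [hu, show s * (c * (s * c * s⁻¹)) * s⁻¹ = (s * c * s⁻¹) * (s ^ 2 * c * (s ^ 2)⁻¹) by group]
      have h := hfp c hc
      rw [mul_assoc] at h
      exact (eq_inv_of_mul_eq_one_left h).trans (hinvQ _ (mul_mem hc' hb2))
    conv_lhs => rw [hcu, hu']
    rw [show d * (s * a * s⁻¹) * d = (n * s) * a * (s⁻¹ * n) by
      rw [← hnQ _ (hQn s a haQ)]; group, ← hsn]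
    rw [show s * n * a * (s⁻¹ * n) = s * (n * a * n) * (n⁻¹ * s⁻¹ * n) by group, hnQ a haQ, hni]
    have : n * s⁻¹ * n = s⁻¹ := by
      have h := congrArg (fun t : G => t⁻¹) hwn
      simpa [mul_inv_rev, hni, mul_assoc] using h
    rw [this]
    group
  · -- the element `y` is inverted by `n` modulo `K`
    obtain ⟨y, hydef⟩ : ∃ y, y = z⁻¹ * z' := ⟨_, rfl⟩
    rw [← hydef] at hy
    have hz'3 : z' ^ 3 ∈ K := by
      rw [hKmem]
      intro v hv
      have e : ((z' ^ 3 : P0) : G) = n * ((z : G) ^ 3) * n := by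
        rw [SubmonoidClass.coe_pow]
        show (n * (z : G) * n) ^ 3 = _
        simp [pow_succ, mul_assoc, mul_mul_cancel_self hn2]
      rw [e]
      exact hnK (z ^ 3) hz3 v hv
    have hy3 : y ^ 3 ∈ K := by
      rw [← QuotientGroup.eq_one_iff, QuotientGroup.mk_pow, hydef, QuotientGroup.mk_mul,
        Commute.mul_pow (by
          have : Commute (QuotientGroup.mk z : P0 ⧸ K) (QuotientGroup.mk z') := by
            show _ * _ = _ * _
            rw [← QuotientGroup.mk_mul, ← QuotientGroup.mk_mul, hcomm]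
          exact this.inv_left) 3, ← QuotientGroup.mk_pow, ← QuotientGroup.mk_pow,
        (QuotientGroup.eq_one_iff (z' ^ 3)).mpr hz'3, mul_one, QuotientGroup.eq_one_iff, inv_pow]
      exact inv_mem hz3
    have hz'c : ∀ p : P0, (QuotientGroup.mk (p * z') : P0 ⧸ K) = QuotientGroup.mk (z' * p) := by
      intro p
      rw [QuotientGroup.eq]
      refine (hKmem _).mpr fun v hv => ?_
      have hp' : n * (p : G) * n ∈ P0 := by have := hnconj p p.2; rwa [hni] at this
      have := hnK _ (QuotientGroup.eq.mp (hzcen ⟨_, hp'⟩)) v hv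
      simpa [hz', mul_assoc, mul_inv_rev, hni, mul_mul_cancel_self hn2, hn2] using this
    have hyc : ∀ p : P0, (QuotientGroup.mk (p * y) : P0 ⧸ K) = QuotientGroup.mk (y * p) := fun p => by
      have c1 : Commute (QuotientGroup.mk p : P0 ⧸ K) (QuotientGroup.mk z) := hzcen p
      have c2 : Commute (QuotientGroup.mk p : P0 ⧸ K) (QuotientGroup.mk z') := hz'c p
      rw [hydef, QuotientGroup.mk_mul, QuotientGroup.mk_mul, QuotientGroup.mk_mul]
      exact c1.inv_right.mul_right c2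
    have hnyn : n * (y : G) * n = (z' : G)⁻¹ * z := by
      rw [hydef]
      simp [hz', mul_assoc, mul_inv_rev, hni, mul_mul_cancel_self hn2, hn2]
    have hfp := hfpf y hy hy3 hyc (fun v hv h => by
      -- `n y n` is the inverse of a conjugate of `y`
      have e : n * (y : G) * n = (z : G)⁻¹ * ((z : G) * (y : G)⁻¹ * (z : G)⁻¹) * z := by
        rw [hnyn, hydef]; simp [mul_assoc]
      rw [e, show (z : G)⁻¹ * ((z : G) * (y : G)⁻¹ * (z : G)⁻¹) * z = (y : G)⁻¹ by group]
      exact ((show Commute v (y : G) from h).inv_right).eq)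
    have hv0' := hQn (y : G) c hc
    refine ⟨(y : G) * c * (y : G)⁻¹, hv0', ?_⟩
    have hdy : d * ((y : G) * c * (y : G)⁻¹) * d = (y : G) ^ 2 * c * ((y : G) ^ 2)⁻¹ := by
      rw [← hnQ _ hv0', show n * ((y : G) * c * (y : G)⁻¹) * n = (n * (y : G) * n) * (n * c * n) * (n * (y : G) * n)⁻¹ by
        rw [mul_inv_rev, mul_inv_rev, hni]; simp [mul_assoc, mul_mul_cancel_self hn2], hnc]
      have e : n * (y : G) * n = (y : G)⁻¹ := by
        rw [hnyn, hydef]; simp
      rw [e]
      have hy3' : c * (y : G) ^ 3 = (y : G) ^ 3 * c := by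
        have := (hKmem _).mp hy3 c hc
        simpa using this
      calc (y : G)⁻¹ * c * ((y : G)⁻¹)⁻¹ = (y : G)⁻¹ * (c * (y : G) ^ 3) * ((y : G) ^ 2)⁻¹ := by group
        _ = _ := by rw [hy3']; group
    have h := hfp c hc
    rw [mul_assoc] at h
    rw [hdy]
    exact (eq_inv_of_mul_eq_one_left h).trans (hinvQ _ (mul_mem hv0' (hQn _ c hc)))

end CfsgThreeTrans.InvSylow
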