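/-
Induction for the invariant Sylow 3-subgroup.
-/
import Cfsg.Agent.Lib.ThreeTrans.InvSylow
import Cfsg.Agent.Lib.ThreeTrans.Descent

set_option autoImplicit false

namespace CfsgThreeTrans.InvSylow

open Cfsg CfsgLib
open scoped Pointwise

universe v

/-- The hypothesis used in the induction. -/
structure Setup {G : Type v} [Group G] (Q M : Subgroup G) (d : G) : Prop where
  qn : Q.Normal
  mn : M.Normal
  le : Q ≤ M
  two : IsPGroup 2 Q
  three : ∀ m ∈ M, ∃ k, m ^ (3 ^ k) ∈ Q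
  sq : d * d = 1
  cov : ∀ g : G, g ∈ M ∨ d * g ∈ M
  notMem : d ∉ M
  tr : ∀ g : G, (d * (g * d * g⁻¹)) ^ 2 = 1 ∨ (d * (g * d * g⁻¹)) ^ 3 = 1
  moved : ∃ g : G, g * d * g⁻¹ * d ∉ Q

theorem inf_three_le {G : Type v} [Group G] [Finite G] {Q M : Subgroup G} {d : G} (h : Setup Q M d) {P : Subgroup G}
    (hP : IsPGroup 3 P) {x : G} (hxQ : x ∈ Q) (hxP : x ∈ P) : x = 1 := by
  obtain ⟨a, ha⟩ := h.two ⟨x, hxQ⟩
  obtain ⟨b, hb⟩ := hP ⟨x, hxP⟩
  exact eq_one_of_two_three (congrArg Subtype.val ha) (congrArg Subtype.val hb)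

theorem setup_complement {G : Type v} [Group G] [Finite G] {Q M : Subgroup G} {d : G} (h : Setup Q M d)
    (hab : ∀ a ∈ Q, ∀ b ∈ Q, a * b = b * a) :
    ∃ P0 : Subgroup G, IsPGroup 3 P0 ∧ P0 ≤ M ∧ (∀ m ∈ M, ∃ q ∈ Q, ∃ p ∈ P0, m = q * p) ∧
      ∀ P1 : Subgroup G, P1 ≤ M → (∀ m ∈ M, ∃ q ∈ Q, ∃ p ∈ P1, m = q * p) → IsPGroup 3 P1 →
        ∃ c ∈ Q, ∀ p ∈ P1, c * p * c⁻¹ ∈ P0 := by
  haveI := h.qn
  set N := Q.subgroupOf M with hN
  haveI : IsMulCommutative N := ⟨⟨fun a b => Subtype.ext (Subtype.ext (hab _ a.2 _ b.2))⟩⟩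
  haveI : Fact (Nat.Prime 2) := ⟨Nat.prime_two⟩
  haveI : Fact (Nat.Prime 3) := ⟨Nat.prime_three⟩
  have hN2 : IsPGroup 2 N := h.two.of_equiv (Subgroup.subgroupOfEquivOfLe h.le).symm
  have hM3 : IsPGroup 3 (M ⧸ N) := by
    intro x
    obtain ⟨m, rfl⟩ := QuotientGroup.mk_surjective x
    obtain ⟨k, hk⟩ := h.three m m.2
    exact ⟨k, by rw [← QuotientGroup.mk_pow, QuotientGroup.eq_one_iff]; exact hk⟩
  have hcop : (Nat.card N).Coprime N.index := by
    obtain ⟨a, ha⟩ := hN2.exists_card_eq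
    obtain ⟨b, hb⟩ := hM3.exists_card_eq
    rw [ha, Subgroup.index, hb]
    exact Nat.Coprime.pow a b (by norm_num)
  obtain ⟨K, hK⟩ := Subgroup.exists_right_complement'_of_coprime hcop
  have hK3 : IsPGroup 3 K := by
    intro x
    obtain ⟨k, hk⟩ := h.three _ (x : M).2
    refine ⟨k, Subtype.ext (Subgroup.mem_bot.mp ?_)⟩
    exact hK.disjoint.le_bot (show (((x ^ 3 ^ k : K)) : M) ∈ N ⊓ K from ⟨by simpa [hN, Subgroup.mem_subgroupOf] using hk, (x ^ 3 ^ k).2⟩)
  have hcov : ∀ P1 : Subgroup G, P1 ≤ M → (∀ m ∈ M, ∃ q ∈ Q, ∃ p ∈ P1, m = q * p) → IsPGroup 3 P1 →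
      Subgroup.IsComplement' N (P1.subgroupOf M) := by
    intro P1 _ hP1cov hP13
    refine Subgroup.isComplement'_of_disjoint_and_mul_eq_univ ?_ (Set.eq_univ_of_forall fun m => ?_)
    · rw [Subgroup.disjoint_def]
      intro x hx1 hx2
      exact Subtype.ext (inf_three_le h hP13 hx1 hx2)
    · obtain ⟨q, hq, p, hp, e⟩ := hP1cov m m.2
      refine ⟨⟨q, h.le hq⟩, hq, ⟨p, ?_⟩, hp, Subtype.ext e.symm⟩
      have := mul_mem (inv_mem (h.le hq)) m.2
      rwa [e, inv_mul_cancel_left] at this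
  refine ⟨K.map M.subtype, hK3.map _, Subgroup.map_subtype_le K, fun m hm => ?_, fun P1 hP1 hP1cov hP13 => ?_⟩
  · obtain ⟨⟨q, p⟩, e, -⟩ := Subgroup.isComplement_iff_existsUnique.mp hK ⟨m, hm⟩
    exact ⟨(q : M), q.2, (p : M), ⟨p, p.2, rfl⟩, (congrArg Subtype.val e).symm⟩
  · obtain ⟨c, hc, hcK⟩ := CfsgLib.complements_conj_of_abelian hcop (hcov P1 hP1 hP1cov hP13) hK
    refine ⟨c, hc, fun p hp => ?_⟩
    have hp' : (⟨p, hP1 hp⟩ : M) ∈ P1.subgroupOf M := hp
    have := Subgroup.smul_mem_pointwise_smul _ (MulAut.conj c) _ hp'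
    rw [hcK] at this
    exact ⟨_, this, rfl⟩

theorem exists_invariant : ∀ (N : ℕ) (G : Type v) [Group G] [Finite G] (Q M : Subgroup G) (d : G),
    Nat.card G = N → Setup Q M d → ∃ P : Subgroup G, IsPGroup 3 P ∧ P ≤ M ∧ M ≤ P ⊔ Q ∧ ∀ p ∈ P, d * p * d ∈ P := by
  intro N
  induction N using Nat.strong_induction_on with
  | _ N IH =>
  intro G _ _ Q M d hN h
  haveI := h.qn
  haveI := h.mn
  have hdi : d⁻¹ = d := inv_eq_of_mul_eq_one_right h.sq
  by_cases hQ : Q = ⊥
  · refine ⟨M, fun m => ?_, le_rfl, le_sup_left, fun p hp => ?_⟩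
    · obtain ⟨k, hk⟩ := h.three m m.2
      rw [hQ, Subgroup.mem_bot] at hk
      exact ⟨k, Subtype.ext (by simpa using hk)⟩
    · have := h.mn.conj_mem p hp d
      rwa [hdi] at this
  obtain ⟨U, hUn, hUQ, hU1, hUmin⟩ := CfsgLib.exists_minimal_normal hQ
  haveI : Fact (Nat.Prime 2) := ⟨Nat.prime_two⟩
  by_cases hUQ' : U = Q
  · subst hUQ'
    haveI : Nontrivial U := by rwa [Subgroup.nontrivial_iff_ne_bot]
    haveI := h.two.center_nontrivial
    have hab : ∀ a ∈ U, ∀ b ∈ U, a * b = b * a := by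
      let Z := (Subgroup.center U).map U.subtype
      have hZn : Z.Normal := by infer_instance
      rcases hUmin Z hZn (Subgroup.map_subtype_le _) with e | e
      · exfalso
        obtain ⟨c, hc⟩ := exists_ne (1 : Subgroup.center U)
        have : ((c : U) : G) ∈ Z := ⟨c, c.2, rfl⟩
        rw [e, Subgroup.mem_bot] at this
        exact hc (Subtype.ext (Subtype.ext this))
      · intro a ha b hb
        have ha' : a ∈ Z := e.symm ▸ ha
        obtain ⟨a', ha', rfl⟩ := ha'
        exact (congrArg Subtype.val (Subgroup.mem_center_iff.mp ha' ⟨b, hb⟩)).symm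
    have hsq : ∀ a ∈ U, a * a = 1 := by
      let W : Subgroup G :=
        { carrier := {a | a ∈ U ∧ a * a = 1}
          one_mem' := ⟨one_mem _, one_mul 1⟩
          mul_mem' := fun {a b} ha hb => ⟨mul_mem ha.1 hb.1, by
            rw [show a * b * (a * b) = a * (b * a) * b by group, hab b hb.1 a ha.1,
              show a * (a * b) * b = (a * a) * (b * b) by group, ha.2, hb.2, one_mul]⟩
          inv_mem' := fun {a} ha => ⟨inv_mem ha.1, by rw [← mul_inv_rev, ha.2, inv_one]⟩ }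
      have hWn : W.Normal := ⟨fun a ha g => ⟨hUn.conj_mem a ha.1 g, by
        rw [show g * a * g⁻¹ * (g * a * g⁻¹) = g * (a * a) * g⁻¹ by group, ha.2]; simp⟩⟩
      rcases hUmin W hWn (fun a ha => ha.1) with e | e
      · exfalso
        have hdvd : 2 ∣ Nat.card U := by
          obtain ⟨k, hk⟩ := h.two.exists_card_eq
          rw [hk]
          refine dvd_pow_self 2 fun e => ?_
          rw [e, pow_zero] at hk
          exact Finite.one_lt_card.ne' hk
        obtain ⟨a, ha⟩ := exists_prime_orderOf_dvd_card' 2 hdvd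
        have h2 : a * a = 1 := by rw [← pow_two, ← ha]; exact pow_orderOf_eq_one a
        have : (a : G) ∈ W := ⟨a.2, congrArg Subtype.val h2⟩
        rw [e, Subgroup.mem_bot] at this
        rw [show a = 1 from Subtype.ext this, orderOf_one] at ha
        exact absurd ha (by norm_num)
      · intro a ha
        exact (e.ge ha).2
    obtain ⟨P0, hP3, hP0M, hMP, hconjP⟩ := setup_complement h hab
    exact base U M P0 h.le hab hsq (fun K hK hKQ => hUmin K hK hKQ) hP3 hP0M hMP hconjP h.sq h.cov h.tr h.moved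
  -- quotient by `U`
  set π := QuotientGroup.mk' U with hπ
  have hπs := QuotientGroup.mk'_surjective U
  have hker : ∀ x, π x = 1 ↔ x ∈ U := fun x => QuotientGroup.eq_one_iff x
  have hmap : ∀ {K : Subgroup G} {x : G}, U ≤ K → π x ∈ K.map π → x ∈ K := by
    rintro K x hUK ⟨y, hy, e⟩
    have : y⁻¹ * x ∈ U := (hker _).mp (by rw [map_mul, map_inv, e, inv_mul_cancel])
    have := mul_mem hy (hUK this)
    rwa [mul_inv_cancel_left] at this
  have hlt : Nat.card (G ⧸ U) < N := by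
    rw [← hN, Subgroup.card_eq_card_quotient_mul_card_subgroup U]
    exact lt_mul_of_one_lt_right Nat.card_pos (by
      haveI : Nontrivial U := by rwa [Subgroup.nontrivial_iff_ne_bot]
      exact Finite.one_lt_card)
  have hUM := hUQ.trans h.le
  have hset : Setup (Q.map π) (M.map π) (π d) :=
    { qn := h.qn.map π hπs
      mn := h.mn.map π hπs
      le := Subgroup.map_mono h.le
      two := h.two.map π
      three := by
        rintro _ ⟨m, hm, rfl⟩
        obtain ⟨k, hk⟩ := h.three m hm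
        exact ⟨k, ⟨_, hk, map_pow π m _⟩⟩
      sq := by rw [← map_mul, h.sq, map_one]
      cov := fun g => by
        obtain ⟨g, rfl⟩ := hπs g
        rcases h.cov g with e | e
        · exact Or.inl ⟨g, e, rfl⟩
        · exact Or.inr ⟨_, e, map_mul π d g⟩
      notMem := fun e => h.notMem (hmap hUM e)
      tr := fun g => by
        obtain ⟨g, rfl⟩ := hπs g
        rcases h.tr g with e | e
        · left; rw [← map_inv, ← map_mul, ← map_mul, ← map_mul, ← map_pow, e, map_one]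
        · right; rw [← map_inv, ← map_mul, ← map_mul, ← map_mul, ← map_pow, e, map_one]
      moved := by
        obtain ⟨g, hg⟩ := h.moved
        refine ⟨π g, fun e => hg ?_⟩
        rw [← map_inv, ← map_mul, ← map_mul, ← map_mul] at e
        exact hmap hUQ e }
  obtain ⟨P', hP'3, hP'M, hMP', hP'd⟩ := IH _ hlt (G ⧸ U) (Q.map π) (M.map π) (π d) rfl hset
  set M1 := P'.comap π with hM1
  have hUM1 : U ≤ M1 := fun u hu => by rw [hM1, Subgroup.mem_comap, (hker u).mpr hu]; exact one_mem _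
  have hM1M : M1 ≤ M := fun m hm => hmap hUM (hP'M hm)
  have hM1Q : ∀ x, x ∈ M1 → x ∈ Q → x ∈ U := fun x hx hxQ =>
    (hker x).mp (inf_three_le hset hP'3 ⟨x, hxQ, rfl⟩ hx)
  have hMM1 : ∀ m ∈ M, ∃ a ∈ M1, ∃ q ∈ Q, m = a * q := by
    intro m hm
    have h1 : π m ∈ P' ⊔ Q.map π := hMP' ⟨m, hm, rfl⟩
    haveI := hset.qn
    rw [← SetLike.mem_coe, Subgroup.mul_normal] at h1
    obtain ⟨a, ha, b, ⟨q, hq, rfl⟩, e⟩ := h1
    refine ⟨m * q⁻¹, ?_, q, hq, by group⟩
    show π (m * q⁻¹) ∈ P'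
    rw [map_mul, map_inv, ← e]
    simpa using ha
  have hdM1 : ∀ a ∈ M1, d * a * d ∈ M1 := fun a ha => by
    show π (d * a * d) ∈ P'
    rw [map_mul, map_mul]
    exact hP'd _ ha
  let G1 : Subgroup G :=
    { carrier := {g | g ∈ M1 ∨ d * g ∈ M1}
      one_mem' := Or.inl (one_mem _)
      mul_mem' := fun {a b} ha hb => by
        rcases ha with ha | ha <;> rcases hb with hb | hb
        · exact Or.inl (mul_mem ha hb)
        · right
          have := mul_mem (hdM1 a ha) hb
          rwa [show d * a * d * (d * b) = d * a * (d * d) * b by group, h.sq, mul_one, mul_assoc] at this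
        · right
          have := mul_mem ha hb
          rwa [mul_assoc] at this
        · left
          have := mul_mem (hdM1 _ ha) hb
          rwa [show d * (d * a) * d * (d * b) = (d * d) * a * (d * d) * b by group, h.sq, one_mul, mul_one] at this
      inv_mem' := fun {a} ha => by
        rcases ha with ha | ha
        · exact Or.inl (inv_mem ha)
        · right
          have := hdM1 _ (inv_mem ha)
          rwa [mul_inv_rev, hdi, show d * (a⁻¹ * d) * d = d * a⁻¹ * (d * d) by group, h.sq, mul_one] at this }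
  have hdG1 : d ∈ G1 := Or.inr (by rw [h.sq]; exact one_mem _)
  have hproper : Nat.card G1 < N := by
    rw [← hN]
    refine lt_of_le_of_ne (Subgroup.card_le_card_group _) fun e => hUQ' (le_antisymm hUQ fun q hq => ?_)
    have hmem : q ∈ G1 := (Subgroup.card_eq_iff_eq_top G1).mp e ▸ Subgroup.mem_top q
    rcases hmem with hmem | hmem
    · exact hM1Q q hmem hq
    · exfalso
      have := mul_mem (hM1M hmem) (inv_mem (h.le hq))
      rw [mul_inv_cancel_right] at this
      exact h.notMem this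
  have hdM1' : d ∉ M1 := fun e => h.notMem (hM1M e)
  have hset1 : Setup (U.subgroupOf G1) (M1.subgroupOf G1) (⟨d, hdG1⟩ : G1) :=
    { qn := hUn.subgroupOf G1
      mn := ⟨fun m hm g => by
        rw [Subgroup.mem_subgroupOf] at hm ⊢
        rcases g.2 with hg | hg
        · exact mul_mem (mul_mem hg hm) (inv_mem hg)
        · have := hdM1 _ (mul_mem (mul_mem hg hm) (inv_mem hg))
          show (g : G) * m * (g : G)⁻¹ ∈ M1
          rwa [show d * (d * (g : G) * m * (d * (g : G))⁻¹) * d = (d * d) * g * m * (g : G)⁻¹ * (d⁻¹ * d) by group, h.sq,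
            inv_mul_cancel, one_mul, mul_one] at this⟩
      le := fun x hx => hUM1 hx
      two := (h.two.to_le hUQ).comap_subtype
      three := fun m hm => by
        obtain ⟨k, hk⟩ := h.three m (hM1M hm)
        exact ⟨k, hM1Q _ (pow_mem (show (m : G) ∈ M1 from hm) _) hk⟩
      sq := Subtype.ext h.sq
      cov := fun g => g.2
      notMem := hdM1'
      tr := fun g => by
        rcases h.tr g with e | e
        exacts [Or.inl (Subtype.ext (by simpa using e)), Or.inr (Subtype.ext (by simpa using e))]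
      moved := by
        obtain ⟨g, hg⟩ := h.moved
        have hg' : ∃ g1 ∈ G1, ∃ q ∈ Q, g = g1 * q := by
          rcases h.cov g with e | e
          · obtain ⟨a, ha, q, hq, rfl⟩ := hMM1 g e
            exact ⟨a, Or.inl ha, q, hq, rfl⟩
          · obtain ⟨a, ha, q, hq, e'⟩ := hMM1 _ e
            refine ⟨d * a, Or.inr (by rw [← mul_assoc, h.sq, one_mul]; exact ha), q, hq, ?_⟩
            rw [mul_assoc, ← e', ← mul_assoc, h.sq, one_mul]
        obtain ⟨g1, hg1, q, hq, rfl⟩ := hg'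
        refine ⟨⟨g1, hg1⟩, fun e => hg ?_⟩
        have e' : g1 * d * g1⁻¹ * d ∈ Q := hUQ e
        rw [show g1 * q * d * (g1 * q)⁻¹ * d = (g1 * (q * (d * q⁻¹ * d⁻¹)) * g1⁻¹) * (g1 * d * g1⁻¹ * d) by group]
        exact mul_mem (h.qn.conj_mem _ (mul_mem hq (h.qn.conj_mem _ (inv_mem hq) d)) g1) e' }
  obtain ⟨P, hP3, hPM, hMP1, hPd⟩ := IH _ hproper G1 (U.subgroupOf G1) (M1.subgroupOf G1) ⟨d, hdG1⟩ rfl hset1
  refine ⟨P.map G1.subtype, hP3.map _, ?_, fun m hm => ?_, ?_⟩
  · rintro _ ⟨p, hp, rfl⟩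
    exact hM1M (hPM hp)
  · obtain ⟨a, ha, q, hq, rfl⟩ := hMM1 m hm
    refine mul_mem ?_ (Subgroup.mem_sup_right hq)
    have h1 : (⟨a, Or.inl ha⟩ : G1) ∈ P ⊔ U.subgroupOf G1 := hMP1 ha
    have h2 : (P ⊔ U.subgroupOf G1).map G1.subtype ≤ P.map G1.subtype ⊔ Q := by
      rw [Subgroup.map_sup]
      refine sup_le_sup le_rfl ?_
      rintro _ ⟨u, hu, rfl⟩
      exact hUQ hu
    exact h2 ⟨_, h1, rfl⟩
  · rintro _ ⟨p, hp, rfl⟩
    exact ⟨_, hPd p hp, rfl⟩

/-- If the commuting set of `d` consists of its twins, `d` normalises a Sylow 3-subgroup. -/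
theorem invariant_sylow {G : Type v} [Group G] [Finite G] {D : Set G} (hD : IsThreeTranspositionClass D)
    (hD2 : ∃ a ∈ D, ∃ b ∈ D, a ≠ b) {d : G} (hd : d ∈ D)
    (hV : {y : G | y ∈ D ∧ Commute d y} = {v : G | v ∈ D ∧ ∀ e ∈ D, Commute v e ↔ Commute d e}) :
    ∃ P : Sylow 3 G, d ∈ Subgroup.normalizer (P : Set G) ∧ Subgroup.zpowers d ⊔ (P : Subgroup G) ⊔ pCore 2 G = ⊤ := by
  haveI : Fact (Nat.Prime 3) := ⟨Nat.prime_three⟩
  haveI : Fact (Nat.Prime 2) := ⟨Nat.prime_two⟩
  set Q := pCore 2 G with hQdef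
  have hQ2 : IsPGroup 2 Q := CfsgLib.isPGroup_pCore 2
  have hVs : ∀ a ∈ D, ∀ b ∈ D, Commute a b → a * b ∈ Q := by
    intro a ha b hb hab
    obtain ⟨g, rfl⟩ := cls_exists_conj hD hd ha
    have hb' : g⁻¹ * b * g⁻¹⁻¹ ∈ D := cls_conj hD g⁻¹ hb
    have hc : Commute d (g⁻¹ * b * g⁻¹⁻¹) := (commute_cj_iff g).mp (by rw [cj_inv]; exact hab)
    have hv : g⁻¹ * b * g⁻¹⁻¹ ∈ Vs D d := hV.le (⟨hb', hc⟩ : g⁻¹ * b * g⁻¹⁻¹ ∈ {y : G | y ∈ D ∧ Commute d y})
    have := mul_mem_two_of_Vs hD hd hv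
    have h2 := (inferInstance : (pCore 2 G).Normal).conj_mem _ this g
    rwa [show g * (d * (g⁻¹ * b * g⁻¹⁻¹)) * g⁻¹ = g * d * g⁻¹ * b by group] at h2
  set π := QuotientGroup.mk' Q with hπ
  have hπs := QuotientGroup.mk'_surjective Q
  have hcong : ∀ a ∈ D, ∀ b ∈ D, a * b ∈ Q → π a = π b := by
    intro a ha b hb h
    have : π a * π b = 1 := by rw [← map_mul]; exact (QuotientGroup.eq_one_iff _).mpr h
    rw [eq_inv_of_mul_eq_one_left this, ← map_inv, inv_self hD.1 hb]
  have hne : ∀ a ∈ D, π a ≠ 1 := by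
    intro a ha e
    obtain ⟨b, hb, hab⟩ := exists_noncommute hD hD2 ha
    have h3 := pow_three hD.1 ha hb hab
    have hbQ : b ∈ Q := by
      obtain ⟨g, rfl⟩ := cls_exists_conj hD ha hb
      exact (inferInstance : (pCore 2 G).Normal).conj_mem _ ((QuotientGroup.eq_one_iff a).mp e) g
    exact hab (commute_of_two hD.1 ha hb hQ2 (mul_mem ((QuotientGroup.eq_one_iff a).mp e) hbQ))
  have hDc := map_class hD π hπs hne
  have hw : ∀ a ∈ π '' D, ∀ b ∈ π '' D, Commute a b → a = b := by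
    rintro _ ⟨a, ha, rfl⟩ _ ⟨b, hb, rfl⟩ hc
    by_cases hab : Commute a b
    · exact hcong a ha b hb (hVs a ha b hb hab)
    · have h3 : (π a * π b) ^ 3 = 1 := by rw [← map_mul, ← map_pow, pow_three hD.1 ha hb hab, map_one]
      have h2 : (π a * π b) ^ 2 = 1 := sq_of_commute hDc.1 ⟨a, ha, rfl⟩ ⟨b, hb, rfl⟩ hc
      rw [pow_succ, h2, one_mul] at h3
      rw [eq_inv_of_mul_eq_one_left h3, ← map_inv, inv_self hD.1 hb]
  set M := (pCore 3 (G ⧸ Q)).comap π with hM
  have hprod : ∀ a ∈ D, ∀ b ∈ D, a * b ∈ M := fun a ha b hb => by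
    show π (a * b) ∈ pCore 3 (G ⧸ Q)
    rw [map_mul]
    exact mul_mem_pCore_three hDc hw ⟨a, ha, rfl⟩ ⟨b, hb, rfl⟩
  have hd2 := mul_self hD.1 hd
  have hdM : d ∉ M := by
    intro e
    have e' : π d ∈ pCore 3 (G ⧸ Q) := e
    obtain ⟨b, hb⟩ := (CfsgLib.isPGroup_pCore (G := G ⧸ Q) 3) ⟨π d, e'⟩
    refine hne d hd (eq_one_of_two_three (a := 1) (b := b) ?_ (congrArg Subtype.val hb))
    rw [pow_one, pow_two, ← map_mul, hd2, map_one]
  have hcov : ∀ g : G, g ∈ M ∨ d * g ∈ M := by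
    intro g
    have hg : g ∈ Subgroup.closure D := hD.2.2 ▸ Subgroup.mem_top g
    induction hg using Subgroup.closure_induction_left with
    | one => exact Or.inl (one_mem _)
    | mul_left x hx y _ ih =>
      rcases ih with h | h
      · right; rw [← mul_assoc]; exact mul_mem (hprod d hd x hx) h
      · left
        rw [show x * y = x * d * (d⁻¹ * y) by group, inv_self hD.1 hd]
        exact mul_mem (hprod x hx d hd) h
    | inv_mul_cancel x hx y _ ih =>
      rw [inv_self hD.1 hx]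
      rcases ih with h | h
      · right; rw [← mul_assoc]; exact mul_mem (hprod d hd x hx) h
      · left
        rw [show x * y = x * d * (d⁻¹ * y) by group, inv_self hD.1 hd]
        exact mul_mem (hprod x hx d hd) h
  have hset : Setup Q M d :=
    { qn := inferInstance
      mn := (inferInstance : (pCore 3 (G ⧸ Q)).Normal).comap π
      le := fun q hq => by show π q ∈ pCore 3 (G ⧸ Q); rw [show π q = 1 from (QuotientGroup.eq_one_iff q).mpr hq]; exact one_mem _
      two := hQ2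
      three := fun m hm => by
        obtain ⟨k, hk⟩ := (CfsgLib.isPGroup_pCore 3) ⟨π m, hm⟩
        refine ⟨k, (QuotientGroup.eq_one_iff _).mp ?_⟩
        rw [QuotientGroup.mk_pow]; exact congrArg Subtype.val hk
      sq := hd2
      cov := hcov
      notMem := hdM
      tr := fun g => hD.1.2 d hd _ (cls_conj hD g hd)
      moved := by
        obtain ⟨e, he, hne'⟩ := exists_noncommute hD hD2 hd
        obtain ⟨g, rfl⟩ := cls_exists_conj hD hd he
        exact ⟨g, fun h => hne' (commute_of_two hD.1 he hd hQ2 h).symm⟩ }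
  obtain ⟨P, hP3, hPM, hMP, hPd⟩ := exists_invariant _ G Q M d rfl hset
  have htop : Subgroup.zpowers d ⊔ P ⊔ Q = ⊤ := by
    refine eq_top_iff.mpr fun g _ => ?_
    have hMle : M ≤ Subgroup.zpowers d ⊔ P ⊔ Q := hMP.trans (sup_le (le_sup_of_le_left le_sup_right) le_sup_right)
    have hdm : d ∈ Subgroup.zpowers d ⊔ P ⊔ Q := Subgroup.mem_sup_left (Subgroup.mem_sup_left (Subgroup.mem_zpowers d))
    rcases hcov g with h | h
    · exact hMle h
    · have := mul_mem hdm (hMle h)
      rwa [← mul_assoc, hd2, one_mul] at this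
  obtain ⟨S, hS⟩ := hP3.exists_le_sylow
  have hSM : (S : Subgroup G) ≤ M := by
    intro s hs
    rcases hcov s with h | h
    · exact h
    · exfalso
      haveI := hset.mn
      obtain ⟨b, hb⟩ := S.isPGroup' ⟨s, hs⟩
      have hodd : Odd (3 ^ b) := (by decide : Odd 3).pow
      obtain ⟨r, hr⟩ := hodd
      have hs2 : s * s ∈ M := by
        have h1 := hset.mn.conj_mem _ h d
        rw [show d * (d * s) * d⁻¹ = (d * d) * s * d⁻¹ by group, hd2, one_mul, inv_self hD.1 hd] at h1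
        have := mul_mem h1 h
        rwa [show s * d * (d * s) = s * (d * d) * s by group, hd2, mul_one] at this
      have hs' : s ^ (3 ^ b) = 1 := congrArg Subtype.val hb
      have hsM : s ∈ M := by
        rw [hr, pow_succ, pow_mul, pow_two] at hs'
        rw [eq_inv_of_mul_eq_one_right hs']
        exact inv_mem (pow_mem hs2 r)
      exact hdM (by have := mul_mem h (inv_mem hsM); rwa [mul_inv_cancel_right] at this)
  have hSP : (S : Subgroup G) = P := by
    refine le_antisymm (fun s hs => ?_) hS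
    have h1 : s ∈ P ⊔ Q := hMP (hSM hs)
    rw [← SetLike.mem_coe, Subgroup.mul_normal] at h1
    obtain ⟨p, hp, q, hq, rfl⟩ := h1
    have hqS : q ∈ (S : Subgroup G) := by
      have := mul_mem (inv_mem (hS hp)) hs
      rwa [inv_mul_cancel_left] at this
    rw [inf_three_le hset S.isPGroup' hq hqS]
    simpa using hp
  refine ⟨S, ?_, by rw [hSP]; exact htop⟩
  have : ((S : Subgroup G) : Set G) = (P : Set G) := by rw [hSP]
  rw [show (S : Set G) = (P : Set G) from this]
  refine Subgroup.mem_normalizer_iff.mpr fun p => ?_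
  rw [inv_self hD.1 hd]
  refine ⟨hPd p, fun h => ?_⟩
  have := hPd _ h
  rwa [show d * (d * p * d) * d = (d * d) * p * (d * d) by group, hd2, one_mul, mul_one] at this

end CfsgThreeTrans.InvSylow
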