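/-
A class of 3-transpositions whose commuting sets have two members with the same commuting set generates S4.
-/
import Cfsg.Agent.Lib.ThreeTrans.Classes
import Mathlib.GroupTheory.Perm.Sign

set_option autoImplicit false

namespace CfsgThreeTrans.Pair

open Cfsg CfsgLib
open scoped commutatorElement

variable {G : Type*} [Group G] {D : Set G}

/-- The transpositions. -/
def IsSix (σ : Equiv.Perm (Fin 4)) : Prop :=
  σ = Equiv.swap 0 1 ∨ σ = Equiv.swap 0 2 ∨ σ = Equiv.swap 0 3 ∨ σ = Equiv.swap 1 2 ∨ σ = Equiv.swap 1 3 ∨ σ = Equiv.swap 2 3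

theorem comb {A : Type*} [CommGroup A] (ta tb tc t20 t02 t22 t11 t12 t21 : A)
    (l1 : ta * tb * t20 = 1) (l2 : ta * tc * t02 = 1) (l3 : ta * t22 * t11 = 1) (l4 : ta * t21 * t12 = 1)
    (l5 : tb * t11 * t12 = 1) (l6 : t20 * t22 * t21 = 1) (h : ta * ta = 1) : ta = 1 := by
  have e : tc * t02 * ((tb * t11 * t12) * (t20 * t22 * t21)) * ((ta * ta) * (ta * ta)) =
      (ta * tb * t20) * (ta * tc * t02) * (ta * t22 * t11) * (ta * t21 * t12) := by ac_rfl
  rw [l1, l2, l3, l4, l5, l6, h] at e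
  simp only [one_mul, mul_one] at e
  rwa [mul_assoc, e, mul_one] at l2

theorem swaps_commute : Commute (Equiv.swap (1 : Fin 4) 2) (Equiv.swap 0 3) ∧
    Commute (Equiv.swap (0 : Fin 4) 2) (Equiv.swap 1 3) ∧
    Commute (Equiv.swap (0 : Fin 4) 1 * Equiv.swap 2 3) (Equiv.swap 1 2 * Equiv.swap 0 3) := by
  refine ⟨?_, ?_, ?_⟩ <;> show _ * _ = _ * _ <;> decide

theorem equiv_S4 [Finite G] (hD : IsThreeTranspositionClass D) (hD2 : ∃ a ∈ D, ∃ b ∈ D, a ≠ b) {d : G} (hd : d ∈ D)
    (hV : {y : G | y ∈ D ∧ Commute d y} = {v : G | v ∈ D ∧ ∀ e ∈ D, Commute v e ↔ Commute d e})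
    (hm : {y : G | y ∈ D ∧ Commute d y}.ncard = 2) : Nonempty (G ≃* Equiv.Perm (Fin 4)) := by
  classical
  have hset := hD.1
  -- every member has a unique partner
  have hpart : ∀ a ∈ D, ∃ b ∈ D, b ≠ a ∧ Commute a b ∧ (∀ y ∈ D, Commute a y → y = a ∨ y = b) ∧
      ∀ y ∈ D, Commute a y ↔ Commute b y := by
    intro a ha
    obtain ⟨g, rfl⟩ := cls_exists_conj hD hd ha
    obtain ⟨u, v, huv, hs⟩ := Set.ncard_eq_two.mp hm
    have hdm : d ∈ ({u, v} : Set G) := hs ▸ (⟨hd, Commute.refl d⟩ : d ∈ {y : G | y ∈ D ∧ Commute d y})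
    obtain ⟨w, hwd, hs'⟩ : ∃ w, w ≠ d ∧ {y : G | y ∈ D ∧ Commute d y} = {d, w} := by
      rcases hdm with e | e
      · exact ⟨v, e ▸ huv.symm, e ▸ hs⟩
      · rw [Set.mem_singleton_iff] at e
        exact ⟨u, e ▸ huv, by rw [hs, e, Set.pair_comm]⟩
    have hw : w ∈ D ∧ Commute d w := hs'.ge (Or.inr rfl)
    have hwV := hV.le (show w ∈ {y : G | y ∈ D ∧ Commute d y} from hw)
    refine ⟨g * w * g⁻¹, cls_conj hD g hw.1, fun e => hwd ((cj_injective g) e), (commute_cj_iff g).mpr hw.2, ?_, ?_⟩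
    · intro y hy hc
      have hy' : g⁻¹ * y * g⁻¹⁻¹ ∈ D := cls_conj hD g⁻¹ hy
      have : g⁻¹ * y * g⁻¹⁻¹ ∈ ({d, w} : Set G) :=
        hs'.le ⟨hy', (commute_cj_iff g).mp (by rw [cj_inv]; exact hc)⟩
      rcases this with e | e
      · left; rw [← cj_inv g y, e]
      · right; rw [Set.mem_singleton_iff] at e; rw [← cj_inv g y, e]
    · intro y hy
      have hy' : g⁻¹ * y * g⁻¹⁻¹ ∈ D := cls_conj hD g⁻¹ hy
      rw [← cj_inv g y, commute_cj_iff, commute_cj_iff]
      exact (hwV.2 _ hy').symm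
  choose st hstD hstne hstc hstuniq hsteq using hpart
  let s : G → G := fun a => if h : a ∈ D then st a h else a
  have sD : ∀ a ∈ D, s a ∈ D := fun a ha => by simp only [s, dif_pos ha]; exact hstD a ha
  have sne : ∀ a ∈ D, s a ≠ a := fun a ha => by simp only [s, dif_pos ha]; exact hstne a ha
  have sc : ∀ a ∈ D, Commute a (s a) := fun a ha => by simp only [s, dif_pos ha]; exact hstc a ha
  have suniq : ∀ a ∈ D, ∀ y ∈ D, Commute a y → y = a ∨ y = s a := fun a ha y hy h => by
    simp only [s, dif_pos ha]; exact hstuniq a ha y hy h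
  have seq : ∀ a ∈ D, ∀ y ∈ D, Commute a y ↔ Commute (s a) y := fun a ha y hy => by
    simp only [s, dif_pos ha]; exact hsteq a ha y hy
  have skey : ∀ a ∈ D, ∀ y ∈ D, Commute a y → y ≠ a → s a = y := fun a ha y hy h hne =>
    ((suniq a ha y hy h).resolve_left hne).symm
  have ss : ∀ a ∈ D, s (s a) = a := fun a ha => skey _ (sD a ha) a ha (sc a ha).symm (sne a ha).symm
  -- the product of a member and its partner
  let t : G → G := fun a => a * s a
  have tS4 : ∀ a ∈ D, ∀ b ∈ D, ¬ Commute a b → Commute (t a) (t b) ∧ t a * t b * t (a * b * a⁻¹) = 1 ∧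
      ∃ φ : Equiv.Perm (Fin 4) →* G, Function.Injective φ ∧ φ (Equiv.swap 0 1) = a ∧ φ (Equiv.swap 1 2) = b ∧
        φ (Equiv.swap 2 3) = s a ∧ φ (Equiv.swap 0 3) = s b := by
    intro a ha b hb hab
    obtain ⟨φ, hφ, h1, h2, h3⟩ := S4_exists hset ha hb (sD a ha) (sne a ha).symm (sc a ha) hab
      (fun h => hab ((seq a ha b hb).mpr h.symm))
    have hmem : ∀ σ : Equiv.Perm (Fin 4), ∀ g : Equiv.Perm (Fin 4), σ = g * Equiv.swap 0 1 * g⁻¹ → φ σ ∈ D := by
      intro σ g e
      rw [e, map_mul, map_mul, map_inv, h1]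
      exact cls_conj hD _ ha
    have hsb : s b = φ (Equiv.swap 0 3) := skey b hb _ (hmem _ (Equiv.swap 1 3) (by decide)) (by
      rw [← h2]; exact swaps_commute.1.map φ) (by
      rw [← h2]; exact hφ.ne (by decide))
    have hc : a * b * a⁻¹ = φ (Equiv.swap 0 2) := by
      rw [← h1, ← h2, ← map_inv, ← map_mul, ← map_mul]
      exact congrArg φ (by decide)
    have hsc : s (a * b * a⁻¹) = φ (Equiv.swap 1 3) := skey _ (cls_conj hD a hb) _ (hmem _ (Equiv.swap 0 3) (by decide)) (by
      rw [hc]; exact swaps_commute.2.1.map φ) (by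
      rw [hc]; exact hφ.ne (by decide))
    have eta : t a = φ (Equiv.swap 0 1 * Equiv.swap 2 3) := by simp only [t, map_mul, h1, h3]
    have etb : t b = φ (Equiv.swap 1 2 * Equiv.swap 0 3) := by simp only [t, map_mul, h2, hsb]
    have etc' : t (a * b * a⁻¹) = φ (Equiv.swap 0 2 * Equiv.swap 1 3) := by simp only [t, map_mul, hsc]; rw [hc]
    refine ⟨?_, ?_, φ, hφ, h1, h2, h3, hsb.symm⟩
    · rw [eta, etb]
      exact swaps_commute.2.2.map φ
    · rw [eta, etb, etc', ← map_mul, ← map_mul]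
      exact (congrArg φ (by decide)).trans (map_one φ)
  have tcomm : ∀ a ∈ D, ∀ b ∈ D, Commute (t a) (t b) := by
    intro a ha b hb
    by_cases hab : Commute a b
    · rcases suniq a ha b hb hab with e | e
      · rw [e]
      · have : t b = t a := by
          simp only [t]
          rw [e, ss a ha]
          exact (sc a ha).symm.eq
        rw [this]
    · exact (tS4 a ha b hb hab).1
  obtain ⟨e, he, hde⟩ := exists_noncommute hD hD2 hd
  obtain ⟨-, -, φ, hφ, h1, h2, h3, h4⟩ := tS4 d hd e he hde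
  have hsix : ∀ f ∈ D, f ∈ φ.range := by
    intro f hf
    by_contra hnot
    have hin : ∀ u ∈ D, u ∈ φ.range → s u ∈ φ.range → ¬ Commute u f := by
      intro u hu h1' h2' hc
      rcases suniq u hu f hf hc with e | e <;> exact hnot (e ▸ by assumption)
    have r1 : d ∈ φ.range := ⟨_, h1⟩
    have r1' : s d ∈ φ.range := ⟨_, h3⟩
    have r2 : e ∈ φ.range := ⟨_, h2⟩
    have r2' : s e ∈ φ.range := ⟨_, h4⟩
    set B := d * e * d⁻¹ with hB
    have hBD : B ∈ D := cls_conj hD d he
    have rB : B ∈ φ.range := mul_mem (mul_mem r1 r2) (inv_mem r1)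
    have rB' : s B ∈ φ.range := by
      have : s B = d * s e * d⁻¹ := skey B hBD _ (cls_conj hD d (sD e he)) ((commute_cj_iff d).mpr (sc e he))
        (fun h => sne e he ((cj_injective d) h))
      rw [this]
      exact mul_mem (mul_mem r1 r2') (inv_mem r1)
    have ndf : ¬ Commute d f := hin d hd r1 r1'
    have nef : ¬ Commute e f := hin e he r2 r2'
    have nBf : ¬ Commute B f := hin B hBD rB rB'
    have hdd := mul_self hset hd
    set C := d * f * d⁻¹ with hC
    have hCD : C ∈ D := cls_conj hD d hf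
    have neC : ¬ Commute e C := fun h => nBf (by
      have := (commute_cj_iff d).mpr h
      rwa [← hB, hC, show d * (d * f * d⁻¹) * d⁻¹ = (d * d) * f * (d * d)⁻¹ by group, hdd, one_mul, inv_one, mul_one] at this)
    set P22 := e * f * e⁻¹ with hP22
    set P21 := e * C * e⁻¹ with hP21
    have h22 : P22 ∈ D := cls_conj hD e hf
    have h21 : P21 ∈ D := cls_conj hD e hCD
    have cancel : ∀ {x : G}, x ∈ D → ∀ y, x * (x * y * x⁻¹) * x⁻¹ = y := fun {x} hx y => by
      rw [show x * (x * y * x⁻¹) * x⁻¹ = (x * x) * y * (x * x)⁻¹ by group, mul_self hset hx, one_mul, inv_one, mul_one]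
    have ebd : e * d * e⁻¹ = B := by rw [hB, inv_self hset he, inv_self hset hd, braid hset he hd (fun h => hde h.symm)]
    have efd : f * B * f⁻¹ = B * f * B⁻¹ := by
      rw [inv_self hset hf, inv_self hset hBD, braid hset hf hBD (fun h => nBf h.symm)]
    have nd22 : ¬ Commute d P22 := fun h => nBf (by
      have := (commute_cj_iff e).mpr h
      rwa [ebd, hP22, cancel he] at this)
    have nBC : ¬ Commute B C := fun h => nef ((commute_cj_iff d).mp h)
    have nd21 : ¬ Commute d P21 := fun h => nBC (by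
      have := (commute_cj_iff e).mpr h
      rwa [ebd, hP21, cancel he] at this)
    set P11 := d * P22 * d⁻¹ with hP11
    set P12 := d * P21 * d⁻¹ with hP12
    have h11 : P11 ∈ D := cls_conj hD d h22
    have ne11 : ¬ Commute e P11 := fun h => ndf (by
      have h' := (commute_cj_iff d).mpr h
      rw [← hB, hP11, cancel hd] at h'
      have h'' := (commute_cj_iff e).mpr h'
      rw [hP22, cancel he] at h''
      rwa [← ebd, cancel he] at h'')
    have e12 : e * P11 * e⁻¹ = P12 := by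
      -- both are the conjugate of `f` by `B`
      have a1 : e * P11 * e⁻¹ = B * f * B⁻¹ := by
        rw [hP11, show e * (d * P22 * d⁻¹) * e⁻¹ = (e * d * e⁻¹) * (e * P22 * e⁻¹) * (e * d * e⁻¹)⁻¹ by group, ebd,
          hP22, cancel he]
      have a2 : P12 = B * f * B⁻¹ := by
        rw [hP12, hP21, show d * (e * C * e⁻¹) * d⁻¹ = (d * e * d⁻¹) * (d * C * d⁻¹) * (d * e * d⁻¹)⁻¹ by group, ← hB,
          hC, cancel hd]
      rw [a1, a2]
    have l1 := (tS4 d hd e he hde).2.1
    have l2 := (tS4 d hd f hf ndf).2.1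
    have l3 := (tS4 d hd P22 h22 nd22).2.1
    have l4 := (tS4 d hd P21 h21 nd21).2.1
    have l5 := (tS4 e he P11 h11 ne11).2.1
    rw [e12] at l5
    have nB22 : ¬ Commute B P22 := fun h => ne11 (by
      have := (commute_cj_iff d).mpr h
      rwa [← hP11, hB, cancel hd] at this)
    have l6 := (tS4 B hBD P22 h22 nB22).2.1
    have e21 : B * P22 * B⁻¹ = P21 := by
      calc B * P22 * B⁻¹ = d * (e * (d * P22 * d⁻¹) * e⁻¹) * d⁻¹ := by
            rw [hB]; simp [mul_assoc, mul_inv_rev, inv_self hset hd]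
        _ = d * P12 * d⁻¹ := by rw [← hP11, e12]
        _ = P21 := cancel hd P21
    rw [e21] at l6
    rw [← hB] at l1
    rw [← hC] at l2
    rw [← hP11] at l3
    rw [← hP12] at l4
    let T : Subgroup G := Subgroup.closure (t '' D)
    have hTc : IsMulCommutative T := Subgroup.isMulCommutative_closure (by
      rintro _ ⟨a, ha, rfl⟩ _ ⟨b, hb, rfl⟩
      exact tcomm a ha b hb)
    letI : CommGroup T := { (inferInstance : Group T) with mul_comm := fun a b => hTc.is_comm.comm a b }
    let tt : ∀ a, a ∈ D → T := fun a ha => ⟨t a, Subgroup.subset_closure ⟨a, ha, rfl⟩⟩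
    have hta : tt d hd * tt d hd = 1 := Subtype.ext (by
      show d * s d * (d * s d) = 1
      rw [show d * s d * (d * s d) = d * (s d * d) * s d by group, ← (sc d hd).eq,
        show d * (d * s d) * s d = (d * d) * (s d * s d) by group, hdd, mul_self hset (sD d hd), one_mul])
    have key : tt d hd = 1 := comb (tt d hd) (tt e he) (tt f hf) (tt B hBD) (tt C hCD) (tt P22 h22) (tt P11 h11)
      (tt P12 (cls_conj hD d h21)) (tt P21 h21) (Subtype.ext l1) (Subtype.ext l2) (Subtype.ext l3) (Subtype.ext l4)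
      (Subtype.ext l5) (Subtype.ext l6) hta
    have : d * s d = 1 := congrArg Subtype.val key
    exact sne d hd (by rw [eq_inv_of_mul_eq_one_right this, inv_self hset hd])
  have hsurj : Function.Surjective φ := by
    intro g
    have hg : g ∈ Subgroup.closure D := hD.2.2 ▸ Subgroup.mem_top g
    exact (Subgroup.closure_le φ.range).mpr hsix hg
  exact ⟨(MulEquiv.ofBijective φ ⟨hφ, hsurj⟩).symm⟩

end CfsgThreeTrans.Pair
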