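/-
Groups generated by three transpositions in general position: at most 54 elements.
-/
import Mathlib

set_option autoImplicit false

namespace CfsgThreeTrans

variable {G : Type*} [Group G]

/-- The relations of three transpositions in general position. -/
structure Triple (a b c : G) : Prop where
  aa : a * a = 1
  bb : b * b = 1
  cc : c * c = 1
  ab : (a * b) ^ 3 = 1
  ac : (a * c) ^ 3 = 1
  bc : (b * c) ^ 3 = 1
  abcb : (a * (b * c * b)) ^ 3 = 1

theorem pow_three_inv {x : G} (h : x ^ 3 = 1) : x⁻¹ = x * x :=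
  inv_eq_of_mul_eq_one_right (by rw [← mul_assoc]; rw [pow_three', ] at h; exact h)

theorem inv_pow_three {x : G} (h : x ^ 3 = 1) : x⁻¹ ^ 3 = 1 := by rw [inv_pow, h, inv_one]

theorem conj_pow_three {x : G} (g : G) (h : x ^ 3 = 1) : (g * x * g⁻¹) ^ 3 = 1 := by
  rw [conj_pow, h, mul_one, mul_inv_cancel]

theorem rot {x y : G} (h : (x * y) ^ 3 = 1) : y * x * y = x⁻¹ * y⁻¹ * x⁻¹ := by
  rw [pow_three] at h
  calc y * x * y = x⁻¹ * (x * y * (x * y * (x * y))) * y⁻¹ * x⁻¹ := by group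
    _ = _ := by rw [h]; group

namespace Triple

variable {a b c : G} (h : Triple a b c)
include h

theorem x3 : (a * b) ^ 3 = 1 := h.ab

theorem xiy : ((a * b)⁻¹ * (a * c)) ^ 3 = 1 := by
  rw [show (a * b)⁻¹ * (a * c) = b⁻¹ * c by group, inv_eq_of_mul_eq_one_right h.bb]
  exact h.bc

theorem xy3 : ((a * b) * (a * c)) ^ 3 = 1 := by
  have hb : b⁻¹ = b := inv_eq_of_mul_eq_one_right h.bb
  have ha : a⁻¹ = a := inv_eq_of_mul_eq_one_right h.aa
  have hc : c⁻¹ = c := inv_eq_of_mul_eq_one_right h.cc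
  have e : a * (b * c * b) = (a * b) * (a * c)⁻¹ * (a * b) := by
    calc a * (b * c * b) = a * b * c * (a * a) * b := by rw [h.aa]; group
      _ = (a * b) * (c⁻¹ * a⁻¹) * (a * b) := by rw [hc, ha]; group
      _ = _ := by group
  have h1 := conj_pow_three (a * b) h.abcb
  rw [e] at h1
  have h2 : ((a * b) * (a * b) * (a * c)⁻¹) ^ 3 = 1 := by
    convert h1 using 2
    group
  rw [← pow_three_inv h.ab] at h2
  have h3 := inv_pow_three h2
  rw [mul_inv_rev, inv_inv, inv_inv] at h3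
  have h4 := conj_pow_three (a * b) h3
  convert h4 using 2
  group

theorem commute_conj : Commute (a * c) ((a * b) * (a * c) * (a * b)⁻¹) := by
  set x := a * b with hx
  set y := a * c with hy
  have hx2 : x⁻¹ = x * x := pow_three_inv h.x3
  have r1 : y * x * y = x⁻¹ * y⁻¹ * x⁻¹ := rot h.xy3
  have r2 : y * x⁻¹ * y = x * y⁻¹ * x := by
    have := rot (x := x⁻¹) (y := y) h.xiy
    rwa [inv_inv] at this
  show y * (x * y * x⁻¹) = x * y * x⁻¹ * y
  calc y * (x * y * x⁻¹) = (y * x * y) * x⁻¹ := by group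
    _ = x⁻¹ * y⁻¹ * (x⁻¹ * x⁻¹) := by rw [r1]; group
    _ = x⁻¹ * y⁻¹ * x := by
      rw [show x⁻¹ * x⁻¹ = x from by rw [← mul_inv_rev, ← hx2, inv_inv]]
    _ = x * (x * y⁻¹ * x) := by rw [hx2]; group
    _ = x * (y * x⁻¹ * y) := by rw [r2]
    _ = x * y * x⁻¹ * y := by group

/-- The normal form. -/
def form (a b c : G) (p : Fin 3 × Fin 3 × Fin 3 × Fin 2) : G :=
  (a * b) ^ (p.1 : ℕ) * ((a * c) ^ (p.2.1 : ℕ) * ((a * b) * (a * c) * (a * b)⁻¹) ^ (p.2.2.1 : ℕ)) * a ^ (p.2.2.2 : ℕ)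

theorem mem_form {g : G} (hg : g ∈ Subgroup.closure ({a, b, c} : Set G)) :
    ∃ p, form a b c p = g := by
  have ha : a⁻¹ = a := inv_eq_of_mul_eq_one_right h.aa
  set x := a * b with hx
  set y := a * c with hy
  set u := x * y * x⁻¹ with hu
  have hyu : Commute y u := h.commute_conj
  have y3 : y ^ 3 = 1 := h.ac
  have u3 : u ^ 3 = 1 := conj_pow_three x y3
  have x3 : x ^ 3 = 1 := h.ab
  let X : ℕ → ℕ → ℕ → ℕ → G := fun i j k l => x ^ i * (y ^ j * u ^ k) * a ^ l
  have red : ∀ {q : G}, q ^ 3 = 1 → ∀ n, q ^ (n % 3) = q ^ n := fun {q} hq n => by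
    conv_rhs => rw [← Nat.mod_add_div n 3, pow_add, pow_mul, hq, one_pow, mul_one]
  have red2 : ∀ n, a ^ (n % 2) = a ^ n := fun n => by
    conv_rhs => rw [← Nat.mod_add_div n 2, pow_add, pow_mul, sq, h.aa, one_pow, mul_one]
  have hX : ∀ i j k l, ∃ p, form a b c p = X i j k l := by
    intro i j k l
    refine ⟨(⟨i % 3, Nat.mod_lt _ (by norm_num)⟩, ⟨j % 3, Nat.mod_lt _ (by norm_num)⟩,
      ⟨k % 3, Nat.mod_lt _ (by norm_num)⟩, ⟨l % 2, Nat.mod_lt _ (by norm_num)⟩), ?_⟩
    show x ^ (i % 3) * (y ^ (j % 3) * u ^ (k % 3)) * a ^ (l % 2) = _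
    rw [red x3, red y3, red u3, red2]
  have hax : a * x = x⁻¹ * a := by rw [hx, mul_inv_rev, ha, ← mul_assoc, h.aa, one_mul, inv_eq_of_mul_eq_one_right h.bb, mul_assoc, h.aa, mul_one]
  have hay : a * y = y⁻¹ * a := by rw [hy, mul_inv_rev, ha, ← mul_assoc, h.aa, one_mul, inv_eq_of_mul_eq_one_right h.cc, mul_assoc, h.aa, mul_one]
  have hx2 : x⁻¹ = x * x := pow_three_inv x3
  -- the third conjugate
  have hw : x⁻¹ * y * x = (y * u)⁻¹ := by
    refine eq_inv_of_mul_eq_one_right ?_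
    have h3 := conj_pow_three y h.xy3
    rw [pow_three] at h3
    calc y * u * (x⁻¹ * y * x) = y * x * y * (x⁻¹ * x⁻¹) * y * x := by rw [hu]; group
      _ = y * x * y * x * y * x := by rw [← mul_inv_rev, ← hx2, inv_inv]
      _ = y * (x * y) * y⁻¹ * (y * (x * y) * y⁻¹ * (y * (x * y) * y⁻¹)) := by group
      _ = 1 := h3
  have hau : a * u = (y * u) * a := by
    calc a * u = (a * x) * y * x⁻¹ := by rw [hu]; group
      _ = x⁻¹ * (a * y) * x⁻¹ := by rw [hax]; group
      _ = x⁻¹ * y⁻¹ * (a * x⁻¹) := by rw [hay]; group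
      _ = x⁻¹ * y⁻¹ * (x * a) := by
        congr 1
        calc a * x⁻¹ = x * (x⁻¹ * a) * x⁻¹ := by group
          _ = x * (a * x) * x⁻¹ := by rw [hax]
          _ = x * a := by group
      _ = (x⁻¹ * y * x)⁻¹ * a := by group
      _ = _ := by rw [hw, inv_inv]
  have push_a : ∀ i j k l, a * X i j k l = X (2 * i) (2 * j + k) k (l + 1) := by
    intro i j k l
    have e1 : a * x ^ i = x ^ (2 * i) * a := by
      have hs : SemiconjBy a x x⁻¹ := hax
      rw [(hs.pow_right i).eq, hx2, pow_mul, sq]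
    have e2 : a * y ^ j = y ^ (2 * j) * a := by
      have hs : SemiconjBy a y y⁻¹ := hay
      rw [(hs.pow_right j).eq, pow_three_inv y3, pow_mul, sq]
    have e3 : a * u ^ k = (y * u) ^ k * a := SemiconjBy.pow_right (show SemiconjBy a u (y * u) from hau) k
    calc a * (x ^ i * (y ^ j * u ^ k) * a ^ l) = (a * x ^ i) * y ^ j * u ^ k * a ^ l := by simp only [mul_assoc]
      _ = x ^ (2 * i) * (a * y ^ j) * u ^ k * a ^ l := by rw [e1]; simp only [mul_assoc]
      _ = x ^ (2 * i) * y ^ (2 * j) * (a * u ^ k) * a ^ l := by rw [e2]; simp only [mul_assoc]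
      _ = x ^ (2 * i) * y ^ (2 * j) * (y * u) ^ k * (a * a ^ l) := by rw [e3]; simp only [mul_assoc]
      _ = _ := by
        show _ = x ^ (2 * i) * (y ^ (2 * j + k) * u ^ k) * a ^ (l + 1)
        rw [hyu.mul_pow, pow_succ', pow_add]; simp only [mul_assoc]
  have push_x : ∀ i j k l, x * X i j k l = X (i + 1) j k l := fun i j k l => by
    show x * (x ^ i * (y ^ j * u ^ k) * a ^ l) = _
    simp only [X, pow_succ', mul_assoc]
  have push_y : ∀ i, i < 3 → ∀ j k l, ∃ i' j' k', y * X i j k l = X i' j' k' l := by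
    intro i hi j k l
    interval_cases i
    · exact ⟨0, j + 1, k, by simp only [X, pow_zero, one_mul, pow_succ', mul_assoc]⟩
    · refine ⟨1, j + 2, k + 2, ?_⟩
      have e : y * x = x * (y ^ 2 * u ^ 2) := by
        calc y * x = x * (x⁻¹ * y * x) := by group
          _ = x * (u⁻¹ * y⁻¹) := by rw [hw, mul_inv_rev]
          _ = x * (y⁻¹ * u⁻¹) := by rw [(hyu.inv_inv).eq]
          _ = _ := by rw [pow_three_inv y3, pow_three_inv u3, sq, sq]
      calc y * (x ^ 1 * (y ^ j * u ^ k) * a ^ l) = (y * x) * (y ^ j * u ^ k) * a ^ l := by rw [pow_one]; simp only [mul_assoc]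
        _ = x * (y ^ 2 * (u ^ 2 * y ^ j) * u ^ k) * a ^ l := by rw [e]; simp only [mul_assoc]
        _ = x ^ 1 * (y ^ (j + 2) * u ^ (k + 2)) * a ^ l := by
          rw [← (hyu.pow_pow j 2).eq, pow_one, add_comm j, add_comm k, pow_add, pow_add]; simp only [mul_assoc]
    · refine ⟨2, j, k + 1, ?_⟩
      have e : y * x ^ 2 = x ^ 2 * u := by
        calc y * x ^ 2 = x ^ 3 * y * x ^ 2 := by rw [x3, one_mul]
          _ = x ^ 2 * (x * y * x⁻¹) * x ^ 3 := by group
          _ = x ^ 2 * u := by rw [x3, mul_one, hu]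
      calc y * (x ^ 2 * (y ^ j * u ^ k) * a ^ l) = (y * x ^ 2) * (y ^ j * u ^ k) * a ^ l := by simp only [mul_assoc]
        _ = x ^ 2 * (u * y ^ j * u ^ k) * a ^ l := by rw [e]; simp only [mul_assoc]
        _ = x ^ 2 * (y ^ j * u ^ (k + 1)) * a ^ l := by
          rw [← (hyu.pow_left j).eq, pow_succ' u k]; simp only [mul_assoc]
  have hb' : b = a * x := by rw [hx, ← mul_assoc, h.aa, one_mul]
  have hc' : c = a * y := by rw [hy, ← mul_assoc, h.aa, one_mul]
  have hstep : ∀ s ∈ ({a, b, c} : Set G), ∀ p, ∃ p', form a b c p' = s * form a b c p := by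
    rintro s hs ⟨i, j, k, l⟩
    show ∃ p', _ = s * X i j k l
    simp only [Set.mem_insert_iff, Set.mem_singleton_iff] at hs
    rcases hs with e | e | e <;> rw [e]
    · rw [push_a]; exact hX ..
    · rw [show b * X i j k l = a * (x * X i j k l) from (congrArg (· * X i j k l) hb').trans (mul_assoc _ _ _), push_x, push_a]; exact hX ..
    · obtain ⟨i', j', k', e'⟩ := push_y i i.2 j k l
      rw [show c * X i j k l = a * (y * X i j k l) from (congrArg (· * X i j k l) hc').trans (mul_assoc _ _ _), e', push_a]; exact hX ..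
  induction hg using Subgroup.closure_induction_left with
  | one => exact ⟨(0, 0, 0, 0), by simp [form]⟩
  | mul_left s hs g _ ih =>
    obtain ⟨p, rfl⟩ := ih
    exact hstep s hs p
  | inv_mul_cancel s hs g _ ih =>
    obtain ⟨p, rfl⟩ := ih
    have : s⁻¹ = s := by
      simp only [Set.mem_insert_iff, Set.mem_singleton_iff] at hs
      rcases hs with rfl | rfl | rfl
      exacts [ha, inv_eq_of_mul_eq_one_right h.bb, inv_eq_of_mul_eq_one_right h.cc]
    rw [this]
    exact hstep s hs p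

theorem finite : Finite ↥(Subgroup.closure ({a, b, c} : Set G)) :=
  Set.Finite.to_subtype ((Set.finite_range (form a b c)).subset fun _ hg => h.mem_form hg)

theorem card_le : Nat.card ↥(Subgroup.closure ({a, b, c} : Set G)) ≤ 54 := by
  choose f hf using fun g : Subgroup.closure ({a, b, c} : Set G) => h.mem_form g.2
  refine le_of_le_of_eq (Nat.card_le_card_of_injective f fun g g' e => Subtype.ext (by rw [← hf g, ← hf g', e])) ?_
  simp

end Triple

end CfsgThreeTrans
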