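/-
The derived group of SU₃(2) and extensions of 2-groups by it.
-/
import Cfsg.Agent.Lib.SmallSimple.PSU32
import Cfsg.Agent.Lib.ThreeTrans.TripleGroup
import Cfsg.Agent.Lib.Basic
import Cfsg.Prelude.Def_FischerSpaces
import Cfsg.Prelude.Def_Solvable

set_option autoImplicit false
set_option linter.style.haveILetI false

namespace CfsgThreeTrans

open Cfsg
open scoped commutatorElement

section
variable {F : Type*} [Field F] [Fintype F] (hF : Fintype.card F = 4)

include hF in
theorem exists_cube_root : ∃ w : F, w * w = w + 1 ∧ (1 : F) + 1 = 0 ∧ w ^ 3 = 1 ∧ w ≠ 1 := by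
  obtain ⟨φ, hlt, hinj, h0, h1, hadd, hmul, hsurj⟩ := CfsgLib.PSU32.exists_phi hF
  obtain ⟨w, hw⟩ := hsurj 2 (by norm_num)
  have e1 : w * w = w + 1 := hinj (by rw [hmul, hadd, hw, h1]; rfl)
  have e2 : (1 : F) + 1 = 0 := hinj (by rw [hadd, h1, h0]; rfl)
  refine ⟨w, e1, e2, hinj ?_, fun e => by rw [e, h1] at hw; omega⟩
  rw [pow_three, hmul, hmul, hw, h1]; rfl

theorem comm_quaternion : ∀ x y : QuaternionGroup 2,
    x * y * x⁻¹ * y⁻¹ = 1 ∨ x * y * x⁻¹ * y⁻¹ = .a 2 := by decide

theorem sq_quaternion : ∀ x : QuaternionGroup 2, x * x = 1 → x = 1 ∨ x = .a 2 := by decide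

include hF in
/-- `SU₃(2)'` contains three transpositions in general position generating it, has order 54 and a centre. -/
theorem derived_facts_triple : (Nat.card ↥(commutator ↥(Cfsg.SU 3 F 2)) = 54 ∧
    (∃ N : Subgroup ↥(commutator ↥(Cfsg.SU 3 F 2)), N.Normal ∧ Nat.card N = 27 ∧ N.index = 2) ∧
    Subgroup.center ↥(commutator ↥(Cfsg.SU 3 F 2)) ≠ ⊥) ∧
    ∃ a b c : ↥(commutator ↥(Cfsg.SU 3 F 2)), Triple a b c ∧ Subgroup.closure ({a, b, c} : Set ↥(commutator ↥(Cfsg.SU 3 F 2))) = ⊤ := by
  classical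
  obtain ⟨w, hw, h2, hw3, hw1⟩ := exists_cube_root hF
  have hw0 : w ≠ 0 := fun e => by simp [e] at hw3
  obtain ⟨f, hf, -⟩ := CfsgLib.PSU32.exists_hom hF
  have hS : Nat.card (Cfsg.SU 3 F 2) = 216 := by
    have h := (Subgroup.center (Cfsg.SU 3 F 2)).card_eq_card_quotient_mul_card_subgroup
    rw [(CfsgLib.PSU32.summary hF).1, Cfsg.Agent.S0279.result (show Fintype.card F = 2 ^ 2 by rw [hF]; norm_num) 3 le_rfl] at h
    rw [h]
    decide
  let S := Cfsg.SU 3 F 2
  -- the elements
  let MA : Matrix (Fin 3) (Fin 3) F := !![0, 1, 0; 1, 0, 0; 0, 0, 1]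
  let MB : Matrix (Fin 3) (Fin 3) F := !![0, 0, 1; 0, 1, 0; 1, 0, 0]
  let MC : Matrix (Fin 3) (Fin 3) F := !![1, 0, 0; 0, 0, w * w; 0, w, 0]
  have hneg : ∀ z : F, -z = z := fun z => neg_eq_of_add_eq_zero_left (by rw [← two_mul, show (2 : F) = 1 + 1 by norm_num, h2, zero_mul])
  have mk : ∀ M : Matrix (Fin 3) (Fin 3) F, M.det = 1 →
      (∀ u v, Cfsg.hermForm 3 F 2 (M.mulVec u) (M.mulVec v) = Cfsg.hermForm 3 F 2 u v) →
      ∃ g : S, CfsgLib.UnitarySimple.mat g = M := fun M hd hp => ⟨⟨⟨M, hd⟩, hp⟩, rfl⟩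
  obtain ⟨a, hA⟩ := mk MA (by simp [MA, Matrix.det_fin_three, hneg]) (fun u v => by
    simp [MA, Cfsg.hermForm, Fin.sum_univ_three, Matrix.mulVec, dotProduct, Matrix.vecHead, Matrix.vecTail]; ring)
  obtain ⟨b, hB⟩ := mk MB (by simp [MB, Matrix.det_fin_three, hneg]) (fun u v => by
    simp [MB, Cfsg.hermForm, Fin.sum_univ_three, Matrix.mulVec, dotProduct, Matrix.vecHead, Matrix.vecTail]; ring)
  obtain ⟨c, hC⟩ := mk MC (by
      simp [MC, Matrix.det_fin_three, hneg]
      linear_combination hw3) (fun u v => by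
    simp [MC, Cfsg.hermForm, Fin.sum_univ_three, Matrix.mulVec, dotProduct, Matrix.vecHead, Matrix.vecTail]
    linear_combination ((u 1 * v 1 ^ 2) + (w ^ 3 + 1) * (u 2 * v 2 ^ 2)) * hw3)
  have mext : ∀ {g k : S}, CfsgLib.UnitarySimple.mat g = CfsgLib.UnitarySimple.mat k → g = k :=
    fun {g k} e => Subtype.ext (Subtype.ext e)
  have mmul : ∀ g k : S, CfsgLib.UnitarySimple.mat (g * k) = CfsgLib.UnitarySimple.mat g * CfsgLib.UnitarySimple.mat k :=
    fun g k => rfl
  have m1 : CfsgLib.UnitarySimple.mat (1 : S) = 1 := rfl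
  have hT : Triple a b c := by
    constructor <;> apply mext <;>
      simp only [pow_three, mmul, m1, hA, hB, hC, MA, MB, MC] <;>
      ext i j <;> fin_cases i <;> fin_cases j <;>
      simp [Matrix.mul_apply, Fin.sum_univ_three, Matrix.one_apply] <;>
      first
      | linear_combination hw3
      | linear_combination (w * w * w + 1) * hw3
  have hnc : (a * b) * (a * c) ≠ (a * c) * (a * b) := fun e => by
    have := congrArg (fun g : S => CfsgLib.UnitarySimple.mat g 0 0) e
    simp [mmul, hA, hB, hC, MA, MB, MC, Matrix.mul_apply, Fin.sum_univ_three] at this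
    first
    | exact hw0 (by linear_combination -this - hw)
    | exact hw0 (by linear_combination this - hw)
  have hker : Nat.card f.ker = 27 := by
    have h := f.ker.card_mul_index
    rw [Subgroup.index_ker, MonoidHom.range_eq_top.mpr hf, Subgroup.card_top, Nat.card_eq_fintype_card (α := QuaternionGroup 2),
      QuaternionGroup.card, hS] at h
    omega
  -- the preimage of the centre of the quaternion group
  let Z : Subgroup (QuaternionGroup 2) := Subgroup.zpowers (.a 2)
  have hZ2 : Nat.card Z = 2 := by rw [Nat.card_zpowers]; exact orderOf_eq_prime (by decide) (by decide)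
  let T : Subgroup S := Z.comap f
  have hT54 : Nat.card T = 54 := by
    have h := T.card_mul_index
    rw [Subgroup.index_comap_of_surjective _ hf, hS] at h
    have h' := Z.card_mul_index
    rw [hZ2, Nat.card_eq_fintype_card, QuaternionGroup.card] at h'
    rw [show Z.index = 4 by omega] at h
    omega
  have hCT : commutator S ≤ T := by
    rw [commutator_def, Subgroup.commutator_le]
    intro g _ k _
    show f _ ∈ Z
    rw [commutatorElement_def, map_mul, map_mul, map_mul, map_inv, map_inv]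
    rcases comm_quaternion (f g) (f k) with e | e <;> rw [e]
    · exact one_mem _
    · exact Subgroup.mem_zpowers _
  -- all involutions lie in the commutator
  obtain ⟨s, hs, hsC⟩ : ∃ s : S, orderOf s = 2 ∧ s ∈ commutator S := by
    obtain ⟨g, hg⟩ := hf (.a 1)
    obtain ⟨k, hk⟩ := hf (.xa 0)
    have hm : ⁅g, k⁆ ∈ commutator S := Subgroup.commutator_mem_commutator (Subgroup.mem_top g) (Subgroup.mem_top k)
    have hne : f ⁅g, k⁆ = .a 2 := by
      rw [commutatorElement_def, map_mul, map_mul, map_mul, map_inv, map_inv, hg, hk]; decide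
    have hev : 2 ∣ orderOf ⁅g, k⁆ := by
      refine (dvd_of_eq ?_).trans (orderOf_map_dvd f ⁅g, k⁆)
      rw [hne]; exact (orderOf_eq_prime (by decide) (by decide)).symm
    exact ⟨⁅g, k⁆ ^ (orderOf ⁅g, k⁆ / 2), orderOf_pow_orderOf_div (orderOf_pos _).ne' hev, pow_mem hm _⟩
  have hinvol : ∀ t : S, t * t = 1 → t ∈ commutator S := by
    intro t ht
    by_cases ht1 : t = 1
    · rw [ht1]; exact one_mem _
    have hodd : ∀ r : S, f r = 1 → r ^ 27 = 1 := fun r hr => by
      have := congrArg Subtype.val (pow_card_eq_one' (x := (⟨r, hr⟩ : f.ker)))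
      rwa [hker] at this
    have himg : ∀ r : S, r * r = 1 → r ≠ 1 → f r = .a 2 := fun r hr hr1 => by
      rcases sq_quaternion (f r) (by rw [← map_mul, hr, map_one]) with e | e
      · exfalso
        apply hr1
        have h27 := hodd r e
        rwa [pow_succ, show 26 = 2 * 13 from rfl, pow_mul, sq, hr, one_pow, one_mul] at h27
      · exact e
    have hss : s * s = 1 := by rw [← sq, ← hs, pow_orderOf_eq_one]
    have hs1 : s ≠ 1 := fun e => by rw [e, orderOf_one] at hs; omega
    set r := s * t with hr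
    have hfr : f r = 1 := by rw [hr, map_mul, himg s hss hs1, himg t ht ht1]; decide
    have hinv : s * r * s⁻¹ = r⁻¹ := by
      rw [hr, mul_inv_rev, inv_eq_of_mul_eq_one_right ht, inv_eq_of_mul_eq_one_right hss, ← mul_assoc, hss, one_mul]
    have hmem : r⁻¹ ^ 13 * (r ^ 13)⁻¹ ∈ commutator S := by
      rw [← hinv, conj_pow]
      exact Subgroup.commutator_mem_commutator (Subgroup.mem_top s) (Subgroup.mem_top _)
    have e : r⁻¹ ^ 13 * (r ^ 13)⁻¹ = r := by
      rw [inv_pow, ← mul_inv_rev, ← pow_add]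
      exact inv_eq_of_mul_eq_one_right (by rw [← pow_succ]; exact hodd r hfr)
    rw [e] at hmem
    rw [show t = s * r by rw [hr, ← mul_assoc, hss, one_mul]]
    exact mul_mem hsC hmem
  let H := Subgroup.closure ({a, b, c} : Set S)
  have hHC : H ≤ commutator S := (Subgroup.closure_le _).mpr fun g hg => by
    simp only [Set.mem_insert_iff, Set.mem_singleton_iff] at hg
    rcases hg with rfl | rfl | rfl
    exacts [hinvol _ hT.aa, hinvol _ hT.bb, hinvol _ hT.cc]
  have hmemT : ∀ {g : S}, g ∈ H → f g ∈ Z := fun hg => hCT (hHC hg)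
  have ha : a ∈ H := Subgroup.subset_closure (by simp)
  have hb : b ∈ H := Subgroup.subset_closure (by simp)
  have hc : c ∈ H := Subgroup.subset_closure (by simp)
  have hH : Nat.card H = 54 := by
    have hdvd : Nat.card H ∣ 54 := hT54 ▸ Subgroup.card_dvd_of_le (hHC.trans hCT)
    let K : Subgroup S := H ⊓ f.ker
    have hK : Nat.card K ∣ 27 := hker ▸ Subgroup.card_dvd_of_le inf_le_right
    have hnb : ∀ {p q : S}, f p = 1 → f q = 1 → p ∈ H → q ∈ H → p * q ≠ q * p → Nat.card K = 27 := by
      intro p q hp hq hpH hqH hne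
      have hd := (Nat.dvd_prime_pow (p := 3) (by norm_num) (m := 3)).mp (by simpa using hK)
      obtain ⟨n, hn, hn'⟩ := hd
      interval_cases n
      · exfalso; apply hne
        have hb' : K = ⊥ := Subgroup.card_eq_one.mp (by simpa using hn')
        have : p ∈ K := ⟨hpH, hp⟩
        rw [hb', Subgroup.mem_bot] at this
        rw [this]; simp
      · exfalso; apply hne
        haveI : Fact (Nat.Prime 3) := ⟨by norm_num⟩
        haveI : IsCyclic K := isCyclic_of_prime_card (p := 3) (by simpa using hn')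
        letI : CommGroup K := IsCyclic.commGroup
        exact congrArg Subtype.val (mul_comm (⟨p, hpH, hp⟩ : K) ⟨q, hqH, hq⟩)
      · exfalso; apply hne
        haveI : Fact (Nat.Prime 3) := ⟨by norm_num⟩
        exact congrArg Subtype.val (IsPGroup.commutative_of_card_eq_prime_sq (p := 3) (by simpa using hn')
          (⟨p, hpH, hp⟩ : K) ⟨q, hqH, hq⟩)
      · simpa using hn'
    have himg : ∀ t : S, t * t = 1 → t ∈ H → t ≠ 1 → f t = .a 2 := fun t ht htH ht1 => by
      rcases sq_quaternion (f t) (by rw [← map_mul, ht, map_one]) with e | e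
      · exfalso
        apply ht1
        have h27 := congrArg Subtype.val (pow_card_eq_one' (x := (⟨t, e⟩ : f.ker)))
        rw [hker] at h27
        simpa [pow_succ, ht, show ∀ z : S, z ^ 26 = (z * z) ^ 13 from fun z => by rw [← sq, ← pow_mul]] using h27
      · exact e
    have na : a ≠ 1 := fun e => hnc (by
      rw [e, one_mul, one_mul]
      have h1 := hT.ab
      have h2 := hT.ac
      rw [e, one_mul, pow_three] at h1 h2
      rw [hT.bb, mul_one] at h1
      rw [hT.cc, mul_one] at h2
      rw [h1, h2])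
    have nb : b ≠ 1 := fun e => na (by
      have h1 := hT.ab
      rw [e, mul_one, pow_three, hT.aa, mul_one] at h1
      exact h1)
    have nc : c ≠ 1 := fun e => na (by
      have h1 := hT.ac
      rw [e, mul_one, pow_three, hT.aa, mul_one] at h1
      exact h1)
    have hfa := himg a hT.aa ha na
    have h27 := hnb (p := a * b) (q := a * c) (by rw [map_mul, hfa, himg b hT.bb hb nb]; decide)
      (by rw [map_mul, hfa, himg c hT.cc hc nc]; decide) (mul_mem ha hb) (mul_mem ha hc) hnc
    have h2 : 2 ∣ Nat.card H := by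
      have := orderOf_dvd_natCard (⟨a, ha⟩ : H)
      rwa [Subgroup.orderOf_mk, orderOf_eq_prime (p := 2) (by rw [sq, hT.aa]) na] at this
    have h27' : 27 ∣ Nat.card H := h27 ▸ Subgroup.card_dvd_of_le inf_le_left
    exact Nat.dvd_antisymm hdvd (Nat.Coprime.mul_dvd_of_dvd_of_dvd (by norm_num : Nat.Coprime 2 27) h2 h27')
  have hCeq : commutator S = H :=
    (Subgroup.eq_of_le_of_card_ge hHC (hH ▸ hT54 ▸ Subgroup.card_le_of_le hCT)).symm
  have hC54 : Nat.card (commutator S) = 54 := by rw [hCeq, hH]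
  refine ⟨⟨hC54, ⟨f.ker.subgroupOf (commutator S), inferInstance, ?_, ?_⟩, ?_⟩, ?_⟩
  · have hle : f.ker ≤ commutator S := by
      have hTC : T = commutator S :=
        (Subgroup.eq_of_le_of_card_ge hCT (by rw [hC54, hT54])).symm
      rw [← hTC]
      intro g hg
      show f g ∈ Z
      rw [MonoidHom.mem_ker.mp hg]; exact one_mem _
    rw [Nat.card_congr (Subgroup.subgroupOfEquivOfLe hle).toEquiv, hker]
  · have h := (f.ker.subgroupOf (commutator S)).card_mul_index
    have hle : f.ker ≤ commutator S := by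
      refine le_trans ?_ (Subgroup.eq_of_le_of_card_ge hCT (by rw [hC54, hT54])).ge
      intro g hg
      show f g ∈ Z
      rw [MonoidHom.mem_ker.mp hg]; exact one_mem _
    rw [Nat.card_congr (Subgroup.subgroupOfEquivOfLe hle).toEquiv, hker] at h
    rw [show Nat.card ↥(commutator ↥(Cfsg.SU 3 F 2)) = 54 from hC54] at h
    omega
  · -- a scalar
    let MW : Matrix (Fin 3) (Fin 3) F := !![w, 0, 0; 0, w, 0; 0, 0, w]
    obtain ⟨d, hD⟩ := mk MW (by
        simp [MW, Matrix.det_fin_three]
        linear_combination hw3) (fun u v => by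
      simp [MW, Cfsg.hermForm, Fin.sum_univ_three, Matrix.mulVec, dotProduct, Matrix.vecHead, Matrix.vecTail]
      linear_combination (u 0 * v 0 ^ 2 + u 1 * v 1 ^ 2 + u 2 * v 2 ^ 2) * hw3)
    have hd3 : d ^ 3 = 1 := mext (by
      simp only [pow_three, mmul, m1, hD, MW]
      ext i j; fin_cases i <;> fin_cases j <;> simp [Matrix.mul_apply, Fin.sum_univ_three, Matrix.one_apply] <;>
        linear_combination hw3)
    have hdz : ∀ g : S, g * d = d * g := fun g => mext (by
      rw [mmul, mmul, hD]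
      ext i j; fin_cases i <;> fin_cases j <;> simp [MW, Matrix.mul_apply, Fin.sum_univ_three] <;> ring)
    have hdC : d ∈ commutator S := by
      refine (Subgroup.eq_of_le_of_card_ge hCT (by rw [hC54, hT54])).ge (show f d ∈ Z from ?_)
      have h3 : (f d) ^ 3 = 1 := by rw [← map_pow, hd3, map_one]
      have : ∀ x : QuaternionGroup 2, x ^ 3 = 1 → x = 1 := by decide
      rw [this _ h3]; exact one_mem _
    intro hbot
    have hmem : (⟨d, hdC⟩ : commutator S) ∈ Subgroup.center (commutator S) :=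
      Subgroup.mem_center_iff.mpr fun g => Subtype.ext (hdz g)
    rw [hbot, Subgroup.mem_bot] at hmem
    have h00 := congrArg (fun g : S => CfsgLib.UnitarySimple.mat g 0 0) (congrArg Subtype.val hmem)
    have h1 : CfsgLib.UnitarySimple.mat ((1 : commutator S) : S) = 1 := rfl
    simp only [hD, h1] at h00
    exact hw1 (by simpa [MW] using h00)
  · refine ⟨⟨a, hHC ha⟩, ⟨b, hHC hb⟩, ⟨c, hHC hc⟩,
      ⟨Subtype.ext hT.aa, Subtype.ext hT.bb, Subtype.ext hT.cc, Subtype.ext hT.ab, Subtype.ext hT.ac, Subtype.ext hT.bc,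
        Subtype.ext hT.abcb⟩, ?_⟩
    apply Subgroup.map_injective (commutator S).subtype_injective
    rw [MonoidHom.map_closure, Set.image_insert_eq, Set.image_pair, ← MonoidHom.range_eq_map, Subgroup.range_subtype]
    exact hCeq.symm

include hF in
/-- `SU₃(2)'` has order 54 and a centre. -/
theorem derived_facts : Nat.card ↥(commutator ↥(Cfsg.SU 3 F 2)) = 54 ∧
    (∃ N : Subgroup ↥(commutator ↥(Cfsg.SU 3 F 2)), N.Normal ∧ Nat.card N = 27 ∧ N.index = 2) ∧
    Subgroup.center ↥(commutator ↥(Cfsg.SU 3 F 2)) ≠ ⊥ := (derived_facts_triple hF).1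

end

/-- Three generating involutions in general position. -/
theorem exists_triple {q : Type*} [Group q] [Finite q] (N : Subgroup q) [N.Normal] (hN : N.index = 2)
    (h27 : Nat.card N = 27) (hZ : Subgroup.center q ≠ ⊥) {E : Set q} (hE : ∀ e ∈ E, e * e = 1 ∧ e ≠ 1)
    (hgen : Subgroup.closure E = ⊤) :
    ∃ a ∈ E, ∃ b ∈ E, ∃ c ∈ E, (a * b) * (a * c) ≠ (a * c) * (a * b) ∧ Subgroup.closure ({a, b, c} : Set q) = ⊤ := by
  have hodd : ∀ r ∈ N, r * r = 1 → r = 1 := fun r hr e => by
    have h := congrArg Subtype.val (pow_card_eq_one' (x := (⟨r, hr⟩ : N)))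
    rw [h27] at h
    change r ^ 27 = 1 at h
    rwa [pow_succ, show 26 = 2 * 13 from rfl, pow_mul, sq, e, one_pow, one_mul] at h
  have hmem : ∀ {e e' : q}, e ∈ E → e' ∈ E → e * e' ∈ N := fun he he' =>
    (Subgroup.mul_mem_iff_of_index_two hN).mpr (iff_of_false (fun h => (hE _ he).2 (hodd _ h (hE _ he).1))
      (fun h => (hE _ he').2 (hodd _ h (hE _ he').1)))
  obtain ⟨a, ha⟩ : E.Nonempty := by
    by_contra h
    rw [Set.not_nonempty_iff_eq_empty] at h
    rw [h, Subgroup.closure_empty] at hgen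
    exact hZ (le_bot_iff.mp (hgen ▸ le_top))
  have haN : a ∉ N := fun h => (hE a ha).2 (hodd a h (hE a ha).1)
  have hai : a⁻¹ = a := inv_eq_of_mul_eq_one_right (hE a ha).1
  by_cases hall : ∀ b ∈ E, ∀ c ∈ E, (a * b) * (a * c) = (a * c) * (a * b)
  · exfalso
    obtain ⟨w, hw, hw1⟩ := Subgroup.ne_bot_iff_exists_ne_one.mp hZ |> fun ⟨⟨w, hw⟩, h⟩ =>
      (⟨w, hw, fun e => h (Subtype.ext e)⟩ : ∃ w, w ∈ Subgroup.center q ∧ w ≠ 1)
    let A : Subgroup q := Subgroup.closure ((fun e => a * e) '' E)
    have hAN : A ≤ N := (Subgroup.closure_le _).mpr (by rintro _ ⟨e, he, rfl⟩; exact hmem ha he)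
    have hAc : ∀ p ∈ A, ∀ r ∈ A, p * r = r * p := fun p hp r hr =>
      Set.mem_centralizer_iff.mp ((Subgroup.closure_le (Subgroup.centralizer (A : Set q))).mpr (by
        rintro _ ⟨e, he, rfl⟩
        rw [SetLike.mem_coe, Subgroup.mem_centralizer_iff]
        intro r hr
        induction hr using Subgroup.closure_induction with
        | mem r hr => obtain ⟨e', he', rfl⟩ := hr; exact hall e' he' e he
        | one => simp
        | mul r r' _ _ h h' => exact (Commute.mul_left h h')
        | inv r _ h => exact (Commute.inv_left h)) hr) p hp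
    have hinv : ∀ p ∈ A, a * p * a = p⁻¹ := by
      intro p hp
      induction hp using Subgroup.closure_induction with
      | mem p hp =>
        obtain ⟨e, he, rfl⟩ := hp
        rw [mul_inv_rev, hai, inv_eq_of_mul_eq_one_right (hE e he).1, ← mul_assoc, (hE a ha).1, one_mul]
      | one => rw [mul_one, (hE a ha).1, inv_one]
      | mul p r hp hr h h' =>
        rw [mul_inv_rev, ← hAc _ (inv_mem hp) _ (inv_mem hr), ← h, ← h']
        rw [show a * p * a * (a * r * a) = a * p * (a * a) * r * a by group, (hE a ha).1]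
        group
      | inv p _ h =>
        rw [inv_inv]
        have h2 := congrArg (·⁻¹) h
        simp only [mul_inv_rev, hai, inv_inv, ← mul_assoc] at h2
        exact h2
    have hcover : ∀ g : q, g ∈ A ∨ g * a ∈ A := by
      intro g
      have hg : g ∈ Subgroup.closure E := hgen ▸ Subgroup.mem_top g
      have step : ∀ e ∈ E, ∀ g : q, (g ∈ A ∨ g * a ∈ A) → (e * g ∈ A ∨ e * g * a ∈ A) := by
        intro e he g hg
        have hm : a * e ∈ A := Subgroup.subset_closure ⟨e, he, rfl⟩
        have hea : e * a ∈ A := by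
          have := inv_mem hm
          rwa [mul_inv_rev, hai, inv_eq_of_mul_eq_one_right (hE e he).1] at this
        have key : ∀ p ∈ A, e * p * a ∈ A := fun p hp => by
          rw [show e * p * a = (e * a) * (a⁻¹ * p * a) by group, hai, hinv p hp]
          exact mul_mem hea (inv_mem hp)
        rcases hg with hg | hg
        · exact Or.inr (key g hg)
        · left
          have := key _ hg
          rwa [← mul_assoc, mul_assoc (e * g), (hE a ha).1, mul_one] at this
      induction hg using Subgroup.closure_induction_left with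
      | one => exact Or.inl (one_mem _)
      | mul_left e he g _ ih => exact step e he g ih
      | inv_mul_cancel e he g _ ih => rw [inv_eq_of_mul_eq_one_right (hE e he).1]; exact step e he g ih
    have hcw := Subgroup.mem_center_iff.mp hw
    rcases hcover w with h | h
    · refine hw1 (hodd w (hAN h) ?_)
      have := hinv w h
      rw [hcw a, mul_assoc, (hE a ha).1, mul_one] at this
      conv_lhs => arg 2; rw [this]
      exact mul_inv_cancel w
    · have h1 := hinv _ h
      rw [show a * (w * a) * a = a * w * (a * a) by group, (hE a ha).1, mul_one, hcw a] at h1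
      have hwa : w * a = 1 := hodd _ (hAN h) (by conv_lhs => arg 2; rw [h1]
                                                 exact mul_inv_cancel _)
      have hwa' : w = a := by rw [mul_eq_one_iff_eq_inv.mp hwa, hai]
      have hsub : E ⊆ ({a} : Set q) := fun e he => by
        have hc : a * e = e * a := hwa' ▸ (hcw e).symm
        have : (a * e) * (a * e) = 1 := by
          rw [show a * e * (a * e) = a * (e * a) * e by group, ← hc, ← mul_assoc, (hE a ha).1, one_mul, (hE e he).1]
        have h' := hodd _ (hmem ha he) this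
        rw [Set.mem_singleton_iff, ← inv_eq_of_mul_eq_one_right h', hai]
      have htop : Subgroup.zpowers a = ⊤ := by
        rw [Subgroup.zpowers_eq_closure]
        exact top_le_iff.mp (hgen ▸ Subgroup.closure_mono hsub)
      have hc : Nat.card q = 54 := by rw [← N.card_mul_index, h27, hN]
      have := Nat.card_zpowers a
      rw [htop, Subgroup.card_top, hc, orderOf_eq_prime (p := 2) (by rw [sq, (hE a ha).1]) (hE a ha).2] at this
      omega
  · push Not at hall
    obtain ⟨b, hb, c, hc, hne⟩ := hall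
    refine ⟨a, ha, b, hb, c, hc, hne, ?_⟩
    set H := Subgroup.closure ({a, b, c} : Set q)
    have mh : ∀ g ∈ ({a, b, c} : Set q), g ∈ H := fun g hg => Subgroup.subset_closure hg
    have hp : a * b ∈ H ⊓ N := ⟨mul_mem (mh a (by simp)) (mh b (by simp)), hmem ha hb⟩
    have hr : a * c ∈ H ⊓ N := ⟨mul_mem (mh a (by simp)) (mh c (by simp)), hmem ha hc⟩
    have hK : Nat.card (H ⊓ N : Subgroup q) ∣ 27 := h27 ▸ Subgroup.card_dvd_of_le inf_le_right
    obtain ⟨n, hn, hn'⟩ := (Nat.dvd_prime_pow (p := 3) (by norm_num) (m := 3)).mp (by simpa using hK)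
    haveI : Fact (Nat.Prime 3) := ⟨by norm_num⟩
    have h27K : Nat.card (H ⊓ N : Subgroup q) = 27 := by
      interval_cases n
      · exfalso; apply hne
        have hb' : (H ⊓ N : Subgroup q) = ⊥ := Subgroup.card_eq_one.mp (by simpa using hn')
        rw [hb', Subgroup.mem_bot] at hp
        rw [hp, one_mul, mul_one]
      · exfalso; apply hne
        haveI : IsCyclic (H ⊓ N : Subgroup q) := isCyclic_of_prime_card (p := 3) (by simpa using hn')
        letI : CommGroup (H ⊓ N : Subgroup q) := IsCyclic.commGroup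
        exact congrArg Subtype.val (mul_comm (⟨_, hp⟩ : (H ⊓ N : Subgroup q)) ⟨_, hr⟩)
      · exfalso; apply hne
        exact congrArg Subtype.val (IsPGroup.commutative_of_card_eq_prime_sq (p := 3) (by simpa using hn')
          (⟨_, hp⟩ : (H ⊓ N : Subgroup q)) ⟨_, hr⟩)
      · simpa using hn'
    have hNH : N ≤ H := by
      rw [← Subgroup.eq_of_le_of_card_ge (inf_le_right : H ⊓ N ≤ N) (by rw [h27K, h27])]
      exact inf_le_left
    refine eq_top_iff.mpr fun g _ => ?_
    by_cases hg : g ∈ N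
    · exact hNH hg
    · have : a * g ∈ N := (Subgroup.mul_mem_iff_of_index_two hN).mpr (iff_of_false haN hg)
      have h2 := mul_mem (inv_mem (mh a (by simp))) (hNH this)
      rwa [inv_mul_cancel_left] at h2

/-- The extension splits. -/
theorem complement_of_su32 {G : Type*} [Group G] [Finite G] {D : Set G} (hD : Cfsg.IsThreeTranspositionClass D)
    (hq : ∃ (F : Type) (_ : Field F) (_ : Fintype F), Fintype.card F = 4 ∧
      Nonempty (G ⧸ Cfsg.pCore 2 G ≃* ↥(commutator ↥(Cfsg.SU 3 F 2)))) :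
    ∃ K : Subgroup G, (Cfsg.pCore 2 G).IsComplement' K := by
  obtain ⟨F, _, _, hF, ⟨ψ⟩⟩ := hq
  obtain ⟨hC54, ⟨N, hNn, hN27, hN2⟩, hZC⟩ := derived_facts hF
  obtain ⟨⟨hord, hprod⟩, ⟨d₀, hd₀, hDc⟩, hgen⟩ := hD
  let Φ : G →* ↥(commutator ↥(Cfsg.SU 3 F 2)) := ψ.toMonoidHom.comp (QuotientGroup.mk' (Cfsg.pCore 2 G))
  have hΦs : Function.Surjective Φ := ψ.surjective.comp (QuotientGroup.mk'_surjective _)
  have hΦk : Φ.ker = Cfsg.pCore 2 G := by
    ext g
    show ψ (g : G ⧸ Cfsg.pCore 2 G) = 1 ↔ _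
    rw [map_eq_one_iff ψ ψ.injective, QuotientGroup.eq_one_iff]
  have hEgen : Subgroup.closure (Φ '' D) = ⊤ := by
    rw [← MonoidHom.map_closure, hgen, Subgroup.map_top_of_surjective _ hΦs]
  have hne1 : ∀ d ∈ D, Φ d ≠ 1 := by
    intro d hd h1
    have hall : Φ '' D ⊆ {1} := by
      rintro _ ⟨e, he, rfl⟩
      rw [hDc] at hd he
      obtain ⟨g, hg⟩ := isConj_iff.mp ((show IsConj d₀ d from hd).symm.trans (show IsConj d₀ e from he))
      rw [Set.mem_singleton_iff, ← hg, map_mul, map_mul, h1, mul_one, map_inv, mul_inv_cancel]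
    have htop : (⊤ : Subgroup ↥(commutator ↥(Cfsg.SU 3 F 2))) ≤ ⊥ :=
      hEgen ▸ (Subgroup.closure_le _).mpr fun e he => hall he
    exact hZC (le_bot_iff.mp (le_top.trans htop))
  have hsq : ∀ d ∈ D, d * d = 1 := fun d hd => by rw [← sq, ← hord d hd, pow_orderOf_eq_one]
  obtain ⟨a', ⟨a, ha, rfl⟩, b', ⟨b, hb, rfl⟩, c', ⟨c, hc, rfl⟩, hnc, htop⟩ :=
    exists_triple N hN2 hN27 hZC (E := Φ '' D)
      (by rintro _ ⟨d, hd, rfl⟩; exact ⟨by rw [← map_mul, hsq d hd, map_one], hne1 d hd⟩) hEgen
  have hodd : ∀ r ∈ N, r * r = 1 → r = 1 := fun r hr e => by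
    have h := congrArg Subtype.val (pow_card_eq_one' (x := (⟨r, hr⟩ : N)))
    rw [hN27] at h
    change r ^ 27 = 1 at h
    rwa [pow_succ, show 26 = 2 * 13 from rfl, pow_mul, sq, e, one_pow, one_mul] at h
  have h3 : ∀ d ∈ D, ∀ e ∈ D, Φ d ≠ Φ e → (d * e) ^ 3 = 1 := by
    intro d hd e he hne
    refine (hprod d hd e he).resolve_left fun h2 => hne ?_
    have hinv : ∀ x ∈ D, Φ x * Φ x = 1 := fun x hx => by rw [← map_mul, hsq x hx, map_one]
    have hm : Φ d * Φ e ∈ N := (Subgroup.mul_mem_iff_of_index_two hN2).mpr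
      (iff_of_false (fun h => hne1 d hd (hodd _ h (hinv d hd))) (fun h => hne1 e he (hodd _ h (hinv e he))))
    have := hodd _ hm (by rw [← map_mul, ← map_mul, ← sq, h2, map_one])
    rw [mul_eq_one_iff_eq_inv.mp this, inv_eq_of_mul_eq_one_right (hinv e he)]
  have hab : Φ a ≠ Φ b := fun e => hnc (by simp [e, ← map_mul, hsq b hb, map_one])
  have hac : Φ a ≠ Φ c := fun e => hnc (by simp [e, ← map_mul, hsq c hc, map_one])
  have hbc : Φ b ≠ Φ c := fun e => hnc (by rw [e])
  have hbcb : b * c * b ∈ D := by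
    have hbi : b⁻¹ = b := inv_eq_of_mul_eq_one_right (hsq b hb)
    rw [hDc] at hc ⊢
    show IsConj d₀ (b * c * b)
    exact (show IsConj d₀ c from hc).trans (isConj_iff.mpr ⟨b, by rw [hbi]⟩)
  have hab' : Φ a ≠ Φ (b * c * b) := fun e => hnc (by
    have hbb : Φ b * Φ b = 1 := by rw [← map_mul, hsq b hb, map_one]
    have hcc : Φ c * Φ c = 1 := by rw [← map_mul, hsq c hc, map_one]
    have hc' : Φ c = Φ b * Φ a * Φ b := by
      rw [e, map_mul, map_mul]
      simp only [← mul_assoc, hbb, one_mul]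
      rw [mul_assoc, hbb, mul_one]
    have : Φ a * Φ c = (Φ a * Φ b) * (Φ a * Φ b) := by rw [hc']; group
    rw [this]; simp only [mul_assoc])
  have hT : Triple a b c := ⟨hsq a ha, hsq b hb, hsq c hc, h3 a ha b hb hab, h3 a ha c hc hac, h3 b hb c hc hbc,
    h3 a ha _ hbcb hab'⟩
  refine ⟨Subgroup.closure ({a, b, c} : Set G), ?_⟩
  set H := Subgroup.closure ({a, b, c} : Set G) with hH
  have hsurj : H.map Φ = ⊤ := by
    rw [hH, MonoidHom.map_closure, Set.image_insert_eq, Set.image_pair, htop]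
  have hle := hT.card_le
  have hcardH : Nat.card H = 54 := by
    refine le_antisymm hle ?_
    rw [← hC54, ← Subgroup.card_top (G := ↥(commutator ↥(Cfsg.SU 3 F 2))), ← hsurj]
    exact Nat.le_of_dvd Nat.card_pos (Subgroup.card_map_dvd _ _)
  have hinj : Function.Injective (fun g : H => Φ g) := by
    have hsj : Function.Surjective (fun g : H => Φ g) := fun y => by
      have : y ∈ H.map Φ := hsurj ▸ Subgroup.mem_top y
      obtain ⟨g, hg, rfl⟩ := this
      exact ⟨⟨g, hg⟩, rfl⟩
    exact (hsj.bijective_of_nat_card_le (by rw [hC54, hcardH])).1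
  refine Subgroup.isComplement'_of_disjoint_and_mul_eq_univ ?_ ?_
  · rw [Subgroup.disjoint_def]
    intro g hg hgH
    have h1 : Φ g = Φ ((1 : H) : G) := by
      rw [MonoidHom.mem_ker.mp (hΦk.symm ▸ hg), OneMemClass.coe_one, map_one]
    exact congrArg Subtype.val (hinj (a₁ := ⟨g, hgH⟩) (a₂ := 1) h1)
  · rw [← Subgroup.normal_mul]
    have : Cfsg.pCore 2 G ⊔ H = ⊤ := by
      rw [← hΦk, sup_comm, ← Subgroup.comap_map_eq, hsurj, Subgroup.comap_top]
    rw [this]; rfl

end CfsgThreeTrans
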