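/-
The centraliser of a product of three commuting transpositions permutes them.
-/
import Cfsg.Agent.Lib.ThreeTrans.TypeM

set_option autoImplicit false

namespace CfsgThreeTrans

open Cfsg CfsgLib

universe u

variable {G : Type u} [Group G] [Finite G] {D : Set G}

/-- In a class two members fail to commute or both fail to commute with a third one. -/
theorem noncommute_two (hD : IsThreeTranspositionClass D) (hD2 : ∃ a ∈ D, ∃ b ∈ D, a ≠ b) {a b : G} (ha : a ∈ D)
    (hb : b ∈ D) : ¬ Commute a b ∨ ∃ x ∈ D, ¬ Commute a x ∧ ¬ Commute x b := by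
  set S := {z : G | z ∈ D ∧ (¬ Commute a z ∨ ∃ x ∈ D, ¬ Commute a x ∧ ¬ Commute x z)} with hS
  obtain ⟨e, he, hae⟩ := exists_noncommute hD hD2 ha
  have hSD : S = D := by
    refine eq_cls_of_commute_compl hD (fun z hz => hz.1) ⟨e, he, Or.inl hae⟩ fun y hy z hz hzS => ?_
    by_contra hyz
    apply hzS
    refine ⟨hz, ?_⟩
    obtain ⟨hyD, hay | ⟨x, hx, hax, hxy⟩⟩ := hy
    · exact Or.inr ⟨y, hyD, hay, hyz⟩
    by_cases h1 : Commute a y
    swap
    · exact Or.inr ⟨y, hyD, h1, hyz⟩
    by_cases h2 : Commute x z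
    swap
    · exact Or.inr ⟨x, hx, hax, h2⟩
    refine Or.inr ⟨x * y * x⁻¹, cls_conj hD x hyD, fun h => hax ?_, fun h => hyz ?_⟩
    · have hbr : x * y * x⁻¹ = y * x * y⁻¹ := by
        rw [inv_self hD.1 hx, inv_self hD.1 hyD]; exact braid hD.1 hx hyD hxy
      rw [hbr] at h
      have := (Commute.conj_iff y⁻¹).mpr h
      rwa [show y⁻¹ * a * y⁻¹⁻¹ = a by rw [inv_inv, mul_assoc, h1.eq, inv_mul_cancel_left],
        show y⁻¹ * (y * x * y⁻¹) * y⁻¹⁻¹ = x by group] at this
    · have := (Commute.conj_iff x⁻¹).mpr h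
      rwa [show x⁻¹ * (x * y * x⁻¹) * x⁻¹⁻¹ = y by group,
        show x⁻¹ * z * x⁻¹⁻¹ = z by rw [inv_inv, mul_assoc, ← h2.eq, inv_mul_cancel_left]] at this
  exact (hSD ▸ hb : b ∈ S).2

/-- An element fixing `r` and interchanging `p` and `q`. -/
theorem exists_swap (hD : IsThreeTranspositionClass D) (hp : IsPrimitiveUnderConj D) {p q r : G} (hpD : p ∈ D)
    (hqD : q ∈ D) (hrD : r ∈ D) (hpq : p ≠ q) (hrp : r ≠ p) (hrq : r ≠ q) (cpq : Commute p q) (crp : Commute r p)
    (crq : Commute r q) : ∃ g : G, g * r * g⁻¹ = r ∧ g * p * g⁻¹ = q ∧ g * q * g⁻¹ = p := by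
  have hw : ∃ a ∈ D, ∃ b ∈ D, a ≠ b ∧ Commute a b := ⟨p, hpD, q, hqD, hpq, cpq⟩
  have hp' : p ∈ Ds D r := ⟨hpD, hrp.symm, crp⟩
  have hq' : q ∈ Ds D r := ⟨hqD, hrq.symm, crq⟩
  have hcls := partner_class hD (Ds_transitive hD hp hw hrD) ⟨p, hp'⟩
  set P : ↥(Subgroup.closure (Ds D r)) := ⟨p, Subgroup.subset_closure hp'⟩
  set Q : ↥(Subgroup.closure (Ds D r)) := ⟨q, Subgroup.subset_closure hq'⟩
  have h2 : ∃ a ∈ {x : ↥(Subgroup.closure (Ds D r)) | (x : G) ∈ Ds D r},
      ∃ b ∈ {x : ↥(Subgroup.closure (Ds D r)) | (x : G) ∈ Ds D r}, a ≠ b :=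
    ⟨P, hp', Q, hq', fun e => hpq (congrArg Subtype.val e)⟩
  have cPQ : Commute P Q := Subtype.ext cpq.eq
  rcases noncommute_two hcls h2 (a := P) (b := Q) hp' hq' with h | ⟨⟨x, mx⟩, hx, hPx, hxQ⟩
  · exact absurd cPQ h
  have hpx : ¬ Commute p x := fun h => hPx (Subtype.ext h.eq)
  have hqx : ¬ Commute q x := fun h => hxQ (Subtype.ext h.symm.eq)
  have hxx := mul_self hD.1 hx.1
  have hpp := mul_self hD.1 hpD
  have hqq := mul_self hD.1 hqD
  set g := x * (p * q) * x with hg
  have hgg : g * g = 1 := by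
    rw [hg, show x * (p * q) * x * (x * (p * q) * x) = x * (p * q) * (x * x) * (p * q) * x by simp only [mul_assoc],
      hxx, mul_one, show x * (p * q) * (p * q) = x * (p * (q * p) * q) by simp only [mul_assoc], ← cpq.eq]
    simp only [mul_assoc, hqq, mul_one, mul_mul_cancel_self hpp, hxx]
  have hgi : g⁻¹ = g := inv_eq_of_mul_eq_one_right hgg
  have hgp : g * p * g⁻¹ = q := by
    rw [hgi, hg]
    calc x * (p * q) * x * p * (x * (p * q) * x) = x * p * q * (x * p * x) * (p * q * x) := by simp only [mul_assoc]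
      _ = x * p * q * (p * x * p) * (p * q * x) := by rw [← braid hD.1 hpD hx.1 hpx]
      _ = x * (p * q * p) * x * (q * x) := by simp only [mul_assoc, mul_mul_cancel_self hpp]
      _ = x * q * x * (q * x) := by rw [cpq.eq, mul_assoc q p p, hpp, mul_one]
      _ = (x * q * x) * q * x := by simp only [mul_assoc]
      _ = (q * x * q) * q * x := by rw [← braid hD.1 hqD hx.1 hqx]
      _ = q := by simp only [mul_assoc, mul_mul_cancel_self hqq, hxx, mul_one]
  refine ⟨g, ?_, hgp, ?_⟩
  · have hc : Commute g r := ((hx.2.2.symm.mul_left ((crp.symm).mul_left crq.symm)).mul_left hx.2.2.symm)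
    rw [hc.eq, mul_inv_cancel_right]
  · conv_lhs => rw [← hgp, hgi]
    calc g * (g * p * g) * g = (g * g) * p * (g * g) := by simp only [mul_assoc]
      _ = p := by rw [hgg, one_mul, mul_one]

theorem triple_quotient_of_unique (hD : IsThreeTranspositionClass D) (hp : IsPrimitiveUnderConj D) {d : Fin 3 → G}
    (hd : ∀ i, d i ∈ D) (hinj : Function.Injective d) (hc : ∀ i k, Commute (d i) (d k))
    (huniq : ∀ g : G, Commute g (d 0 * d 1 * d 2) → ∀ i, ∃ k, g * d i * g⁻¹ = d k) (K C : Subgroup G)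
    (hK : K = Subgroup.centralizer ({d 0, d 1, d 2} : Set G))
    (hC : C = Subgroup.centralizer ({d 0 * d 1 * d 2} : Set G)) :
    K ≤ C ∧ ∃ _ : (K.subgroupOf C).Normal, Nonempty (↥C ⧸ K.subgroupOf C ≃* Equiv.Perm (Fin 3)) := by
  have hmemK : ∀ g, g ∈ K ↔ ∀ i, Commute g (d i) := fun g => by
    rw [hK, Subgroup.mem_centralizer_iff]
    refine ⟨fun h i => (h (d i) (by fin_cases i <;> simp)).symm, fun h y hy => ?_⟩
    rcases hy with rfl | rfl | rfl <;> exact ((h _).symm).eq
  have hmemC : ∀ g, g ∈ C ↔ Commute g (d 0 * d 1 * d 2) := fun g => by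
    rw [hC]; exact Subgroup.mem_centralizer_singleton_iff
  have hKC : K ≤ C := fun g hg => by
    have h := (hmemK g).mp hg
    exact (hmemC g).mpr (((h 0).mul_right (h 1)).mul_right (h 2))
  choose f hf using fun g : C => huniq g ((hmemC g).mp g.2)
  have hfinj : ∀ g : C, Function.Injective (f g) := fun g i k e => hinj (cj_injective (g : G) (by
    show (g : G) * d i * (g : G)⁻¹ = g * d k * (g : G)⁻¹
    rw [hf, hf, e]))
  let φ : C →* Equiv.Perm (Fin 3) :=
    { toFun := fun g => Equiv.ofBijective (f g) (Finite.injective_iff_bijective.mp (hfinj g))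
      map_one' := Equiv.ext fun i => hinj (by
        show d (f 1 i) = d i
        rw [← hf]; simp)
      map_mul' := fun g h => Equiv.ext fun i => hinj (by
        show d (f (g * h) i) = d (f g (f h i))
        rw [← hf, ← hf g, ← hf h, Subgroup.coe_mul]
        group) }
  have hker : φ.ker = K.subgroupOf C := by
    ext g
    rw [MonoidHom.mem_ker, Subgroup.mem_subgroupOf, hmemK]
    refine ⟨fun h i => ?_, fun h => Equiv.ext fun i => hinj ?_⟩
    · have e : f g i = i := congrArg (fun σ : Equiv.Perm (Fin 3) => σ i) h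
      have := hf g i
      rw [e] at this
      exact mul_inv_eq_iff_eq_mul.mp this
    · show d (f g i) = d i
      rw [← hf, (h i).eq, mul_inv_cancel_right]
  have hswap : ∀ p q r : Fin 3, p ≠ q → r ≠ p → r ≠ q → Equiv.swap p q ∈ φ.range := by
    intro p q r h1 h2 h3
    obtain ⟨g, gr, gp, gq⟩ := exists_swap hD hp (hd p) (hd q) (hd r) (hinj.ne h1) (hinj.ne h2) (hinj.ne h3)
      (hc p q) (hc r p) (hc r q)
    have hall : ∀ i, g * d i * g⁻¹ = d (Equiv.swap p q i) := by
      intro i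
      rcases eq_or_ne i p with rfl | hip
      · rw [Equiv.swap_apply_left, gp]
      rcases eq_or_ne i q with rfl | hiq
      · rw [Equiv.swap_apply_right, gq]
      rw [Equiv.swap_apply_of_ne_of_ne hip hiq,
        (by decide : ∀ i p q r : Fin 3, p ≠ q → r ≠ p → r ≠ q → i ≠ p → i ≠ q → i = r) i p q r h1 h2 h3 hip hiq, gr]
    have hgC : Commute g (d 0 * d 1 * d 2) := by
      refine mul_inv_eq_iff_eq_mul.mp ?_
      rw [show g * (d 0 * d 1 * d 2) * g⁻¹ = (g * d 0 * g⁻¹) * (g * d 1 * g⁻¹) * (g * d 2 * g⁻¹) by group,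
        hall, hall, hall]
      have key : ∀ σ : Equiv.Perm (Fin 3), d (σ 0) * d (σ 1) * d (σ 2) = d 0 * d 1 * d 2 := by
        intro σ
        have := (((by decide : ∀ σ : Equiv.Perm (Fin 3), [σ 0, σ 1, σ 2].Perm [0, 1, 2]) σ).map d).prod_eq'
          (List.pairwise_map.mpr (List.pairwise_of_forall fun x y => hc x y))
        simpa [mul_assoc] using this
      exact key _
    refine ⟨⟨g, (hmemC g).mpr hgC⟩, Equiv.ext fun i => hinj ?_⟩
    show d (f _ i) = d (Equiv.swap p q i)
    rw [← hf, ← hall i]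
  have hsur : Function.Surjective φ := by
    have s1 := hswap 0 1 2 (by decide) (by decide) (by decide)
    have s2 := hswap 1 2 0 (by decide) (by decide) (by decide)
    intro σ
    suffices σ ∈ φ.range from this
    rcases (by decide : ∀ σ : Equiv.Perm (Fin 3), σ = 1 ∨ σ = Equiv.swap 0 1 ∨ σ = Equiv.swap 1 2 ∨
      σ = Equiv.swap 0 1 * Equiv.swap 1 2 ∨ σ = Equiv.swap 1 2 * Equiv.swap 0 1 ∨
      σ = Equiv.swap 0 1 * Equiv.swap 1 2 * Equiv.swap 0 1) σ with h | h | h | h | h | h <;> subst h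
    exacts [one_mem _, s1, s2, mul_mem s1 s2, mul_mem s2 s1, mul_mem (mul_mem s1 s2) s1]
  refine ⟨hKC, hker ▸ φ.normal_ker, ?_⟩
  haveI : (K.subgroupOf C).Normal := hker ▸ φ.normal_ker
  exact ⟨(QuotientGroup.quotientMulEquivOfEq hker.symm).trans (QuotientGroup.quotientKerEquivOfSurjective φ hsur)⟩

theorem triple_quotient (hG : IsThreeTranspositionGroup D) (hp : IsPrimitiveUnderConj D) {d₀ : G} (hd₀ : d₀ ∈ D)
    (h3 : pCore 3 ↥(Subgroup.closure (Ds D d₀)) ≤ Subgroup.center ↥(Subgroup.closure (Ds D d₀)))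
    (h2 : pCore 2 ↥(Subgroup.closure (Ds D d₀)) ≤ Subgroup.center ↥(Subgroup.closure (Ds D d₀)))
    (h : IsOfTypeM23 G D ∨ IsOfTypeM24 G D) {a b c : G} (ha : a ∈ D) (hb : b ∈ D) (hc : c ∈ D) (hab : a ≠ b)
    (hac : a ≠ c) (hbc : b ≠ c) (cab : Commute a b) (cac : Commute a c) (cbc : Commute b c) (K C : Subgroup G)
    (hK : K = Subgroup.centralizer ({a, b, c} : Set G)) (hC : C = Subgroup.centralizer ({a * b * c} : Set G)) :
    K ≤ C ∧ ∃ _ : (K.subgroupOf C).Normal, Nonempty (↥C ⧸ K.subgroupOf C ≃* Equiv.Perm (Fin 3)) := by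
  have hD := cls_of_group_prim hG hp
  have hd : ∀ i, ![a, b, c] i ∈ D := by intro i; fin_cases i <;> assumption
  have hinj : Function.Injective ![a, b, c] := by
    intro i k e
    fin_cases i <;> fin_cases k <;> simp_all
  have hcom : ∀ i k, Commute (![a, b, c] i) (![a, b, c] k) := by
    intro i k
    fin_cases i <;> fin_cases k <;> first | exact Commute.refl _ | assumption | exact Commute.symm (by assumption)
  refine triple_quotient_of_unique hD hp hd hinj hcom ?_ K C hK hC
  intro g hg i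
  have hl : [a, b, c].Nodup := by simp [hab, hac, hbc]
  have hmem : ∀ x ∈ [a, b, c], x ∈ D := by simp [ha, hb, hc]
  have hco : ∀ x ∈ [a, b, c], ∀ y ∈ [a, b, c], Commute x y := by
    intro x hx y hy
    simp only [List.mem_cons, List.not_mem_nil, or_false] at hx hy
    rcases hx with rfl | rfl | rfl <;> rcases hy with rfl | rfl | rfl <;>
      first | exact Commute.refl _ | assumption | exact Commute.symm (by assumption)
  have hu := factorization_unique hG hp hd₀ h3 h2 h (m := 3) le_rfl (j := a * b * c) (l := [a, b, c])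
    (l' := [a, b, c].map fun x => g * x * g⁻¹) ⟨hl, rfl, hmem, hco, by simp [mul_assoc]⟩
    ⟨hl.map (cj_injective g), rfl, by
      intro x hx
      obtain ⟨y, hy, rfl⟩ := List.mem_map.mp hx
      exact cls_conj hD g (hmem y hy), by
      intro x hx y hy
      obtain ⟨x', hx', rfl⟩ := List.mem_map.mp hx
      obtain ⟨y', hy', rfl⟩ := List.mem_map.mp hy
      exact (commute_cj_iff g).mpr (hco x' hx' y' hy'), by
      have e : g * (a * b * c) * g⁻¹ = a * b * c := by
        rw [show Commute g (a * b * c) from hg |>.eq, mul_inv_cancel_right]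
      conv_rhs => rw [← e]
      simp only [List.map_cons, List.map_nil, List.prod_cons, List.prod_nil, mul_one]
      group⟩
  have hm := (hu (g * ![a, b, c] i * g⁻¹)).mpr (List.mem_map_of_mem (f := fun x => g * x * g⁻¹)
    (by fin_cases i <;> simp))
  simp only [List.mem_cons, List.not_mem_nil, or_false] at hm
  rcases hm with e | e | e
  exacts [⟨0, e⟩, ⟨1, e⟩, ⟨2, e⟩]

end CfsgThreeTrans
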