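/-
Uniqueness of a class of 3-transpositions of a group whose generalized Fitting subgroup is an
elementary abelian 2-group: the linear algebra.

`K` acts faithfully on a finite group `W` of exponent 2 and has trivial 2-core; `D` and `E` are two
generating classes of involutions with the properties that such classes inherit from classes of
3-transpositions of an extension of `W` by `K`. The first result is that `D` meets `E`.
The second says that a family of cocycle values on `D` with the properties of the difference of two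
lifts differs from a fixed vector by coboundary values.
-/
import Mathlib
import Cfsg.Agent.Lib.Basic
import Cfsg.Agent.Lib.Components
import Cfsg.Agent.Lib.Subnormal

set_option autoImplicit false

namespace CfsgUniqueTT

variable {K : Type*} [Group K] {W : Type*} [AddCommGroup W] [DistribMulAction K W]

/-- The map `v ↦ d • v + v`. -/
def del (W : Type*) [AddCommGroup W] [DistribMulAction K W] (d : K) : W →+ W where
  toFun v := d • v + v
  map_zero' := by simp
  map_add' a b := by simp only [smul_add]; abel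

theorem del_apply (d : K) (v : W) : del W d v = d • v + v := rfl

/-- Image of `del`. -/
def img (W : Type*) [AddCommGroup W] [DistribMulAction K W] (d : K) : AddSubgroup W := (del W d).range

theorem del_mem_img (d : K) (v : W) : del W d v ∈ img W d := ⟨v, rfl⟩

/-- The properties of a class of 3-transpositions used below. -/
structure Cls (W : Type*) [AddCommGroup W] [DistribMulAction K W] (D : Set K) : Prop where
  exp2 : ∀ v : W, v + v = 0
  faithful : ∀ g : K, (∀ v : W, g • v = v) → g = 1
  core : Cfsg.pCore 2 K = ⊥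
  sq : ∀ d ∈ D, d * d = 1
  ne1 : ∀ d ∈ D, d ≠ 1
  conj : ∀ g : K, ∀ d ∈ D, g * d * g⁻¹ ∈ D
  isConj : ∀ d ∈ D, ∀ e ∈ D, IsConj d e
  gen : Subgroup.closure D = ⊤
  braid : ∀ d ∈ D, ∀ e ∈ D, ¬ Commute d e → d * e * d = e * d * e
  relA : ∀ d ∈ D, ∀ e ∈ D, d ≠ e → Commute d e → ∀ v : W, del W e (del W d v) = 0
  relB : ∀ d ∈ D, ∀ e ∈ D, ¬ Commute d e → ∀ v : W, del W d (del W e (del W d v)) = del W d v

namespace Cls

variable {D : Set K} (hD : Cls W D)
include hD

theorem inv_eq {d : K} (hd : d ∈ D) : d⁻¹ = d := inv_eq_of_mul_eq_one_right (hD.sq d hd)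

theorem eq_of_add {a b : W} (h : a + b = 0) : a = b :=
  (eq_neg_of_add_eq_zero_left h).trans (neg_eq_of_add_eq_zero_left (hD.exp2 b))

theorem cancel_add (a b : W) : a + b + b = a := by rw [add_assoc, hD.exp2 b, add_zero]

theorem conj_self {d e : K} (hd : d ∈ D) (he : e ∈ D) : d * e * d ∈ D := by
  have h := hD.conj d e he
  rwa [hD.inv_eq hd] at h

theorem conj_invol {f d : K} (hf : f * f = 1) (hd : d ∈ D) : f * d * f ∈ D := by
  have h := hD.conj f d hd
  rwa [inv_eq_of_mul_eq_one_right hf] at h

theorem fix_iff (d : K) (v : W) : del W d v = 0 ↔ d • v = v := by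
  rw [del_apply]
  exact ⟨hD.eq_of_add, fun h => by rw [h]; exact hD.exp2 v⟩

theorem smul_img {d : K} (hd : d ∈ D) {x : W} (hx : x ∈ img W d) : d • x = x := by
  obtain ⟨v, rfl⟩ := hx
  rw [del_apply, smul_add, smul_smul, hD.sq d hd, one_smul, add_comm]

theorem del_img {d : K} (hd : d ∈ D) {x : W} (hx : x ∈ img W d) : del W d x = 0 :=
  (hD.fix_iff d x).mpr (hD.smul_img hd hx)

theorem kill {d e : K} (hd : d ∈ D) (he : e ∈ D) (hne : d ≠ e) (hc : Commute d e) {x : W}
    (hx : x ∈ img W d) : del W e x = 0 := by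
  obtain ⟨v, rfl⟩ := hx
  exact hD.relA d hd e he hne hc v

theorem back {d e : K} (hd : d ∈ D) (he : e ∈ D) (hc : ¬ Commute d e) {x : W} (hx : x ∈ img W d) :
    del W d (del W e x) = x := by
  obtain ⟨v, rfl⟩ := hx
  exact hD.relB d hd e he hc v

theorem inj {d e : K} (hd : d ∈ D) (he : e ∈ D) (hc : ¬ Commute d e) {x : W} (hx : x ∈ img W d)
    (h : del W e x = 0) : x = 0 := by
  rw [← hD.back hd he hc hx, h, map_zero]

theorem exists_ne_zero {d : K} (hd : d ∈ D) : ∃ x ∈ img W d, x ≠ 0 := by
  by_contra h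
  push Not at h
  exact hD.ne1 d hd (hD.faithful d fun v => (hD.fix_iff d v).mp (h _ (del_mem_img d v)))

omit hD in
theorem del_conj (g d : K) (v : W) : del W (g * d * g⁻¹) (g • v) = g • del W d v := by
  rw [del_apply, del_apply, smul_add, smul_smul, smul_smul, inv_mul_cancel_right]

omit hD in
theorem del_commute {g d : K} (hc : Commute g d) (v : W) : del W d (g • v) = g • del W d v := by
  rw [del_apply, del_apply, smul_add, smul_smul, smul_smul, hc.eq]

omit hD in
theorem smul_mem_img {g d : K} {x : W} (hx : x ∈ img W d) : g • x ∈ img W (g * d * g⁻¹) := by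
  obtain ⟨v, rfl⟩ := hx
  exact ⟨g • v, del_conj g d v⟩

omit hD in
theorem smul_mem_img_invol {f d : K} (hf : f * f = 1) {x : W} (hx : x ∈ img W d) :
    f • x ∈ img W (f * d * f) := by
  have h := smul_mem_img (g := f) hx
  rwa [inv_eq_of_mul_eq_one_right hf] at h

omit hD in
theorem smul_mem_img_commute {g d : K} (hc : Commute g d) {x : W} (hx : x ∈ img W d) : g • x ∈ img W d := by
  obtain ⟨v, rfl⟩ := hx
  exact ⟨g • v, del_commute hc v⟩

theorem card_img_conj {d e : K} (hd : d ∈ D) (he : e ∈ D) [Finite W] :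
    Nat.card (img W d) = Nat.card (img W e) := by
  obtain ⟨g, hg⟩ := isConj_iff.mp (hD.isConj d hd e he)
  subst hg
  refine Nat.card_congr
    { toFun := fun x => ⟨g • (x : W), smul_mem_img x.2⟩
      invFun := fun x => ⟨g⁻¹ • (x : W), by
        have h := smul_mem_img (g := g⁻¹) x.2
        simpa [mul_assoc] using h⟩
      left_inv := fun x => Subtype.ext (inv_smul_smul g (x : W))
      right_inv := fun x => Subtype.ext (smul_inv_smul g (x : W)) }

theorem two_le_card {d : K} (hd : d ∈ D) [Finite W] : 2 ≤ Nat.card (img W d) := by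
  obtain ⟨x, hx, hne⟩ := hD.exists_ne_zero hd
  haveI : Nontrivial (img W d) := ⟨⟨⟨x, hx⟩, 0, fun h => hne (congrArg Subtype.val h)⟩⟩
  exact Finite.one_lt_card

theorem no_central_invol [Finite K] {z : K} (hz : z * z = 1) (hz1 : z ≠ 1)
    (hc : ∀ c ∈ D, Commute z c) : False := by
  have hcen : ∀ g : K, Commute z g := fun g => by
    have hle : Subgroup.closure D ≤ Subgroup.centralizer ({z} : Set K) :=
      (Subgroup.closure_le _).mpr fun c hc' => Subgroup.mem_centralizer_singleton_iff.mpr (hc c hc').eq.symm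
    rw [hD.gen] at hle
    exact (Subgroup.mem_centralizer_singleton_iff.mp (hle (Subgroup.mem_top g))).symm
  haveI : (Subgroup.zpowers z).Normal := ⟨fun n hn g => by
    obtain ⟨i, rfl⟩ := Subgroup.mem_zpowers_iff.mp hn
    rw [((hcen g).zpow_left i).symm.eq, mul_inv_cancel_right]
    exact ⟨i, rfl⟩⟩
  have h2 : IsPGroup 2 (Subgroup.zpowers z) := IsPGroup.of_card (n := 1) (by
    rw [Nat.card_zpowers, pow_one, orderOf_eq_prime_iff]
    exact ⟨by rw [pow_two, hz], hz1⟩)
  have hle := CfsgLib.le_pCore h2
  rw [hD.core, le_bot_iff, Subgroup.zpowers_eq_bot] at hle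
  exact hz1 hle

theorem exists_adj [Finite K] {d : K} (hd : d ∈ D) : ∃ e ∈ D, ¬ Commute d e := by
  by_contra h
  push Not at h
  exact hD.no_central_invol (hD.sq d hd) (hD.ne1 d hd) h

/-! ### No two members have the same neighbours -/

omit hD in
theorem commute_conj_iff (g a b : K) : Commute (g * a * g⁻¹) (g * b * g⁻¹) ↔ Commute a b :=
  ⟨fun h => by simpa [mul_assoc] using (h.map (MulAut.conj g⁻¹).toMonoidHom),
   fun h => by simpa [mul_assoc] using (h.map (MulAut.conj g).toMonoidHom)⟩

theorem commute_conj_invol_iff {f : K} (hf : f * f = 1) (a b : K) :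
    Commute (f * a * f) (f * b * f) ↔ Commute a b := by
  have h := commute_conj_iff f a b
  rwa [inv_eq_of_mul_eq_one_right hf] at h

omit hD in
/-- Same neighbours. -/
def Tw (D : Set K) (a b : K) : Prop :=
  a ∈ D ∧ b ∈ D ∧ Commute a b ∧ ∀ c ∈ D, (Commute c a ↔ Commute c b)

theorem tw_conj {a b : K} (h : Tw D a b) (g : K) : Tw D (g * a * g⁻¹) (g * b * g⁻¹) := by
  obtain ⟨ha, hb, hab, hall⟩ := h
  refine ⟨hD.conj g a ha, hD.conj g b hb, (commute_conj_iff g a b).mpr hab, fun c hc => ?_⟩
  have e : c = g * (g⁻¹ * c * g) * g⁻¹ := by group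
  have hc' : g⁻¹ * c * g ∈ D := by simpa using hD.conj g⁻¹ c hc
  rw [e, commute_conj_iff, commute_conj_iff]
  exact hall _ hc'

theorem tw_fix {a b : K} (h : Tw D a b) {c : K} (hc : c ∈ D) : Tw D c (a * b * c * (a * b)) := by
  obtain ⟨ha, hb, hab, hall⟩ := h
  by_cases hca : Commute c a
  · have hcb : Commute c b := (hall c hc).mp hca
    have : a * b * c * (a * b) = c := by
      have hzz : a * b * (a * b) = 1 := by
        rw [mul_assoc a b, ← mul_assoc b a b, ← hab.eq, mul_assoc a b b, hD.sq b hb, mul_one, hD.sq a ha]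
      rw [← (hca.mul_right hcb).eq, mul_assoc, hzz, mul_one]
    rw [this]
    exact ⟨hc, hc, Commute.refl c, fun _ _ => Iff.rfl⟩
  · set p := a * c * a with hp
    have hpD : p ∈ D := hD.conj_self ha hc
    have hcb : ¬ Commute c b := fun hh => hca ((hall c hc).mpr hh)
    have hbp : ¬ Commute b p := by
      intro hh
      have h1 := (hD.commute_conj_invol_iff (hD.sq a ha) b p).mpr hh
      rw [hab.eq, mul_assoc b a a, hD.sq a ha, mul_one, hp,
        show a * (a * c * a) * a = (a * a) * c * (a * a) by simp only [mul_assoc],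
        hD.sq a ha, one_mul, mul_one] at h1
      exact hcb h1.symm
    have e1 : a * b * c * (a * b) = p * b * p := by
      rw [← hD.braid b hb p hpD hbp, hp]
      calc a * b * c * (a * b) = b * a * c * (a * b) := by rw [hab.eq]
        _ = b * (a * c * a) * b := by simp only [mul_assoc]
    have e2 : p * a * p = c := by
      have hbr : c * a * c = a * c * a := hD.braid c hc a ha hca
      calc p * a * p = a * c * (a * a) * a * c * a := by rw [hp]; simp only [mul_assoc]
        _ = a * (c * a * c) * a := by rw [hD.sq a ha, mul_one]; simp only [mul_assoc]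
        _ = (a * a) * c * (a * a) := by rw [hbr]; simp only [mul_assoc]
        _ = c := by rw [hD.sq a ha, one_mul, mul_one]
    have h3 := hD.tw_conj ⟨ha, hb, hab, hall⟩ p
    rw [hD.inv_eq hpD, e2, ← e1] at h3
    exact h3

theorem no_twin [Finite K] {a b : K} (ha : a ∈ D) (hb : b ∈ D) (hne : a ≠ b) (hab : Commute a b)
    (hall : ∀ c ∈ D, (Commute c a ↔ Commute c b)) : False := by
  haveI : Fact (Nat.Prime 2) := ⟨Nat.prime_two⟩
  have htw : Tw D a b := ⟨ha, hb, hab, hall⟩
  set z := a * b with hz
  have hzz : z * z = 1 := by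
    rw [hz, mul_assoc, ← mul_assoc b a b, ← hab.eq, mul_assoc a b b, hD.sq b hb, mul_one, hD.sq a ha]
  have hz1 : z ≠ 1 := fun h => hne (by
    rw [← mul_one a, ← hD.sq b hb, ← mul_assoc, ← hz, h, one_mul])
  have key : ∀ g : K, Commute (g * z * g⁻¹) (z * (g * z * g⁻¹) * z) := by
    intro g
    have h1 := hD.tw_conj htw g
    set a' := g * a * g⁻¹ with ha'
    set b' := g * b * g⁻¹ with hb'
    have e : g * z * g⁻¹ = a' * b' := by rw [hz, ha', hb']; group
    have e' : z * (a' * b') * z = (z * a' * z) * (z * b' * z) := by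
      calc z * (a' * b') * z = z * a' * (z * z) * b' * z := by rw [hzz]; group
        _ = _ := by simp only [mul_assoc]
    obtain ⟨hA, hB, hAB, -⟩ := h1
    have tA : Tw D a' (z * a' * z) := hD.tw_fix htw hA
    have tB : Tw D b' (z * b' * z) := hD.tw_fix htw hB
    rw [e, e']
    exact ((tA.2.2.1.mul_right ((tB.2.2.2 a' hA).mp hAB))).mul_left
      (((tA.2.2.2 b' hB).mp hAB.symm).mul_right tB.2.2.1)
  have hcl : ∀ w : K, w * w = 1 → IsPGroup 2 (Subgroup.zpowers w) := by
    intro w hw x
    refine ⟨1, ?_⟩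
    obtain ⟨i, hi⟩ := Subgroup.mem_zpowers_iff.mp x.2
    apply Subtype.ext
    rw [SubmonoidClass.coe_pow, Subgroup.coe_one, pow_one, ← hi, ← zpow_natCast, ← zpow_mul, mul_comm,
      zpow_mul, zpow_natCast, pow_two, hw, one_zpow]
  obtain ⟨N, hN, hN2, hle⟩ : ∃ N : Subgroup K, N.Normal ∧ IsPGroup 2 N ∧ Subgroup.zpowers z ≤ N := by
    refine ⟨Cfsg.pCore 2 K, Subgroup.sSup_normal _ (fun _ h => h.1), CfsgLib.isPGroup_pCore 2, ?_⟩
    have hsup : ∀ g : K, IsPGroup 2 ↥(Subgroup.zpowers z ⊔ (Subgroup.zpowers z).map (MulAut.conj g).toMonoidHom) := by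
      intro g
      rw [MonoidHom.map_zpowers]
      set w := g * z * g⁻¹ with hw
      have hww : w * w = 1 := by
        rw [hw, show g * z * g⁻¹ * (g * z * g⁻¹) = g * (z * z) * g⁻¹ by group, hzz, mul_one, mul_inv_cancel]
      set w' := z * w * z with hw'
      have hw'w' : w' * w' = 1 := by
        rw [hw', show z * w * z * (z * w * z) = z * w * (z * z) * w * z by simp only [mul_assoc], hzz, mul_one,
          mul_assoc z w w, hww, mul_one, hzz]
      have hc : Commute w w' := key g
      have hS : IsPGroup 2 ↥(Subgroup.zpowers w ⊔ Subgroup.zpowers w') := by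
        refine IsPGroup.to_sup_of_normal_right' (hcl w hww) (hcl w' hw'w') ?_
        rw [Subgroup.zpowers_le]
        exact Subgroup.centralizer_le_normalizer _ (Subgroup.mem_centralizer_iff.mpr fun x hx => by
          obtain ⟨i, rfl⟩ := Subgroup.mem_zpowers_iff.mp hx
          exact ((hc.zpow_right i).symm).eq)
      have hzS : z ∈ Subgroup.normalizer ((Subgroup.zpowers w ⊔ Subgroup.zpowers w' : Subgroup K) : Set K) := by
        have hmap : (Subgroup.zpowers w ⊔ Subgroup.zpowers w').map (MulAut.conj z).toMonoidHom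
            = Subgroup.zpowers w ⊔ Subgroup.zpowers w' := by
          have e1 : (MulAut.conj z).toMonoidHom w = w' := by
            simp [hw', inv_eq_of_mul_eq_one_right hzz]
          have e2 : (MulAut.conj z).toMonoidHom w' = w := by
            simp only [MulEquiv.toMonoidHom_eq_coe, MonoidHom.coe_coe, MulAut.conj_apply,
              inv_eq_of_mul_eq_one_right hzz, hw']
            rw [show z * (z * w * z) * z = (z * z) * w * (z * z) by simp only [mul_assoc], hzz, one_mul, mul_one]
          rw [Subgroup.map_sup, MonoidHom.map_zpowers, MonoidHom.map_zpowers, e1, e2, sup_comm]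
        rw [Subgroup.mem_normalizer_iff]
        intro x
        constructor
        · intro hx
          rw [← hmap]
          exact ⟨x, hx, rfl⟩
        · intro hx
          rw [← hmap] at hx
          obtain ⟨y, hy, hyx⟩ := hx
          have : y = x := (MulAut.conj z).injective hyx
          rwa [← this]
      refine IsPGroup.to_le (IsPGroup.to_sup_of_normal_right' (hcl z hzz) hS (Subgroup.zpowers_le.mpr hzS))
        (sup_le le_sup_left ?_)
      refine le_sup_of_le_right (le_sup_of_le_left ?_)
      rw [Subgroup.zpowers_le]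
      exact Subgroup.mem_zpowers _
    exact CfsgLib.isSubnormal_isPGroup_le_pCore
      (CfsgLib.le_fitting_of_sup_conj_nilpotent (Subgroup.zpowers z)
        (fun g => by rw [Subgroup.pointwise_smul_def]; exact (hsup g).isNilpotent)).1 (hcl z hzz)
  have hNb : N ≤ ⊥ := hD.core ▸ @CfsgLib.le_pCore _ _ 2 N hN hN2
  exact hz1 (Subgroup.mem_bot.mp (hNb (hle (Subgroup.mem_zpowers z))))

theorem exists_split [Finite K] {a b : K} (ha : a ∈ D) (hb : b ∈ D) (hne : a ≠ b) (hab : Commute a b) :
    ∃ g ∈ D, (¬ Commute g a ∧ Commute g b) ∨ (¬ Commute g b ∧ Commute g a) := by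
  by_contra h
  push Not at h
  exact hD.no_twin ha hb hne hab fun c hc =>
    ⟨fun hca => by_contra fun hcb => (h c hc).2 hcb hca, fun hcb => by_contra fun hca => (h c hc).1 hca hcb⟩

theorem disjoint [Finite K] {a b : K} (ha : a ∈ D) (hb : b ∈ D) (hne : a ≠ b) (hab : Commute a b) {x : W}
    (hxa : x ∈ img W a) (hxb : x ∈ img W b) : x = 0 := by
  obtain ⟨g, hg, ⟨h1, h2⟩ | ⟨h1, h2⟩⟩ := hD.exists_split ha hb hne hab
  · exact hD.inj ha hg (fun h => h1 h.symm) hxa (hD.kill hb hg (fun h => h1 (h ▸ hab.symm)) h2.symm hxb)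
  · exact hD.inj hb hg (fun h => h1 h.symm) hxb (hD.kill ha hg (fun h => h1 (h ▸ hab)) h2.symm hxa)

theorem zero_of_adj {a b : K} (ha : a ∈ D) (hb : b ∈ D) (hab : ¬ Commute a b) {x : W}
    (hxa : x ∈ img W a) (hxb : x ∈ img W b) : x = 0 :=
  hD.inj ha hb hab hxa (hD.del_img hb hxb)

/-- Three pairwise non-commuting members, not on a line: the images are independent. -/
theorem indep {d t e : K} (hd : d ∈ D) (ht : t ∈ D) (he : e ∈ D) (hdt : ¬ Commute d t) (hed : ¬ Commute e d)
    (het : ¬ Commute e t) (hed' : ¬ Commute e (t * d * t)) {x y z : W} (hx : x ∈ img W d)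
    (hy : y ∈ img W t) (hz : z ∈ img W e) (h : x + y = z) : z = 0 := by
  have h1 : del W e x + del W e y = 0 := by rw [← map_add, h, hD.del_img he hz]
  have h1' := hD.eq_of_add h1
  set s := del W e x with hs
  have hsI : s ∈ img W e := del_mem_img _ _
  have hxs : del W d s = x := hD.back hd he (fun h => hed h.symm) hx
  have hys : del W t s = y := by
    rw [h1']; exact hD.back ht he (fun h => het h.symm) hy
  have hzz : z = del W d s + del W t s := by rw [hxs, hys, h]
  have hz1 : del W e (del W d (del W t s)) = z := by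
    have e1 : del W d z = del W d (del W t s) := by
      rw [hzz, map_add, hD.del_img hd (del_mem_img _ _), zero_add]
    rw [← e1]; exact hD.back he hd hed hz
  have hz2 : del W e (del W t (del W d s)) = z := by
    have e1 : del W t z = del W t (del W d s) := by
      rw [hzz, map_add, hD.del_img ht (del_mem_img _ _), add_zero]
    rw [← e1]; exact hD.back he ht het hz
  have hd' : t * d * t ∈ D := hD.conj_self ht hd
  have key : del W e (del W (t * d * t) s) = s := hD.back he hd' hed' hsI
  have e3 : del W (t * d * t) s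
      = del W d s + del W d (del W t s) + del W t (del W d s) + del W t s := by
    have e4 : del W (t * d * t) (t • (t • s)) = t • del W d (t • s) := by
      have := del_conj t d (t • s)
      rwa [hD.inv_eq ht] at this
    rw [smul_smul, hD.sq t ht, one_smul] at e4
    have ets : t • s = del W t s + s := by rw [del_apply, hD.cancel_add]
    have etv : ∀ v : W, t • v = del W t v + v := fun v => by rw [del_apply, hD.cancel_add]
    have hT : del W t (del W d (del W t s)) = del W t s := hD.relB t ht d hd (fun h => hdt h.symm) s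
    rw [e4, ets, map_add, etv, map_add, hT]
    abel
  rw [e3, map_add, map_add, map_add, hz1, hz2, hD.back he hd hed hsI, hD.back he ht het hsI,
    hD.cancel_add] at key
  rw [hD.exp2] at key
  rw [hzz, ← key, map_zero, map_zero, add_zero]

theorem decomp_fix {d t : K} (hd : d ∈ D) (ht : t ∈ D) (hdt : ¬ Commute d t) (v : W) :
    d • (v + del W d (del W t v) + del W t (del W d v)) = v + del W d (del W t v) + del W t (del W d v) ∧
    t • (v + del W d (del W t v) + del W t (del W d v)) = v + del W d (del W t v) + del W t (del W d v) := by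
  refine ⟨(hD.fix_iff _ _).mp ?_, (hD.fix_iff _ _).mp ?_⟩
  · rw [map_add, map_add, hD.del_img hd (del_mem_img _ _), add_zero, hD.relB d hd t ht hdt, hD.exp2]
  · rw [map_add, map_add, hD.del_img ht (del_mem_img _ _), add_zero,
      hD.relB t ht d hd (fun h => hdt h.symm), hD.exp2]

theorem decomp (d t : K) (v : W) :
    v = (v + del W d (del W t v) + del W t (del W d v)) + (del W d (del W t v) + del W t (del W d v)) := by
  rw [add_assoc v, hD.cancel_add]

end Cls

/-! ### Two classes -/

section two

variable {D E : Set K} (hD : Cls W D) (hE : Cls W E)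
include hD hE

theorem half [Finite K] [Finite W] {f d : K} (hf : f ∈ E) (hd : d ∈ D) (hne : f * d * f ≠ d)
    (hc : Commute d (f * d * f)) : Nat.card (img W d) * Nat.card (img W d) ≤ Nat.card (img W f) := by
  have hff := hE.sq f hf
  set d' := f * d * f with hd'
  have hd'D : d' ∈ D := hD.conj_invol hff hd
  have hfd' : f * d' * f = d := by
    rw [hd', show f * (f * d * f) * f = (f * f) * d * (f * f) by simp only [mul_assoc], hff, one_mul, mul_one]
  obtain ⟨e, he, hed, hed'⟩ : ∃ e ∈ D, ¬ Commute e d ∧ Commute e d' := by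
    obtain ⟨g, hg, h | h⟩ := hD.exists_split hd hd'D (fun h => hne h.symm) hc
    · exact ⟨g, hg, h.1, h.2⟩
    · refine ⟨f * g * f, hD.conj_invol hff hg, ?_, ?_⟩
      · rw [← hfd', hD.commute_conj_invol_iff hff]; exact h.1
      · exact (hD.commute_conj_invol_iff hff g d).mpr h.2
  set e' := f * e * f with he'
  have he'D : e' ∈ D := hD.conj_invol hff he
  have he'd' : ¬ Commute e' d' := by rw [he', hd', hD.commute_conj_invol_iff hff]; exact hed
  have he'd : Commute e' d := by rw [← hfd', he', hD.commute_conj_invol_iff hff]; exact hed'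
  let φ : img W d × img W e → img W f := fun p => ⟨del W f ((p.1 : W) + p.2), del_mem_img _ _⟩
  have hinj : Function.Injective φ := by
    rintro ⟨⟨a₁, ha₁⟩, ⟨b₁, hb₁⟩⟩ ⟨⟨a₂, ha₂⟩, ⟨b₂, hb₂⟩⟩ h
    have h' : del W f (a₁ + b₁) = del W f (a₂ + b₂) := congrArg Subtype.val h
    have main : ∀ a ∈ img W d, ∀ b ∈ img W e, del W f (a + b) = 0 → a = 0 ∧ b = 0 := by
      intro a ha b hb hab
      have hfix := (hD.fix_iff _ _).mp hab
      have hfa : f • a ∈ img W d' := Cls.smul_mem_img_invol hff ha
      have hfb : f • b ∈ img W e' := Cls.smul_mem_img_invol hff hb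
      have h2 : del W d (f • (a + b)) = 0 := by
        rw [smul_add, map_add, hD.kill hd'D hd hne hc.symm hfa,
          hD.kill he'D hd (fun h => he'd' (h ▸ hc)) he'd hfb, add_zero]
      rw [hfix, map_add, hD.del_img hd ha, zero_add] at h2
      have hb0 : b = 0 := hD.inj he hd hed hb h2
      rw [hb0, add_zero] at hfix
      rw [hfix] at hfa
      exact ⟨hD.disjoint hd hd'D (fun h => hne h.symm) hc ha hfa, hb0⟩
    have h0 : del W f ((a₁ - a₂) + (b₁ - b₂)) = 0 := by
      rw [show (a₁ - a₂) + (b₁ - b₂) = (a₁ + b₁) - (a₂ + b₂) by abel, map_sub, h', sub_self]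
    obtain ⟨h3, h4⟩ := main _ (sub_mem ha₁ ha₂) _ (sub_mem hb₁ hb₂) h0
    exact Prod.ext (Subtype.ext (sub_eq_zero.mp h3)) (Subtype.ext (sub_eq_zero.mp h4))
  have hle := Nat.card_le_card_of_injective φ hinj
  rwa [Nat.card_prod, ← hD.card_img_conj hd he] at hle

theorem no_four [Finite K] [Finite W] {f d : K} (hf : f ∈ E) (hd : d ∈ D) (hne : f * d * f ≠ d)
    (hc : Commute d (f * d * f)) : False := by
  have hff := hE.sq f hf
  have hdd := hD.sq d hd
  have h1 := half hD hE hf hd hne hc
  have h2 := half hE hD hd hf (fun h => hne (by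
      calc f * d * f = (d * f * d) * d * f := by rw [h]
        _ = d * f * (d * d) * f := by simp only [mul_assoc]
        _ = d := by rw [hdd, mul_one, mul_assoc, hff, mul_one]))
    (by
      show f * (d * f * d) = d * f * d * f
      calc f * (d * f * d) = (f * d * f) * d := by simp only [mul_assoc]
        _ = d * (f * d * f) := hc.eq.symm
        _ = d * f * d * f := by simp only [mul_assoc])
  have h3 := hD.two_le_card hd
  have h4 := Nat.le_mul_self (Nat.card (img W f))
  have h5 := Nat.mul_le_mul_right (Nat.card (img W d)) h3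
  omega

/-- `t` is the companion of `d` for `f`. -/
def Comp (D : Set K) (f t d : K) : Prop :=
  d ∈ D ∧ t ∈ D ∧ Commute f t ∧ ¬ Commute d t ∧ f * d * f = t * d * t

theorem exists_comp [Finite K] [Finite W] {f d : K} (hf : f ∈ E) (hd : d ∈ D) (hne : ¬ Commute f d) :
    ∃ t, Comp D f t d := by
  have hff := hE.sq f hf
  have hdd := hD.sq d hd
  set d' := f * d * f with hd'
  have hne' : d' ≠ d := fun h => hne (by
    show f * d = d * f
    calc f * d = f * d * (f * f) := by rw [hff, mul_one]
      _ = d' * f := by rw [hd']; simp only [mul_assoc]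
      _ = d * f := by rw [h])
  have hadj : ¬ Commute d d' := fun h => no_four hD hE hf hd hne' h
  have hd'D : d' ∈ D := hD.conj_invol hff hd
  have hd'd' := hD.sq d' hd'D
  have hbr := hD.braid d hd d' hd'D hadj
  have hfd' : f * d' * f = d := by
    rw [hd', show f * (f * d * f) * f = (f * f) * d * (f * f) by simp only [mul_assoc], hff, one_mul, mul_one]
  have e1 : f * (d * d' * d) * f = d' * d * d' := by
    calc f * (d * d' * d) * f = f * d * (f * f) * d' * (f * f) * d * f := by rw [hff, mul_one, mul_one]; simp only [mul_assoc]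
      _ = (f * d * f) * (f * d' * f) * (f * d * f) := by simp only [mul_assoc]
      _ = d' * d * d' := by rw [← hd', hfd']
  refine ⟨d * d' * d, hd, hD.conj_self hd hd'D, ?_, fun h => hadj ?_, ?_⟩
  · show f * (d * d' * d) = d * d' * d * f
    calc f * (d * d' * d) = f * (d * d' * d) * (f * f) := by rw [hff, mul_one]
      _ = (f * (d * d' * d) * f) * f := by simp only [mul_assoc]
      _ = d * d' * d * f := by rw [e1, hbr]
  · have h' := (hD.commute_conj_invol_iff hdd d (d * d' * d)).mpr h
    rwa [show d * d * d = d by rw [hdd, one_mul],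
      show d * (d * d' * d) * d = (d * d) * d' * (d * d) by simp only [mul_assoc], hdd, one_mul, mul_one] at h'
  · calc f * d * f = d' := rfl
      _ = (d * d) * d' * (d * d) := by rw [hdd, one_mul, mul_one]
      _ = d * (d * d' * d) * d := by simp only [mul_assoc]
      _ = d * (d' * d * d') * d := by rw [hbr]
      _ = (d * d' * d) * d * d * d' * d := by rw [mul_assoc (d * d' * d) d d, hdd, mul_one]; simp only [mul_assoc]
      _ = (d * d' * d) * d * (d * d' * d) := by simp only [mul_assoc]

theorem comp_fix [Finite K] [Finite W] {f t d : K} (hf : f ∈ E) (hc : Comp D f t d) {v : W}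
    (hdv : d • v = v) (htv : t • v = v) : f • v = v := by
  obtain ⟨hd, ht, hft, hdt, hconj⟩ := hc
  have hff := hE.sq f hf
  have hdd := hD.sq d hd
  set f' := d * f * d with hf'
  have hf'E : f' ∈ E := by have h := hE.conj d f hf; rwa [hD.inv_eq hd] at h
  have hne : ¬ Commute f f' := fun h => by
    refine no_four hD hE hf hd (fun h' => hdt ?_) ?_
    · rw [hconj] at h'
      show d * t = t * d
      calc d * t = t * d * t * t := by rw [h']
        _ = t * d := by rw [mul_assoc, hD.sq t ht, mul_one]
    · show d * (f * d * f) = f * d * f * d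
      calc d * (f * d * f) = f' * f := by rw [hf']; simp only [mul_assoc]
        _ = f * f' := h.eq.symm
        _ = f * d * f * d := by rw [hf']; simp only [mul_assoc]
  have step : ∀ u : W, d • u = u → t • u = u → f' • u = f • u := by
    intro u h1 h2
    have h3 : (f * f') • u = u := by
      rw [hf', show f * (d * f * d) = (f * d * f) * d by simp only [mul_assoc], hconj, mul_smul, h1,
        mul_smul, mul_smul, h2, h1, h2]
    rw [mul_smul] at h3
    calc f' • u = f • f • (f' • u) := by rw [smul_smul f f, hff, one_smul]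
      _ = f • u := by rw [h3]
  have hfvd : d • (f • v) = f • v := by
    have h1 : (f * d * f) • v = v := by rw [hconj, mul_smul, mul_smul, htv, hdv, htv]
    calc d • (f • v) = f • f • d • f • v := by rw [smul_smul f f, hff, one_smul]
      _ = f • ((f * d * f) • v) := by rw [mul_smul, mul_smul]
      _ = f • v := by rw [h1]
  have hfvt : t • (f • v) = f • v := by rw [smul_smul, ← hft.eq, mul_smul, htv]
  set u := del W f v with hu
  have hud : d • u = u := by rw [hu, del_apply, smul_add, hfvd, hdv]
  have hut : t • u = u := by rw [hu, del_apply, smul_add, hfvt, htv]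
  have h5 : f • u = u := hE.smul_img hf (del_mem_img _ _)
  have h6 : del W f' u = 0 := (hD.fix_iff _ _).mpr ((step u hud hut).trans h5)
  have h7 : del W f' v = u := by rw [hu, del_apply, del_apply, step v hdv htv]
  have h8 := hE.relB f hf f' hf'E hne v
  rw [← hu, h6, map_zero] at h8
  exact (hD.fix_iff _ _).mp h8.symm

/-- On the plane of a companion pair, `f` moves the `d`-part to a `d`-part plus a `t`-part. -/
theorem comp_smul [Finite K] [Finite W] {f t d : K} (hf : f ∈ E) (hc : Comp D f t d) {x : W}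
    (hx : x ∈ img W d) : t • f • x ∈ img W d ∧ f • x = t • f • x + del W t (t • f • x) := by
  obtain ⟨hd, ht, hft, hdt, hconj⟩ := hc
  have hff := hE.sq f hf
  have htt := hD.sq t ht
  refine ⟨?_, ?_⟩
  · have h1 := Cls.smul_mem_img_invol htt (Cls.smul_mem_img_invol hff hx)
    rwa [hconj, show t * (t * d * t) * t = (t * t) * d * (t * t) by simp only [mul_assoc],
      htt, one_mul, mul_one] at h1
  · rw [del_apply, smul_smul t t, htt, one_smul, add_comm (f • x) (t • f • x), ← add_assoc, hD.exp2,
      zero_add]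

theorem comp_fixed_adj [Finite K] [Finite W] {f t d e : K} (hf : f ∈ E) (hc : Comp D f t d) (he : e ∈ D)
    (hfe : Commute f e) (het : ¬ Commute e t) : False := by
  obtain ⟨hd, ht, hft, hdt, hconj⟩ := hc
  have hc' : Comp D f t d := ⟨hd, ht, hft, hdt, hconj⟩
  have hff := hE.sq f hf
  have hdd := hD.sq d hd
  have htt := hD.sq t ht
  have hfef : f * e * f = e := by rw [hfe.eq, mul_assoc, hff, mul_one]
  have hiff : Commute e d ↔ Commute e (t * d * t) := by
    rw [← hconj]
    conv_rhs => rw [← hfef]
    exact (hD.commute_conj_invol_iff hff e d).symm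
  have hed : ¬ Commute e d := fun h => het (by
    have h2 : Commute e (d * (t * d * t) * d) := (h.mul_right (hiff.mp h)).mul_right h
    have hbr := hD.braid d hd t ht hdt
    rwa [show d * (t * d * t) * d = (d * d) * t * (d * d) by rw [← hbr]; simp only [mul_assoc],
      hdd, one_mul, mul_one] at h2)
  have hed' : ¬ Commute e (t * d * t) := fun h => hed (hiff.mpr h)
  -- `f` fixes the image of `e` pointwise
  have hfix : ∀ v ∈ img W e, f • v = v := by
    intro v hv
    refine (hD.fix_iff _ _).mp ?_
    have hfv : f • v ∈ img W e := Cls.smul_mem_img_commute hfe hv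
    have hmem : del W f v ∈ img W e := by rw [del_apply]; exact add_mem hfv hv
    set x := del W d (del W t v) with hx
    set y := del W t (del W d v) with hy
    have hc0 : f • (v + x + y) = v + x + y :=
      comp_fix hD hE hf hc' (hD.decomp_fix hd ht hdt v).1 (hD.decomp_fix hd ht hdt v).2
    obtain ⟨hr, hfx⟩ := comp_smul hD hE hf hc' (del_mem_img d (del W t v))
    rw [← hx] at hr hfx
    have hfy : f • y ∈ img W t := Cls.smul_mem_img_commute hft (del_mem_img _ _)
    generalize hr0 : t • f • x = r0 at hr hfx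
    refine hD.indep hd ht he hdt hed het hed' (x := r0 + x)
      (y := del W t r0 + (f • y + y)) (add_mem hr (del_mem_img _ _))
      (add_mem (del_mem_img _ _) (add_mem hfy (del_mem_img _ _))) hmem ?_
    have e1 : del W f v = del W f (x + y) := by
      conv_lhs => rw [hD.decomp d t v]
      rw [map_add, (hD.fix_iff _ _).mpr hc0, zero_add]
    rw [e1, map_add, del_apply f x, del_apply f y, hfx]
    abel
  -- the map `s ↦ del d (del t (del e s))`
  have step : ∀ s ∈ img W d, t • f • s = s + del W d (del W t (del W e s)) ∧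
      t • f • del W d (del W t (del W e s)) = del W d (del W t (del W e s)) := by
    intro s hs
    set v := del W e s with hv
    have hdv : del W d v = s := hD.back hd he (fun h => hed h.symm) hs
    set x := del W d (del W t v) with hx
    have hc0 : f • (v + x + del W t (del W d v)) = v + x + del W t (del W d v) :=
      comp_fix hD hE hf hc' (hD.decomp_fix hd ht hdt v).1 (hD.decomp_fix hd ht hdt v).2
    have hxy : f • (x + del W t s) = x + del W t s := by
      have hsum : x + del W t s = (v + x + del W t (del W d v)) + v := by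
        rw [hdv, add_comm (v + x + del W t s) v, ← add_assoc, ← add_assoc, hD.exp2, zero_add]
      rw [hsum, smul_add, hc0, hfix v (del_mem_img _ _)]
    obtain ⟨hr, hfs⟩ := comp_smul hD hE hf hc' hs
    obtain ⟨hr', hfx⟩ := comp_smul hD hE hf hc' (del_mem_img d (del W t v))
    rw [← hx] at hr' hfx
    set r := t • f • s with hr_def
    set r' := t • f • x with hr'_def
    have hy' : f • del W t s = del W t r := by
      rw [← Cls.del_commute hft, hfs, map_add, hD.del_img ht (del_mem_img _ _), add_zero]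
    rw [smul_add, hy', hfx] at hxy
    have h0 : r' + x = del W t (r' + r + s) := by
      apply hD.eq_of_add
      rw [map_add, map_add]
      calc r' + x + (del W t r' + del W t r + del W t s)
          = (r' + del W t r' + del W t r) + (x + del W t s) := by abel
        _ = 0 := by rw [hxy, hD.exp2]
    have h1 : r' + x = 0 :=
      hD.zero_of_adj hd ht hdt (add_mem hr' (del_mem_img _ _)) (h0 ▸ del_mem_img _ _)
    have h2 : r' = x := hD.eq_of_add h1
    have h3 : r' + r + s = 0 :=
      hD.inj hd ht hdt (add_mem (add_mem hr' hr) hs) (by rw [← h0]; exact h1)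
    refine ⟨?_, h2⟩
    rw [h2] at h3
    exact hD.eq_of_add (by rw [← h3]; abel)
  obtain ⟨s, hs, hs0⟩ := hD.exists_ne_zero hd
  have hinj : ∀ s ∈ img W d, del W d (del W t (del W e s)) = 0 → s = 0 := by
    intro s hs h
    have h1 : del W t (del W e s) = 0 := hD.inj ht hd (fun h => hdt h.symm) (del_mem_img _ _) h
    have h2 : del W e s = 0 := hD.inj he ht het (del_mem_img _ _) h1
    exact hD.inj hd he (fun h => hed h.symm) hs h2
  set x := del W d (del W t (del W e s)) with hx
  have hxI : x ∈ img W d := del_mem_img _ _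
  have h1 := (step x hxI).1
  rw [(step s hs).2] at h1
  have h2 : del W d (del W t (del W e x)) = 0 := by
    have h4 : x + (x + del W d (del W t (del W e x))) = x + x := by rw [← h1]
    rwa [← add_assoc, hD.exp2, zero_add] at h4
  exact hs0 (hinj s hs (hinj x hxI h2))

theorem meet [Finite K] [Finite W] (hEne : E.Nonempty) : ∃ f ∈ E, f ∈ D := by
  by_contra hDE
  push Not at hDE
  obtain ⟨f, hf⟩ := hEne
  have hff := hE.sq f hf
  obtain ⟨d, hd, hfd⟩ : ∃ d ∈ D, ¬ Commute f d := by
    by_contra h
    push Not at h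
    exact hD.no_central_invol hff (hE.ne1 f hf) h
  obtain ⟨t, hct⟩ := exists_comp hD hE hf hd hfd
  -- every moved member is adjacent to every companion
  have adj : ∀ t₁ d₁ e t₂, Comp D f t₁ d₁ → Comp D f t₂ e → ¬ Commute e t₁ := by
    intro t₁ d₁ e t₂ hc₁ hc₂ het
    obtain ⟨hd₁, ht₁, hft₁, hdt₁, hconj₁⟩ := hc₁
    obtain ⟨he, ht₂, hft₂, het₂, hconj₂⟩ := hc₂
    have hc₁' : Comp D f t₁ d₁ := ⟨hd₁, ht₁, hft₁, hdt₁, hconj₁⟩
    have hc₂' : Comp D f t₂ e := ⟨he, ht₂, hft₂, het₂, hconj₂⟩
    have ht12 : Commute t₁ t₂ := by_contra fun h => comp_fixed_adj hD hE hf hc₂' ht₁ hft₁ h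
    have hne12 : t₂ ≠ t₁ := fun h => het₂ (h ▸ het)
    have hne1e : e ≠ t₁ := fun h => het₂ (h ▸ ht12)
    have zero : ∀ v : W, del W t₁ (del W f v) = 0 := by
      intro v
      set x := del W e (del W t₂ v) with hx
      set y := del W t₂ (del W e v) with hy
      have hc0 : f • (v + x + y) = v + x + y :=
        comp_fix hD hE hf hc₂' (hD.decomp_fix he ht₂ het₂ v).1 (hD.decomp_fix he ht₂ het₂ v).2
      obtain ⟨hr, hfx⟩ := comp_smul hD hE hf hc₂' (del_mem_img e (del W t₂ v))
      rw [← hx] at hr hfx
      have hfy : f • y ∈ img W t₂ := Cls.smul_mem_img_commute hft₂ (del_mem_img _ _)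
      have e1 : del W f v = del W f x + del W f y := by
        conv_lhs => rw [hD.decomp e t₂ v, ← hx, ← hy]
        rw [map_add, (hD.fix_iff _ _).mpr hc0, zero_add, map_add]
      generalize hr0 : t₂ • f • x = r0 at hr hfx
      have kx : del W t₁ x = 0 := hD.kill he ht₁ hne1e het (del_mem_img e (del W t₂ v))
      have ky : del W t₁ y = 0 := hD.kill ht₂ ht₁ hne12 ht12.symm (del_mem_img t₂ (del W e v))
      have kr : del W t₁ (del W t₂ r0) = 0 := hD.kill ht₂ ht₁ hne12 ht12.symm (del_mem_img t₂ r0)
      rw [e1, del_apply f x, del_apply f y, hfx]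
      simp only [map_add, hD.kill he ht₁ hne1e het hr, kr, kx, ky, hD.kill ht₂ ht₁ hne12 ht12.symm hfy, add_zero]
    have hs : ∀ s ∈ img W d₁, f • s = t₁ • s := by
      intro s hs
      obtain ⟨hr, hfs⟩ := comp_smul hD hE hf hc₁' hs
      set r := t₁ • f • s with hrd
      have h1 := zero s
      rw [del_apply f s, hfs, map_add, map_add, hD.del_img ht₁ (del_mem_img _ _), add_zero] at h1
      have h2 : r + s = 0 := hD.inj hd₁ ht₁ hdt₁ (add_mem hr hs) (by rw [map_add]; exact h1)
      rw [hD.eq_of_add h2] at hfs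
      rw [hfs, del_apply, add_comm, hD.cancel_add]
    have heq : f = t₁ := by
      have h1 : t₁ * f = 1 := hD.faithful _ fun v => by
        rw [mul_smul]
        conv_rhs => rw [hD.decomp d₁ t₁ v]
        conv_lhs => rw [hD.decomp d₁ t₁ v]
        have hfy : f • del W t₁ (del W d₁ v) = del W t₁ (del W d₁ v) := by
          have h1 : del W d₁ v ∈ img W d₁ := del_mem_img _ _
          rw [← Cls.del_commute hft₁, hs _ h1, Cls.del_commute (Commute.refl t₁)]
          exact hD.smul_img ht₁ (del_mem_img _ _)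
        have hP := comp_fix hD hE hf hc₁' (hD.decomp_fix hd₁ ht₁ hdt₁ v).1 (hD.decomp_fix hd₁ ht₁ hdt₁ v).2
        have hX := hs _ (del_mem_img d₁ (del W t₁ v))
        have htY := hD.smul_img ht₁ (del_mem_img t₁ (del W d₁ v))
        have htP := (hD.decomp_fix hd₁ ht₁ hdt₁ v).2
        generalize v + del W d₁ (del W t₁ v) + del W t₁ (del W d₁ v) = P at hP htP ⊢
        generalize del W d₁ (del W t₁ v) = X at hX ⊢
        generalize del W t₁ (del W d₁ v) = Y at hfy htY ⊢
        rw [smul_add f P, smul_add f X, hP, hX, hfy, smul_add, smul_add, htP, htY,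
          smul_smul t₁ t₁, hD.sq t₁ ht₁, one_smul]
      calc f = t₁ * (t₁ * f) := by rw [← mul_assoc, hD.sq t₁ ht₁, one_mul]
        _ = t₁ := by rw [h1, mul_one]
    exact hDE f hf (heq ▸ ht₁)
  -- the companion is unique
  have uniq : ∀ t₁ d₁, Comp D f t₁ d₁ → t₁ = t := by
    intro t₁ d₁ hc₁
    by_contra hne
    have hcomm : Commute t₁ t := by_contra fun h => comp_fixed_adj hD hE hf hct hc₁.2.1 hc₁.2.2.1 h
    refine hD.no_twin hc₁.2.1 hct.2.1 hne hcomm fun c hc => ?_
    by_cases hfc : Commute f c
    · exact ⟨fun _ => by_contra fun h => comp_fixed_adj hD hE hf hct hc hfc h,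
        fun _ => by_contra fun h => comp_fixed_adj hD hE hf hc₁ hc hfc h⟩
    · obtain ⟨t₂, hc₂⟩ := exists_comp hD hE hf hc hfc
      exact ⟨fun h => absurd h (adj t₁ d₁ c t₂ hc₁ hc₂), fun h => absurd h (adj t d c t₂ hct hc₂)⟩
  have ht := hct.2.1
  have htt := hD.sq t ht
  have hft := hct.2.2.1
  refine hD.no_central_invol (z := t * f) ?_ ?_ fun c hc => ?_
  · rw [mul_assoc, ← mul_assoc f t f, hft.eq, mul_assoc t f f, hff, mul_one, htt]
  · intro h
    refine hDE f hf ?_
    have : f = t := by
      calc f = t * (t * f) := by rw [← mul_assoc, htt, one_mul]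
        _ = t := by rw [h, mul_one]
    rwa [this]
  · by_cases hfc : Commute f c
    · have : Commute c t := by_contra fun h => comp_fixed_adj hD hE hf hct hc hfc h
      exact this.symm.mul_left hfc
    · obtain ⟨t₂, hc₂⟩ := exists_comp hD hE hf hc hfc
      have h2 := hc₂.2.2.2.2
      rw [uniq t₂ c hc₂] at h2
      show t * f * c = c * (t * f)
      calc t * f * c = t * (f * c * f) * f := by
              rw [mul_assoc t (f * c * f) f, mul_assoc (f * c) f f, hff, mul_one]; simp only [mul_assoc]
        _ = t * (t * c * t) * f := by rw [h2]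
        _ = (t * t) * c * (t * f) := by simp only [mul_assoc]
        _ = c * (t * f) := by rw [htt, one_mul]

end two

/-! ### Cocycle values -/

theorem cocycle [Finite K] {D : Set K} (hD : Cls W D) (c : K → W) (hfix : ∀ d ∈ D, d • c d = c d)
    (hcomm : ∀ d ∈ D, ∀ e ∈ D, d ≠ e → Commute d e → del W e (c d) = del W d (c e))
    (hadj : ∀ d ∈ D, ∀ e ∈ D, ¬ Commute d e →
      c d + del W d (del W e (c d)) = c e + del W e (del W d (c e)))
    (hinv : ∀ w : W, (∀ g : K, g • w = w) → w = 0) {d : K} (hd : d ∈ D) : c d ∈ img W d := by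
  let w : K → K → W := fun a b => c a + del W a (del W b (c a))
  have wmem : ∀ a b, c a + w a b ∈ img W a := fun a b => by
    show c a + (c a + _) ∈ _
    rw [← add_assoc, hD.exp2, zero_add]; exact del_mem_img _ _
  have wfix : ∀ a ∈ D, ∀ b ∈ D, ¬ Commute a b → a • w a b = w a b ∧ b • w a b = w a b := by
    intro a ha b hb hab
    have h := hD.decomp_fix ha hb hab (c a)
    rw [(hD.fix_iff _ _).mpr (hfix a ha), map_zero, add_zero] at h
    exact h
  have wsymm : ∀ a ∈ D, ∀ b ∈ D, ¬ Commute a b → w a b = w b a := hadj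
  -- equal on all neighbours
  have wconst : ∀ a ∈ D, ∀ e₁ ∈ D, ∀ e₂ ∈ D, ¬ Commute a e₁ → ¬ Commute a e₂ → w a e₁ = w a e₂ := by
    intro a ha
    have comm : ∀ e₁ ∈ D, ∀ e₂ ∈ D, ¬ Commute a e₁ → ¬ Commute a e₂ → Commute e₁ e₂ → w a e₁ = w a e₂ := by
      intro e₁ h₁ e₂ h₂ n₁ n₂ hc
      by_cases he : e₁ = e₂
      · rw [he]
      apply hD.eq_of_add
      set u := w a e₁ + w a e₂ with hu
      have huI : u ∈ img W a := by
        have := add_mem (wmem a e₁) (wmem a e₂)
        rwa [show c a + w a e₁ + (c a + w a e₂) = (c a + c a) + u by rw [hu]; abel, hD.exp2, zero_add] at this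
      have q₁ : del W e₂ (c e₁ + w a e₁) = 0 := by
        have := wmem e₁ a
        rw [← wsymm a ha e₁ h₁ n₁] at this
        exact hD.kill h₁ h₂ he hc this
      have q₂ : del W e₁ (c e₂ + w a e₂) = 0 := by
        have := wmem e₂ a
        rw [← wsymm a ha e₂ h₂ n₂] at this
        exact hD.kill h₂ h₁ (Ne.symm he) hc.symm this
      rw [map_add] at q₁ q₂
      have f₁ : del W e₂ (w a e₂) = 0 := (hD.fix_iff _ _).mpr (wfix a ha e₂ h₂ n₂).2
      have f₂ : del W e₁ (w a e₁) = 0 := (hD.fix_iff _ _).mpr (wfix a ha e₁ h₁ n₁).2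
      have h3 : del W e₂ u = del W e₁ u := by
        rw [hu, map_add (del W e₂) (w a e₁) (w a e₂), map_add (del W e₁) (w a e₁) (w a e₂), f₁, f₂, add_zero, zero_add, ← hD.eq_of_add q₁, ← hD.eq_of_add q₂]
        exact hcomm e₁ h₁ e₂ h₂ he hc
      have h4 : del W e₂ u = 0 :=
        hD.disjoint h₂ h₁ (Ne.symm he) hc.symm (del_mem_img _ _) (h3 ▸ del_mem_img _ _)
      exact hD.inj ha h₂ n₂ huI h4
    intro e₁ h₁ e₂ h₂ n₁ n₂
    by_cases hc : Commute e₁ e₂
    · exact comm e₁ h₁ e₂ h₂ n₁ n₂ hc
    have haa := hD.sq a ha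
    set e₃ := a * e₁ * a with he₃
    have h₃ : e₃ ∈ D := hD.conj_self ha h₁
    have n₃ : ¬ Commute a e₃ := fun h => n₁ (by
      have := (hD.commute_conj_invol_iff haa a e₃).mpr h
      rwa [show a * a * a = a by rw [haa, one_mul],
        show a * e₃ * a = (a * a) * e₁ * (a * a) by rw [he₃]; simp only [mul_assoc], haa, one_mul,
        mul_one] at this)
    have h13 : w a e₃ = w a e₁ := by
      show c a + del W a (del W e₃ (c a)) = c a + del W a (del W e₁ (c a))
      have e4 : del W e₃ (c a) = a • del W e₁ (c a) := by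
        have := Cls.del_conj a e₁ (c a)
        rwa [hfix a ha, hD.inv_eq ha] at this
      rw [e4, Cls.del_commute (Commute.refl a), hD.smul_img ha (del_mem_img _ _)]
    by_cases hc3 : Commute e₃ e₂
    · rw [← h13]; exact comm e₃ h₃ e₂ h₂ n₃ n₂ hc3
    apply hD.eq_of_add
    set u := w a e₁ + w a e₂ with hu
    have huI : u ∈ img W a := by
      have := add_mem (wmem a e₁) (wmem a e₂)
      rwa [show c a + w a e₁ + (c a + w a e₂) = (c a + c a) + u by rw [hu]; abel, hD.exp2, zero_add] at this
    have hp : w a e₁ + w e₁ e₂ ∈ img W e₁ := by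
      have h := add_mem (wmem e₁ a) (wmem e₁ e₂)
      rw [← wsymm a ha e₁ h₁ n₁] at h
      rwa [show c e₁ + w a e₁ + (c e₁ + w e₁ e₂) = (c e₁ + c e₁) + (w a e₁ + w e₁ e₂) by abel,
        hD.exp2, zero_add] at h
    have hq : w a e₂ + w e₁ e₂ ∈ img W e₂ := by
      have h := add_mem (wmem e₂ a) (wmem e₂ e₁)
      rw [← wsymm a ha e₂ h₂ n₂, ← wsymm e₁ h₁ e₂ h₂ hc] at h
      rwa [show c e₂ + w a e₂ + (c e₂ + w e₁ e₂) = (c e₂ + c e₂) + (w a e₂ + w e₁ e₂) by abel,
        hD.exp2, zero_add] at h
    refine hD.indep h₁ h₂ ha hc n₁ n₂ ?_ hp hq huI ?_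
    · intro h
      apply hc3
      rw [← hD.braid e₁ h₁ e₂ h₂ hc] at h
      have h' := (hD.commute_conj_invol_iff (hD.sq e₁ h₁) a (e₁ * e₂ * e₁)).mpr h
      rw [show e₁ * (e₁ * e₂ * e₁) * e₁ = (e₁ * e₁) * e₂ * (e₁ * e₁) by simp only [mul_assoc],
        hD.sq e₁ h₁, one_mul, mul_one, ← hD.braid a ha e₁ h₁ n₁] at h'
      exact h'
    · rw [hu, show w a e₁ + w e₁ e₂ + (w a e₂ + w e₁ e₂) = (w a e₁ + w a e₂) + (w e₁ e₂ + w e₁ e₂) by abel,
        hD.exp2, add_zero]
  obtain ⟨e, he, hde⟩ := hD.exists_adj hd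
  set H := Subgroup.closure ({d} ∪ {x | x ∈ D ∧ ¬ Commute d x}) with hH
  let X : Set K := {h | h ∈ D ∧ h ∈ H ∧ ∀ x ∈ D, ¬ Commute h x → x ∈ H}
  have hdX : d ∈ X :=
    ⟨hd, Subgroup.subset_closure (Or.inl rfl), fun x hx hn => Subgroup.subset_closure (Or.inr ⟨hx, hn⟩)⟩
  have hXadj : ∀ h ∈ X, ∀ x ∈ D, ¬ Commute h x → x ∈ X := by
    rintro h ⟨hhD, hhH, hhN⟩ x hx hn
    have hxH := hhN x hx hn
    refine ⟨hx, hxH, fun y hy hxy => ?_⟩
    have hg : h * x * h * (h * x)⁻¹ = x := by
      rw [hD.braid h hhD x hx hn]; group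
    have hy' : (h * x)⁻¹ * y * (h * x) ∈ D := by simpa using hD.conj (h * x)⁻¹ y hy
    have hy'' : (h * x)⁻¹ * y * (h * x) ∈ H := hhN _ hy' fun hcm => hxy (by
      have := (Cls.commute_conj_iff (h * x) h ((h * x)⁻¹ * y * (h * x))).mpr hcm
      rwa [hg, show h * x * ((h * x)⁻¹ * y * (h * x)) * (h * x)⁻¹ = y by group] at this)
    have := mul_mem (mul_mem (mul_mem hhH hxH) hy'') (inv_mem (mul_mem hhH hxH))
    rwa [show h * x * ((h * x)⁻¹ * y * (h * x)) * (h * x)⁻¹ = y by group] at this
  have hXconj : ∀ k : K, ∀ h ∈ X, k * h * k⁻¹ ∈ X := by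
    intro k
    have hk : k ∈ Subgroup.closure D := hD.gen ▸ Subgroup.mem_top k
    induction hk using Subgroup.closure_induction'' with
    | mem k hk =>
      intro h hh
      by_cases hc : Commute h k
      · rwa [← hc.eq, mul_inv_cancel_right]
      · have hkX : k ∈ X := hXadj h hh k hk hc
        refine hXadj k hkX _ (hD.conj k h hh.1) fun hcm => hc ?_
        have h2 := (Cls.commute_conj_iff k k h).mp (by rwa [mul_inv_cancel_right])
        exact h2.symm
    | inv_mem k hk =>
      intro h hh
      rw [hD.inv_eq hk]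
      by_cases hc : Commute h k
      · rwa [← hc.eq, mul_inv_cancel_right]
      · have hkX : k ∈ X := hXadj h hh k hk hc
        refine hXadj k hkX _ (hD.conj k h hh.1) fun hcm => hc ?_
        have h2 := (Cls.commute_conj_iff k k h).mp (by rwa [mul_inv_cancel_right])
        exact h2.symm
    | one => intro h hh; simpa using hh
    | mul a b _ _ iha ihb =>
      intro h hh
      have := iha _ (ihb h hh)
      rwa [show a * (b * h * b⁻¹) * a⁻¹ = a * b * h * (a * b)⁻¹ by group] at this
  have htop : ∀ x ∈ D, x ∈ H := fun x hx => by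
    obtain ⟨g, hg⟩ := isConj_iff.mp (hD.isConj d hd x hx)
    exact hg ▸ (hXconj g d hdX).2.1
  have hall : ∀ g : K, g • w d e = w d e := by
    have hle : H ≤ MulAction.stabilizer K (w d e) := by
      rw [hH, Subgroup.closure_le]
      rintro x (hxd | ⟨hx, hn⟩)
      · rw [Set.mem_singleton_iff.mp hxd]
        exact (wfix d hd e he hde).1
      · rw [SetLike.mem_coe, MulAction.mem_stabilizer_iff, wconst d hd e he x hx hde hn]
        exact (wfix d hd x hx hn).2
    intro g
    have hcl : Subgroup.closure D ≤ MulAction.stabilizer K (w d e) :=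
      ((Subgroup.closure_le _).mpr fun x hx => htop x hx).trans hle
    rw [hD.gen] at hcl
    exact hcl (Subgroup.mem_top g)
  have h := wmem d e
  rwa [hinv _ hall, add_zero] at h

end CfsgUniqueTT
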