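/-
Uniqueness of the class of 3-transpositions of a centreless group `G` with `F*(G) = O₂(G)` elementary
abelian: passage from `G` to the action of `G / O₂(G)` on `O₂(G)`.
-/
import Cfsg.Agent.Lib.ThreeTrans.UniqueClass
import Cfsg.Agent.Lib.ThreeTrans.Basic
import Cfsg.Agent.Lib.ZJ.Complement

set_option autoImplicit false

namespace CfsgUniqueTT

open Cfsg

variable {G : Type*} [Group G] [Finite G] {V : Subgroup G} [V.Normal]

/-- The conjugation action of `G ⧸ V` on an abelian normal subgroup `V`. -/
noncomputable def quotAction (hVc : ∀ a b : V, a * b = b * a) : G ⧸ V →* MulAut V :=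
  QuotientGroup.lift V (MulAut.conjNormal (H := V)) (by
    intro v hv
    rw [MonoidHom.mem_ker]
    ext x
    rw [MulAut.conjNormal_apply, MulAut.one_apply]
    have h := congrArg (Subtype.val) (hVc ⟨v, hv⟩ x)
    simp only [Subgroup.coe_mul] at h
    rw [h, mul_inv_cancel_right])

omit [Finite G] in
theorem quotAction_mk (hVc : ∀ a b : V, a * b = b * a) (g : G) (x : V) :
    (quotAction hVc (QuotientGroup.mk g) x : G) = g * x * g⁻¹ := MulAut.conjNormal_apply g x

theorem main_of {D : Set G} (hD : Cfsg.IsThreeTranspositionClass D) (hZ : Subgroup.center G = ⊥)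
    (hF : Cfsg.generalizedFittingSubgroup G = Cfsg.pCore 2 G)
    (hV : Cfsg.IsElementaryAbelian 2 (Cfsg.pCore 2 G)) {E : Set G}
    (hE : Cfsg.IsThreeTranspositionClass E) : E = D := by
  classical
  haveI : Fact (Nat.Prime 2) := ⟨Nat.prime_two⟩
  obtain ⟨O, hO⟩ : ∃ O, O = Cfsg.pCore 2 G := ⟨_, rfl⟩
  haveI hOn : O.Normal := hO ▸ Subgroup.sSup_normal _ (fun _ h => h.1)
  rw [← hO] at hF hV
  have hVc : ∀ a b : O, a * b = b * a := fun a b => by
    haveI := hV.1
    exact mul_comm' a b
  have hsqV : ∀ v : O, v * v = 1 := fun v => Subtype.ext (by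
    rw [Subgroup.coe_mul, Subgroup.coe_one, ← pow_two]; exact hV.2 v v.2)
  letI : CommGroup O := { (inferInstance : Group O) with mul_comm := hVc }
  have hcent : Subgroup.centralizer (O : Set G) ≤ O := hF ▸ CfsgLib.centralizer_generalizedFitting_le
  let K := G ⧸ O
  let φ : K →* MulAut O := quotAction hVc
  letI : DistribMulAction K (Additive O) :=
    { smul := fun k v => Additive.ofMul (φ k (Additive.toMul v))
      one_smul := fun v => by show Additive.ofMul (φ 1 (Additive.toMul v)) = v; rw [map_one]; rfl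
      mul_smul := fun a b v => by
        show Additive.ofMul (φ (a * b) (Additive.toMul v)) = Additive.ofMul (φ a (φ b (Additive.toMul v)))
        rw [map_mul]; rfl
      smul_zero := fun k => by
        show Additive.ofMul (φ k (Additive.toMul 0)) = 0
        rw [toMul_zero, map_one]; rfl
      smul_add := fun k a b => by
        show Additive.ofMul (φ k (Additive.toMul (a + b))) = _
        rw [toMul_add, map_mul]; rfl }
  let π : G → K := QuotientGroup.mk
  let ι : Additive O → G := fun v => ((Additive.toMul v : O) : G)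
  have ι_smul : ∀ (g : G) (v : Additive O), ι (π g • v) = g * ι v * g⁻¹ :=
    fun g v => quotAction_mk hVc g (Additive.toMul v)
  have ι_add : ∀ a b : Additive O, ι (a + b) = ι a * ι b := fun a b => rfl
  have ι_zero : ι 0 = 1 := rfl
  have ι_inj : ∀ a b : Additive O, ι a = ι b → a = b := fun a b h => Subtype.ext h
  have exp2 : ∀ v : Additive O, v + v = 0 := fun v => congrArg Additive.ofMul (hsqV (Additive.toMul v))
  have faithful : ∀ k : K, (∀ v : Additive O, k • v = v) → k = 1 := by
    intro k hk
    obtain ⟨g, rfl⟩ := QuotientGroup.mk_surjective k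
    refine (QuotientGroup.eq_one_iff g).mpr (hcent (Subgroup.mem_centralizer_iff.mpr fun v hv => ?_))
    have h := congrArg ι (hk (Additive.ofMul ⟨v, hv⟩))
    rw [ι_smul] at h
    exact ((mul_inv_eq_iff_eq_mul).mp h).symm
  have core : Cfsg.pCore 2 K = ⊥ := by
    subst hO
    exact CfsgLib.ZJ.pCore_quotient_pCore_eq_bot
  have πmul : ∀ a b : G, π (a * b) = π a * π b := fun a b => rfl
  -- a product of order three times an element of `O`
  have cube : ∀ (x : G) (q : Additive O), x ^ 3 = 1 → (x * ι q) ^ 3 = 1 →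
      q + π x • q + π x • π x • q = 0 := by
    intro x q hx hxq
    have e : (x * ι q) ^ 3 = ι (π x • q + π x • π x • q + π x • π x • π x • q) * x ^ 3 := by
      simp only [ι_add, ι_smul, pow_succ, pow_zero, one_mul]
      group
    rw [e, hx, mul_one] at hxq
    simp only [smul_smul] at hxq
    have h3 : π x * (π x * π x) = 1 := by
      rw [← πmul, ← πmul, show x * (x * x) = x ^ 3 by rw [pow_succ, pow_two, mul_assoc], hx]; rfl
    rw [h3, one_smul] at hxq
    have h : π x • q + (π x * π x) • q + q = 0 := ι_inj _ _ hxq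
    rw [smul_smul]
    calc q + π x • q + (π x * π x) • q = π x • q + (π x * π x) • q + q := by abel
      _ = 0 := h
  -- the images of a class
  have img_cls : ∀ {D : Set G}, Cfsg.IsThreeTranspositionClass D →
      Cls (Additive O) (π '' D) := by
    intro D hD
    obtain ⟨hS, ⟨d₀, hd₀, hDc⟩, hgen⟩ := hD
    have hsq : ∀ d ∈ D, d * d = 1 := fun d hd => CfsgThreeTrans.mul_self hS hd
    have hconjD : ∀ g : G, ∀ d ∈ D, g * d * g⁻¹ ∈ D := fun g d hd => by
      rw [hDc] at hd ⊢
      exact (show IsConj d₀ d from hd).trans (isConj_iff.mpr ⟨g, rfl⟩)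
    have hconjD' : ∀ d ∈ D, ∀ e ∈ D, IsConj d e := fun d hd e he => by
      rw [hDc] at hd he
      exact (show IsConj d₀ d from hd).symm.trans (show IsConj d₀ e from he)
    have hne : ∀ d ∈ D, π d ≠ 1 := by
      intro d hd h1
      have hall : ∀ e ∈ D, e ∈ O := fun e he => by
        obtain ⟨g, rfl⟩ := isConj_iff.mp (hconjD' d hd e he)
        exact hOn.conj_mem d ((QuotientGroup.eq_one_iff d).mp h1) g
      have htop : ∀ g : G, g ∈ O := fun g =>
        ((Subgroup.closure_le O).mpr hall) (hgen ▸ Subgroup.mem_top g)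
      have : d ∈ Subgroup.center G := Subgroup.mem_center_iff.mpr fun g => by
        have h := congrArg Subtype.val (hVc ⟨g, htop g⟩ ⟨d, htop d⟩)
        simpa using h
      rw [hZ, Subgroup.mem_bot] at this
      have h2 := hS.1 d hd
      rw [this, orderOf_one] at h2
      omega
    have hcase : ∀ d ∈ D, ∀ e ∈ D, π d ≠ π e → Commute (π d) (π e) → Commute d e := by
      intro d hd e he hne' hc
      rcases hS.2 d hd e he with h | h
      · exact (CfsgThreeTrans.commute_iff_sq (hS.1 d hd) (hS.1 e he)).mpr h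
      · exfalso
        apply hne'
        have h2 : (π d * π e) ^ 2 = 1 := by
          rw [hc.mul_pow, pow_two, pow_two, ← πmul, ← πmul, hsq d hd, hsq e he, show π 1 = 1 from rfl, one_mul]
        have h3 : (π d * π e) ^ 3 = 1 := by
          have := congrArg π h
          simpa [π, QuotientGroup.mk_pow] using this
        rw [pow_succ, h2, one_mul] at h3
        calc π d = π d * (π e * π e) := by
              rw [← πmul e e, hsq e he, show π 1 = 1 from rfl, mul_one]
          _ = π e := by rw [← mul_assoc, h3, one_mul]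
    refine
      { exp2 := exp2
        faithful := faithful
        core := core
        sq := ?_
        ne1 := ?_
        conj := ?_
        isConj := ?_
        gen := ?_
        braid := ?_
        relA := ?_
        relB := ?_ }
    · rintro _ ⟨d, hd, rfl⟩
      rw [← πmul, hsq d hd]; rfl
    · rintro _ ⟨d, hd, rfl⟩
      exact hne d hd
    · rintro k _ ⟨d, hd, rfl⟩
      obtain ⟨g, rfl⟩ := QuotientGroup.mk_surjective k
      exact ⟨g * d * g⁻¹, hconjD g d hd, rfl⟩
    · rintro _ ⟨d, hd, rfl⟩ _ ⟨e, he, rfl⟩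
      exact (QuotientGroup.mk' O).map_isConj (hconjD' d hd e he)
    · rw [show π '' D = QuotientGroup.mk' O '' D from rfl, ← MonoidHom.map_closure, hgen]
      exact Subgroup.map_top_of_surjective _ (QuotientGroup.mk'_surjective O)
    · rintro _ ⟨d, hd, rfl⟩ _ ⟨e, he, rfl⟩ hc
      simp only [← πmul]
      exact congrArg π (CfsgThreeTrans.braid hS hd he fun h => hc (h.map (QuotientGroup.mk' O)))
    · rintro _ ⟨d, hd, rfl⟩ _ ⟨e, he, rfl⟩ hne' hc v
      rw [del_apply]
      set u := del (Additive O) (π d) v with hu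
      have hd1 : ι v * d * (ι v)⁻¹ ∈ D := hconjD _ d hd
      have hιv : (ι v)⁻¹ = ι v := inv_eq_of_mul_eq_one_right (congrArg Subtype.val (hsqV _))
      have hu' : ι u = d * (ι v * d * (ι v)⁻¹) := by
        rw [hu, del_apply, ι_add, ι_smul, inv_eq_of_mul_eq_one_right (hsq d hd), hιv]
        simp only [mul_assoc]
      have hπ : π (ι v * d * (ι v)⁻¹) = π d := by
        rw [πmul, πmul, show π (ι v) = 1 from (QuotientGroup.eq_one_iff _).mpr (Additive.toMul v).2,
          show π (ι v)⁻¹ = 1 from (QuotientGroup.eq_one_iff _).mpr (inv_mem (Additive.toMul v).2),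
          one_mul, mul_one]
      have h1 : Commute e (ι u) := by
        rw [hu']
        exact ((hcase d hd e he hne' hc).symm).mul_right
          (hcase _ hd1 e he (hπ ▸ hne') (hπ ▸ hc)).symm
      have h2 : π e • u = u := ι_inj _ _ (by rw [ι_smul, h1.eq, mul_inv_cancel_right])
      rw [h2]; exact exp2 u
    · rintro _ ⟨d, hd, rfl⟩ _ ⟨e, he, rfl⟩ hc v
      set u := del (Additive O) (π d) v with hu
      have hc' : ¬ Commute e d := fun h => hc (h.symm.map (QuotientGroup.mk' O))
      have hd1 : ι v * d * (ι v)⁻¹ ∈ D := hconjD _ d hd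
      have hιv : (ι v)⁻¹ = ι v := inv_eq_of_mul_eq_one_right (congrArg Subtype.val (hsqV _))
      have hu' : ι v * d * (ι v)⁻¹ = d * ι u := by
        rw [hu, del_apply, ι_add, ι_smul, inv_eq_of_mul_eq_one_right (hsq d hd), hιv]
        simp only [mul_assoc]
        rw [← mul_assoc d d, hsq d hd, one_mul]
      have hc1 : ¬ Commute e (d * ι u) := fun h => hc (by
        have := (h.map (QuotientGroup.mk' O)).symm
        rwa [map_mul, show QuotientGroup.mk' O (ι u) = 1 from
          (QuotientGroup.eq_one_iff _).mpr (Additive.toMul u).2, mul_one] at this)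
      have h1 := cube (e * d) u (CfsgThreeTrans.pow_three hS he hd hc') (by
        rw [mul_assoc]; exact CfsgThreeTrans.pow_three hS he (hu' ▸ hd1) hc1)
      have hdu : π d • u = u := by
        rw [hu, del_apply, smul_add, smul_smul, ← πmul, hsq d hd, show π 1 = 1 from rfl, one_smul, add_comm]
      rw [πmul, mul_smul, hdu, mul_smul] at h1
      have hbr : π e * π d * π e = π d * π e * π d := congrArg π (CfsgThreeTrans.braid hS he hd hc')
      have h2 : π e • π d • π e • u = π d • π e • u := by
        rw [smul_smul, smul_smul, hbr, mul_smul, hdu, mul_smul]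
      rw [h2] at h1
      have h3 : π d • π e • u + π e • u = u := by
        calc π d • π e • u + π e • u = (π d • π e • u + π e • u) + (u + u) := by rw [exp2, add_zero]
          _ = (u + π e • u + π d • π e • u) + u := by abel
          _ = u := by rw [h1, zero_add]
      rw [del_apply (π d), del_apply (π e), smul_add, hdu]
      calc π d • π e • u + u + (π e • u + u) = (π d • π e • u + π e • u) + (u + u) := by abel
        _ = u := by rw [exp2, add_zero, h3]
  have hCD := img_cls hD
  have hCE := img_cls hE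
  obtain ⟨hSD, ⟨d₀, hd₀, hDc⟩, hgenD⟩ := hD
  obtain ⟨hSE, ⟨f₀, hf₀, hEc⟩, -⟩ := hE
  have hDconj : ∀ g : G, ∀ d ∈ D, g * d * g⁻¹ ∈ D := fun g d hd => by
    rw [hDc] at hd ⊢
    exact (show IsConj d₀ d from hd).trans (isConj_iff.mpr ⟨g, rfl⟩)
  have hEconj : ∀ g : G, ∀ d ∈ E, g * d * g⁻¹ ∈ E := fun g d hd => by
    rw [hEc] at hd ⊢
    exact (show IsConj f₀ d from hd).trans (isConj_iff.mpr ⟨g, rfl⟩)
  obtain ⟨_, ⟨f₁, hf₁, rfl⟩, d₁, hd₁, hπ₁⟩ := meet hCD hCE ⟨_, f₀, hf₀, rfl⟩
  -- lifts of every member of the image of `D`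
  have hlift : ∀ k ∈ π '' D, ∃ d ∈ D, ∃ f ∈ E, π d = k ∧ π f = k := by
    intro k hk
    obtain ⟨g', hg'⟩ := isConj_iff.mp (hCD.isConj (π d₁) ⟨d₁, hd₁, rfl⟩ k hk)
    obtain ⟨g, rfl⟩ := QuotientGroup.mk_surjective g'
    refine ⟨g * d₁ * g⁻¹, hDconj g d₁ hd₁, g * f₁ * g⁻¹, hEconj g f₁ hf₁, hg', ?_⟩
    rw [← hg', hπ₁]; rfl
  choose! dL hdL fL hfL hπd hπf using hlift
  let c : K → Additive O := fun k =>
    if h : (dL k)⁻¹ * fL k ∈ O then Additive.ofMul ⟨(dL k)⁻¹ * fL k, h⟩ else 0
  have hf_eq : ∀ k ∈ π '' D, fL k = dL k * ι (c k) := by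
    intro k hk
    have hmem : (dL k)⁻¹ * fL k ∈ O := (QuotientGroup.eq).mp (by
      show π (dL k) = π (fL k)
      rw [hπd k hk, hπf k hk])
    show fL k = dL k * ι (dite _ _ _)
    rw [dif_pos hmem]
    exact (mul_inv_cancel_left (dL k) (fL k)).symm
  have hιsq : ∀ v : Additive O, ι v * ι v = 1 := fun v => congrArg Subtype.val (hsqV _)
  have hfix : ∀ k ∈ π '' D, k • c k = c k := by
    intro k hk
    apply ι_inj
    have hd := CfsgThreeTrans.mul_self hSD (hdL k hk)
    have hf := CfsgThreeTrans.mul_self hSE (hfL k hk)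
    rw [hf_eq k hk] at hf
    conv_lhs => rw [show k = π (dL k) from (hπd k hk).symm]
    rw [ι_smul, inv_eq_of_mul_eq_one_right hd, show π (dL k) = k from hπd k hk]
    calc dL k * ι (c k) * dL k = dL k * ι (c k) * dL k * (ι (c k) * ι (c k)) := by rw [hιsq, mul_one]
      _ = (dL k * ι (c k) * (dL k * ι (c k))) * ι (c k) := by simp only [mul_assoc]
      _ = ι (c k) := by rw [hf, one_mul]
  have hne_of : ∀ {a b : K}, a ≠ b → Commute a b → (a * b) ^ 3 = 1 → a * a = 1 → b * b = 1 → False := by
    intro a b hne hc h3 ha hb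
    rw [pow_succ, hc.mul_pow, pow_two, pow_two, ha, hb, one_mul, one_mul] at h3
    exact hne (by rw [← mul_one a, ← hb, ← mul_assoc, h3, one_mul])
  have hcomm : ∀ a ∈ π '' D, ∀ b ∈ π '' D, a ≠ b → Commute a b →
      del (Additive O) b (c a) = del (Additive O) a (c b) := by
    intro a ha b hb hne hc
    have hqa := hCD.sq a ha
    have hqb := hCD.sq b hb
    have hcd : Commute (dL a) (dL b) := by
      rcases hSD.2 _ (hdL a ha) _ (hdL b hb) with h | h
      · exact (CfsgThreeTrans.commute_iff_sq (hSD.1 _ (hdL a ha)) (hSD.1 _ (hdL b hb))).mpr h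
      · have h' := congrArg (QuotientGroup.mk' O) h
        rw [map_pow, map_mul, map_one] at h'
        exact (hne_of hne hc (by rwa [show QuotientGroup.mk' O (dL a) = a from hπd a ha,
          show QuotientGroup.mk' O (dL b) = b from hπd b hb] at h') hqa hqb).elim
    have hcf : Commute (fL a) (fL b) := by
      rcases hSE.2 _ (hfL a ha) _ (hfL b hb) with h | h
      · exact (CfsgThreeTrans.commute_iff_sq (hSE.1 _ (hfL a ha)) (hSE.1 _ (hfL b hb))).mpr h
      · have h' := congrArg (QuotientGroup.mk' O) h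
        rw [map_pow, map_mul, map_one] at h'
        exact (hne_of hne hc (by rwa [show QuotientGroup.mk' O (fL a) = a from hπf a ha,
          show QuotientGroup.mk' O (fL b) = b from hπf b hb] at h') hqa hqb).elim
    have hda := CfsgThreeTrans.mul_self hSD (hdL a ha)
    have hdb := CfsgThreeTrans.mul_self hSD (hdL b hb)
    have key : ι (b • c a + c b) = ι (a • c b + c a) := by
      have e1 : fL a * fL b = dL a * dL b * ι (b • c a + c b) := by
        conv_rhs => rw [show b = π (dL b) from (hπd b hb).symm]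
        rw [ι_add, ι_smul, show π (dL b) = b from hπd b hb, inv_eq_of_mul_eq_one_right hdb, hf_eq a ha, hf_eq b hb]
        simp only [mul_assoc]
        rw [← mul_assoc (dL b) (dL b), hdb, one_mul]
      have e2 : fL b * fL a = dL a * dL b * ι (a • c b + c a) := by
        conv_rhs => rw [show a = π (dL a) from (hπd a ha).symm]
        rw [ι_add, ι_smul, show π (dL a) = a from hπd a ha, inv_eq_of_mul_eq_one_right hda, hcd.eq, hf_eq a ha, hf_eq b hb]
        simp only [mul_assoc]
        rw [← mul_assoc (dL a) (dL a), hda, one_mul]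
      rw [hcf.eq, e2] at e1
      exact (mul_left_cancel e1).symm
    have h := ι_inj _ _ key
    rw [del_apply, del_apply]
    calc b • c a + c a = (b • c a + c b) + (c b + c a) := by
            rw [add_assoc, ← add_assoc (c b) (c b), exp2, zero_add]
      _ = (a • c b + c a) + (c b + c a) := by rw [h]
      _ = a • c b + c b + (c a + c a) := by abel
      _ = a • c b + c b := by rw [exp2, add_zero]
  have hadj : ∀ a ∈ π '' D, ∀ b ∈ π '' D, ¬ Commute a b →
      c a + del (Additive O) a (del (Additive O) b (c a)) = c b + del (Additive O) b (del (Additive O) a (c b)) := by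
    intro a ha b hb hnc
    have hncd : ¬ Commute (dL a) (dL b) := fun h => hnc (by
      rw [← hπd a ha, ← hπd b hb]; exact h.map (QuotientGroup.mk' O))
    have hncf : ¬ Commute (fL a) (fL b) := fun h => hnc (by
      rw [← hπf a ha, ← hπf b hb]; exact h.map (QuotientGroup.mk' O))
    have hdb := CfsgThreeTrans.mul_self hSD (hdL b hb)
    have hnba : ¬ Commute b a := fun h => hnc h.symm
    have h1 := cube (dL a * dL b) (b • c a + c b) (CfsgThreeTrans.pow_three hSD (hdL a ha) (hdL b hb) hncd) (by
      have e1 : fL a * fL b = dL a * dL b * ι (b • c a + c b) := by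
        conv_rhs => rw [show b = π (dL b) from (hπd b hb).symm]
        rw [ι_add, ι_smul, show π (dL b) = b from hπd b hb, inv_eq_of_mul_eq_one_right hdb, hf_eq a ha, hf_eq b hb]
        simp only [mul_assoc]
        rw [← mul_assoc (dL b) (dL b), hdb, one_mul]
      rw [← e1]; exact CfsgThreeTrans.pow_three hSE (hfL a ha) (hfL b hb) hncf)
    rw [πmul, hπd a ha, hπd b hb] at h1
    set p := del (Additive O) a (del (Additive O) b (c a)) with hp
    set p' := del (Additive O) b (del (Additive O) a (c b)) with hp'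
    have hw := hCD.decomp_fix ha hb hnc (c a)
    rw [(hCD.fix_iff _ _).mpr (hfix a ha), map_zero, add_zero, ← hp] at hw
    have hw' := hCD.decomp_fix hb ha hnba (c b)
    rw [(hCD.fix_iff _ _).mpr (hfix b hb), map_zero, add_zero, ← hp'] at hw'
    generalize hwdef : c a + p = w at hw
    generalize hwdef' : c b + p' = w' at hw'
    have hca : c a = w + p := by rw [← hwdef, hCD.cancel_add]
    have hcb : c b = w' + p' := by rw [← hwdef', hCD.cancel_add]
    rw [hca, hcb] at h1
    set J := img (Additive O) a ⊔ img (Additive O) b with hJ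
    have hsa : ∀ z ∈ J, a • z ∈ J := fun z hz => by
      have : a • z = del (Additive O) a z + z := by rw [del_apply, hCD.cancel_add]
      rw [this]; exact add_mem (AddSubgroup.mem_sup_left (del_mem_img _ _)) hz
    have hsb : ∀ z ∈ J, b • z ∈ J := fun z hz => by
      have : b • z = del (Additive O) b z + z := by rw [del_apply, hCD.cancel_add]
      rw [this]; exact add_mem (AddSubgroup.mem_sup_right (del_mem_img _ _)) hz
    have hpJ : p ∈ J := AddSubgroup.mem_sup_left (del_mem_img _ _)
    have hpJ' : p' ∈ J := AddSubgroup.mem_sup_right (del_mem_img _ _)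
    set q := b • p + p' with hq
    have hqJ : q ∈ J := add_mem (hsb p hpJ) hpJ'
    have hq0 : b • (w + p) + (w' + p') = (w + w') + q := by
      rw [smul_add, hw.2, hq]; abel
    rw [hq0, smul_add (a * b) (w + w') q, mul_smul a b (w + w'), smul_add b w w', hw.2, hw'.1, smul_add a w w',
      hw.1, hw'.2, smul_add (a * b) (w + w'), mul_smul a b (w + w'), smul_add b w w', hw.2, hw'.1, smul_add a w w',
      hw.1, hw'.2] at h1
    have hyJ : ∀ z ∈ J, (a * b) • z ∈ J := fun z hz => by rw [mul_smul]; exact hsa _ (hsb z hz)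
    have hz : w + w' ∈ J := by
      have h2 : w + w' = q + (a * b) • q + (a * b) • (a * b) • q := by
        refine hCD.eq_of_add ?_
        calc w + w' + (q + (a * b) • q + (a * b) • (a * b) • q)
            = (w + w' + q + (w + w' + (a * b) • q) + (w + w' + (a * b) • (a * b) • q))
                + ((w + w') + (w + w')) := by rw [exp2, add_zero, show w + w' + q + (w + w' + (a * b) • q) + (w + w' + (a * b) • (a * b) • q) = (w + w') + (q + (a * b) • q + (a * b) • (a * b) • q) + ((w + w') + (w + w')) by abel, exp2, add_zero]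
          _ = 0 := by rw [h1, exp2, add_zero]
      rw [h2]; exact add_mem (add_mem hqJ (hyJ q hqJ)) (hyJ _ (hyJ q hqJ))
    obtain ⟨x, hx, y, hy, hxy⟩ := AddSubgroup.mem_sup.mp hz
    have hy0 : y = 0 := by
      refine hCD.inj hb ha hnba hy ?_
      have h2 : del (Additive O) a (x + y) = 0 := by
        rw [hxy]; exact (hCD.fix_iff _ _).mpr (by rw [smul_add, hw.1, hw'.2])
      rwa [map_add, hCD.del_img ha hx, zero_add] at h2
    have hx0 : x = 0 := by
      refine hCD.inj ha hb hnc hx ?_
      have h2 : del (Additive O) b (x + y) = 0 := by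
        rw [hxy]; exact (hCD.fix_iff _ _).mpr (by rw [smul_add, hw.2, hw'.1])
      rwa [map_add, hy0, map_zero, add_zero] at h2
    refine hCD.eq_of_add ?_
    rw [← hxy, hx0, hy0, add_zero]
  have hinv : ∀ w : Additive O, (∀ k : K, k • w = w) → w = 0 := by
    intro w hw
    have hc : ι w ∈ Subgroup.center G := Subgroup.mem_center_iff.mpr fun g => by
      have h := congrArg ι (hw (π g))
      rw [ι_smul] at h
      exact mul_inv_eq_iff_eq_mul.mp h
    rw [hZ, Subgroup.mem_bot] at hc
    exact ι_inj _ _ hc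
  obtain ⟨v, hv⟩ := cocycle hCD c hfix hcomm hadj hinv (d := π d₁) ⟨d₁, hd₁, rfl⟩
  have hk : π d₁ ∈ π '' D := ⟨d₁, hd₁, rfl⟩
  have hfD : fL (π d₁) ∈ D := by
    have hd := CfsgThreeTrans.mul_self hSD (hdL _ hk)
    have hιv : (ι v)⁻¹ = ι v := inv_eq_of_mul_eq_one_right (hιsq v)
    have e : fL (π d₁) = ι v * dL (π d₁) * (ι v)⁻¹ := by
      rw [hf_eq _ hk, ← hv, del_apply]
      conv_lhs =>
        arg 2; arg 1; arg 1
        rw [← hπd _ hk]
      rw [ι_add, ι_smul, inv_eq_of_mul_eq_one_right hd, hιv]
      simp only [mul_assoc]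
      rw [← mul_assoc (dL (π d₁)) (dL (π d₁)), hd, one_mul]
    rw [e]; exact hDconj _ _ (hdL _ hk)
  have h1 := hfL _ hk
  rw [hEc] at h1
  rw [hDc] at hfD
  have h2 : IsConj d₀ f₀ := (show IsConj d₀ _ from hfD).trans (show IsConj f₀ _ from h1).symm
  rw [hEc, hDc]
  exact (IsConj.conjugatesOf_eq h2).symm

end CfsgUniqueTT
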