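/-
3-transposition groups over `SU(n,2)`, `n ≥ 5`, `n ≠ 6`: the 2-radical is elementary abelian.
-/
import Cfsg.Agent.Lib.ThreeTrans.AbelianCore
import Cfsg.Agent.Lib.ThreeTrans.UnitaryClass
import Cfsg.Agent.Lib.SUCover.Multiplier
import Cfsg.Agent.Lib.Basic

set_option autoImplicit false

namespace CfsgUniqueTT.Unitary

open Cfsg Matrix CfsgLib CfsgLib.UnitaryTransvection CfsgLib.UnitarySimple

variable {G : Type*} [Group G] [Finite G] {F : Type} [Field F] [Fintype F] {n : ℕ}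

theorem elementary_top (hF : Fintype.card F = 2 ^ 2) (hn : 5 ≤ n) (hn6 : n ≠ 6) {D : Set G}
    (hD : Cfsg.IsThreeTranspositionClass D) (hZ : Subgroup.center G = ⊥)
    (e : G ⧸ Cfsg.pCore 2 G ≃* ↥(Cfsg.SU n F 2)) :
    Cfsg.IsElementaryAbelian 2 (Cfsg.pCore 2 G) := by
  classical
  let φ : G →* ↥(Cfsg.SU n F 2) := e.toMonoidHom.comp (QuotientGroup.mk' (Cfsg.pCore 2 G))
  have hφ : Function.Surjective φ := e.surjective.comp (QuotientGroup.mk'_surjective _)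
  have hker : φ.ker = Cfsg.pCore 2 G := by
    ext x
    simp [φ, MonoidHom.mem_ker]
  rw [← hker]
  obtain ⟨hS, ⟨d₀, hd₀, hDc⟩, hgen⟩ := id hD
  obtain ⟨w, hw, hwh, hwprod⟩ := five hF hn
  have htu : tu hF (w 0) ≠ 1 := fun h1 => by
    obtain ⟨y, hy⟩ := exists_dual hF (hw 0).1
    have := congrArg (fun g => mat g *ᵥ y) h1
    simp [tu_mulVec hF (hw 0).2, hy, mat_one] at this
    exact (hw 0).1 this
  have hne1 : ∀ d ∈ D, φ d ≠ 1 := fun d hd h1 => by
    apply htu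
    obtain ⟨x, hx⟩ := hφ (tu hF (w 0))
    have hle : Subgroup.closure D ≤ φ.ker := (Subgroup.closure_le _).mpr fun e' he' => by
      rw [hDc] at hd he'
      obtain ⟨g, hg⟩ := isConj_iff.mp ((show IsConj d₀ d from hd).symm.trans (show IsConj d₀ e' from he'))
      rw [SetLike.mem_coe, MonoidHom.mem_ker, ← hg, map_mul, map_mul, h1, mul_one, ← map_mul, mul_inv_cancel, map_one]
    rw [hgen] at hle
    rw [← hx]
    exact hle (Subgroup.mem_top x)
  set S : Set ↥(Cfsg.SU n F 2) := φ '' D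
  have hS' : Cfsg.IsThreeTranspositionSet S := by
    refine ⟨?_, ?_⟩
    · rintro _ ⟨d, hd, rfl⟩
      refine orderOf_eq_prime ?_ (hne1 d hd)
      rw [← map_pow, pow_two, CfsgThreeTrans.mul_self hS hd, map_one]
    · rintro _ ⟨d, hd, rfl⟩ _ ⟨d', hd', rfl⟩
      rcases hS.2 d hd d' hd' with h | h
      · exact Or.inl (by rw [← map_mul, ← map_pow, h, map_one])
      · exact Or.inr (by rw [← map_mul, ← map_pow, h, map_one])
  have hSc : ∀ g, ∀ a ∈ S, g * a * g⁻¹ ∈ S := by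
    rintro g _ ⟨d, hd, rfl⟩
    obtain ⟨x, rfl⟩ := hφ g
    refine ⟨x * d * x⁻¹, ?_, by simp⟩
    rw [hDc] at hd ⊢
    exact (show IsConj d₀ d from hd).trans (isConj_iff.mpr ⟨x, rfl⟩)
  have hSne : S.Nonempty := ⟨_, d₀, hd₀, rfl⟩
  have hmem := class_eq hF hn hS' hSc hSne
  refine CfsgUniqueTT.elementary_of hD hZ φ hφ (hker ▸ CfsgLib.isPGroup_pCore 2) ?_ ?_ ?_
  · intro k hk l hl hkl
    obtain ⟨p, hp0, hp, rfl⟩ := (hmem k).mp hk
    obtain ⟨q, hq0, hq, rfl⟩ := (hmem l).mp hl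
    intro m hm
    obtain ⟨u, hu0, hu, rfl⟩ := (hmem m).mp hm
    refine (Subgroup.closure_le _).mpr ?_ (tu_mem_pair hF hn hp0 hp hq hkl hu)
    rintro a ⟨⟨v, hv, rfl⟩, hor⟩
    by_cases hv0 : v = 0
    · have h1 : tu hF v = 1 := su_ext fun x => by
        rw [tu_mulVec hF hv, hv0, smul_zero, add_zero, mat_one, Matrix.one_mulVec]
      rw [SetLike.mem_coe, h1]
      exact one_mem _
    · exact Subgroup.subset_closure ⟨(hmem _).mpr ⟨v, hv0, hv, rfl⟩, hor⟩
  · exact ⟨fun i => tu hF (w i), fun i => (hmem _).mpr ⟨w i, (hw i).1, (hw i).2, rfl⟩,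
      fun i j => tu_commute hF (hw i).2 (hw j).2 (hwh i j), hwprod⟩
  · intro Γ _ _ σ hσ
    exact CfsgLib.SUCover.stem_trivial hF (by omega) (fun h => by omega) (fun h => by omega) (fun h => hn6 h.1) σ hσ

end CfsgUniqueTT.Unitary
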